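import Cfsg.Agent.Lib.Perm.Small.Card168

/-!
# The simple group of order 168 is unique

Such a group acts on its eight Sylow 7-subgroups as the group generated by `x ↦ x + 1`,
`x ↦ 2 x` and `x ↦ -1 / x` on `Option (ZMod 7)`.
-/

set_option autoImplicit false

namespace CfsgLib.Perm.Small

open Subgroup MulAction

/-- `x ↦ x + 1`. -/
def shift168 : Equiv.Perm (Option (ZMod 7)) := Equiv.optionCongr (Equiv.addRight 1)

/-- `x ↦ 2 x`. -/
def double168 : Equiv.Perm (Option (ZMod 7)) :=
  Equiv.optionCongr ⟨fun x => 2 * x, fun x => 4 * x, by decide, by decide⟩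

/-- `x ↦ -1 / x`. -/
def flip168 : Equiv.Perm (Option (ZMod 7)) :=
  Equiv.swap none (some 0) * Equiv.swap (some 1) (some 6) * Equiv.swap (some 2) (some 3) *
    Equiv.swap (some 4) (some 5)

/-- The model of the simple group of order 168. -/
def model168 : Subgroup (Equiv.Perm (Option (ZMod 7))) :=
  closure {shift168, double168, flip168}

/-- An involution inverting `double168` that exchanges `none` and `some 0`. -/
theorem exists_flip168 (f : Equiv.Perm (Option (ZMod 7))) (hn : f none = some 0)
    (hinv : ∀ x, f (f x) = x) (hfix : ∀ x, f x ≠ x)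
    (hd : ∀ x, f (double168 x) = double168 (double168 (f x))) :
    ∃ k : ℕ, f * double168 ^ k = flip168 := by
  have h0 : f (some 0) = none := by rw [← hn, hinv]
  have h2 : f (some 2) = double168 (double168 (f (some 1))) := hd (some 1)
  have h4 : f (some 4) = double168 (double168 (f (some 2))) := hd (some 2)
  have d1 : double168 (double168 (some 1 : Option (ZMod 7))) = some 4 := rfl
  have d2 : double168 (double168 (some 2 : Option (ZMod 7))) = some 1 := rfl
  have d3 : double168 (double168 (some 3 : Option (ZMod 7))) = some 5 := rfl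
  have d4 : double168 (double168 (some 4 : Option (ZMod 7))) = some 2 := rfl
  have d5 : double168 (double168 (some 5 : Option (ZMod 7))) = some 6 := rfl
  have d6 : double168 (double168 (some 6 : Option (ZMod 7))) = some 3 := rfl
  have fn := hfix (some 1)
  have f2 := hfix (some 2)
  have f4 := hfix (some 4)
  have i1 := hinv (some 1)
  have i2 := hinv (some 2)
  have i4 := hinv (some 4)
  have hall : ∀ c : Option (ZMod 7), c = none ∨ c = some 0 ∨ c = some 1 ∨ c = some 2 ∨ c = some 3 ∨
      c = some 4 ∨ c = some 5 ∨ c = some 6 := by decide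
  rcases hall (f (some 1)) with h | h | h | h | h | h | h | h
  · rw [h, hn] at i1; exact absurd i1 (by decide)
  · rw [h, h0] at i1; exact absurd i1 (by decide)
  · exact absurd h fn
  · rw [h, d2] at h2; rw [h2, d1] at h4; exact absurd h4 f4
  · rw [h, d3] at h2; rw [h2, d5] at h4
    rw [h] at i1; rw [h2] at i2; rw [h4] at i4
    exact ⟨2, Equiv.ext fun x => by
      rcases hall x with rfl | rfl | rfl | rfl | rfl | rfl | rfl | rfl <;>
        simp only [Equiv.Perm.mul_apply] <;>
        first
          | exact hn.trans (by decide)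
          | exact h0.trans (by decide)
          | exact h.trans (by decide)
          | exact h2.trans (by decide)
          | exact h4.trans (by decide)
          | exact i1.trans (by decide)
          | exact i2.trans (by decide)
          | exact i4.trans (by decide)⟩
  · rw [h, d4] at h2; exact absurd h2 f2
  · rw [h, d5] at h2; rw [h2, d6] at h4
    rw [h] at i1; rw [h2] at i2; rw [h4] at i4
    exact ⟨1, Equiv.ext fun x => by
      rcases hall x with rfl | rfl | rfl | rfl | rfl | rfl | rfl | rfl <;>
        simp only [Equiv.Perm.mul_apply] <;>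
        first
          | exact hn.trans (by decide)
          | exact h0.trans (by decide)
          | exact h.trans (by decide)
          | exact h2.trans (by decide)
          | exact h4.trans (by decide)
          | exact i1.trans (by decide)
          | exact i2.trans (by decide)
          | exact i4.trans (by decide)⟩
  · rw [h, d6] at h2; rw [h2, d3] at h4
    rw [h] at i1; rw [h2] at i2; rw [h4] at i4
    exact ⟨0, Equiv.ext fun x => by
      rcases hall x with rfl | rfl | rfl | rfl | rfl | rfl | rfl | rfl <;>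
        simp only [Equiv.Perm.mul_apply] <;>
        first
          | exact hn.trans (by decide)
          | exact h0.trans (by decide)
          | exact h.trans (by decide)
          | exact h2.trans (by decide)
          | exact h4.trans (by decide)
          | exact i1.trans (by decide)
          | exact i2.trans (by decide)
          | exact i4.trans (by decide)⟩

theorem eq_zero_of_fixed168 : ∀ j : ZMod 7, some j = double168 (double168 (some j)) → j = 0 := by
  decide

variable {G : Type*} [Group G] [Finite G] [IsSimpleGroup G] (h : Nat.card G = 168)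
include h

open scoped Pointwise in
/-- A simple group of order 168 is isomorphic to the model. -/
theorem s168_equiv_model : Nonempty (G ≃* model168) := by
  classical
  haveI : Fact (Nat.Prime 2) := ⟨Nat.prime_two⟩
  haveI : Fact (Nat.Prime 3) := ⟨by norm_num⟩
  haveI : Fact (Nat.Prime 7) := ⟨by norm_num⟩
  obtain ⟨P⟩ : Nonempty (Sylow 7 G) := inferInstance
  haveI hPcy : IsCyclic (P : Subgroup G) := isCyclic_of_prime_card (s168_sylow_seven h P)
  obtain ⟨⟨u, huP⟩, hu⟩ := IsCyclic.exists_ofOrder_eq_natCard (α := (P : Subgroup G))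
  have hu7 : orderOf u = 7 := by rw [← s168_sylow_seven h P, ← hu, Subgroup.orderOf_mk]
  have hPu : (P : Subgroup G) = zpowers u := (eq_of_le_of_card_ge (zpowers_le.2 huP)
    (by rw [s168_sylow_seven h P, Nat.card_zpowers, hu7])).symm
  have hmod : ∀ a b : ℕ, a % 7 = b % 7 → u ^ a = u ^ b := fun a b hab => by
    rw [← pow_mod_orderOf u a, ← pow_mod_orderOf u b, hu7, hab]
  have hN21 : ∀ Q : Sylow 7 G, Nat.card (normalizer ((Q : Subgroup G) : Set G)) = 21 := by
    intro Q
    have hN := card_sylow_mul_card_normalizer Q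
    rw [s168_n_seven h, h] at hN
    omega
  have hstab : ∀ (g : G) (Q : Sylow 7 G), g • Q = Q ↔ g ∈ normalizer ((Q : Subgroup G) : Set G) :=
    fun g Q => Sylow.smul_eq_iff_mem_normalizer
  -- regularity of `P` on the other points
  have hreg : ∀ (k : ℕ) (Q : Sylow 7 G), Q ≠ P → u ^ k • Q = Q → k % 7 = 0 := by
    intro k Q hQ hk
    by_contra hk0
    have h1 : u ^ k ∈ (P : Subgroup G) ⊓ (Q : Subgroup G) := by
      rw [← IsPGroup.inf_normalizer_sylow P.2 Q]
      exact ⟨pow_mem huP k, (hstab _ _).1 hk⟩
    have h2 : u ^ k ≠ 1 := fun h2 => hk0 (Nat.mod_eq_zero_of_dvd (hu7 ▸ orderOf_dvd_of_pow_eq_one h2))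
    refine hQ (Sylow.ext ?_)
    rw [← zpowers_eq_of_mem (s168_sylow_seven h Q) h1.2 h2,
      ← zpowers_eq_of_mem (s168_sylow_seven h P) h1.1 h2]
  -- an element of order three doubling `u`
  obtain ⟨v, hv3, hvN, hvu⟩ : ∃ v : G, orderOf v = 3 ∧
      v ∈ normalizer ((P : Subgroup G) : Set G) ∧ v * u * v⁻¹ = u ^ 2 := by
    obtain ⟨⟨v, hvN⟩, hv⟩ := exists_prime_orderOf_dvd_card'
      (G := normalizer ((P : Subgroup G) : Set G)) 3 (by rw [hN21]; norm_num)
    rw [Subgroup.orderOf_mk] at hv
    have hmem : v * u * v⁻¹ ∈ (P : Subgroup G) := (mem_normalizer_iff.1 hvN u).1 huP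
    rw [hPu] at hmem
    obtain ⟨k, hk⟩ := (mem_powers_iff_mem_zpowers).2 hmem
    have hk' : v * u * v⁻¹ = u ^ (k % 7) := by rw [← hk]; exact hmod _ _ (by omega)
    have hpow : ∀ m : ℕ, v * u ^ m * v⁻¹ = u ^ ((k % 7) * m) := fun m => by
      rw [pow_mul, ← hk', conj_pow]
    have hv' : v ^ 3 = 1 := hv ▸ pow_orderOf_eq_one v
    have h1 : u = u ^ ((k % 7) * ((k % 7) * (k % 7))) := by
      calc u = v ^ 3 * u * (v ^ 3)⁻¹ := by rw [hv']; group
        _ = v * (v * (v * u * v⁻¹) * v⁻¹) * v⁻¹ := by simp only [pow_succ, pow_zero, one_mul, _root_.mul_inv_rev, mul_assoc]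
        _ = _ := by rw [hk', hpow, hpow]
    have h2 : (k % 7) * ((k % 7) * (k % 7)) % 7 = 1 := by
      have := pow_inj_mod.1 ((pow_one u).trans h1)
      rw [hu7] at this
      omega
    have hlt : k % 7 < 7 := Nat.mod_lt _ (by norm_num)
    interval_cases hc : k % 7 <;> norm_num at h2
    · -- `v` centralizes `u`
      exfalso
      have hvc : v ∈ centralizer ({u} : Set G) := mem_centralizer_singleton_iff.2 (by
        calc v * u = v * u * v⁻¹ * v := by group
          _ = u * v := by rw [hk', pow_one])
      rw [s168_cent_seven h hu7] at hvc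
      have := Subgroup.orderOf_dvd_natCard _ hvc
      rw [Nat.card_zpowers, hu7, hv] at this
      norm_num at this
    · exact ⟨v, hv, hvN, hk'⟩
    · refine ⟨v * v, ?_, mul_mem hvN hvN, ?_⟩
      · rw [← pow_two, orderOf_pow, hv]; norm_num
      · calc v * v * u * (v * v)⁻¹ = v * (v * u * v⁻¹) * v⁻¹ := by group
          _ = u ^ 2 := by rw [hk', hpow]; exact hmod _ _ (by norm_num)
  have hvP : v • P = P := (hstab v P).2 hvN
  have hv1 : v ^ 3 = 1 := hv3 ▸ pow_orderOf_eq_one v
  have hvk : ∀ i : ℕ, v * u ^ i = u ^ (2 * i) * v := fun i => by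
    calc v * u ^ i = v * u ^ i * v⁻¹ * v := by group
      _ = u ^ (2 * i) * v := by rw [← conj_pow, hvu, ← pow_mul]
  -- a second fixed point of `v`
  obtain ⟨Q₀, hQ₀, hvQ⟩ : ∃ Q₀ : Sylow 7 G, Q₀ ≠ P ∧ v • Q₀ = Q₀ := by
    by_contra hno
    push Not at hno
    have hm := (IsPGroup.of_card (p := 3) (n := 1) (G := zpowers v)
      (by rw [Nat.card_zpowers, hv3, pow_one])).card_modEq_card_fixedPoints (Sylow 7 G)
    have hle : Nat.card (fixedPoints (zpowers v) (Sylow 7 G)) ≤ 1 := by
      haveI : Subsingleton (fixedPoints (zpowers v) (Sylow 7 G)) := by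
        refine ⟨fun a b => Subtype.ext ?_⟩
        have ha : a.1 = P := by_contra fun hh => hno a.1 hh (a.2 ⟨v, mem_zpowers v⟩)
        have hb : b.1 = P := by_contra fun hh => hno b.1 hh (b.2 ⟨v, mem_zpowers v⟩)
        rw [ha, hb]
      exact Finite.card_le_one_iff_subsingleton.2 this
    rw [s168_n_seven h] at hm
    unfold Nat.ModEq at hm
    omega
  -- the labelling
  let e₀ : Option (ZMod 7) → Sylow 7 G := fun o => o.elim P fun i => u ^ i.val • Q₀
  have huQ : ∀ i : ℕ, u ^ i • Q₀ ≠ P := by
    intro i hi
    refine hQ₀ ?_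
    have h1 : (u ^ i)⁻¹ • P = P := (hstab _ _).2 (le_normalizer (inv_mem (pow_mem huP i)))
    rw [← h1, ← hi, inv_smul_smul]
  have hinj : Function.Injective e₀ := by
    rintro (_ | i) (_ | j) hij
    · rfl
    · exact absurd hij.symm (huQ _)
    · exact absurd hij (huQ _)
    · have h1 : u ^ i.val • Q₀ = u ^ j.val • Q₀ := hij
      have h2 : u ^ (i.val + (7 - j.val)) • Q₀ = Q₀ := by
        rw [add_comm, pow_add, mul_smul, h1, ← mul_smul, ← pow_add]
        have hj := ZMod.val_lt j
        rw [hmod (7 - j.val + j.val) 0 (by omega), pow_zero, one_smul]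
      have h3 := hreg _ _ hQ₀ h2
      refine congrArg some (ZMod.val_injective 7 ?_)
      have hi := ZMod.val_lt i
      have hj := ZMod.val_lt j
      omega
  have hbij : Function.Bijective e₀ := by
    letI := Fintype.ofFinite (Sylow 7 G)
    refine (Fintype.bijective_iff_injective_and_card _).2 ⟨hinj, ?_⟩
    rw [← Nat.card_eq_fintype_card (α := Sylow 7 G), s168_n_seven h]
    simp [ZMod.card]
  let e := Equiv.ofBijective e₀ hbij
  let ψ : G →* Equiv.Perm (Option (ZMod 7)) :=
    e.symm.permCongrHom.toMonoidHom.comp (MulAction.toPermHom G (Sylow 7 G))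
  have hψ : ∀ (g : G) (o o' : Option (ZMod 7)), g • e₀ o = e₀ o' → ψ g o = o' := by
    intro g o o' hg
    show e.symm (g • e o) = o'
    rw [Equiv.symm_apply_eq]
    exact hg
  have hψe : ∀ (g : G) (o : Option (ZMod 7)), g • e₀ o = e₀ (ψ g o) := by
    intro g o
    show g • e₀ o = e (e.symm (g • e o))
    rw [Equiv.apply_symm_apply]
    rfl
  have hψu : ψ u = shift168 := by
    refine Equiv.ext fun o => hψ _ _ _ ?_
    rcases o with _ | i
    · exact (hstab u P).2 (le_normalizer huP)
    · show u • u ^ i.val • Q₀ = u ^ (i + 1).val • Q₀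
      rw [← mul_smul, ← pow_succ', hmod (i.val + 1) (i + 1).val]
      rw [ZMod.val_add, show ((1 : ZMod 7).val) = 1 from rfl]
      omega
  have hψv : ψ v = double168 := by
    refine Equiv.ext fun o => hψ _ _ _ ?_
    rcases o with _ | i
    · exact hvP
    · show v • u ^ i.val • Q₀ = u ^ (2 * i).val • Q₀
      rw [← mul_smul, hvk, mul_smul, hvQ, hmod (2 * i.val) (2 * i).val]
      rw [ZMod.val_mul, show ((2 : ZMod 7).val) = 2 from rfl]
      omega
  -- an involution inverting `v`
  obtain ⟨t, ht2, htv⟩ : ∃ t : G, orderOf t = 2 ∧ t * v = v⁻¹ * t := by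
    obtain ⟨R, hR⟩ := (IsPGroup.of_card (p := 3) (n := 1) (G := zpowers v)
      (by rw [Nat.card_zpowers, hv3, pow_one])).exists_le_sylow
    have hN := card_sylow_mul_card_normalizer R
    rw [s168_n_three h, h] at hN
    obtain ⟨⟨t, htN⟩, ht⟩ := exists_prime_orderOf_dvd_card'
      (G := normalizer ((R : Subgroup G) : Set G)) 2
      (by rw [show Nat.card (normalizer ((R : Subgroup G) : Set G)) = 6 by omega]; norm_num)
    rw [Subgroup.orderOf_mk] at ht
    have hvR : v ∈ (R : Subgroup G) := hR (mem_zpowers v)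
    have hRv : (R : Subgroup G) = zpowers v :=
      (zpowers_eq_of_mem (s168_sylow_three h R) hvR fun h1 => by simp [h1] at hv3).symm
    have hmem : t * v * t⁻¹ ∈ (R : Subgroup G) := (mem_normalizer_iff.1 htN v).1 hvR
    rw [hRv] at hmem
    obtain ⟨k, hk⟩ := (mem_powers_iff_mem_zpowers).2 hmem
    have hk' : t * v * t⁻¹ = v ^ (k % 3) := by rw [← hk, ← hv3, pow_mod_orderOf]
    have hlt : k % 3 < 3 := Nat.mod_lt _ (by norm_num)
    refine ⟨t, ht, ?_⟩
    interval_cases hc : k % 3
    · exfalso
      rw [pow_zero, conj_eq_one_iff] at hk'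
      simp [hk'] at hv3
    · exfalso
      have htc : t ∈ centralizer ({v} : Set G) := mem_centralizer_singleton_iff.2 (by
        calc t * v = t * v * t⁻¹ * t := by group
          _ = v * t := by rw [hk', pow_one])
      rw [s168_cent_three h hv3] at htc
      have := Subgroup.orderOf_dvd_natCard _ htc
      rw [Nat.card_zpowers, hv3, ht] at this
      norm_num at this
    · calc t * v = t * v * t⁻¹ * t := by group
        _ = v⁻¹ * t := by
          rw [hk', inv_eq_of_mul_eq_one_right (show v * v ^ 2 = 1 by rw [← pow_succ', hv1])]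
  have htfix : ∀ Q : Sylow 7 G, t • Q ≠ Q := by
    intro Q hQ
    have := Subgroup.orderOf_dvd_natCard _ ((hstab t Q).1 hQ)
    rw [hN21, ht2] at this
    norm_num at this
  have htt : t * t = 1 := by rw [← pow_two, ← ht2, pow_orderOf_eq_one]
  have hfix : ∀ x, ψ t x ≠ x := fun x hx => htfix (e₀ x) (by rw [hψe, hx])
  have hinv : ∀ x, ψ t (ψ t x) = x := fun x => by
    rw [← Equiv.Perm.mul_apply, ← map_mul, htt, map_one, Equiv.Perm.one_apply]
  have hd : ∀ x, ψ t (double168 x) = double168 (double168 (ψ t x)) := fun x => by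
    rw [← hψv, ← Equiv.Perm.mul_apply, ← map_mul, htv,
      inv_eq_of_mul_eq_one_right (show v * (v * v) = 1 by
        rw [← hv1, pow_succ, pow_two, mul_assoc]), map_mul, map_mul]
    rfl
  have hn : ψ t none = some 0 := by
    rcases h1 : ψ t none with _ | i
    · exact absurd h1 (hfix none)
    · have h2 := hd none
      rw [show double168 none = none from rfl, h1] at h2
      rw [eq_zero_of_fixed168 i h2]
  obtain ⟨k, hk⟩ := exists_flip168 (ψ t) hn hinv hfix hd
  have hψw : ψ (t * v ^ k) = flip168 := by rw [map_mul, map_pow, hψv, hk]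
  -- generation
  have htop : closure ({u, v, t * v ^ k} : Set G) = ⊤ := by
    set H := closure ({u, v, t * v ^ k} : Set G) with hH
    have huH : u ∈ H := subset_closure (by simp)
    have hvH : v ∈ H := subset_closure (by simp)
    have htH : t ∈ H := by
      have hw : t * v ^ k ∈ H := subset_closure (by simp)
      simpa using H.mul_mem hw (H.inv_mem (H.pow_mem hvH k))
    by_contra hne
    have h7 := Subgroup.orderOf_dvd_natCard _ huH
    have h3 := Subgroup.orderOf_dvd_natCard _ hvH
    have h2 := Subgroup.orderOf_dvd_natCard _ htH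
    rw [hu7] at h7; rw [hv3] at h3; rw [ht2] at h2
    have h42 : 42 ∣ Nat.card H := by
      have := Nat.Coprime.mul_dvd_of_dvd_of_dvd (by norm_num : Nat.Coprime 21 2)
        (Nat.Coprime.mul_dvd_of_dvd_of_dvd (by norm_num : Nat.Coprime 7 3) h7 h3) h2
      exact this
    have := Nat.le_of_dvd Nat.card_pos h42
    have := s168_card_le h hne
    omega
  have hinjψ : Function.Injective ψ := by
    rw [← MonoidHom.ker_eq_bot_iff]
    refine (IsSimpleGroup.eq_bot_or_eq_top_of_normal _ (MonoidHom.normal_ker ψ)).resolve_right ?_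
    intro hk'
    refine hfix none ?_
    rw [MonoidHom.mem_ker.1 (hk' ▸ mem_top t)]
    rfl
  have hrange : ψ.range = model168 := by
    rw [MonoidHom.range_eq_map, ← htop, MonoidHom.map_closure]
    simp [Set.image_insert_eq, hψu, hψv, hψw, model168]
  exact ⟨(MonoidHom.ofInjective hinjψ).trans (MulEquiv.subgroupCongr hrange)⟩

end CfsgLib.Perm.Small
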