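import Cfsg.Agent.Lib.Perm.Small.Unique360Data
import Cfsg.Agent.Lib.Invol.SmallSimple
import Mathlib.GroupTheory.Sylow
import Mathlib.GroupTheory.Transfer
import Mathlib.GroupTheory.PGroup

/-!
# The simple group of order 360 is unique

Such a group acts on its ten Sylow 3-subgroups as the group generated by a translation, a rotation
and one flip of the projective line over the field with nine elements.
-/

set_option autoImplicit false

namespace CfsgLib.Perm.Small360

open Subgroup MulAction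

variable {G : Type*} [Group G] [Finite G] [IsSimpleGroup G]

theorem noncomm (h : Nat.card G = 360) : ¬ IsMulCommutative G := fun hc => by
  haveI := hc
  letI : CommGroup G :=
    { (inferInstance : Group G) with mul_comm := fun a b => IsMulCommutative.is_comm.comm a b }
  have h2 := IsSimpleGroup.prime_card (α := G)
  rw [h] at h2
  norm_num at h2

theorem card_le (h : Nat.card G = 360) {H : Subgroup G} (hH : H ≠ ⊤) : Nat.card H ≤ 60 := by
  have hfac := CfsgLib.Invol.two_mul_card_dvd_factorial (noncomm h) (α := G ⧸ H) (by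
    by_contra hall
    push Not at hall
    refine hH ((eq_top_iff' H).2 fun g => ?_)
    have h' := hall g ((1 : G) : G ⧸ H)
    rw [MulAction.Quotient.smul_mk, smul_eq_mul, mul_one, QuotientGroup.eq, mul_one] at h'
    simpa using inv_mem h')
  rw [h, show Nat.card (G ⧸ H) = H.index from rfl] at hfac
  have h1 := H.card_mul_index
  rw [h] at h1
  by_contra hlt
  have h3 : H.index ≤ 5 := by
    by_contra h4
    have := Nat.mul_le_mul (Nat.le_of_lt (not_le.1 hlt)) (not_le.1 h4 : 6 ≤ H.index)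
    have h5 : 61 * 6 ≤ Nat.card H * H.index := Nat.mul_le_mul (by omega) (by omega)
    omega
  interval_cases hi : H.index <;> norm_num [Nat.factorial] at hfac

theorem card_sylow (h : Nat.card G = 360) (P : Sylow 3 G) :
    Nat.card (P : Subgroup G) = 9 ∧ Nat.card (normalizer ((P : Subgroup G) : Set G)) = 36 := by
  haveI : Fact (Nat.Prime 3) := ⟨by norm_num⟩
  haveI : Fact (Nat.Prime 2) := ⟨by norm_num⟩
  have hP : Nat.card (P : Subgroup G) = 9 := by
    obtain ⟨n, hn⟩ := IsPGroup.iff_card.1 P.2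
    have hd := Subgroup.card_subgroup_dvd_card (P : Subgroup G)
    have h9 : 3 ^ 2 ∣ Nat.card (P : Subgroup G) :=
      P.pow_dvd_card_of_pow_dvd_card (by rw [h]; norm_num)
    rw [h] at hd
    rw [hn] at hd h9 ⊢
    rcases n with _ | _ | _ | n
    · norm_num at h9
    · norm_num at h9
    · norm_num
    · exfalso
      rw [pow_succ', pow_succ', pow_succ'] at hd
      have : 27 ∣ 360 := dvd_trans (Dvd.intro (3 ^ n) (by ring)) hd
      norm_num at this
  refine ⟨hP, ?_⟩
  have h1 : Nat.card (Sylow 3 G) = (normalizer ((P : Subgroup G) : Set G)).index :=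
    P.card_eq_index_normalizer
  have h2 := (normalizer ((P : Subgroup G) : Set G)).card_mul_index
  have hd : Nat.card (Sylow 3 G) ∣ 40 := by
    have := P.card_dvd_index
    have h3 := (P : Subgroup G).card_mul_index
    rw [hP, h] at h3
    rwa [show (P : Subgroup G).index = 40 by omega] at this
  have hm : Nat.card (Sylow 3 G) % 3 = 1 := card_sylow_modEq_one 3 G
  have hgt := CfsgLib.Invol.one_lt_card_sylow (noncomm h) (p := 3) (by rw [h]; norm_num)
  rw [h, ← h1] at h2
  have hle := Nat.le_of_dvd (by norm_num) hd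
  have hten : Nat.card (Sylow 3 G) = 4 ∨ Nat.card (Sylow 3 G) = 10 ∨ Nat.card (Sylow 3 G) = 40 := by
    generalize Nat.card (Sylow 3 G) = c at hd hm hgt hle
    clear h2 h1
    interval_cases c <;> omega
  rcases hten with h4 | h4 | h4
  · exfalso
    rw [h4] at h2
    have hN : normalizer ((P : Subgroup G) : Set G) ≠ ⊤ := by
      intro ht
      rw [ht, Subgroup.index_top] at h1
      omega
    have := card_le h hN
    omega
  · rw [h4] at h2; omega
  · exfalso
    rw [h4] at h2
    have hle' : normalizer ((P : Subgroup G) : Set G) ≤ centralizer ((P : Subgroup G) : Set G) := by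
      have he : (P : Subgroup G) = normalizer ((P : Subgroup G) : Set G) :=
        eq_of_le_of_card_ge le_normalizer (by omega)
      haveI := IsPGroup.isMulCommutative_of_card_eq_prime_sq (p := 3) (G := (P : Subgroup G))
        (by rw [hP]; norm_num)
      rw [← he]
      exact (P : Subgroup G).le_centralizer
    have hidx := (MonoidHom.ker_transferSylow_isComplement' P hle').symm.index_eq_card
    rcases IsSimpleGroup.eq_bot_or_eq_top_of_normal (MonoidHom.transferSylow P hle').ker
      (MonoidHom.normal_ker _) with h' | h'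
    · rw [h', Subgroup.index_bot, h, hP] at hidx; omega
    · rw [h', Subgroup.index_top, hP] at hidx; omega

/-- Distinct Sylow 3-subgroups meet trivially. -/
theorem sylow_inf (h : Nat.card G = 360) {P Q : Sylow 3 G} (hne : P ≠ Q) {d : G}
    (hdP : d ∈ (P : Subgroup G)) (hdQ : d ∈ (Q : Subgroup G)) : d = 1 := by
  haveI : Fact (Nat.Prime 3) := ⟨by norm_num⟩
  haveI : Fact (Nat.Prime 2) := ⟨by norm_num⟩
  by_contra hd1
  set C := centralizer ({d} : Set G) with hC
  have hle : ∀ R : Sylow 3 G, d ∈ (R : Subgroup G) → (R : Subgroup G) ≤ C := fun R hR a ha => by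
    haveI := IsPGroup.isMulCommutative_of_card_eq_prime_sq (p := 3) (G := (R : Subgroup G))
      (by rw [(card_sylow h R).1]; norm_num)
    exact mem_centralizer_singleton_iff.2
      (congrArg Subtype.val (IsMulCommutative.is_comm.comm (⟨a, ha⟩ : (R : Subgroup G)) ⟨d, hR⟩))
  have hCtop : C ≠ ⊤ := by
    intro ht
    have : d ∈ center G := mem_center_iff.2 fun g =>
      mem_centralizer_singleton_iff.1 (show g ∈ C by rw [ht]; exact mem_top g)
    rcases IsSimpleGroup.eq_bot_or_eq_top_of_normal (center G) inferInstance with hb | hb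
    · rw [hb, mem_bot] at this; exact hd1 this
    · exact noncomm h ⟨⟨fun a b => (mem_center_iff.1 (hb ▸ mem_top b) a)⟩⟩
  have hC60 := card_le h hCtop
  have hPC : Nat.card ((P : Subgroup G).subgroupOf C) = 9 := by
    rw [Nat.card_congr (subgroupOfEquivOfLe (hle P hdP)).toEquiv, (card_sylow h P).1]
  have hC9 : 9 ∣ Nat.card C := (card_sylow h P).1 ▸ Subgroup.card_dvd_of_le (hle P hdP)
  have hC360 : Nat.card C ∣ 360 := h ▸ Subgroup.card_subgroup_dvd_card C
  let P' : Sylow 3 C := P.subtype (hle P hdP)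
  let Q' : Sylow 3 C := Q.subtype (hle Q hdQ)
  have hne' : P' ≠ Q' := by
    intro he
    refine hne (Sylow.ext ?_)
    have h2 : (P : Subgroup G).subgroupOf C = (Q : Subgroup G).subgroupOf C :=
      congrArg (fun R : Sylow 3 C => (R : Subgroup C)) he
    rw [← Subgroup.map_subgroupOf_eq_of_le (hle P hdP), h2, Subgroup.map_subgroupOf_eq_of_le (hle Q hdQ)]
  haveI : Nontrivial (Sylow 3 C) := ⟨P', Q', hne'⟩
  have hn2 : 2 ≤ Nat.card (Sylow 3 C) := Finite.one_lt_card
  have hnd : Nat.card (Sylow 3 C) ∣ ((P : Subgroup G).subgroupOf C).index := P'.card_dvd_index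
  have hnm : Nat.card (Sylow 3 C) % 3 = 1 := card_sylow_modEq_one 3 C
  have hci := ((P : Subgroup G).subgroupOf C).card_mul_index
  rw [hPC] at hci
  obtain ⟨hidx, hn4⟩ : ((P : Subgroup G).subgroupOf C).index = 4 ∧ Nat.card (Sylow 3 C) = 4 := by
    have hle7' := Nat.le_of_dvd (Nat.pos_of_ne_zero Subgroup.index_ne_zero_of_finite) hnd
    exact arith360 _ (List.mem_range.2 (by omega)) _ (List.mem_range.2 (by omega)) (hci ▸ hC360) hn2 hnd hnm
  have hNC : normalizer ((P' : Subgroup C) : Set C) ≤ centralizer ((P' : Subgroup C) : Set C) := by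
    have h1 : Nat.card (Sylow 3 C) = (normalizer ((P' : Subgroup C) : Set C)).index :=
      P'.card_eq_index_normalizer
    have h2 := (normalizer ((P' : Subgroup C) : Set C)).card_mul_index
    rw [← h1, hn4] at h2
    have h3 : Nat.card (P' : Subgroup C) = 9 := hPC
    have he : (P' : Subgroup C) = normalizer ((P' : Subgroup C) : Set C) :=
      eq_of_le_of_card_ge le_normalizer (by omega)
    haveI := IsPGroup.isMulCommutative_of_card_eq_prime_sq (p := 3) (G := (P' : Subgroup C))
      (by rw [h3]; norm_num)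
    rw [← he]
    exact (P' : Subgroup C).le_centralizer
  -- the normal 3-complement
  let V := (MonoidHom.transferSylow P' hNC).ker
  have hV : Nat.card V = 4 := by
    have := (MonoidHom.ker_transferSylow_isComplement' P' hNC).card_mul
    rw [show Nat.card (P' : Subgroup C) = 9 from hPC] at this
    have hVd : Nat.card V * 9 = Nat.card C := this
    omega
  let W : Subgroup G := V.map C.subtype
  have hW : Nat.card W = 4 := by
    rw [Nat.card_congr (V.equivMapOfInjective C.subtype C.subtype_injective).toEquiv.symm, hV]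
  have hCW : C ≤ normalizer (W : Set G) := by
    intro c hc
    refine mem_normalizer_iff.2 fun g => ?_
    have hn : V.Normal := MonoidHom.normal_ker _
    constructor
    · rintro ⟨v, hv, rfl⟩
      exact ⟨(⟨c, hc⟩ : C) * v * (⟨c, hc⟩ : C)⁻¹, hn.conj_mem v hv _, rfl⟩
    · rintro ⟨v, hv, hve⟩
      refine ⟨(⟨c, hc⟩ : C)⁻¹ * v * (⟨c, hc⟩ : C)⁻¹⁻¹, hn.conj_mem v hv _, ?_⟩
      have hve' : (v : G) = c * g * c⁻¹ := hve
      show c⁻¹ * (v : G) * c⁻¹⁻¹ = g
      rw [hve']; group
  obtain ⟨S, hS⟩ := (IsPGroup.of_card (p := 2) (n := 2) (G := W) (by rw [hW]; norm_num)).exists_le_sylow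
  have hS8 : Nat.card (S : Subgroup G) = 8 := by
    obtain ⟨n, hn⟩ := IsPGroup.iff_card.1 S.2
    have hd := Subgroup.card_subgroup_dvd_card (S : Subgroup G)
    have h8 : 2 ^ 3 ∣ Nat.card (S : Subgroup G) :=
      S.pow_dvd_card_of_pow_dvd_card (by rw [h]; norm_num)
    rw [h] at hd
    rw [hn] at hd h8 ⊢
    have h3 : 3 ≤ n := (Nat.pow_dvd_pow_iff_le_right (by norm_num : 1 < 2)).1 h8
    by_contra hne8
    have h4 : 4 ≤ n := by
      rcases Nat.eq_or_lt_of_le h3 with e | e
      · exact absurd (by rw [← e]; norm_num) hne8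
      · omega
    have : 2 ^ 4 ∣ 360 := dvd_trans (pow_dvd_pow 2 h4) hd
    norm_num at this
  have hWS : (W.subgroupOf (S : Subgroup G)).index = 2 := by
    have := (W.subgroupOf (S : Subgroup G)).card_mul_index
    rw [Nat.card_congr (subgroupOfEquivOfLe hS).toEquiv, hW, hS8] at this
    omega
  have hSW : (S : Subgroup G) ≤ normalizer (W : Set G) := by
    haveI := Subgroup.normal_of_index_eq_two hWS
    exact Subgroup.le_normalizer_of_normal_subgroupOf hS
  have hNW : normalizer (W : Set G) ≠ ⊤ := by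
    intro ht
    haveI : W.Normal := normalizer_eq_top_iff.1 ht
    rcases IsSimpleGroup.eq_bot_or_eq_top_of_normal W inferInstance with hb | hb
    · rw [hb, card_bot] at hW; omega
    · rw [hb, card_top, h] at hW; omega
  have h8 := Subgroup.card_dvd_of_le hSW
  have h9 := Subgroup.card_dvd_of_le (show (P : Subgroup G) ≤ normalizer (W : Set G) from
    (hle P hdP).trans hCW)
  rw [hS8] at h8
  rw [(card_sylow h P).1] at h9
  have := Nat.le_of_dvd Nat.card_pos (Nat.Coprime.mul_dvd_of_dvd_of_dvd (by norm_num : Nat.Coprime 8 9) h8 h9)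
  have := card_le h hNW
  omega

/-- A labelling of the Sylow 3-subgroups by the projective line. -/
theorem exists_labelling (h : Nat.card G = 360) (P Q₀ : Sylow 3 G) (hQ₀ : Q₀ ≠ P) (a b : G)
    (ha : a ∈ (P : Subgroup G)) (hb : b ∈ (P : Subgroup G)) (ha1 : a ≠ 1)
    (hba : b ∉ zpowers a) (ha3 : a ^ 3 = 1) (hb3 : b ^ 3 = 1) :
    ∃ ψ : G →* Equiv.Perm (Option V), Function.Injective ψ ∧
      (∀ y : G, ψ y none = none ↔ y ∈ normalizer ((P : Subgroup G) : Set G)) ∧
      (∀ y : G, ψ y none = none → (ψ y (some 0) = some 0 ↔ y • Q₀ = Q₀)) ∧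
      (∀ y : G, ψ y none = some 0 ↔ y • P = Q₀) ∧
      (∀ v o, ψ (a ^ v.1.val * b ^ v.2.val) o = shiftFun v o) ∧
      ∀ y ∈ normalizer ((P : Subgroup G) : Set G), ∀ L₁ L₂ : V,
        y * a * y⁻¹ = a ^ L₁.1.val * b ^ L₁.2.val → y * b * y⁻¹ = a ^ L₂.1.val * b ^ L₂.2.val →
        ∃ d : V, ∀ o, ψ y o = o.map fun v => lin L₁ L₂ v + d := by
  classical
  haveI : Fact (Nat.Prime 3) := ⟨by norm_num⟩
  haveI hPc := IsPGroup.isMulCommutative_of_card_eq_prime_sq (p := 3) (G := (P : Subgroup G))
      (by rw [(card_sylow h P).1]; norm_num)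
  have hcomm : ∀ x ∈ (P : Subgroup G), ∀ y ∈ (P : Subgroup G), Commute x y := fun x hx y hy =>
    congrArg Subtype.val (IsMulCommutative.is_comm.comm (⟨x, hx⟩ : (P : Subgroup G)) ⟨y, hy⟩)
  let u : V → G := fun v => a ^ v.1.val * b ^ v.2.val
  have huP : ∀ v, u v ∈ (P : Subgroup G) := fun v => mul_mem (pow_mem ha _) (pow_mem hb _)
  have hpa : ∀ (x : G), x ^ 3 = 1 → ∀ n : ℕ, x ^ n = x ^ (n % 3) := fun x hx n => by
    conv_lhs => rw [← Nat.mod_add_div n 3, pow_add, pow_mul, hx, one_pow, mul_one]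
  have hu : ∀ v w, u v * u w = u (v + w) := by
    intro v w
    show a ^ v.1.val * b ^ v.2.val * (a ^ w.1.val * b ^ w.2.val) =
      a ^ (v + w).1.val * b ^ (v + w).2.val
    rw [Prod.fst_add, Prod.snd_add, ZMod.val_add, ZMod.val_add, ← hpa a ha3, ← hpa b hb3, pow_add,
      pow_add, ((hcomm b hb a ha).pow_pow _ _).mul_mul_mul_comm]
  have hu0 : u 0 = 1 := by simp [u]
  have huinj : ∀ v, u v = 1 → v = 0 := by
    rintro ⟨v1, v2⟩ hv
    have hv' : a ^ v1.val * b ^ v2.val = 1 := hv
    have h2 : v2 = 0 := by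
      by_contra h2
      have hb' : b ^ v2.val ∈ zpowers a := by
        rw [← inv_eq_of_mul_eq_one_right hv']; exact inv_mem (pow_mem (mem_zpowers a) _)
      refine hba ?_
      have h3 : v2.val = 1 ∨ v2.val = 2 := by
        have := ZMod.val_lt v2
        have : v2.val ≠ 0 := fun e => h2 ((ZMod.val_eq_zero v2).1 e)
        omega
      rcases h3 with e | e
      · rwa [e, pow_one] at hb'
      · rw [e] at hb'
        have h4 : b = (b ^ 2)⁻¹ := eq_inv_of_mul_eq_one_right (by rw [← pow_succ]; exact hb3)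
        rw [h4]; exact inv_mem hb'
    subst h2
    simp only [ZMod.val_zero, pow_zero, mul_one] at hv'
    refine Prod.ext ?_ rfl
    by_contra h1
    have h3 : v1.val = 1 ∨ v1.val = 2 := by
      have := ZMod.val_lt v1
      have : v1.val ≠ 0 := fun e => h1 ((ZMod.val_eq_zero v1).1 e)
      omega
    rcases h3 with e | e <;> rw [e] at hv'
    · exact ha1 (by rwa [pow_one] at hv')
    · exact ha1 (by rw [← ha3, pow_succ, hv', one_mul])
  have hstab : ∀ (g : G) (Q : Sylow 3 G), g • Q = Q ↔ g ∈ normalizer ((Q : Subgroup G) : Set G) :=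
    fun g Q => Sylow.smul_eq_iff_mem_normalizer
  have huPfix : ∀ v, u v • P = P := fun v => (hstab _ P).2 (le_normalizer (huP v))
  let e₀ : Option V → Sylow 3 G := fun o => o.elim P fun v => u v • Q₀
  have huQ : ∀ v, u v • Q₀ ≠ P := by
    intro v hv
    refine hQ₀ (MulAction.injective (u v) ?_)
    show u v • Q₀ = u v • P
    rw [hv, huPfix]
  have hinj : Function.Injective e₀ := by
    rintro (_ | v) (_ | w) hij
    · rfl
    · exact absurd hij.symm (huQ _)
    · exact absurd hij (huQ _)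
    · have h1 : u v • Q₀ = u w • Q₀ := hij
      have h2 : u (v + -w) • Q₀ = Q₀ := by
        rw [add_comm, ← hu, mul_smul, h1, ← mul_smul, hu, neg_add_cancel, hu0, one_smul]
      have h3 : u (v + -w) ∈ (P : Subgroup G) ⊓ (Q₀ : Subgroup G) := by
        rw [← IsPGroup.inf_normalizer_sylow P.2 Q₀]
        exact ⟨huP _, (hstab _ _).1 h2⟩
      have h4 := huinj _ (sylow_inf h hQ₀.symm h3.1 h3.2)
      exact congrArg some (add_neg_eq_zero.1 h4)
  have h10 : Nat.card (Sylow 3 G) = 10 := by
    have h1 : Nat.card (Sylow 3 G) = (normalizer ((P : Subgroup G) : Set G)).index :=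
      P.card_eq_index_normalizer
    have h2 := (normalizer ((P : Subgroup G) : Set G)).card_mul_index
    rw [← h1, (card_sylow h P).2, h] at h2
    omega
  have hbij : Function.Bijective e₀ := by
    letI := Fintype.ofFinite (Sylow 3 G)
    refine (Fintype.bijective_iff_injective_and_card _).2 ⟨hinj, ?_⟩
    rw [← Nat.card_eq_fintype_card (α := Sylow 3 G), h10]
    rfl
  let e := Equiv.ofBijective e₀ hbij
  let ψ : G →* Equiv.Perm (Option V) :=
    e.symm.permCongrHom.toMonoidHom.comp (MulAction.toPermHom G (Sylow 3 G))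
  have hψe : ∀ (g : G) (o : Option V), g • e₀ o = e₀ (ψ g o) := by
    intro g o
    show g • e₀ o = e (e.symm (g • e o))
    rw [Equiv.apply_symm_apply]
    rfl
  have hψ : ∀ (g : G) (o o' : Option V), g • e₀ o = e₀ o' → ψ g o = o' := fun g o o' hg =>
    hinj ((hψe g o).symm.trans hg)
  have he0 : e₀ (some 0) = Q₀ := by simp [e₀, hu0]
  refine ⟨ψ, ?_, fun y => ⟨fun hy => (hstab y P).1 (by simpa [e₀, hy] using hψe y none),
    fun hy => hψ _ _ _ (by simpa [e₀] using (hstab y P).2 hy)⟩, fun y _ => ⟨fun hy => ?_, fun hy => ?_⟩,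
    fun y => ⟨fun hy => ?_, fun hy => ?_⟩, fun v o => ?_, ?_⟩
  · rw [← MonoidHom.ker_eq_bot_iff]
    refine (IsSimpleGroup.eq_bot_or_eq_top_of_normal _ (MonoidHom.normal_ker ψ)).resolve_right ?_
    intro hk
    obtain ⟨x, hx⟩ := MulAction.exists_smul_eq G P Q₀
    refine hQ₀ ?_
    rw [← hx, show P = e₀ none from rfl, hψe, MonoidHom.mem_ker.1 (hk ▸ mem_top x)]
    rfl
  · have := hψe y (some 0); rwa [hy, he0] at this
  · exact hψ _ _ _ (by rw [he0, hy])
  · have := hψe y none; rw [hy, he0] at this; exact this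
  · exact hψ _ _ _ (by rw [he0]; exact hy)
  · refine hψ _ _ _ ?_
    rcases o with _ | w
    · exact huPfix v
    · show u v • u w • Q₀ = u (w + v) • Q₀
      rw [← mul_smul, hu, add_comm]
  · intro y hy L₁ L₂ hL₁ hL₂
    have hyQ : ∃ d, y • Q₀ = u d • Q₀ := by
      rcases hd : ψ y (some 0) with _ | d
      · exfalso
        have h1 := hψe y (some 0)
        rw [hd, he0] at h1
        exact hQ₀ (MulAction.injective y (h1.trans ((hstab y P).2 hy).symm))
      · exact ⟨d, by rw [← he0, hψe, hd]; simp [e₀, hu0]⟩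
    obtain ⟨d, hd⟩ := hyQ
    refine ⟨d, fun o => hψ _ _ _ ?_⟩
    rcases o with _ | w
    · exact (hstab y P).2 hy
    · show y • u w • Q₀ = u (lin L₁ L₂ w + d) • Q₀
      have hnsmul : ∀ (n : ℕ) (L : V), u L ^ n = u (n • L) := by
        intro n L
        induction n with
        | zero => simp [hu0]
        | succ n ih => rw [pow_succ, ih, hu, succ_nsmul]
      have hconj : y * u w = u (lin L₁ L₂ w) * y := by
        calc y * u w = (y * a * y⁻¹) ^ w.1.val * (y * b * y⁻¹) ^ w.2.val * y := by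
              rw [conj_pow, conj_pow]; show y * (a ^ w.1.val * b ^ w.2.val) = _; group
          _ = u L₁ ^ w.1.val * u L₂ ^ w.2.val * y := by rw [hL₁, hL₂]
          _ = u (lin L₁ L₂ w) * y := by
            rw [hnsmul, hnsmul, hu]
            congr 2
            refine Prod.ext ?_ ?_ <;>
              simp [lin, nsmul_eq_mul, ZMod.natCast_zmod_val]
      rw [← mul_smul, hconj, mul_smul, hd, ← mul_smul, hu]

open scoped Pointwise in
/-- A simple group of order 360 is isomorphic to the model. -/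
theorem equiv_model360 (h : Nat.card G = 360) : Nonempty (G ≃* model360) := by
  classical
  haveI : Fact (Nat.Prime 2) := ⟨Nat.prime_two⟩
  haveI : Fact (Nat.Prime 3) := ⟨by norm_num⟩
  obtain ⟨P⟩ : Nonempty (Sylow 3 G) := inferInstance
  have hP9 := (card_sylow h P).1
  have hN36 := (card_sylow h P).2
  haveI hPc := IsPGroup.isMulCommutative_of_card_eq_prime_sq (p := 3) (G := (P : Subgroup G))
      (by rw [hP9]; norm_num)
  have hcomm : ∀ x ∈ (P : Subgroup G), ∀ y ∈ (P : Subgroup G), Commute x y := fun x hx y hy =>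
    congrArg Subtype.val (IsMulCommutative.is_comm.comm (⟨x, hx⟩ : (P : Subgroup G)) ⟨y, hy⟩)
  obtain ⟨Q₀, hQ₀⟩ : ∃ Q₀ : Sylow 3 G, Q₀ ≠ P := by
    haveI : Nontrivial (Sylow 3 G) := Finite.one_lt_card_iff_nontrivial.1
      (CfsgLib.Invol.one_lt_card_sylow (noncomm h) (p := 3) (by rw [h]; norm_num))
    exact exists_ne P
  have hstab : ∀ (g : G) (Q : Sylow 3 G), g • Q = Q ↔ g ∈ normalizer ((Q : Subgroup G) : Set G) :=
    fun g Q => Sylow.smul_eq_iff_mem_normalizer
  have hPord : ∀ y ∈ (P : Subgroup G), orderOf y ∣ 9 := fun y hy =>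
    hP9 ▸ Subgroup.orderOf_dvd_natCard _ hy
  -- the stabiliser of two points
  let Hp : Subgroup G := normalizer ((P : Subgroup G) : Set G) ⊓ stabilizer G Q₀
  have hregP : ∀ y ∈ (P : Subgroup G), y • Q₀ = Q₀ → y = 1 := fun y hy hyQ => by
    have h3 : y ∈ (P : Subgroup G) ⊓ (Q₀ : Subgroup G) := by
      rw [← IsPGroup.inf_normalizer_sylow P.2 Q₀]
      exact ⟨hy, (hstab _ _).1 hyQ⟩
    exact sylow_inf h hQ₀.symm h3.1 h3.2
  have horb : ∀ Q : Sylow 3 G, Q ≠ P → ∃ y ∈ (P : Subgroup G), y • Q₀ = Q := by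
    intro Q hQ
    have h10 : Nat.card (Sylow 3 G) = 10 := by
      have h1 : Nat.card (Sylow 3 G) = (normalizer ((P : Subgroup G) : Set G)).index :=
        P.card_eq_index_normalizer
      have h2 := (normalizer ((P : Subgroup G) : Set G)).card_mul_index
      rw [← h1, hN36, h] at h2
      omega
    letI := Fintype.ofFinite (Sylow 3 G)
    letI := Fintype.ofFinite (P : Subgroup G)
    let f : Option (P : Subgroup G) → Sylow 3 G := fun o => o.elim P fun y => (y : G) • Q₀
    have hfi : Function.Injective f := by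
      have hne : ∀ y : (P : Subgroup G), (y : G) • Q₀ ≠ P := fun y hy => hQ₀ (MulAction.injective
        (y : G) (by show (y : G) • Q₀ = (y : G) • P; rw [hy, (hstab _ P).2 (le_normalizer y.2)]))
      rintro (_ | y) (_ | z) hyz
      · rfl
      · exact absurd hyz.symm (hne z)
      · exact absurd hyz (hne y)
      · have h1 : (y : G) • Q₀ = (z : G) • Q₀ := hyz
        have := hregP ((z : G)⁻¹ * y) (mul_mem (inv_mem z.2) y.2) (by rw [mul_smul, h1, inv_smul_smul])
        exact congrArg some (Subtype.ext (inv_mul_eq_one.1 this).symm)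
    have hfb : Function.Bijective f := (Fintype.bijective_iff_injective_and_card _).2 ⟨hfi, by
      rw [← Nat.card_eq_fintype_card (α := Sylow 3 G), h10, Fintype.card_option,
        ← Nat.card_eq_fintype_card, hP9]⟩
    obtain ⟨o, ho⟩ := hfb.2 Q
    rcases o with _ | y
    · exact absurd ho.symm hQ
    · exact ⟨y, y.2, ho⟩
  have hHcard : Nat.card Hp = 4 := by
    have hPN : (P : Subgroup G) ≤ normalizer ((P : Subgroup G) : Set G) := le_normalizer
    have : Nat.card (normalizer ((P : Subgroup G) : Set G)) =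
        Nat.card (P : Subgroup G) * Nat.card Hp := by
      rw [← Nat.card_prod]
      refine (Nat.card_congr (Equiv.ofBijective
        (fun w : ↥(P : Subgroup G) × ↥Hp => (⟨(w.1 : G) * w.2, mul_mem (hPN w.1.2) w.2.2.1⟩ :
          normalizer ((P : Subgroup G) : Set G))) ⟨?_, ?_⟩)).symm
      · rintro ⟨y, z⟩ ⟨y', z'⟩ hw
        have hw' : (y : G) * z = y' * z' := congrArg Subtype.val hw
        have h1 := hregP ((y' : G)⁻¹ * y) (mul_mem (inv_mem y'.2) y.2) (by
          rw [show (y' : G)⁻¹ * y = z' * (z : G)⁻¹ by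
            rw [← mul_inv_cancel_right (y : G) z, hw']; group, mul_smul,
            inv_smul_eq_iff.2 z.2.2.symm, z'.2.2])
        rw [inv_mul_eq_one] at h1
        rw [← h1] at hw'
        exact Prod.ext (Subtype.ext h1.symm) (Subtype.ext (mul_left_cancel hw'))
      · rintro ⟨x, hx⟩
        have hxQ : x • Q₀ ≠ P := fun hh => hQ₀ (MulAction.injective x
          (by show x • Q₀ = x • P; rw [hh, (hstab x P).2 hx]))
        obtain ⟨y, hy, hyQ⟩ := horb _ hxQ
        exact ⟨(⟨y, hy⟩, ⟨y⁻¹ * x, (normalizer ((P : Subgroup G) : Set G)).mul_mem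
          ((normalizer ((P : Subgroup G) : Set G)).inv_mem (hPN hy)) hx,
          show (y⁻¹ * x) • Q₀ = Q₀ by rw [mul_smul, ← hyQ, inv_smul_smul]⟩), Subtype.ext (by simp)⟩
    rw [hP9, hN36] at this
    omega
  -- exponent three
  have hexp : ∀ y ∈ (P : Subgroup G), y ^ 3 = 1 := by
    by_contra hno
    push Not at hno
    obtain ⟨y, hy, hy3⟩ := hno
    have hy9 : orderOf y = 9 := by
      rcases (Nat.dvd_prime_pow (by norm_num : Nat.Prime 3)).1
        (show orderOf y ∣ 3 ^ 2 by simpa using hPord y hy) with ⟨i, hi, hi'⟩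
      interval_cases i
      · exact absurd (orderOf_dvd_iff_pow_eq_one.1 (by simp [hi'])) hy3
      · exact absurd (orderOf_dvd_iff_pow_eq_one.1 (by simp [hi'])) hy3
      · simpa using hi'
    have hyP : (P : Subgroup G) = zpowers y := (eq_of_le_of_card_ge (zpowers_le.2 hy)
      (by rw [hP9, Nat.card_zpowers, hy9])).symm
    -- an involution of the stabiliser centralizes or inverts `P`
    obtain ⟨⟨t, htH⟩, ht⟩ := exists_prime_orderOf_dvd_card' (G := Hp) 2 (by rw [hHcard]; norm_num)
    rw [Subgroup.orderOf_mk] at ht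
    obtain ⟨k, hk⟩ : ∃ k : ℕ, y ^ k = t * y * t⁻¹ :=
      (mem_powers_iff_mem_zpowers).2 (hyP ▸ (mem_normalizer_iff.1 htH.1 y).1 hy)
    obtain ⟨⟨x, hxH⟩, hx⟩ : ∃ z : Hp, z ∉ zpowers (⟨t, htH⟩ : Hp) := by
      by_contra hall
      push Not at hall
      have := Nat.card_le_card_of_injective (fun z : Hp => (⟨z, hall z⟩ : zpowers (⟨t, htH⟩ : Hp)))
        fun a b hab => congrArg Subtype.val hab
      rw [hHcard, Nat.card_zpowers, Subgroup.orderOf_mk, ht] at this
      omega
    obtain ⟨m, hm⟩ : ∃ m : ℕ, y ^ m = x * y * x⁻¹ :=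
      (mem_powers_iff_mem_zpowers).2 (hyP ▸ (mem_normalizer_iff.1 hxH.1 y).1 hy)
    obtain ⟨ψ', hinjψ', -, -, -, -⟩ : ∃ ψ' : G →* Equiv.Perm (Sylow 3 G), Function.Injective ψ' ∧
        True ∧ True ∧ True ∧ True := by
      refine ⟨MulAction.toPermHom G _, ?_, trivial, trivial, trivial, trivial⟩
      rw [← MonoidHom.ker_eq_bot_iff]
      refine (IsSimpleGroup.eq_bot_or_eq_top_of_normal _ (MonoidHom.normal_ker _)).resolve_right ?_
      intro hk
      obtain ⟨x, hx⟩ := MulAction.exists_smul_eq G P Q₀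
      exact hQ₀ (hx.symm.trans (congrArg (fun σ : Equiv.Perm (Sylow 3 G) => σ P)
        (MonoidHom.mem_ker.1 (hk ▸ mem_top x))))
    -- an element of the stabiliser centralizing `y` is trivial
    have hfaith : ∀ z ∈ Hp, z * y * z⁻¹ = y → z = 1 := by
      intro z hz hzy
      have hzy' : Commute z y := mul_inv_eq_iff_eq_mul.1 hzy
      have hfixall : ∀ Q : Sylow 3 G, z • Q = Q := by
        intro Q
        by_cases hQ : Q = P
        · rw [hQ]; exact (hstab z P).2 hz.1
        · obtain ⟨w, hw, rfl⟩ := horb Q hQ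
          have hwz : Commute z w := by
            rw [hyP] at hw
            obtain ⟨i, rfl⟩ := Subgroup.mem_zpowers_iff.1 hw
            exact hzy'.zpow_right i
          rw [← mul_smul, hwz.eq, mul_smul]
          exact congrArg (w • ·) hz.2
      by_contra hz1
      have hker : z ∈ (MulAction.toPermHom G (Sylow 3 G)).ker := MonoidHom.mem_ker.2 (Equiv.ext hfixall)
      rcases IsSimpleGroup.eq_bot_or_eq_top_of_normal _ (MonoidHom.normal_ker
        (MulAction.toPermHom G (Sylow 3 G))) with hb | hb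
      · rw [hb, mem_bot] at hker; exact hz1 hker
      · obtain ⟨g, hg⟩ := MulAction.exists_smul_eq G P Q₀
        exact hQ₀ (hg.symm.trans (congrArg (fun σ : Equiv.Perm (Sylow 3 G) => σ P)
          (MonoidHom.mem_ker.1 (hb ▸ mem_top g))))
    -- squares of units modulo nine
    have hpow : ∀ n : ℕ, x ^ n * y * (x ^ n)⁻¹ = y ^ (m ^ n) := by
      intro n
      induction n with
      | zero => simp
      | succ n ih =>
        calc x ^ (n + 1) * y * (x ^ (n + 1))⁻¹ = x * (x ^ n * y * (x ^ n)⁻¹) * x⁻¹ := by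
              rw [pow_succ', _root_.mul_inv_rev]; simp only [mul_assoc]
          _ = y ^ (m ^ (n + 1)) := by rw [ih, ← conj_pow, ← hm, ← pow_mul, pow_succ']
    have hx4 : x ^ 4 = 1 := by
      have := pow_card_eq_one' (G := Hp) (x := ⟨x, hxH⟩)
      rw [hHcard] at this
      exact congrArg Subtype.val this
    have h1 := hpow 4
    rw [hx4] at h1
    simp only [one_mul, inv_one, mul_one] at h1
    have h2 := pow_inj_mod.1 (h1.symm.trans (pow_one y).symm)
    rw [hy9] at h2
    have h3 : m % 9 = 1 ∨ m % 9 = 8 := by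
      rw [Nat.pow_mod] at h2
      have := Nat.mod_lt m (by norm_num : 0 < 9)
      interval_cases m % 9 <;> first | omega | exact absurd h2 (by norm_num)
    have hk' : k % 9 = 1 ∨ k % 9 = 8 := by
      have htt : t * t = 1 := by rw [← pow_two, ← ht, pow_orderOf_eq_one]
      have h1 : t * (t * y * t⁻¹) * t⁻¹ = y ^ (k * k) := by
        rw [← hk, ← conj_pow, ← hk, ← pow_mul]
      rw [show t * (t * y * t⁻¹) * t⁻¹ = (t * t) * y * (t * t)⁻¹ by group, htt, one_mul, inv_one,
        mul_one] at h1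
      have h2 := pow_inj_mod.1 (h1.symm.trans (pow_one y).symm)
      rw [hy9, Nat.mul_mod] at h2
      have := Nat.mod_lt k (by norm_num : 0 < 9)
      interval_cases k % 9 <;> first | omega | exact absurd h2 (by norm_num)
    have hy' : ∀ n : ℕ, y ^ n = y ^ (n % 9) := fun n => by rw [← hy9, pow_mod_orderOf]
    rcases hk' with hk' | hk'
    · have := hfaith t htH (by rw [← hk, hy', hk', pow_one])
      rw [this, orderOf_one] at ht; omega
    · rcases h3 with h3 | h3
      · have := hfaith x hxH (by rw [← hm, hy', h3, pow_one])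
        subst this
        exact hx (one_mem _)
      · have hz : (x * t) * y * (x * t)⁻¹ = y := by
          rw [show (x * t) * y * (x * t)⁻¹ = x * (t * y * t⁻¹) * x⁻¹ by group, ← hk, hy' k, hk',
            ← conj_pow, ← hm, hy' m, h3, ← pow_mul, hy', show 8 * 8 % 9 = 1 by norm_num, pow_one]
        have h5 := hfaith _ (Hp.mul_mem hxH htH) hz
        refine hx ?_
        have h6 : (⟨x, hxH⟩ : Hp) = (⟨t, htH⟩ : Hp)⁻¹ := eq_inv_of_mul_eq_one_left (Subtype.ext h5)
        rw [h6]
        exact inv_mem (mem_zpowers _)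
  -- involutions of the stabiliser invert `P`
  have hinv : ∀ y ∈ Hp, y * y = 1 → y ≠ 1 → ∀ w ∈ (P : Subgroup G), y * w * y⁻¹ = w⁻¹ := by
    intro y hy hyy hy1
    obtain ⟨a, ha, ha1⟩ : ∃ a ∈ (P : Subgroup G), a ≠ 1 := by
      haveI : Nontrivial (P : Subgroup G) := Finite.one_lt_card_iff_nontrivial.1 (by rw [hP9]; norm_num)
      obtain ⟨w, hw⟩ := exists_ne (1 : (P : Subgroup G))
      exact ⟨w, w.2, fun e => hw (Subtype.ext e)⟩
    obtain ⟨b, hb, hba⟩ : ∃ b ∈ (P : Subgroup G), b ∉ zpowers a := by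
      by_contra hno
      push Not at hno
      have := Subgroup.card_le_of_le (H := (P : Subgroup G)) (K := zpowers a) fun w hw => hno w hw
      rw [hP9, Nat.card_zpowers] at this
      have := Nat.le_of_dvd (by norm_num) (orderOf_dvd_of_pow_eq_one (hexp a ha))
      omega
    obtain ⟨ψ, hψi, hψN, hψQ, -, hψu, hψaff⟩ :=
      exists_labelling h P Q₀ hQ₀ a b ha hb ha1 hba (hexp a ha) (hexp b hb)
    have hsurj : ∀ w ∈ (P : Subgroup G), ∃ v : V, w = a ^ v.1.val * b ^ v.2.val := by
      intro w hw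
      letI := Fintype.ofFinite (P : Subgroup G)
      have hbij : Function.Bijective (fun v : V => (⟨a ^ v.1.val * b ^ v.2.val,
          mul_mem (pow_mem ha _) (pow_mem hb _)⟩ : (P : Subgroup G))) := by
        refine (Fintype.bijective_iff_injective_and_card _).2 ⟨fun v v' hv => ?_, ?_⟩
        · have := congrArg (fun z => ψ z (some 0)) (congrArg Subtype.val hv)
          simp only [hψu] at this
          simpa [shiftFun] using this
        · rw [← Nat.card_eq_fintype_card (α := (P : Subgroup G)), hP9]; rfl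
      obtain ⟨v, hv⟩ := hbij.2 ⟨w, hw⟩
      exact ⟨v, (congrArg Subtype.val hv).symm⟩
    obtain ⟨L₁, hL₁⟩ := hsurj _ ((mem_normalizer_iff.1 hy.1 a).1 ha)
    obtain ⟨L₂, hL₂⟩ := hsurj _ ((mem_normalizer_iff.1 hy.1 b).1 hb)
    obtain ⟨d, hd⟩ := hψaff y hy.1 L₁ L₂ hL₁ hL₂
    have hy0 : ψ y none = none := (hψN y).2 hy.1
    have h00 := (hψQ y hy0).2 hy.2
    rw [hd] at h00
    have hd0 : d = 0 := by
      simpa [lin_zero] using h00
    have hy2 : ∀ o : Option V, (o.map (lin L₁ L₂)).map (lin L₁ L₂) = o := by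
      intro o
      have h1 : ψ (y * y) o = o := by rw [hyy, map_one]; rfl
      rw [map_mul, Equiv.Perm.mul_apply, hd, hd] at h1
      simpa [hd0] using h1
    have hψy : ψ y = ⟨Option.map (lin L₁ L₂), Option.map (lin L₁ L₂), hy2, hy2⟩ := Equiv.ext fun o => by
      rw [hd, hd0]; simp
    have hsgn : Equiv.Perm.sign (ψ y) = 1 := by
      rcases IsSimpleGroup.eq_bot_or_eq_top_of_normal (Equiv.Perm.sign.comp ψ).ker
        (MonoidHom.normal_ker _) with hb' | hb'
      · refine absurd ⟨⟨fun p q => ?_⟩⟩ (noncomm h)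
        exact (MonoidHom.ker_eq_bot_iff _).1 hb' (by rw [map_mul, map_mul, mul_comm])
      · exact MonoidHom.mem_ker.1 (show y ∈ (Equiv.Perm.sign.comp ψ).ker from hb' ▸ mem_top y)
    rw [hψy] at hsgn
    rcases sq_neg_of_even L₁ L₂ hy2 hsgn with hid | hneg
    · refine absurd (hψi ?_) hy1
      rw [map_one]
      refine Equiv.ext fun o => ?_
      rw [hψy]
      rcases o with _ | v
      · rfl
      · simp [hid]
    · intro w hw
      obtain ⟨v, rfl⟩ := hsurj w hw
      have hwy : y * (a ^ v.1.val * b ^ v.2.val) = (a ^ v.1.val * b ^ v.2.val)⁻¹ * y := by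
        refine hψi (Equiv.ext fun o => ?_)
        generalize hwdef : a ^ v.1.val * b ^ v.2.val = w
        have hw' : ∀ o, ψ w o = shiftFun v o := fun o => hwdef ▸ hψu v o
        rw [map_mul, map_mul, map_inv, Equiv.Perm.mul_apply, Equiv.Perm.mul_apply,
          Equiv.Perm.eq_inv_iff_eq, hw', hw', hd, hd, hd0]
        rcases o with _ | z <;> simp [shiftFun, hneg]
      rw [hwy, mul_inv_cancel_right]
  -- an element of order four
  obtain ⟨x, hxH, hx4, hx2⟩ : ∃ x ∈ Hp, x ^ 4 = 1 ∧ x * x ≠ 1 := by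
    by_contra hno
    push Not at hno
    have hall : ∀ y ∈ Hp, y * y = 1 := fun y hy => hno y hy (by
      have := pow_card_eq_one' (G := Hp) (x := ⟨y, hy⟩)
      rw [hHcard] at this
      exact congrArg Subtype.val this)
    obtain ⟨⟨t, htH⟩, ht⟩ := exists_prime_orderOf_dvd_card' (G := Hp) 2 (by rw [hHcard]; norm_num)
    rw [Subgroup.orderOf_mk] at ht
    have ht1 : t ≠ 1 := fun e => by rw [e, orderOf_one] at ht; omega
    obtain ⟨⟨y, hyH⟩, hy⟩ : ∃ z : Hp, z ∉ zpowers (⟨t, htH⟩ : Hp) := by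
      by_contra hall'
      push Not at hall'
      have := Nat.card_le_card_of_injective (fun z : Hp => (⟨z, hall' z⟩ : zpowers (⟨t, htH⟩ : Hp)))
        fun a b hab => congrArg Subtype.val hab
      rw [hHcard, Nat.card_zpowers, Subgroup.orderOf_mk, ht] at this
      omega
    have hy1 : y ≠ 1 := fun e => by subst e; exact hy (one_mem _)
    have hyt1 : y * t ≠ 1 := fun e => hy (by
      rw [show (⟨y, hyH⟩ : Hp) = (⟨t, htH⟩ : Hp)⁻¹ from eq_inv_of_mul_eq_one_left (Subtype.ext e)]
      exact inv_mem (mem_zpowers _))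
    obtain ⟨a, ha, ha1⟩ : ∃ a ∈ (P : Subgroup G), a ≠ 1 := by
      haveI : Nontrivial (P : Subgroup G) := Finite.one_lt_card_iff_nontrivial.1 (by rw [hP9]; norm_num)
      obtain ⟨w, hw⟩ := exists_ne (1 : (P : Subgroup G))
      exact ⟨w, w.2, fun e => hw (Subtype.ext e)⟩
    have h1 := hinv _ (Hp.mul_mem hyH htH) (hall _ (Hp.mul_mem hyH htH)) hyt1 a ha
    rw [show y * t * a * (y * t)⁻¹ = y * (t * a * t⁻¹) * y⁻¹ by group,
      hinv t htH (hall t htH) ht1 a ha, hinv y hyH (hall y hyH) hy1 _ (inv_mem ha), inv_inv] at h1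
    refine ha1 ?_
    calc a = (a ^ 3) * (a * a)⁻¹ := by group
      _ = 1 := by rw [hexp a ha, mul_eq_one_iff_eq_inv.2 h1, inv_one, mul_one]
  -- a basis rotated by `x`
  obtain ⟨a, ha, ha1⟩ : ∃ a ∈ (P : Subgroup G), a ≠ 1 := by
    haveI : Nontrivial (P : Subgroup G) := Finite.one_lt_card_iff_nontrivial.1 (by rw [hP9]; norm_num)
    obtain ⟨w, hw⟩ := exists_ne (1 : (P : Subgroup G))
    exact ⟨w, w.2, fun e => hw (Subtype.ext e)⟩
  have hxa : x * a * x⁻¹ ∈ (P : Subgroup G) := (mem_normalizer_iff.1 hxH.1 a).1 ha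
  have hxx : x * (x * a * x⁻¹) * x⁻¹ = a⁻¹ := by
    rw [show x * (x * a * x⁻¹) * x⁻¹ = x * x * a * (x * x)⁻¹ by group]
    refine hinv _ (Hp.mul_mem hxH hxH) ?_ hx2 a ha
    rw [← hx4, pow_succ, pow_succ, pow_two]; simp only [mul_assoc]
  have hba : x * a * x⁻¹ ∉ zpowers a := by
    intro hm
    obtain ⟨k, hk⟩ := (mem_powers_iff_mem_zpowers).2 hm
    have h1 : a⁻¹ = a ^ (k * k) := by
      rw [← hxx, ← hk, ← conj_pow, ← hk, ← pow_mul]
    have h2 : a ^ (k * k + 1) = 1 := by rw [pow_succ, ← h1, inv_mul_cancel]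
    have hord : orderOf a = 3 := orderOf_eq_prime (hexp a ha) ha1
    have h3 := orderOf_dvd_of_pow_eq_one h2
    rw [hord, Nat.dvd_iff_mod_eq_zero, Nat.add_mod, Nat.mul_mod] at h3
    have := Nat.mod_lt k (by norm_num : 0 < 3)
    interval_cases k % 3 <;> simp at h3
  obtain ⟨ψ, hψi, hψN, hψQ, hψP, hψu, hψaff⟩ :=
    exists_labelling h P Q₀ hQ₀ a (x * a * x⁻¹) ha hxa ha1 hba (hexp a ha) (hexp _ hxa)
  have hψa : ∀ o, ψ a o = shiftFun (1, 0) o := fun o => by
    have := hψu (1, 0) o
    simpa [show (1 : ZMod 3).val = 1 from rfl] using this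
  have hψx : ∀ o, ψ x o = o.map rot := by
    obtain ⟨d, hd⟩ := hψaff x hxH.1 (0, 1) (2, 0)
      (by simp [show (1 : ZMod 3).val = 1 from rfl])
      (by rw [hxx, show (2 : ZMod 3).val = 2 from rfl, ZMod.val_zero, pow_zero, mul_one]
          exact inv_eq_of_mul_eq_one_right (by rw [← pow_succ']; exact hexp a ha))
    have h0 := (hψQ x ((hψN x).2 hxH.1)).2 hxH.2
    rw [hd] at h0
    have hd0 : d = 0 := by
      simpa [rot_lin, rot_zero] using h0
    intro o
    rw [hd, hd0]
    rcases o with _ | v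
    · rfl
    · simp [rot_lin]
  have hψxk : ∀ (k : ℕ) o, ψ (x ^ k) o = o.map rot^[k] := by
    intro k
    induction k with
    | zero => intro o; rcases o with _ | v <;> simp
    | succ n ih =>
      intro o
      rw [pow_succ', map_mul, Equiv.Perm.mul_apply, ih, hψx]
      rcases o with _ | v
      · rfl
      · show some (rot (rot^[n] v)) = some (rot^[n + 1] v)
        rw [Function.iterate_succ_apply']
  have hH : ∀ y ∈ Hp, ∃ k < 4, y = x ^ k := by
    intro y hy
    have hord : orderOf x = 4 := by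
      rw [show (4 : ℕ) = 2 ^ (1 + 1) by norm_num]
      refine orderOf_eq_prime_pow (p := 2) (n := 1) ?_ (by simpa using hx4)
      simpa [pow_two] using hx2
    have he : zpowers x = Hp := eq_of_le_of_card_ge (zpowers_le.2 hxH)
      (by rw [hHcard, Nat.card_zpowers, hord])
    obtain ⟨k, rfl⟩ := (mem_powers_iff_mem_zpowers).2 (he.symm ▸ hy : y ∈ zpowers x)
    exact ⟨k % 4, Nat.mod_lt _ (by norm_num), by rw [← hord, pow_mod_orderOf]⟩
  have haffine : ∀ y : G, ψ y none = none → ∃ k < 4, ∃ d : V, ∀ o, ψ y o = affFun k d o := by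
    intro y hy
    rcases hd : ψ y (some 0) with _ | d
    · exact absurd ((ψ y).injective (hd.trans hy.symm)) (by simp)
    have h1 : ψ ((a ^ d.1.val * (x * a * x⁻¹) ^ d.2.val)⁻¹ * y) none = none := by
      rw [map_mul, map_inv, Equiv.Perm.mul_apply, hy, Equiv.Perm.inv_eq_iff_eq, hψu]; rfl
    have h2 : ψ ((a ^ d.1.val * (x * a * x⁻¹) ^ d.2.val)⁻¹ * y) (some 0) = some 0 := by
      rw [map_mul, map_inv, Equiv.Perm.mul_apply, hd, Equiv.Perm.inv_eq_iff_eq, hψu]
      simp [shiftFun]
    obtain ⟨k, hk, hky⟩ := hH _ (⟨(hψN _).1 h1, (hψQ _ h1).1 h2⟩ :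
      (a ^ d.1.val * (x * a * x⁻¹) ^ d.2.val)⁻¹ * y ∈ Hp)
    refine ⟨k, hk, d, fun o => ?_⟩
    rw [← mul_inv_cancel_left (a ^ d.1.val * (x * a * x⁻¹) ^ d.2.val) y, hky, map_mul,
      Equiv.Perm.mul_apply, hψxk, hψu]
    rcases o with _ | v <;> simp [shiftFun, affFun]
  -- an element exchanging `∞` and `0`
  obtain ⟨g, hgn, hg0⟩ : ∃ g : G, ψ g none = some 0 ∧ ψ g (some 0) = none := by
    obtain ⟨z, hz⟩ := MulAction.exists_smul_eq G P Q₀
    have hzn : ψ z none = some 0 := (hψP z).2 hz
    rcases hi : ψ z⁻¹ none with _ | v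
    · exfalso
      have h1 : ψ z (ψ z⁻¹ none) = none := by
        rw [← Equiv.Perm.mul_apply, ← map_mul, mul_inv_cancel, map_one, Equiv.Perm.one_apply]
      rw [hi, hzn] at h1
      exact Option.some_ne_none _ h1
    · refine ⟨z * (a ^ v.1.val * (x * a * x⁻¹) ^ v.2.val), ?_, ?_⟩ <;>
        rw [map_mul, Equiv.Perm.mul_apply, hψu]
      · simpa [shiftFun] using hzn
      · simp only [shiftFun, Option.map_some, zero_add]
        rw [← hi, ← Equiv.Perm.mul_apply, ← map_mul, mul_inv_cancel, map_one, Equiv.Perm.one_apply]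
  obtain ⟨j, hj, hgx⟩ : ∃ j ∈ [1, 3], g * x = x ^ j * g := by
    have hgi : ψ g⁻¹ none = some 0 ∧ ψ g⁻¹ (some 0) = none := by
      constructor
      · rw [← hg0, ← Equiv.Perm.mul_apply, ← map_mul, inv_mul_cancel, map_one, Equiv.Perm.one_apply]
      · rw [← hgn, ← Equiv.Perm.mul_apply, ← map_mul, inv_mul_cancel, map_one, Equiv.Perm.one_apply]
    have h1 : ψ (g * x * g⁻¹) none = none := by
      rw [map_mul, map_mul, Equiv.Perm.mul_apply, Equiv.Perm.mul_apply, hgi.1, hψx]
      simpa [rot_zero] using hg0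
    have h2 : ψ (g * x * g⁻¹) (some 0) = some 0 := by
      rw [map_mul, map_mul, Equiv.Perm.mul_apply, Equiv.Perm.mul_apply, hgi.2, hψx]
      simpa using hgn
    obtain ⟨j, hj4, hj⟩ := hH _ (⟨(hψN _).1 h1, (hψQ _ h1).1 h2⟩ : g * x * g⁻¹ ∈ Hp)
    refine ⟨j, ?_, by rw [← hj, inv_mul_cancel_right]⟩
    interval_cases j
    · rw [pow_zero, conj_eq_one_iff] at hj
      rw [hj, mul_one] at hx2; exact absurd rfl hx2
    · simp
    · exfalso
      refine hx2 ?_
      have h3 : g * (x * x) * g⁻¹ = 1 := by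
        rw [show g * (x * x) * g⁻¹ = (g * x * g⁻¹) * (g * x * g⁻¹) by group, hj, ← pow_add]
        exact hx4
      exact conj_eq_one_iff.1 h3
    · simp
  have hgxk : ∀ k : ℕ, g * x ^ k = x ^ (j * k) * g := by
    intro k
    induction k with
    | zero => simp
    | succ n ih => rw [pow_succ, ← mul_assoc, ih, mul_assoc, hgx, ← mul_assoc, ← pow_add, mul_add, mul_one]
  obtain ⟨g', A, hA, hg'n, hg'0, hg'x, hg'A⟩ : ∃ (g' : G), ∃ A ∈ [((1, 0) : V), (1, 1)],
      ψ g' none = some 0 ∧ ψ g' (some 0) = none ∧ g' * x = x ^ j * g' ∧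
      ψ g' (some (1, 0)) = some A := by
    rcases h1 : ψ g (some (1, 0)) with _ | y
    · exact absurd ((ψ g).injective (h1.trans hg0.symm)) (by simp)
    have hy : y ≠ 0 := by
      rintro rfl
      exact absurd ((ψ g).injective (h1.trans hgn.symm)) (by simp)
    obtain ⟨k, hk, hky⟩ := exists_norm j hj y hy
    refine ⟨g * x ^ k, _, hky, ?_, ?_, ?_, ?_⟩
    · rw [map_mul, Equiv.Perm.mul_apply, hψxk]; exact hgn
    · rw [map_mul, Equiv.Perm.mul_apply, hψxk, Option.map_some]
      rwa [show rot^[k] 0 = 0 from Function.iterate_fixed (by simp [rot]) k]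
    · rw [← mul_assoc (x ^ j), ← hgx, mul_assoc, mul_assoc, ← pow_succ, ← pow_succ']
    · rw [hgxk, map_mul, Equiv.Perm.mul_apply, h1, hψxk]; rfl
  obtain ⟨B, hB, hg'B⟩ : ∃ B : V, B ≠ 0 ∧ ψ g' (some (1, 1)) = some B := by
    rcases h1 : ψ g' (some (1, 1)) with _ | y
    · exact absurd ((ψ g').injective (h1.trans hg'0.symm)) (by simp)
    · refine ⟨y, ?_, rfl⟩
      rintro rfl
      exact absurd ((ψ g').injective (h1.trans hg'n.symm)) (by simp)
  have hg'xk : ∀ k : ℕ, g' * x ^ k = x ^ (j * k) * g' := by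
    intro k
    induction k with
    | zero => simp
    | succ n ih => rw [pow_succ, ← mul_assoc, ih, mul_assoc, hg'x, ← mul_assoc, ← pow_add, mul_add, mul_one]
  have hcand : ⇑(ψ g') = candFun j A B := by
    funext o
    rcases o with _ | v
    · exact hg'n
    show ψ g' (some v) = if v = 0 then none else _
    by_cases hv : v = 0
    · rw [if_pos hv, hv]; exact hg'0
    rw [if_neg hv]
    have hval : ∀ (k : ℕ) (r w : V), ψ g' (some r) = some w →
        ψ g' (some (rot^[k] r)) = some (rot^[j * k] w) := by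
      intro k r w hr
      rw [show some (rot^[k] r) = ψ (x ^ k) (some r) by rw [hψxk]; rfl, ← Equiv.Perm.mul_apply,
        ← map_mul, hg'xk, map_mul, Equiv.Perm.mul_apply, hr, hψxk]
      rfl
    split
    · next k hk =>
      have := List.find?_some hk
      rw [beq_iff_eq] at this
      rw [← this]; exact hval k _ _ hg'A
    · next hk =>
      split
      · next k hk' =>
        have := List.find?_some hk'
        rw [beq_iff_eq] at this
        rw [← this]; exact hval k _ _ hg'B
      · next hk' =>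
        rcases eq_rot_iterate v hv with ⟨k, hk4, rfl⟩ | ⟨k, hk4, rfl⟩
        · exact absurd (List.find?_eq_none.1 hk k (List.mem_range.2 hk4)) (by simp)
        · exact absurd (List.find?_eq_none.1 hk' k (List.mem_range.2 hk4)) (by simp)
  have hshift : ∀ s : V, ⇑(ψ (a ^ s.1.val * (x * a * x⁻¹) ^ s.2.val)) = shiftFun s :=
    fun s => funext (hψu s)
  have hgood : ∀ y : G, ¬ Bad ⇑(ψ y) := by
    rintro y ⟨hy, hbad⟩
    obtain ⟨k, hk, d, hd⟩ := haffine y hy
    obtain ⟨o, ho⟩ := hbad k hk d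
    exact ho (hd o)
  have heq : j = 3 ∧ A = (1, 0) ∧ B = (2, 1) := by
    rcases cand_refuted j hj A hA B hB with ⟨p, q, hpq, hF⟩ | hs | ⟨s, hs⟩ | ⟨s, r, hs⟩
    · rw [← hcand] at hF
      exact absurd ((ψ g').injective hF) hpq
    · exact hs
    · refine absurd ?_ (hgood (g' * (a ^ s.1.val * (x * a * x⁻¹) ^ s.2.val) * g'))
      rw [map_mul, map_mul, Equiv.Perm.coe_mul, Equiv.Perm.coe_mul, hshift, hcand]
      exact hs
    · refine absurd ?_ (hgood (g' * (a ^ s.1.val * (x * a * x⁻¹) ^ s.2.val) * g' *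
        (a ^ r.1.val * (x * a * x⁻¹) ^ r.2.val) * g'))
      generalize hw : a ^ s.1.val * (x * a * x⁻¹) ^ s.2.val = w
      generalize hw' : a ^ r.1.val * (x * a * x⁻¹) ^ r.2.val = w'
      have e1 := hshift s
      have e2 := hshift r
      rw [hw] at e1
      rw [hw'] at e2
      rw [map_mul, map_mul, map_mul, map_mul, Equiv.Perm.coe_mul, Equiv.Perm.coe_mul,
        Equiv.Perm.coe_mul, Equiv.Perm.coe_mul, e1, e2, hcand]
      exact hs
  obtain ⟨rfl, rfl, rfl⟩ := heq
  have e1 : ψ a = shiftPerm := Equiv.ext fun o => by rw [hψa]; rfl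
  have e2 : ψ x = rotPerm := Equiv.ext fun o => by rw [hψx]; rfl
  have e3 : ψ g' = flipPerm := Equiv.ext fun o => by rw [hcand]; rfl
  have htop : closure ({a, x, g'} : Set G) = ⊤ := by
    set K := closure ({a, x, g'} : Set G) with hK
    have haK : a ∈ K := subset_closure (by simp)
    have hxK : x ∈ K := subset_closure (by simp)
    have hgK : g' ∈ K := subset_closure (by simp)
    by_contra hne
    have hNK : normalizer ((P : Subgroup G) : Set G) ≤ K := by
      intro y hy
      obtain ⟨k, -, d, hd⟩ := haffine y ((hψN y).2 hy)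
      have hyw : y = a ^ d.1.val * (x * a * x⁻¹) ^ d.2.val * x ^ k := hψi (Equiv.ext fun o => by
        rw [hd, map_mul, Equiv.Perm.mul_apply, hψu, hψxk]
        rcases o with _ | v <;> simp [shiftFun, affFun])
      rw [hyw]
      exact K.mul_mem (K.mul_mem (K.pow_mem haK _)
        (K.pow_mem (K.mul_mem (K.mul_mem hxK haK) (K.inv_mem hxK)) _)) (K.pow_mem hxK _)
    have h36 := Subgroup.card_dvd_of_le hNK
    rw [hN36] at h36
    have h60 := card_le h hne
    have hd360 := Subgroup.card_subgroup_dvd_card K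
    rw [h] at hd360
    have heqK : K = normalizer ((P : Subgroup G) : Set G) := by
      refine (eq_of_le_of_card_ge hNK ?_).symm
      obtain ⟨c, hc⟩ := h36
      rw [hc] at h60
      have : c ≤ 1 := by omega
      rw [hN36, hc]
      calc 36 * c ≤ 36 * 1 := Nat.mul_le_mul_left 36 this
        _ = 36 := by norm_num
    have h1 := (hψN g').2 (heqK ▸ hgK)
    rw [hg'n] at h1
    exact Option.some_ne_none _ h1
  have hrange : ψ.range = model360 := by
    rw [MonoidHom.range_eq_map, ← htop, MonoidHom.map_closure]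
    simp [Set.image_insert_eq, e1, e2, e3, model360]
  exact ⟨(MonoidHom.ofInjective hψi).trans (MulEquiv.subgroupCongr hrange)⟩

end CfsgLib.Perm.Small360
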