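import Mathlib

/-!
# Counting elements by Sylow subgroups and conjugacy classes
-/

set_option autoImplicit false

namespace CfsgLib.Perm.Small

variable {G : Type*} [Group G] [Finite G]

/-- class equation for one element -/
theorem card_class_mul_card_centralizer (x : G) :
    Nat.card {g : G // IsConj x g} * Nat.card (Subgroup.centralizer ({x} : Set G)) = Nat.card G := by
  classical
  haveI := Fintype.ofFinite G
  rw [Nat.card_eq_fintype_card (α := G), ← Finset.card_univ,
    Finset.card_eq_sum_card_fiberwise (f := fun g => g * x * g⁻¹)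
      (t := Finset.univ.filter fun y => IsConj x y)
      (fun g _ => Finset.mem_filter.2 ⟨Finset.mem_univ _, isConj_iff.2 ⟨g, rfl⟩⟩),
    Finset.sum_congr rfl (g := fun _ => Nat.card (Subgroup.centralizer ({x} : Set G))) fun y hy => ?_,
    Finset.sum_const, smul_eq_mul, Nat.card_eq_fintype_card, Fintype.card_subtype]
  obtain ⟨g₀, hg₀⟩ := isConj_iff.1 (Finset.mem_filter.1 hy).2
  rw [Nat.card_eq_fintype_card, Fintype.card_subtype]
  symm
  refine Finset.card_bij (fun c _ => g₀ * c) ?_ (fun a _ b _ h => mul_left_cancel h) ?_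
  · intro c hc
    simp only [Finset.mem_filter, Finset.mem_univ, true_and, Subgroup.mem_centralizer_singleton_iff] at hc ⊢
    rw [← hg₀]
    calc g₀ * c * x * (g₀ * c)⁻¹ = g₀ * (c * x) * c⁻¹ * g₀⁻¹ := by group
      _ = g₀ * x * g₀⁻¹ := by rw [hc]; group
  · intro g hg
    simp only [Finset.mem_filter, Finset.mem_univ, true_and] at hg
    refine ⟨g₀⁻¹ * g, ?_, by rw [mul_inv_cancel_left]⟩
    simp only [Finset.mem_filter, Finset.mem_univ, true_and, Subgroup.mem_centralizer_singleton_iff]
    calc g₀⁻¹ * g * x = g₀⁻¹ * (g * x * g⁻¹) * g := by group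
      _ = g₀⁻¹ * (g₀ * x * g₀⁻¹) * g := by rw [hg, hg₀]
      _ = x * (g₀⁻¹ * g) := by group

/-- a subgroup of prime order is generated by each of its non-identity elements -/
theorem zpowers_eq_of_mem {p : ℕ} [hp : Fact p.Prime] {H : Subgroup G} (hH : Nat.card H = p) {x : G} (hx : x ∈ H)
    (hx1 : x ≠ 1) : Subgroup.zpowers x = H := by
  have hle : Subgroup.zpowers x ≤ H := Subgroup.zpowers_le.2 hx
  refine Subgroup.eq_of_le_of_card_ge hle ?_
  have hd := Subgroup.card_dvd_of_le hle
  rw [hH, Nat.dvd_prime hp.out, Nat.card_zpowers] at hd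
  rw [hH, Nat.card_zpowers]
  rcases hd with h | h
  · exact absurd (orderOf_eq_one_iff.1 h) hx1
  · omega

/-- number of elements of order `p` when the Sylow subgroups have order `p` -/
theorem card_orderOf_eq_prime {p : ℕ} [hp : Fact p.Prime] (hS : ∀ P : Sylow p G, Nat.card (P : Subgroup G) = p) :
    Nat.card {g : G // orderOf g = p} = Nat.card (Sylow p G) * (p - 1) := by
  classical
  haveI := Fintype.ofFinite G
  haveI := Fintype.ofFinite (Sylow p G)
  have hiff : ∀ g : G, orderOf g = p ↔ ∃ P : Sylow p G, g ∈ (P : Subgroup G) ∧ g ≠ 1 := by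
    intro g
    constructor
    · intro h
      have hpg : IsPGroup p (Subgroup.zpowers g) := IsPGroup.of_card (n := 1) (by rw [Nat.card_zpowers, h, pow_one])
      obtain ⟨P, hP⟩ := hpg.exists_le_sylow
      refine ⟨P, hP (Subgroup.mem_zpowers g), fun hh => ?_⟩
      rw [hh, orderOf_one] at h
      exact hp.out.one_lt.ne h
    · rintro ⟨P, hgP, hg1⟩
      rw [← Nat.card_zpowers, zpowers_eq_of_mem (hS P) hgP hg1, hS P]
  rw [Nat.card_eq_fintype_card, Fintype.card_subtype]
  have hU : (Finset.univ.filter fun g : G => orderOf g = p) =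
      Finset.univ.biUnion fun P : Sylow p G => Finset.univ.filter fun g => g ∈ (P : Subgroup G) ∧ g ≠ 1 := by
    ext g
    simp [hiff]
  rw [hU, Finset.card_biUnion, Finset.sum_congr rfl (g := fun _ => p - 1) fun P _ => ?_, Finset.sum_const,
    Finset.card_univ, smul_eq_mul, Nat.card_eq_fintype_card]
  · have : (Finset.univ.filter fun g => g ∈ (P : Subgroup G) ∧ g ≠ 1) =
        (Finset.univ.filter fun g => g ∈ (P : Subgroup G)).erase 1 := by
      ext g; simp [and_comm]
    rw [this, Finset.card_erase_of_mem (by simp), ← Fintype.card_subtype, ← Nat.card_eq_fintype_card]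
    exact congrArg (· - 1) (hS P)
  · intro P _ Q _ hne
    rw [Function.onFun, Finset.disjoint_left]
    intro g hg hg'
    simp only [Finset.mem_filter, Finset.mem_univ, true_and] at hg hg'
    exact hne (Sylow.ext ((zpowers_eq_of_mem (hS P) hg.1 hg.2).symm.trans (zpowers_eq_of_mem (hS Q) hg'.1 hg'.2)))

/-- Sylow subgroups have order `p` when `p` exactly divides the order -/
theorem card_sylow_prime {p m : ℕ} [hp : Fact p.Prime] (hG : Nat.card G = p * m) (hm : ¬ p ∣ m) (P : Sylow p G) :
    Nat.card (P : Subgroup G) = p := by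
  rw [P.card_eq_multiplicity, hG, Nat.factorization_mul hp.out.ne_zero (show m ≠ 0 by rintro rfl; exact hm (dvd_zero p)),
    Finsupp.add_apply, hp.out.factorization_self, Nat.factorization_eq_zero_of_not_dvd hm, add_zero, pow_one]

/-- number of Sylow subgroups times the normalizer order -/
theorem card_sylow_mul_card_normalizer {p : ℕ} [Fact p.Prime] (P : Sylow p G) :
    Nat.card (Sylow p G) * Nat.card (Subgroup.normalizer ((P : Subgroup G) : Set G)) = Nat.card G := by
  rw [P.card_eq_index_normalizer, mul_comm]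
  exact Subgroup.card_mul_index _

end CfsgLib.Perm.Small
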