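import Cfsg.Agent.Lib.Perm.Small.LineSeventeen
import Cfsg.Agent.Lib.Char.SmallSpectra

/-!
# Transporting the recognition to projective special linear groups
-/

set_option autoImplicit false

namespace CfsgLib.Perm.SylowLine

variable {G : Type*} [Group G] [Finite G] [IsSimpleGroup G]

theorem not_comm_of_card (h : ¬ (Nat.card G).Prime) : ¬ IsMulCommutative G := fun hc => by
  haveI := hc
  letI : CommGroup G :=
    { (inferInstance : Group G) with mul_comm := fun a b => IsMulCommutative.is_comm.comm a b }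
  exact h IsSimpleGroup.prime_card

theorem iso_psl_of_model {n p : ℕ} {F : Type*} [Field F] [Fintype F] (hF : Fintype.card F = p)
    (hp5 : 5 ≤ p) (hpo : Odd p) (hn : n = p * (p ^ 2 - 1) / 2) (hnp : ¬ n.Prime)
    (hG : Nat.card G = n) {M : Type} [Group M]
    (hA : ∀ [IsSimpleGroup (Matrix.ProjectiveSpecialLinearGroup (Fin 2) F)],
      ¬ IsMulCommutative (Matrix.ProjectiveSpecialLinearGroup (Fin 2) F) →
      Nat.card (Matrix.ProjectiveSpecialLinearGroup (Fin 2) F) = n →
      Nonempty (Matrix.ProjectiveSpecialLinearGroup (Fin 2) F ≃* M))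
    (hB : ¬ IsMulCommutative G → Nat.card G = n → Nonempty (G ≃* M)) :
    Nonempty (G ≃* Matrix.ProjectiveSpecialLinearGroup (Fin 2) F) := by
  classical
  haveI : IsSimpleGroup (Matrix.ProjectiveSpecialLinearGroup (Fin 2) F) :=
    Matrix.ProjectiveSpecialLinearGroup.rank_two_simple (by
      rw [Nat.card_eq_fintype_card, hF]; omega)
  have hcard := CfsgLib.Char.TwoChars.card_psl_odd (F := F) (by rwa [hF])
  rw [hF] at hcard
  have hP : Nat.card (Matrix.ProjectiveSpecialLinearGroup (Fin 2) F) = n := by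
    have h3 : p * (p ^ 2 - 1) = (p + 1) * ((p - 1) * p) := by
      rw [show p ^ 2 - 1 = (p + 1) * (p - 1) by rw [← Nat.sq_sub_sq p 1, one_pow]]
      ring
    rw [hn, h3]; omega
  obtain ⟨e₁⟩ := hB (not_comm_of_card (by rw [hG]; exact hnp)) hG
  have hPc : ¬ IsMulCommutative (Matrix.ProjectiveSpecialLinearGroup (Fin 2) F) :=
    not_comm_of_card (by rw [hP]; exact hnp)
  obtain ⟨e₂⟩ := hA hPc hP
  exact ⟨e₁.trans e₂.symm⟩

end CfsgLib.Perm.SylowLine
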