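import Mathlib
import Cfsg.Agent.Lib.Char.Basic

/-!
# Characters constant on a section, and the determinant

If a character `χ` takes a constant value `c` on `x y` for commuting `x` of prime order `p` and `y` of
order prime to `p`, and `c χ(1)` is one of `p + 1`, `-(p - 1)`, `-(2p - 1)`, then `y` lies in the kernel
of `χ` as soon as the group has no non-trivial linear character.
-/

set_option autoImplicit false
set_option linter.style.haveILetI false
set_option linter.unusedSectionVars false

namespace CfsgLib.Perm.PrimeBlock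

open Module

universe u

variable {G : Type u} [Group G] [Finite G]

/-- The multiset of roots of unity `ν` with power sums `a + p u ^ k` has product `u ^ p`. -/
theorem prod_eq_of_power_sums {ι : Type*} [Fintype ι] {n : ℕ} (hn : 0 < n) (ν : ι → ℂ)
    (hν : ∀ i, ν i ^ n = 1) {u : ℂ} (hu : u ^ n = 1) (a p : ℕ)
    (h : ∀ k : ℕ, ∑ i, ν i ^ k = (a : ℂ) + (p : ℂ) * u ^ k) : ∏ i, ν i = u ^ p := by
  classical
  have hgeo : ∀ w ζ : ℂ, w ^ n = 1 → ζ ^ n = 1 →
      ∑ k ∈ Finset.range n, (w / ζ) ^ k = if w = ζ then (n : ℂ) else 0 := by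
    intro w ζ hw hζ
    have hζ0 : ζ ≠ 0 := fun h0 => by rw [h0, zero_pow hn.ne'] at hζ; exact zero_ne_one hζ
    split_ifs with he
    · simp [he, div_self hζ0]
    · rw [geom_sum_eq (fun h1 => he ((div_eq_one_iff_eq hζ0).1 h1)), div_pow, hw, hζ, div_one,
        sub_self, zero_div]
  set s : Finset ℂ := insert 1 (insert u (Finset.univ.image ν)) with hs
  have hs1 : ∀ ζ ∈ s, ζ ^ n = 1 := by
    intro ζ hζ
    simp only [hs, Finset.mem_insert, Finset.mem_image, Finset.mem_univ, true_and] at hζ
    rcases hζ with rfl | rfl | ⟨i, rfl⟩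
    · exact one_pow n
    · exact hu
    · exact hν i
  have hcount : ∀ ζ ∈ s, ((Finset.univ.filter fun i => ν i = ζ).card) =
      (if (1 : ℂ) = ζ then a else 0) + (if u = ζ then p else 0) := by
    intro ζ hζ
    have hn' : (n : ℂ) ≠ 0 := by exact_mod_cast hn.ne'
    have h2 : ((Finset.univ.filter fun i => ν i = ζ).card : ℂ) * n =
        (((if (1 : ℂ) = ζ then a else 0) + (if u = ζ then p else 0) : ℕ) : ℂ) * n := by
      calc ((Finset.univ.filter fun i => ν i = ζ).card : ℂ) * n
          = ∑ i, if ν i = ζ then (n : ℂ) else 0 := by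
            rw [← Finset.sum_filter, Finset.sum_const, nsmul_eq_mul]
        _ = ∑ i, ∑ k ∈ Finset.range n, (ν i / ζ) ^ k :=
            Finset.sum_congr rfl fun i _ => (hgeo _ _ (hν i) (hs1 ζ hζ)).symm
        _ = ∑ k ∈ Finset.range n, ((a : ℂ) * (1 / ζ) ^ k + (p : ℂ) * (u / ζ) ^ k) := by
            rw [Finset.sum_comm]
            refine Finset.sum_congr rfl fun k _ => ?_
            simp only [div_pow, ← Finset.sum_div, h, one_pow]
            ring
        _ = _ := by
            rw [Finset.sum_add_distrib, ← Finset.mul_sum, ← Finset.mul_sum,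
              hgeo _ _ (one_pow n) (hs1 ζ hζ), hgeo _ _ hu (hs1 ζ hζ)]
            split_ifs <;> push_cast <;> ring
    exact_mod_cast mul_right_cancel₀ hn' h2
  rw [← Finset.prod_fiberwise_of_maps_to (s := Finset.univ) (t := s) (g := ν) (fun i _ => by
    simp [hs]) ν]
  calc ∏ ζ ∈ s, ∏ i ∈ Finset.univ.filter (fun i => ν i = ζ), ν i
      = ∏ ζ ∈ s, ((if (1 : ℂ) = ζ then ζ ^ a else 1) * (if u = ζ then ζ ^ p else 1)) := by
        refine Finset.prod_congr rfl fun ζ hζ => ?_
        rw [Finset.prod_congr rfl (g := fun _ => ζ) (fun i hi => (Finset.mem_filter.1 hi).2),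
          Finset.prod_const, hcount ζ hζ, pow_add]
        split_ifs <;> simp
    _ = u ^ p := by
        rw [Finset.prod_mul_distrib, Finset.prod_ite_eq, Finset.prod_ite_eq, if_pos (by simp [hs]),
          if_pos (by simp [hs]), one_pow, one_mul]

/-- A determinant argument. -/
theorem eq_degree_of_const {χ : G → ℂ} (hχ : Cfsg.IsCharacter G χ) (hlin : ∀ f : G →* ℂˣ, f = 1)
    {p : ℕ} (hp : p.Prime) {x y : G} (hx : orderOf x = p) (hcomm : Commute x y)
    (hy : ¬ p ∣ orderOf y) {c : ℤ} (hc : ∀ j k : ℕ, ¬ p ∣ j → χ (x ^ j * y ^ k) = (c : ℂ)) {d : ℕ}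
    (hd : χ 1 = d)
    (hkill : (c = 1 ∧ d = p + 1) ∨ (c = -1 ∧ (d + 1 = p ∨ d + 1 = 2 * p))) : χ y = d := by
  classical
  obtain ⟨m, ρ, rfl⟩ := hχ
  obtain ⟨b, μ, hμ, hb, hpow⟩ := CfsgLib.Char.exists_eigen_data ρ (x * y)
  set n := orderOf y with hn
  have hn0 : 0 < n := orderOf_pos y
  have hcop : Nat.Coprime p n := (Nat.Prime.coprime_iff_not_dvd hp).2 hy
  have hord : orderOf (x * y) = p * n := by
    rw [hcomm.orderOf_mul_eq_mul_orderOf_of_coprime (by rwa [hx]), hx]
  obtain ⟨A, hA1, hA2⟩ := Nat.chineseRemainder hcop 1 0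
  obtain ⟨B, hB1, hB2⟩ := Nat.chineseRemainder hcop 0 1
  have hxA : (x * y) ^ A = x := by
    rw [hcomm.mul_pow, show x ^ A = x ^ 1 from pow_eq_pow_iff_modEq.2 (by rwa [hx]),
      show y ^ A = y ^ 0 from pow_eq_pow_iff_modEq.2 hA2, pow_zero, mul_one, pow_one]
  have hyB : (x * y) ^ B = y := by
    rw [hcomm.mul_pow, show x ^ B = x ^ 0 from pow_eq_pow_iff_modEq.2 (by rwa [hx]),
      show y ^ B = y ^ 1 from pow_eq_pow_iff_modEq.2 hB2, pow_zero, one_mul, pow_one]
  set lam : Fin (finrank ℂ (Fin m → ℂ)) → ℂ := fun i => μ i ^ A with hlam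
  set ν : Fin (finrank ℂ (Fin m → ℂ)) → ℂ := fun i => μ i ^ B with hν
  have hval : ∀ j k : ℕ, ρ.character (x ^ j * y ^ k) = ∑ i, lam i ^ j * ν i ^ k := by
    intro j k
    rw [show x ^ j * y ^ k = (x * y) ^ (A * j + B * k) by rw [pow_add, pow_mul, pow_mul, hxA, hyB], hpow]
    exact Finset.sum_congr rfl fun i _ => by simp only [hlam, hν]; rw [← pow_mul, ← pow_mul, ← pow_add]
  have hlamp : ∀ i, lam i ^ p = 1 := by
    intro i
    simp only [hlam, ← pow_mul]
    obtain ⟨t, ht⟩ : n ∣ A := (Nat.modEq_zero_iff_dvd.1 hA2)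
    rw [ht, show n * t * p = orderOf (x * y) * t by rw [hord]; ring, pow_mul, hμ, one_pow]
  have hνn : ∀ i, ν i ^ n = 1 := by
    intro i
    simp only [hν, ← pow_mul]
    obtain ⟨t, ht⟩ : p ∣ B := (Nat.modEq_zero_iff_dvd.1 hB1)
    rw [ht, show p * t * n = orderOf (x * y) * t by rw [hord]; ring, pow_mul, hμ, one_pow]
  have hyk : ∀ k : ℕ, ρ.character (y ^ k) = ∑ i, ν i ^ k := fun k => by
    simpa using hval 0 k
  -- traces on the eigenspaces of `x`
  have hS : ∀ l : ℂ, l ^ p = 1 → ∀ k : ℕ,
      (p : ℂ) * ∑ i ∈ Finset.univ.filter (fun i => lam i = l), ν i ^ k =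
        ρ.character (y ^ k) + (c : ℂ) * ((if l = 1 then (p : ℂ) else 0) - 1) := by
    intro l hl k
    have hl0 : l ≠ 0 := fun h0 => by rw [h0, zero_pow hp.ne_zero] at hl; exact zero_ne_one hl
    have h1 : ∀ i, ∑ j ∈ Finset.range p, (lam i / l) ^ j = if lam i = l then (p : ℂ) else 0 := by
      intro i
      split_ifs with he
      · simp [he, div_self hl0]
      · rw [geom_sum_eq (fun h1 => he ((div_eq_one_iff_eq hl0).1 h1)), div_pow, hlamp, hl, div_one,
          sub_self, zero_div]
    calc (p : ℂ) * ∑ i ∈ Finset.univ.filter (fun i => lam i = l), ν i ^ k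
        = ∑ i, (∑ j ∈ Finset.range p, (lam i / l) ^ j) * ν i ^ k := by
          rw [Finset.mul_sum, Finset.sum_filter]
          refine Finset.sum_congr rfl fun i _ => ?_
          rw [h1]
          split_ifs <;> ring
      _ = ∑ j ∈ Finset.range p, (1 / l) ^ j * ρ.character (x ^ j * y ^ k) := by
          simp only [Finset.sum_mul, hval, Finset.mul_sum, div_pow, one_pow]
          rw [Finset.sum_comm]
          exact Finset.sum_congr rfl fun j _ => Finset.sum_congr rfl fun i _ => by ring
      _ = _ := by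
          have hins : Finset.range p = insert 0 (Finset.Ico 1 p) := by
            ext z; simp only [Finset.mem_range, Finset.mem_insert, Finset.mem_Ico]
            have := hp.pos; omega
          have hni : (0 : ℕ) ∉ Finset.Ico 1 p := by simp
          have h2 : ∀ j ∈ Finset.Ico 1 p, (1 / l) ^ j * ρ.character (x ^ j * y ^ k) = (c : ℂ) * (1 / l) ^ j := by
            intro j hj
            rw [Finset.mem_Ico] at hj
            rw [hc j k (Nat.not_dvd_of_pos_of_lt (by omega) hj.2), mul_comm]
          rw [hins, Finset.sum_insert hni, Finset.sum_congr rfl h2, ← Finset.mul_sum]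
          have h3 : ∑ j ∈ Finset.range p, (1 / l) ^ j = if l = 1 then (p : ℂ) else 0 := by
            split_ifs with he
            · simp [he]
            · rw [geom_sum_eq (fun h1 => he ((div_eq_one_iff_eq hl0).1 h1).symm), div_pow, one_pow, hl,
                div_one, sub_self, zero_div]
          rw [hins, Finset.sum_insert hni, pow_zero] at h3
          rw [← h3, pow_zero, one_mul, pow_zero, one_mul]
          ring
  have hy1 : ρ.character y = ∑ i, ν i ^ 1 := by simpa using hyk 1
  have hd' : ρ.character (y ^ 0) = d := by rw [pow_zero, hd]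
  have hcount : ∀ l : ℂ, l ^ p = 1 →
      (p : ℂ) * ((Finset.univ.filter (fun i => lam i = l)).card : ℂ) =
        (d : ℂ) + (c : ℂ) * ((if l = 1 then (p : ℂ) else 0) - 1) := by
    intro l hl
    have := hS l hl 0
    rw [hd'] at this
    simpa using this
  -- power sums of `ν`
  by_cases hfree : c = -1 ∧ d + 1 = p
  · obtain ⟨rfl, hd2⟩ := hfree
    have hcard := hcount 1 (one_pow p)
    rw [if_pos rfl] at hcard
    have hd3 : (d : ℂ) + 1 = p := by exact_mod_cast hd2
    push_cast at hcard
    have h1 : (Finset.univ.filter (fun i => lam i = 1)).card = 0 := by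
      have : ((Finset.univ.filter (fun i => lam i = 1)).card : ℂ) = 0 :=
        mul_left_cancel₀ (Nat.cast_ne_zero.2 hp.ne_zero) (hcard.trans (by linear_combination hd3))
      exact_mod_cast this
    have h2 := hS 1 (one_pow p) 1
    rw [Finset.card_eq_zero.1 h1, Finset.sum_empty, if_pos rfl, pow_one] at h2
    push_cast at h2
    linear_combination -h2 - hd3
  obtain ⟨u, a, hu, hau, hsum⟩ : ∃ (u : ℂ) (a : ℕ), u ^ n = 1 ∧ a + p = d ∧
      ∀ k : ℕ, ρ.character (y ^ k) = (a : ℂ) + (p : ℂ) * u ^ k := by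
    rcases hkill with ⟨rfl, hd2⟩ | ⟨rfl, hd2 | hd2⟩
    · obtain ⟨l, hl⟩ : ∃ l : ℂ, IsPrimitiveRoot l p :=
        ⟨_, Complex.isPrimitiveRoot_exp p hp.ne_zero⟩
      have hl1 : l ≠ 1 := hl.ne_one hp.one_lt
      have hcard := hcount l hl.pow_eq_one
      rw [hd2, if_neg hl1] at hcard
      push_cast at hcard
      have h1 : (Finset.univ.filter (fun i => lam i = l)).card = 1 := by
        have : ((Finset.univ.filter (fun i => lam i = l)).card : ℂ) = 1 :=
          mul_left_cancel₀ (Nat.cast_ne_zero.2 hp.ne_zero) (hcard.trans (by ring))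
        exact_mod_cast this
      obtain ⟨i₀, hi₀⟩ := Finset.card_eq_one.1 h1
      refine ⟨ν i₀, 1, hνn i₀, by omega, fun k => ?_⟩
      have h2 := hS l hl.pow_eq_one k
      rw [hi₀, Finset.sum_singleton, if_neg hl1] at h2
      push_cast at h2 ⊢
      linear_combination -h2
    · exact absurd ⟨rfl, hd2⟩ hfree
    · have hcard := hcount 1 (one_pow p)
      rw [if_pos rfl] at hcard
      have hd3 : (d : ℂ) + 1 = 2 * p := by exact_mod_cast hd2
      push_cast at hcard
      have h1 : (Finset.univ.filter (fun i => lam i = 1)).card = 1 := by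
        have : ((Finset.univ.filter (fun i => lam i = 1)).card : ℂ) = 1 :=
          mul_left_cancel₀ (Nat.cast_ne_zero.2 hp.ne_zero) (hcard.trans (by linear_combination hd3))
        exact_mod_cast this
      obtain ⟨i₀, hi₀⟩ := Finset.card_eq_one.1 h1
      refine ⟨ν i₀, p - 1, hνn i₀, by have := hp.one_lt; omega, fun k => ?_⟩
      have h2 := hS 1 (one_pow p) k
      rw [hi₀, Finset.sum_singleton, if_pos rfl] at h2
      rw [Nat.cast_sub hp.one_lt.le]
      push_cast at h2 ⊢
      linear_combination -h2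
  -- the determinant
  have hprod : ∏ i, ν i = u ^ p :=
    prod_eq_of_power_sums hn0 ν hνn hu a p fun k => (hyk k).symm.trans (hsum k)
  have hdet : LinearMap.det (ρ y) = ∏ i, ν i := by
    rw [← LinearMap.det_toMatrix b, show LinearMap.toMatrix b b (ρ y) = Matrix.diagonal ν from ?_,
      Matrix.det_diagonal]
    ext i j
    have hbj : ρ y (b j) = ν j • b j := by
      conv_lhs => rw [← hyB]
      exact hb B j
    rw [LinearMap.toMatrix_apply, hbj, map_smul, Finsupp.smul_apply, b.repr_self, smul_eq_mul,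
      Matrix.diagonal_apply]
    rcases eq_or_ne i j with rfl | hij
    · simp
    · simp [hij, Finsupp.single_eq_of_ne hij]
  have hdet1 : LinearMap.det (ρ y) = 1 :=
    congrArg Units.val (DFunLike.congr_fun (hlin ((LinearMap.det.comp ρ).toHomUnits)) y)
  have hup : u ^ p = 1 := by rw [← hprod, ← hdet, hdet1]
  have hu1 : u = 1 := by
    have h1 := pow_gcd_eq_one.2 ⟨hup, hu⟩
    rwa [show Nat.gcd p n = 1 from hcop, pow_one] at h1
  have hy2 := hsum 1
  rw [pow_one, hu1, one_pow, mul_one] at hy2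
  rw [hy2, ← hau]
  push_cast
  ring

end CfsgLib.Perm.PrimeBlock
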