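import Mathlib
import Cfsg.Agent.Lib.Char.Basic
import Cfsg.Agent.Lib.Char.Orthogonality
import Cfsg.Agent.Lib.Char.Integrality

/-!
# Characters of non-abelian simple groups: kernels, centres and the degrees one and two
-/

set_option autoImplicit false
set_option linter.style.haveILetI false
set_option linter.unusedSectionVars false

namespace CfsgLib.Perm.PrimeBlock

open Cfsg Module

universe u

variable {G : Type u} [Group G] [Finite G] [IsSimpleGroup G]

theorem lin_eq_one (hG : ¬ IsMulCommutative G) (f : G →* ℂˣ) : f = 1 := by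
  rcases IsSimpleGroup.eq_bot_or_eq_top_of_normal f.ker inferInstance with h | h
  · refine absurd ⟨⟨fun a b => (MonoidHom.ker_eq_bot_iff f).1 h ?_⟩⟩ hG
    rw [map_mul, map_mul, mul_comm]
  · exact MonoidHom.ext fun g => MonoidHom.mem_ker.1 (h ▸ Subgroup.mem_top g)

theorem center_trivial (hG : ¬ IsMulCommutative G) {g : G} (h : ∀ a, g * a = a * g) : g = 1 := by
  rcases IsSimpleGroup.eq_bot_or_eq_top_of_normal (Subgroup.center G) inferInstance with hb | ht
  · exact (Subgroup.eq_bot_iff_forall _).1 hb g (Subgroup.mem_center_iff.2 fun a => (h a).symm)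
  · exact absurd ⟨⟨fun a b => (Subgroup.mem_center_iff.1 (ht ▸ Subgroup.mem_top b) a)⟩⟩ hG

theorem rho_det_eq_one (hG : ¬ IsMulCommutative G) {V : Type*} [AddCommGroup V] [Module ℂ V]
    (ρ : Representation ℂ G V) (g : G) : LinearMap.det (ρ g) = 1 :=
  congrArg Units.val (DFunLike.congr_fun (lin_eq_one hG ((LinearMap.det.comp ρ).toHomUnits)) g)

/-- A non-trivial irreducible character is faithful. -/
theorem eq_one_of_value (χ : IrrCharacter G)
    (hne : (χ : G → ℂ) ≠ fun _ => 1) {y : G} (hy : (χ : G → ℂ) y = (χ : G → ℂ) 1) : y = 1 := by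
  classical
  haveI := Fintype.ofFinite G
  obtain ⟨n, ρ, hρ, he⟩ := χ.2
  have hker : ρ y = LinearMap.id := by
    rw [← CfsgLib.Char.char_eq_degree_iff, ← Representation.char_one ρ, he]
    exact hy
  rcases IsSimpleGroup.eq_bot_or_eq_top_of_normal (MonoidHom.ker ρ) inferInstance with h | h
  · exact (MonoidHom.ker_eq_bot_iff ρ).1 h (by rw [map_one]; exact hker)
  · exfalso
    have hc : ∀ g, (χ : G → ℂ) g = (χ : G → ℂ) 1 := fun g => by
      rw [← he, Representation.character,
        show ρ g = ρ 1 by rw [map_one]; exact MonoidHom.mem_ker.1 (h ▸ Subgroup.mem_top g)]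
      rfl
    have h1 : classInner (χ : G → ℂ) (fun _ => 1) = 0 :=
      CfsgLib.Char.classInner_irr_ne (ψ := ⟨_, CfsgLib.Char.isIrrCharacter_one⟩)
        fun e => hne (congrArg Subtype.val e)
    simp only [classInner, hc, map_one, mul_one, Finset.sum_const, nsmul_eq_mul, mul_eq_zero,
      inv_eq_zero, Nat.cast_eq_zero, Finset.card_univ, Fintype.card_ne_zero,
      Nat.card_pos.ne', false_or] at h1
    exact CfsgLib.Char.irr_one_ne_zero χ h1

/-- No non-trivial irreducible character has degree one or two, the latter for even order. -/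
theorem degree_ge_three (hG : ¬ IsMulCommutative G) (χ : IrrCharacter G)
    (hne : (χ : G → ℂ) ≠ fun _ => 1) {d : ℕ} (hd : (χ : G → ℂ) 1 = d) : 3 ≤ d := by
  classical
  obtain ⟨n, ρ, hρ, he⟩ := χ.2
  have hdim : finrank ℂ (Fin n → ℂ) = d := by
    have h := Representation.char_one ρ
    rw [he, hd] at h
    exact_mod_cast h.symm
  have hd0 : d ≠ 0 := fun h0 => CfsgLib.Char.irr_one_ne_zero χ (by rw [hd, h0, Nat.cast_zero])
  by_contra hlt
  have hdet : ∀ (g : G) (b : Basis (Fin (finrank ℂ (Fin n → ℂ))) ℂ (Fin n → ℂ))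
      (μ : Fin (finrank ℂ (Fin n → ℂ)) → ℂ), (∀ i, ρ g (b i) = μ i • b i) → ∏ i, μ i = 1 := by
    intro g b μ hb
    rw [← rho_det_eq_one hG ρ g, ← LinearMap.det_toMatrix b,
      show LinearMap.toMatrix b b (ρ g) = Matrix.diagonal μ from ?_, Matrix.det_diagonal]
    ext i j
    rw [LinearMap.toMatrix_apply, hb, map_smul, Finsupp.smul_apply, b.repr_self, smul_eq_mul,
      Matrix.diagonal_apply]
    rcases eq_or_ne i j with rfl | hij
    · simp
    · simp [hij, Finsupp.single_eq_of_ne hij]
  rcases (by omega : d = 1 ∨ d = 2) with rfl | rfl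
  · refine hne (funext fun g => ?_)
    obtain ⟨b, μ, -, hb, hsum⟩ := CfsgLib.Char.exists_eigen_data ρ g
    have h1 := hdet g b μ fun i => by simpa using hb 1 i
    have h2 := hsum 1
    rw [pow_one] at h2
    rw [← he, h2]
    haveI : Subsingleton (Fin (finrank ℂ (Fin n → ℂ))) := Fin.subsingleton_iff_le_one.2 hdim.le
    have i₀ : Fin (finrank ℂ (Fin n → ℂ)) := ⟨0, by omega⟩
    rw [Fintype.sum_subsingleton _ i₀, pow_one]
    rwa [Fintype.prod_subsingleton _ i₀] at h1
  · -- an involution acts as a scalar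
    have h2 : (2 : ℕ) ∣ Nat.card G := CfsgLib.Char.degree_dvd_card χ hd
    obtain ⟨z, hz⟩ := exists_prime_orderOf_dvd_card' 2 h2
    obtain ⟨b, μ, hμ, hb, hsum⟩ := CfsgLib.Char.exists_eigen_data ρ z
    have h1 := hdet z b μ fun i => by simpa using hb 1 i
    rw [hz] at hμ
    have hall : ∀ i j, μ i = μ j := by
      have h01 : ∀ i j, i ≠ j → μ i * μ j = 1 := by
        intro i j hij
        rw [← h1, show (Finset.univ : Finset (Fin (finrank ℂ (Fin n → ℂ)))) = {i, j} from
          (Finset.eq_univ_of_card _ (by rw [Finset.card_pair hij, Fintype.card_fin, hdim])).symm,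
          Finset.prod_pair hij]
      intro i j
      rcases eq_or_ne i j with rfl | hij
      · rfl
      · have h3 := h01 i j hij
        have h4 := hμ j
        linear_combination (μ j) * h3 - (μ i) * h4
    have i₀ : Fin (finrank ℂ (Fin n → ℂ)) := ⟨0, by omega⟩
    have hsc : ρ z = μ i₀ • LinearMap.id := b.ext fun i => by
      have := hb 1 i
      rw [pow_one, pow_one] at this
      rw [this, LinearMap.smul_apply, LinearMap.id_apply, hall i i₀]
    have hinj : Function.Injective ρ := by
      rw [← MonoidHom.ker_eq_bot_iff]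
      refine (Subgroup.eq_bot_iff_forall _).2 fun g hg => eq_one_of_value χ hne ?_
      rw [← he]
      simp only [Representation.character, MonoidHom.mem_ker.1 hg, map_one]
    have : z = 1 := center_trivial hG fun a => hinj (by
      rw [map_mul, map_mul, hsc]
      ext v
      simp)
    rw [this, orderOf_one] at hz
    exact absurd hz (by norm_num)

end CfsgLib.Perm.PrimeBlock
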