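import Mathlib
import Cfsg.Agent.Lib.Perm.Small.DetKill
import Cfsg.Agent.Lib.Perm.Small.SimpleChar
import Cfsg.Agent.Lib.Perm.Small.PrimeShape
import Cfsg.Agent.Lib.Invol.SmallSimple

/-!
# An arithmetical criterion for simple groups with a Sylow subgroup of prime order

The degrees in the principal block, their signs and congruences, the determinant argument and Sylow's
theorem give a finite test on the order of the group.
-/

set_option autoImplicit false
set_option linter.unusedSectionVars false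
set_option linter.style.haveILetI false

namespace CfsgLib.Perm.PrimeBlock

open Cfsg CfsgLib.Block

/-- The signed degrees that force a centralizer of order `p`. -/
def kills (p : ℕ) (s : ℤ) : Bool :=
  (s == (p : ℤ) + 1) || (s == 1 - (p : ℤ)) || (s == 1 - 2 * (p : ℤ))

/-- An admissible degree: at least three, dividing `m`, with square below `g`. -/
def okAbs (g m : ℕ) (d : ℕ) : Bool := (decide (3 ≤ d)) && (m % d == 0) && decide (d * d < g)

/-- The admissible signed degrees. -/
def cands (g m p c B : ℕ) : List ℤ :=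
  ((List.range B).flatMap fun (d : ℕ) => [(d : ℤ), -(d : ℤ)]).filter fun s =>
    okAbs g m s.natAbs && (s % (p : ℤ) == 1) && !(decide (1 < c) && kills p s)

/-- Sums of `k` terms of a list. -/
def sums (L : List ℤ) : ℕ → List ℤ
  | 0 => [0]
  | k + 1 => (L.flatMap fun a => (sums L k).map (a + ·)).eraseDups

/-- Whether the parameters admit degrees. -/
def possible (g m p e c B : ℕ) : Bool :=
  (sums (cands g m p c B) (e - 1)).any fun s =>
    okAbs g m (1 + s).natAbs && ((1 + s) % (p : ℤ) == (e : ℤ) % (p : ℤ)) &&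
      !(decide (1 < c) && kills p (-(((p - 1) / e : ℕ) : ℤ) * (1 + s)))

theorem sum_mem_sums {L : List ℤ} {ι : Type*} (f : ι → ℤ) :
    ∀ (s : Finset ι), (∀ i ∈ s, f i ∈ L) → ∑ i ∈ s, f i ∈ sums L s.card := by
  classical
  intro s
  induction s using Finset.induction_on with
  | empty => simp [sums]
  | insert a t hat ih =>
    intro h
    rw [Finset.card_insert_of_notMem hat, Finset.sum_insert hat, sums, List.mem_eraseDups,
      List.mem_flatMap]
    exact ⟨f a, h a (Finset.mem_insert_self _ _), List.mem_map.2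
      ⟨_, ih fun i hi => h i (Finset.mem_insert_of_mem hi), rfl⟩⟩

/-- A non-trivial degree has square below the group order. -/
theorem sq_degree_lt {G : Type*} [Group G] [Finite G] (χ : IrrCharacter G) (hχ : χ ≠ oneChar G) :
    charDegree (χ : G → ℂ) * charDegree (χ : G → ℂ) < Nat.card G := by
  classical
  haveI := Fintype.ofFinite (IrrCharacter G)
  have h := CfsgLib.Char.sum_degree_sq (G := G)
  have hdeg : ∀ χ : IrrCharacter G, (χ : G → ℂ) 1 = (charDegree (χ : G → ℂ) : ℂ) :=
    fun χ => (charDegree_eq χ).1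
  simp only [hdeg] at h
  have h' : ∑ ψ : IrrCharacter G, charDegree (ψ : G → ℂ) ^ 2 = Nat.card G := by exact_mod_cast h
  rw [← h', ← Finset.add_sum_erase _ _ (Finset.mem_univ χ), sq]
  have h2 := Finset.single_le_sum (f := fun ψ : IrrCharacter G => charDegree (ψ : G → ℂ) ^ 2)
    (fun ψ _ => Nat.zero_le _) (Finset.mem_erase.2 ⟨Ne.symm hχ, Finset.mem_univ (oneChar G)⟩)
  have h1 : charDegree ((oneChar G : IrrCharacter G) : G → ℂ) ^ 2 = 1 := by
    simp [charDegree, oneChar]
  simp only [sq] at h1 h2 ⊢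
  omega

variable {G : Type*} [Group G] [IsSimpleGroup G]

/-- Sylow data and normalised principal block data of a simple group. -/
theorem exists_data [Fintype G] (hG : ¬ IsMulCommutative G) (p m : ℕ) [Fact p.Prime] (hodd : p ≠ 2)
    (hg : Nat.card G = m * p) (hm : ¬ p ∣ m) :
    ∃ (P : Sylow p G) (n e c : ℕ), Nat.card (P : Subgroup G) = p ∧ n * (e * c) = m ∧ n % p = 1 ∧
      1 < n ∧ 2 * Nat.card G ∣ n.factorial ∧ 2 ≤ e ∧ e ∣ p - 1 ∧
      Nat.card (Subgroup.centralizer ((P : Subgroup G) : Set G)) = p * c ∧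
      Nat.card (Subgroup.normalizer ((P : Subgroup G) : Set G)) = e * (p * c) ∧
      n = Nat.card (Sylow p G) ∧ Nonempty (Shape p e (P : Subgroup G)) := by
  classical
  have hp : p.Prime := Fact.out
  obtain ⟨P⟩ : Nonempty (Sylow p G) := inferInstance
  have hsq : ¬ p ^ 2 ∣ Nat.card G := fun h => by
    rw [hg, pow_two] at h
    exact hm (Nat.dvd_of_mul_dvd_mul_right hp.pos h)
  have hP : Nat.card (P : Subgroup G) = p := by
    obtain ⟨k, hk⟩ := P.2.exists_card_eq
    have h1 : p ∣ Nat.card (P : Subgroup G) := P.dvd_card_of_dvd_card (by rw [hg]; exact dvd_mul_left p m)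
    rcases k with _ | _ | k
    · rw [hk, pow_zero] at h1; exact absurd (Nat.dvd_one.1 h1) hp.one_lt.ne'
    · simpa using hk
    · exfalso
      have h3 := Subgroup.card_subgroup_dvd_card (P : Subgroup G)
      rw [hk] at h3
      exact hsq ((pow_dvd_pow p (by omega)).trans h3)
  set C := Subgroup.centralizer ((P : Subgroup G) : Set G) with hC
  set N := Subgroup.normalizer ((P : Subgroup G) : Set G) with hN
  haveI : IsMulCommutative (P : Subgroup G) := (isCyclic_of_prime_card hP).isMulCommutative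
  have hPC : (P : Subgroup G) ≤ C := Subgroup.le_centralizer _
  have hCN : C ≤ N := Subgroup.centralizer_le_normalizer _
  obtain ⟨c, hc⟩ : p ∣ Nat.card C := hP ▸ Subgroup.card_dvd_of_le hPC
  obtain ⟨e, he⟩ : ∃ e, C.relIndex N = e := ⟨_, rfl⟩
  have hNc : Nat.card N = e * (p * c) := by
    rw [← hc, ← he, Subgroup.relIndex, ← Nat.card_congr (Subgroup.subgroupOfEquivOfLe hCN).toEquiv,
      mul_comm, Subgroup.card_mul_index]
  have hn : Nat.card (Sylow p G) * (e * c) = m := by
    have h1 := Subgroup.card_mul_index N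
    rw [show N.index = Nat.card (Sylow p G) from (P.card_eq_index_normalizer).symm, hg, hNc] at h1
    exact Nat.eq_of_mul_eq_mul_right hp.pos (by rw [← h1]; ring)
  have hn1 : 1 < Nat.card (Sylow p G) :=
    CfsgLib.Invol.one_lt_card_sylow hG (by rw [hg]; exact dvd_mul_left p m)
  have hfac := CfsgLib.Invol.sylow_dvd_factorial hG (p := p) (by rw [hg]; exact dvd_mul_left p m)
  have hep : e ∣ p - 1 := by
    have h1 : (MonoidHom.ker (Subgroup.normalizerMonoidHom (P : Subgroup G))).index ∣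
        Nat.card (MulAut (P : Subgroup G)) := by
      rw [Subgroup.index_ker]; exact Subgroup.card_subgroup_dvd_card _
    rw [Subgroup.normalizerMonoidHom_ker] at h1
    haveI : IsCyclic (P : Subgroup G) := isCyclic_of_prime_card hP
    rw [IsCyclic.card_mulAut, hP, Nat.totient_prime hp] at h1
    exact he ▸ h1
  have he2 : 2 ≤ e := by
    have he0 : e ≠ 0 := fun h => by
      rw [h, zero_mul] at hNc; exact Nat.card_pos.ne' hNc
    by_contra hlt
    have he1 : e = 1 := by omega
    have hNC : N ≤ C := Subgroup.relIndex_eq_one.1 (he.trans he1)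
    have hcompl := MonoidHom.ker_transferSylow_isComplement' P hNC
    rcases IsSimpleGroup.eq_bot_or_eq_top_of_normal (MonoidHom.transferSylow P hNC).ker inferInstance
      with h | h
    · rw [h] at hcompl
      have hPt := Subgroup.isComplement'_bot_left.1 hcompl
      exact CfsgLib.Invol.not_isPGroup_of_simple hG (p := p) fun g => by
        obtain ⟨k, hk⟩ := P.2 ⟨g, hPt ▸ Subgroup.mem_top g⟩
        exact ⟨k, congrArg Subtype.val hk⟩
    · rw [h] at hcompl
      exact P.ne_bot_of_dvd_card (by rw [hg]; exact dvd_mul_left p m)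
        (Subgroup.isComplement'_top_left.1 hcompl)
  refine ⟨P, _, e, c, hP, hn, ?_, hn1, hfac, he2, hep, hc, hNc, rfl,
    exists_shape ?_ p hodd P hP e he he2 hep⟩
  · have := card_sylow_modEq_one p G
    rwa [Nat.ModEq, Nat.mod_eq_of_lt hp.one_lt] at this
  · intro χ hχ
    by_contra hne
    have h3 := degree_ge_three hG χ (fun h => hne (Subtype.ext h)) (d := 1)
      (by rw [(charDegree_eq χ).1, hχ])
    omega

/-- The principal block gives admissible parameters. -/
theorem Shape.possible_eq [Fintype G] (hG : ¬ IsMulCommutative G) {p m e c B : ℕ} [Fact p.Prime]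
    {P : Subgroup G} (S : Shape p e P) (hP : Nat.card P = p) (hg : Nat.card G = m * p)
    (hep : e ∣ p - 1) (he : 2 ≤ e) (hC : Nat.card (Subgroup.centralizer (P : Set G)) = p * c)
    (hpc : ¬ p ∣ c) (hB : Nat.card G ≤ B * B) : possible (Nat.card G) m p e c B = true := by
  classical
  have hp : p.Prime := Fact.out
  have := Fintype.ofFinite (IrrCharacter G)
  have hdeg : ∀ χ : IrrCharacter G, (χ : G → ℂ) 1 = (charDegree (χ : G → ℂ) : ℂ) :=
    fun χ => (charDegree_eq χ).1
  have hne : ∀ χ : IrrCharacter G, χ ≠ oneChar G → (χ : G → ℂ) ≠ fun _ => 1 := fun χ h h' =>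
    h (Subtype.ext h')
  have hsqlt := fun (χ : IrrCharacter G) (h : χ ≠ oneChar G) => sq_degree_lt χ h
  have hok : ∀ χ : IrrCharacter G, χ ≠ oneChar G → ¬ p ∣ charDegree (χ : G → ℂ) →
      okAbs (Nat.card G) m (charDegree (χ : G → ℂ)) = true ∧ charDegree (χ : G → ℂ) < B := by
    intro χ hχ hpd
    have h3 := degree_ge_three hG χ (hne χ hχ) (hdeg χ)
    have hdvd : charDegree (χ : G → ℂ) ∣ m := by
      have h := CfsgLib.Char.degree_dvd_card χ (hdeg χ)
      rw [hg] at h
      exact ((hp.coprime_iff_not_dvd.2 hpd).symm).dvd_of_dvd_mul_right h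
    have h4 := hsqlt χ hχ
    exact ⟨by simp only [okAbs, Bool.and_eq_true, decide_eq_true_eq, beq_iff_eq]; exact ⟨⟨h3, Nat.mod_eq_zero_of_dvd hdvd⟩, h4⟩,
      Nat.mul_self_lt_mul_self_iff.1 (lt_of_lt_of_le h4 hB)⟩
  obtain ⟨x, hx, hx1⟩ : ∃ x ∈ P, x ≠ 1 := by
    haveI : Nontrivial P := Finite.one_lt_card_iff_nontrivial.1 (by rw [hP]; exact hp.one_lt)
    obtain ⟨x, hx⟩ := exists_ne (1 : P)
    exact ⟨x, x.2, fun h => hx (Subtype.ext h)⟩
  have hxo : orderOf x = p := by
    have h := orderOf_dvd_natCard (⟨x, hx⟩ : P)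
    rw [hP, Subgroup.orderOf_mk] at h
    exact ((Nat.dvd_prime hp).1 h).resolve_left fun h' => hx1 (orderOf_eq_one_iff.1 h')
  have hy : 1 < c → ∃ y ∈ Subgroup.centralizer (P : Set G), ¬ p ∣ orderOf y ∧ y ≠ 1 := by
    intro hc1
    obtain ⟨r, hr, hrc⟩ := Nat.exists_prime_and_dvd (by omega : c ≠ 1)
    haveI : Fact r.Prime := ⟨hr⟩
    obtain ⟨y, hy⟩ := exists_prime_orderOf_dvd_card' r
      (show r ∣ Nat.card (Subgroup.centralizer (P : Set G)) by rw [hC]; exact hrc.mul_left p)
    have hyo : orderOf (y : G) = r := by rw [Subgroup.orderOf_coe, hy]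
    refine ⟨y, y.2, fun h => ?_, fun h => ?_⟩
    · rw [hyo] at h
      exact hpc ((Nat.prime_dvd_prime_iff_eq hp hr).1 h ▸ hrc)
    · rw [h, orderOf_one] at hyo
      exact hr.one_lt.ne hyo
  have hxy : ∀ y ∈ Subgroup.centralizer (P : Set G), ¬ p ∣ orderOf y → ∀ j k : ℕ, ¬ p ∣ j →
      x ^ j ∈ P ∧ x ^ j ≠ 1 ∧ y ^ k ∈ Subgroup.centralizer (P : Set G) ∧ ¬ p ∣ orderOf (y ^ k) :=
    fun y hy hyr j k hj => ⟨pow_mem hx j, fun h => hj (hxo ▸ orderOf_dvd_of_pow_eq_one h),
      pow_mem hy k, fun h => hyr (h.trans (orderOf_pow_dvd k))⟩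
  -- the exceptional family
  obtain ⟨θ₀, hθ₀⟩ : S.Y.Nonempty := Finset.card_pos.1 (by
    rw [S.card_Y]; exact Nat.div_pos (Nat.le_of_dvd (by have := hp.two_le; omega) hep) (by omega))
  have hθne : ∀ θ ∈ S.Y, θ ≠ oneChar G := fun θ h h' => S.one_notMem_Y (h' ▸ h)
  have hpD : ¬ p ∣ S.D := by
    intro h
    have h1 := (Int.modEq_zero_iff_dvd.2 (Int.natCast_dvd_natCast.2 h)).symm.trans S.congr_Y
    have h2 : (p : ℤ) ∣ S.ε * e := Int.modEq_zero_iff_dvd.1 h1.symm
    have h3 : p ∣ e := by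
      rcases S.sign with hs | hs <;> rw [hs] at h2 <;> simpa [Int.natCast_dvd_natCast] using h2
    have := Nat.le_of_dvd (by omega) h3
    have := Nat.le_of_dvd (by have := hp.two_le; omega) hep
    omega
  obtain ⟨hDok, -⟩ := hok θ₀ (hθne θ₀ hθ₀) (by rw [S.degree_Y θ₀ hθ₀]; exact hpD)
  rw [S.degree_Y θ₀ hθ₀] at hDok
  have hrel : (S.ε : ℤ) * S.D = 1 + ∑ χ ∈ S.X, S.εX χ * (charDegree (χ : G → ℂ) : ℤ) := by
    have h := S.relation θ₀ hθ₀ 1 (by rw [orderOf_one]; exact hp.not_dvd_one)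
    simp only [hdeg, S.degree_Y θ₀ hθ₀] at h
    exact_mod_cast h
  refine List.any_eq_true.2 ⟨∑ χ ∈ S.X, S.εX χ * (charDegree (χ : G → ℂ) : ℤ), ?_, ?_⟩
  · rw [show e - 1 = S.X.card by have := S.card_X; omega]
    refine sum_mem_sums _ _ fun χ hχ => ?_
    have hχ1 : χ ≠ oneChar G := fun h => S.one_notMem_X (h ▸ hχ)
    have hsg := S.sign_X χ hχ
    have hmod := S.degree_X χ hχ
    have hpd : ¬ p ∣ charDegree (χ : G → ℂ) := by
      intro h
      have h2 : (p : ℤ) ∣ S.εX χ :=
        Int.modEq_zero_iff_dvd.1 (((Int.modEq_zero_iff_dvd.2 (Int.natCast_dvd_natCast.2 h)).symm.trans hmod).symm)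
      rcases hsg with hs | hs <;> rw [hs] at h2 <;>
        exact hp.not_dvd_one (by simpa [Int.natCast_dvd] using h2)
    obtain ⟨hok1, hlt⟩ := hok χ hχ1 hpd
    have habs : (S.εX χ * (charDegree (χ : G → ℂ) : ℤ)).natAbs = charDegree (χ : G → ℂ) := by
      rcases hsg with hs | hs <;> simp [hs]
    simp only [cands, List.mem_filter, List.mem_flatMap, List.mem_range, Bool.and_eq_true,
      beq_iff_eq, Bool.not_eq_true', Bool.and_eq_false_iff, habs]
    refine ⟨⟨_, hlt, ?_⟩, ⟨hok1, ?_⟩, ?_⟩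
    · rcases hsg with hs | hs <;> simp [hs]
    · have h1 : S.εX χ * (charDegree (χ : G → ℂ) : ℤ) ≡ 1 [ZMOD p] := by
        refine (hmod.mul_left (S.εX χ)).trans ?_
        rcases hsg with hs | hs <;> rw [hs] <;> rfl
      rw [Int.ModEq, Int.emod_eq_of_lt (by norm_num : (0 : ℤ) ≤ 1)
        (by have := hp.one_lt; exact_mod_cast this)] at h1
      exact h1
    · by_contra hcon
      rw [decide_eq_false_iff_not, not_or, not_not, Bool.not_eq_false] at hcon
      obtain ⟨hc1, hk⟩ := hcon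
      obtain ⟨y, hyC, hyr, hy1⟩ := hy hc1
      simp only [kills, Bool.or_eq_true, beq_iff_eq] at hk
      refine hy1 (eq_one_of_value χ (hne χ hχ1) ?_)
      rw [hdeg]
      refine eq_degree_of_const (CfsgLib.Char.isCharacter_irr χ) (lin_eq_one hG) hp hxo
        (Subgroup.mem_centralizer_iff.1 hyC x hx) hyr (c := S.εX χ) (fun j k hj => ?_) (hdeg χ) ?_
      · obtain ⟨h1, h2, h3, h4⟩ := hxy y hyC hyr j k hj
        exact S.value_X χ hχ _ h1 h2 _ h3 h4
      · have := hp.two_le
        rcases hsg with hs | hs <;> rw [hs] at hk ⊢ <;> omega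
  · simp only [Bool.and_eq_true, beq_iff_eq, Bool.not_eq_true', Bool.and_eq_false_iff]
    rw [← hrel]
    have habs : (S.ε * (S.D : ℤ)).natAbs = S.D := by rcases S.sign with hs | hs <;> simp [hs]
    refine ⟨⟨by rw [habs]; exact hDok, ?_⟩, ?_⟩
    · have h1 : S.ε * (S.D : ℤ) ≡ e [ZMOD p] := by
        refine (S.congr_Y.mul_left S.ε).trans ?_
        rcases S.sign with hs | hs <;> rw [hs] <;> norm_num
      exact h1
    · by_contra hcon
      rw [decide_eq_false_iff_not, not_or, not_not, Bool.not_eq_false] at hcon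
      obtain ⟨hc1, hk⟩ := hcon
      obtain ⟨y, hyC, hyr, hy1⟩ := hy hc1
      simp only [kills, Bool.or_eq_true, beq_iff_eq] at hk
      set t := (p - 1) / e with ht
      refine hy1 (eq_one_of_value θ₀ (hne θ₀ (hθne θ₀ hθ₀)) ?_)
      have ht0 : (t : ℂ) ≠ 0 := by
        have : 0 < t := by rw [ht, ← S.card_Y]; exact Finset.card_pos.2 ⟨θ₀, hθ₀⟩
        exact_mod_cast this.ne'
      have hsumv : ∀ g : G, ¬ p ∣ orderOf g →
          (∑ θ ∈ S.Y, (θ : G → ℂ)) g = (t : ℂ) * (θ₀ : G → ℂ) g := fun g hgr => by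
        rw [Finset.sum_apply, Finset.sum_congr rfl (fun θ hθ => S.regular_Y θ hθ θ₀ hθ₀ g hgr),
          Finset.sum_const, nsmul_eq_mul, S.card_Y]
      have h1o : ¬ p ∣ orderOf (1 : G) := by rw [orderOf_one]; exact hp.not_dvd_one
      have key := eq_degree_of_const (CfsgLib.Char.isCharacter_sum S.Y (fun θ => (θ : G → ℂ))
        fun θ _ => CfsgLib.Char.isCharacter_irr θ) (lin_eq_one hG) hp hxo
        (Subgroup.mem_centralizer_iff.1 hyC x hx) hyr (c := -S.ε) (d := t * S.D)
        (fun j k hj => ?_) ?_ ?_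
      · rw [hsumv y hyr, Nat.cast_mul] at key
        rw [hdeg, S.degree_Y θ₀ hθ₀]
        exact mul_left_cancel₀ ht0 key
      · obtain ⟨h1, h2, h3, h4⟩ := hxy y hyC hyr j k hj
        rw [Finset.sum_apply, S.value_Y _ h1 h2 _ h3 h4]
        push_cast; rfl
      · rw [hsumv 1 h1o, hdeg, S.degree_Y θ₀ hθ₀, Nat.cast_mul]
      · have := hp.two_le
        rcases S.sign with hs | hs <;> rw [hs] at hk ⊢ <;>
          simp only [mul_neg, neg_mul, neg_neg, one_mul, ← Nat.cast_mul, true_and] at hk ⊢ <;>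
          generalize t * S.D = z at hk ⊢ <;> omega

/-- The criterion. -/
theorem exists_possible [Finite G] (hG : ¬ IsMulCommutative G) (g p m B : ℕ) [Fact p.Prime]
    (hodd : p ≠ 2) (hcard : Nat.card G = g) (hg : g = m * p) (hm : ¬ p ∣ m) (hB : g ≤ B * B) :
    ∃ n e c : ℕ, n * (e * c) = m ∧ n % p = 1 ∧ 1 < n ∧ 2 * g ∣ n.factorial ∧ 2 ≤ e ∧
      e ∣ p - 1 ∧ possible g m p e c B = true := by
  haveI := Fintype.ofFinite G
  subst hcard
  obtain ⟨P, n, e, c, hP, hn, hn1, hn2, hfac, he2, hep, hC, -, -, ⟨S⟩⟩ :=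
    exists_data hG p m hodd hg hm
  exact ⟨n, e, c, hn, hn1, hn2, hfac, he2, hep, S.possible_eq hG hP hg hep he2 hC
    (fun h => hm (hn ▸ h.trans ((dvd_mul_left c e).trans (dvd_mul_left _ n)))) hB⟩

end CfsgLib.Perm.PrimeBlock
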