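import Mathlib
import Cfsg.Agent.Lib.Perm.Small.PrimeCriterion

/-!
# The involution test: decidable part

For `C_G(P) = P` of prime order `p` and even automiser order `e`, an involution `u` inverting `P`
gives `p` pairs of conjugates of `u` with product a fixed generator of `P`; the class multiplication
formula makes this a finite condition on the degrees, the values at `u` and the order of `C_G(u)`.
-/

set_option autoImplicit false

namespace CfsgLib.Perm.PrimeBlock

/-- Multisets of `k` terms of a list, as lists. -/
def combos : List ℤ → ℕ → List (List ℤ)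
  | [], k => if k = 0 then [[]] else []
  | a :: r, k => (List.range (k + 1)).flatMap fun j => (combos r (k - j)).map (List.replicate j a ++ ·)

/-- Possible values at an involution of a character of signed degree `s` with square below `c`. -/
def valsFor (c : ℕ) (s : ℤ) : List ℤ :=
  ((List.range s.natAbs).flatMap fun (i : ℕ) => if i = 0 then [(0 : ℤ)] else [(i : ℤ), -(i : ℤ)]).filter
    fun S => decide (S * S < (c : ℤ)) && ((S - s) % 4 == 0)

/-- All assignments of values. -/
def assigns (c : ℕ) : List ℤ → List (List (ℤ × ℤ))
  | [] => [[]]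
  | s :: r => (valsFor c s).flatMap fun S => (assigns c r).map ((s, S) :: ·)

/-- Numerator and denominator of `1 + Σ S² / s`. -/
def fracSum : List (ℤ × ℤ) → ℤ × ℤ
  | [] => (1, 1)
  | (s, S) :: r => ((fracSum r).1 * s + S * S * (fracSum r).2, (fracSum r).2 * s)

/-- One assignment of values is consistent with `k` pairs of conjugates having product `x`. -/
def goodAssignK (g p e k c : ℕ) (l : List (ℤ × ℤ)) : Bool :=
  let T : ℤ := 1 + (l.map Prod.snd).sum
  let D : ℤ := 1 + (l.map Prod.fst).sum
  decide (T.natAbs < D.natAbs) && ((T - D) % 4 == 0) &&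
    decide (1 + (l.map fun x => x.2 * x.2).sum + (((p - 1) / e : ℕ) : ℤ) * (T * T) ≤ (c : ℤ)) &&
      ((g : ℤ) * ((fracSum l).1 * D - T * T * (fracSum l).2) ==
        (k : ℤ) * (c : ℤ) * (c : ℤ) * ((fracSum l).2 * D))

/-- The degree lists admitted by the block test. -/
def degLists (g m p e B : ℕ) : List (List ℤ) :=
  (combos (cands g m p 1 B) (e - 1)).filter fun l =>
    okAbs g m (1 + l.sum).natAbs && ((1 + l.sum) % (p : ℤ) == (e : ℤ) % (p : ℤ))

/-- Some degrees and values pass the involution test. -/
def invPossible (g m p e B : ℕ) : Bool :=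
  (degLists g m p e B).any fun l => (List.range (m + 1)).any fun c =>
    (c % 2 == 0) && (m % c == 0) && (assigns c l).any (goodAssignK g p e p c)

/-- Some degrees and values pass the test for an involution whose centralizer order is divisible by
`t`: it gives either `p` pairs or none. -/
def centralPossible (g m p e B t : ℕ) : Bool :=
  (degLists g m p e B).any fun l => (List.range (m + 1)).any fun c =>
    (c % 2 == 0) && (m % c == 0) && (c % t == 0) &&
      (assigns c l).any fun a => goodAssignK g p e p c a || goodAssignK g p e 0 c a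

theorem exists_combo {ι : Type*} (f : ι → ℤ) :
    ∀ (L : List ℤ) (X : List ι), (∀ a ∈ X, f a ∈ L) →
      ∃ X' : List ι, List.Perm X' X ∧ X'.map f ∈ combos L X.length := by
  intro L
  induction L with
  | nil =>
    intro X hX
    cases X with
    | nil => exact ⟨[], List.Perm.refl _, by simp [combos]⟩
    | cons a X => simpa using hX a (by simp)
  | cons a r ih =>
    intro X hX
    obtain ⟨R, hR, hRm⟩ := ih (X.filter fun x => !decide (f x = a)) fun x hx => by
      simp only [List.mem_filter, Bool.not_eq_true', decide_eq_false_iff_not] at hx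
      exact (List.mem_cons.1 (hX x hx.1)).resolve_left hx.2
    set A := X.filter (fun x => decide (f x = a)) with hA
    have hperm : List.Perm (A ++ R) X :=
      (List.Perm.append_left _ hR).trans (List.filter_append_perm _ X)
    refine ⟨_, hperm, ?_⟩
    have hlen := hperm.length_eq
    rw [List.length_append] at hlen
    simp only [combos, List.mem_flatMap, List.mem_range, List.mem_map]
    refine ⟨A.length, by omega, R.map f, ?_, ?_⟩
    · rw [show X.length - A.length = (X.filter fun x => !decide (f x = a)).length by
        rw [← hR.length_eq]; omega]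
      exact hRm
    · rw [List.map_append, List.eq_replicate_iff.2 ⟨List.length_map (as := A) f, fun b hb => ?_⟩]
      obtain ⟨x, hx, rfl⟩ := List.mem_map.1 hb
      simpa using (List.mem_filter.1 hx).2

theorem mem_assigns {ι : Type*} (f v : ι → ℤ) (c : ℕ) :
    ∀ X : List ι, (∀ a ∈ X, v a ∈ valsFor c (f a)) →
      X.map (fun a => (f a, v a)) ∈ assigns c (X.map f) := by
  intro X
  induction X with
  | nil => intro _; simp [assigns]
  | cons a X ih =>
    intro h
    simp only [List.map_cons, assigns, List.mem_flatMap, List.mem_map]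
    exact ⟨v a, h a (by simp), _, ih fun b hb => h b (List.mem_cons_of_mem _ hb), rfl⟩

theorem mem_valsFor {c : ℕ} {s S : ℤ} (h1 : S.natAbs < s.natAbs) (h2 : S * S < (c : ℤ))
    (h3 : (S - s) % 4 = 0) : S ∈ valsFor c s := by
  simp only [valsFor, List.mem_filter, List.mem_flatMap, List.mem_range, Bool.and_eq_true,
    decide_eq_true_eq, beq_iff_eq]
  refine ⟨⟨S.natAbs, h1, ?_⟩, h2, h3⟩
  rcases Int.natAbs_eq S with h | h <;> split_ifs with h0
  · simp [Int.natAbs_eq_zero.1 h0]
  · exact List.mem_cons.2 (Or.inl h)
  · simp [Int.natAbs_eq_zero.1 h0]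
  · exact List.mem_cons.2 (Or.inr (List.mem_singleton.2 h))

theorem fracSum_spec {ι : Type*} (f v : ι → ℤ) :
    ∀ X : List ι, (∀ a ∈ X, f a ≠ 0) →
      ((fracSum (X.map fun a => (f a, v a))).2 : ℂ) ≠ 0 ∧
        ((fracSum (X.map fun a => (f a, v a))).1 : ℂ) =
          (1 + (X.map fun a => (v a : ℂ) ^ 2 / (f a : ℂ)).sum) *
            ((fracSum (X.map fun a => (f a, v a))).2 : ℂ) := by
  intro X
  induction X with
  | nil => intro _; simp [fracSum]
  | cons a X ih =>
    intro h
    obtain ⟨h1, h2⟩ := ih fun b hb => h b (List.mem_cons_of_mem _ hb)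
    have ha : (f a : ℂ) ≠ 0 := by exact_mod_cast h a (by simp)
    simp only [List.map_cons, fracSum, List.sum_cons]
    push_cast
    refine ⟨mul_ne_zero h1 ha, ?_⟩
    rw [h2]
    field_simp
    ring

end CfsgLib.Perm.PrimeBlock
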