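import Mathlib
import Cfsg.Agent.Lib.Perm.Small.InvolutionTest
import Cfsg.Agent.Lib.Char.ClassMul
import Cfsg.Agent.Lib.Perm.Small.Count

/-!
# The involution test: soundness
-/

set_option autoImplicit false
set_option linter.unusedSectionVars false
set_option linter.style.haveILetI false

namespace CfsgLib.Perm.PrimeBlock

open Cfsg CfsgLib.Block
open scoped ComplexConjugate

variable {G : Type*} [Group G] [IsSimpleGroup G]

/-- The value of a non-trivial irreducible character at an involution. -/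
theorem involution_value [Finite G] (hG : ¬ IsMulCommutative G) (χ : IrrCharacter G)
    (hne : (χ : G → ℂ) ≠ fun _ => 1) {u : G} (hu : orderOf u = 2) :
    ∃ r : ℤ, (χ : G → ℂ) u = r ∧ r.natAbs < charDegree (χ : G → ℂ) ∧
      (r - (charDegree (χ : G → ℂ) : ℤ)) % 4 = 0 := by
  classical
  obtain ⟨n, ρ, hρ, he⟩ := χ.2
  obtain ⟨b, μ, hμ, hb, hsum⟩ := CfsgLib.Char.exists_eigen_data ρ u
  have hμ1 : ∀ i, μ i = 1 ∨ μ i = -1 := fun i => sq_eq_one_iff.1 (hu ▸ hμ i)
  have hdim : charDegree (χ : G → ℂ) = Module.finrank ℂ (Fin n → ℂ) := by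
    rw [← he, charDegree, Representation.char_one, Complex.natCast_re, Nat.floor_natCast]
  set neg := Finset.univ.filter (fun i => μ i = -1) with hneg
  have hval : (χ : G → ℂ) u = (((Module.finrank ℂ (Fin n → ℂ) : ℕ) : ℤ) - 2 * (neg.card : ℤ) : ℤ) := by
    have h := hsum 1
    rw [pow_one, he] at h
    rw [h]
    have h2 : ∀ i, μ i ^ 1 = 1 - 2 * (if μ i = -1 then (1 : ℂ) else 0) := by
      intro i
      rcases hμ1 i with hi | hi <;> rw [pow_one, hi]
      · norm_num
      · norm_num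
    rw [Finset.sum_congr rfl fun i _ => h2 i, Finset.sum_sub_distrib, ← Finset.mul_sum,
      Finset.sum_boole]
    simp [hneg]
  have hdet : (-1 : ℂ) ^ neg.card = 1 := by
    have hu1 : ∀ i, ρ u (b i) = μ i • b i := fun i => by simpa using hb 1 i
    have hprod : ∏ i, μ i = 1 := by
      rw [← rho_det_eq_one hG ρ u, ← LinearMap.det_toMatrix b,
        show LinearMap.toMatrix b b (ρ u) = Matrix.diagonal μ from ?_, Matrix.det_diagonal]
      ext i j
      rw [LinearMap.toMatrix_apply, hu1, map_smul, Finsupp.smul_apply, b.repr_self, smul_eq_mul,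
        Matrix.diagonal_apply]
      rcases eq_or_ne i j with rfl | hij
      · simp
      · simp [hij, Finsupp.single_eq_of_ne hij]
    rw [← Finset.prod_filter_mul_prod_filter_not Finset.univ (fun i => μ i = -1) μ,
      Finset.prod_congr rfl (g := fun _ => (-1 : ℂ)) (fun i hi => (Finset.mem_filter.1 hi).2),
      Finset.prod_eq_one (s := Finset.univ.filter fun i => ¬ μ i = -1)
        (fun i hi => (hμ1 i).resolve_right (Finset.mem_filter.1 hi).2), mul_one, Finset.prod_const] at hprod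
    exact hprod
  have heven : Even neg.card := neg_one_pow_eq_one_iff_even (by norm_num) |>.1 hdet
  have hle : neg.card ≤ Module.finrank ℂ (Fin n → ℂ) := by
    simpa using Finset.card_filter_le (Finset.univ : Finset (Fin (Module.finrank ℂ (Fin n → ℂ)))) (fun i => μ i = -1)
  have hscalar : ‖ρ.character u‖ ≠ (Module.finrank ℂ (Fin n → ℂ) : ℝ) := by
    intro h
    obtain ⟨ω, hω⟩ := (CfsgLib.Char.norm_char_eq_iff ρ u).1 h
    have hinj : Function.Injective ρ := by
      rw [← MonoidHom.ker_eq_bot_iff]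
      refine (Subgroup.eq_bot_iff_forall _).2 fun g hg => eq_one_of_value χ hne ?_
      rw [← he]
      simp only [Representation.character, MonoidHom.mem_ker.1 hg, map_one]
    have : u = 1 := center_trivial hG fun a => hinj (by
      rw [map_mul, map_mul, hω]
      ext v
      simp)
    rw [this, orderOf_one] at hu
    norm_num at hu
  refine ⟨_, hval, ?_, ?_⟩
  · rw [hdim]
    have hne2 : ((Module.finrank ℂ (Fin n → ℂ) : ℤ) - 2 * (neg.card : ℤ)).natAbs ≠ Module.finrank ℂ (Fin n → ℂ) := by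
      intro h
      refine hscalar ?_
      rw [he, hval, Complex.norm_intCast, ← Int.cast_abs, Int.abs_eq_natAbs, h]
      simp
    omega
  · rw [hdim]
    obtain ⟨k, hk⟩ := heven
    omega

/-- A generator of a self-centralizing subgroup of prime order is self-centralizing. -/
theorem mem_of_commute_gen [Finite G] {p : ℕ} [Fact p.Prime] {P : Sylow p G}
    (hP : Nat.card (P : Subgroup G) = p)
    (hC : Nat.card (Subgroup.centralizer ((P : Subgroup G) : Set G)) = p) {x : G}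
    (hx : x ∈ (P : Subgroup G)) (hx1 : x ≠ 1) {a : G} (ha : Commute x a) : a ∈ (P : Subgroup G) := by
  have hCP : Subgroup.centralizer ((P : Subgroup G) : Set G) = (P : Subgroup G) := by
    haveI : IsMulCommutative (P : Subgroup G) := (isCyclic_of_prime_card hP).isMulCommutative
    exact (Subgroup.eq_of_le_of_card_ge (Subgroup.le_centralizer _) (by rw [hC, hP])).symm
  have hgen : Subgroup.zpowers x = (P : Subgroup G) := CfsgLib.Perm.Small.zpowers_eq_of_mem hP hx hx1
  rw [← hCP, Subgroup.mem_centralizer_iff]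
  intro w hw
  obtain ⟨k, rfl⟩ : w ∈ Subgroup.zpowers x := hgen.symm ▸ hw
  exact (ha.zpow_left k).eq

/-- An involution inverting `x` gives exactly `p` pairs of its conjugates with product `x`. -/
theorem classConst_eq_of_inverting [Finite G] {p : ℕ} [Fact p.Prime] {P : Sylow p G} (hodd : p ≠ 2)
    (hP : Nat.card (P : Subgroup G) = p)
    (hC : Nat.card (Subgroup.centralizer ((P : Subgroup G) : Set G)) = p) {x : G}
    (hx : x ∈ (P : Subgroup G)) (hx1 : x ≠ 1) {u : G} (hu2 : u * u = 1) (hinv : u * x * u = x⁻¹) :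
    CfsgLib.Char.classConst u u x = p := by
  classical
  have hp : p.Prime := Fact.out
  have huinv : u⁻¹ = u := inv_eq_of_mul_eq_one_right hu2
  have hcentP : ∀ a : G, Commute x a → a ∈ (P : Subgroup G) := fun a ha =>
    mem_of_commute_gen hP hC hx hx1 ha
  have hgen : Subgroup.zpowers x = (P : Subgroup G) := CfsgLib.Perm.Small.zpowers_eq_of_mem hP hx hx1
  have hinvP : ∀ w ∈ (P : Subgroup G), u * w * u = w⁻¹ := by
    intro w hw
    obtain ⟨j, rfl⟩ : w ∈ Subgroup.zpowers x := hgen.symm ▸ hw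
    show u * x ^ j * u = (x ^ j)⁻¹
    calc u * x ^ j * u = u * x ^ j * u⁻¹ := by rw [huinv]
      _ = (u * x * u⁻¹) ^ j := (conj_zpow).symm
      _ = _ := by rw [huinv, hinv, inv_zpow]
  have hwu : ∀ w ∈ (P : Subgroup G), IsConj u (w * u) := by
    intro w hw
    obtain ⟨j, hj⟩ := hp.odd_of_ne_two hodd
    have hroot : w ^ (j + 1) * w ^ (j + 1) = w := by
      have h1 : w ^ p = 1 := by
        have h := Subgroup.orderOf_dvd_natCard _ hw
        rw [hP] at h
        exact orderOf_dvd_iff_pow_eq_one.1 h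
      rw [← pow_add, show j + 1 + (j + 1) = p + 1 by omega, pow_succ, h1, one_mul]
    refine isConj_iff.2 ⟨w ^ (j + 1), ?_⟩
    have hv : u * (w ^ (j + 1))⁻¹ = w ^ (j + 1) * u := by
      rw [← hinvP _ (pow_mem hw _), ← mul_assoc, ← mul_assoc, hu2, one_mul]
    rw [mul_assoc, hv, ← mul_assoc, hroot]
  have hcc : CfsgLib.Char.classConst u u x = p := by
    rw [← hP]
    refine (Nat.card_congr (Equiv.ofBijective
      (fun w : (P : Subgroup G) => (⟨((w : G) * u, (w : G) * u * x), hwu w w.2, ?_, ?_⟩ :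
        {q : G × G // IsConj u q.1 ∧ IsConj u q.2 ∧ q.1 * q.2 = x})) ⟨?_, ?_⟩)).symm
    · have h : (w : G) * u * x = ((w : G) * x⁻¹) * u := by
        rw [← hinvP x hx, mul_assoc (w : G), mul_assoc (w : G) (u * x * u) u, mul_assoc (u * x) u u,
          hu2, mul_one]
      show IsConj u ((w : G) * u * x)
      rw [h]
      exact hwu _ (mul_mem w.2 (inv_mem hx))
    · show (w : G) * u * ((w : G) * u * x) = x
      calc (w : G) * u * ((w : G) * u * x) = (w : G) * (u * (w : G) * u) * x := by group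
        _ = x := by rw [hinvP _ w.2, mul_inv_cancel, one_mul]
    · intro a b h
      exact Subtype.ext (mul_right_cancel (congrArg (fun q => q.1.1) h))
    · rintro ⟨⟨a, b⟩, ha, hb, hab⟩
      simp only at ha hb hab
      have hsq : ∀ a : G, IsConj u a → a * a = 1 := fun a ha => by
        obtain ⟨g, rfl⟩ := isConj_iff.1 ha
        calc g * u * g⁻¹ * (g * u * g⁻¹) = g * (u * u) * g⁻¹ := by group
          _ = 1 := by rw [hu2]; group
      have hbx : b = a * x := by rw [← hab, ← mul_assoc, hsq a ha, one_mul]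
      have hcom : Commute x (a * u) := by
        have h1 : a * x * a = x⁻¹ := by
          refine eq_inv_of_mul_eq_one_left ?_
          calc a * x * a * x = (a * x) * (a * x) := by group
            _ = 1 := by rw [← hbx]; exact hsq b hb
        have h2 : a * x⁻¹ * a = x := by
          rw [← h1]
          calc a * (a * x * a) * a = (a * a) * x * (a * a) := by group
            _ = x := by rw [hsq a ha]; group
        show x * (a * u) = a * u * x
        calc x * (a * u) = (a * x⁻¹ * a) * (a * u) := by rw [h2]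
          _ = a * x⁻¹ * ((a * a) * u) := by group
          _ = a * (u * x * u) * u := by rw [hsq a ha, hinv]; group
          _ = a * (u * x * (u * u)) := by group
          _ = a * u * x := by rw [hu2]; group
      refine ⟨⟨a * u, hcentP _ hcom⟩, Subtype.ext (Prod.ext ?_ ?_)⟩
      · show a * u * u = a
        rw [mul_assoc, hu2, mul_one]
      · show a * u * u * x = b
        rw [mul_assoc a, hu2, mul_one, hbx]
  exact hcc

/-- The signed degrees of the non-exceptional characters are candidates. -/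
theorem Shape.mem_cands_one [Fintype G] (hG : ¬ IsMulCommutative G) {p m e B : ℕ} [Fact p.Prime]
    {P : Subgroup G} (S : Shape p e P) (hg : Nat.card G = m * p) (hB : Nat.card G ≤ B * B)
    {χ : IrrCharacter G} (hχ : χ ∈ S.X) :
    S.εX χ * (charDegree (χ : G → ℂ) : ℤ) ∈ cands (Nat.card G) m p 1 B := by
  classical
  have hp : p.Prime := Fact.out
  have hdeg : ∀ χ : IrrCharacter G, (χ : G → ℂ) 1 = (charDegree (χ : G → ℂ) : ℂ) :=
    fun χ => (charDegree_eq χ).1
  have hχ1 : χ ≠ oneChar G := fun h => S.one_notMem_X (h ▸ hχ)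
  have hne1 : (χ : G → ℂ) ≠ fun _ => 1 := fun h => hχ1 (Subtype.ext h)
  have hmod := S.degree_X χ hχ
  have hd3 := degree_ge_three hG χ hne1 (hdeg χ)
  have hpd : ¬ p ∣ charDegree (χ : G → ℂ) := by
    intro h
    have h2 : (p : ℤ) ∣ S.εX χ :=
      Int.modEq_zero_iff_dvd.1 (((Int.modEq_zero_iff_dvd.2 (Int.natCast_dvd_natCast.2 h)).symm.trans hmod).symm)
    rcases S.sign_X χ hχ with hs | hs <;> rw [hs] at h2 <;>
      exact hp.not_dvd_one (by simpa [Int.natCast_dvd] using h2)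
  have hdvd : charDegree (χ : G → ℂ) ∣ m := by
    have h := CfsgLib.Char.degree_dvd_card χ (hdeg χ)
    rw [hg] at h
    exact ((hp.coprime_iff_not_dvd.2 hpd).symm).dvd_of_dvd_mul_right h
  have hlt : charDegree (χ : G → ℂ) * charDegree (χ : G → ℂ) < Nat.card G := sq_degree_lt χ hχ1
  have habs : (S.εX χ * (charDegree (χ : G → ℂ) : ℤ)).natAbs = charDegree (χ : G → ℂ) := by
    rcases S.sign_X χ hχ with hs | hs <;> simp [hs]
  simp only [cands, List.mem_filter, List.mem_flatMap, List.mem_range, Bool.and_eq_true,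
    beq_iff_eq, okAbs, habs, decide_eq_true_eq, Bool.not_eq_true', Bool.and_eq_false_iff,
    decide_eq_false_iff_not, lt_irrefl, not_false_eq_true, true_or, and_true]
  refine ⟨⟨_, Nat.mul_self_lt_mul_self_iff.1 (lt_of_lt_of_le hlt hB), ?_⟩,
    ⟨⟨hd3, Nat.mod_eq_zero_of_dvd hdvd⟩, hlt⟩, ?_⟩
  · rcases S.sign_X χ hχ with hs | hs <;> simp [hs]
  · have h1 : S.εX χ * (charDegree (χ : G → ℂ) : ℤ) ≡ 1 [ZMOD p] := by
      refine (hmod.mul_left (S.εX χ)).trans ?_
      rcases S.sign_X χ hχ with hs | hs <;> rw [hs] <;> rfl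
    rw [Int.ModEq, Int.emod_eq_of_lt (by norm_num : (0 : ℤ) ≤ 1)
      (by have := hp.one_lt; exact_mod_cast this)] at h1
    exact h1

/-- The signed exceptional degree is admissible. -/
theorem Shape.okAbs_Y [Fintype G] (hG : ¬ IsMulCommutative G) {p m e : ℕ} [Fact p.Prime]
    {P : Subgroup G} (S : Shape p e P) (hg : Nat.card G = m * p) (hep : e ∣ p - 1) (he : 2 ≤ e)
    {θ₀ : IrrCharacter G} (hθ₀ : θ₀ ∈ S.Y) :
    okAbs (Nat.card G) m (S.ε * (S.D : ℤ)).natAbs = true ∧
      S.ε * (S.D : ℤ) % (p : ℤ) = (e : ℤ) % (p : ℤ) := by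
  classical
  have hp : p.Prime := Fact.out
  have hdeg : ∀ χ : IrrCharacter G, (χ : G → ℂ) 1 = (charDegree (χ : G → ℂ) : ℂ) :=
    fun χ => (charDegree_eq χ).1
  have hYne : ∀ θ ∈ S.Y, θ ≠ oneChar G := fun θ h h' => S.one_notMem_Y (h' ▸ h)
  have hne : ∀ χ : IrrCharacter G, χ ≠ oneChar G → (χ : G → ℂ) ≠ fun _ => 1 := fun χ h h' =>
    h (Subtype.ext h')
  simp only [okAbs, Bool.and_eq_true, beq_iff_eq, decide_eq_true_eq]
  have habs : (S.ε * (S.D : ℤ)).natAbs = S.D := by rcases S.sign with hs | hs <;> simp [hs]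
  have hpD : ¬ p ∣ S.D := by
    intro h
    have h2 : (p : ℤ) ∣ S.ε * e := Int.modEq_zero_iff_dvd.1
      ((Int.modEq_zero_iff_dvd.2 (Int.natCast_dvd_natCast.2 h)).symm.trans S.congr_Y).symm
    have h3 : p ∣ e := by
      rcases S.sign with hs | hs <;> rw [hs] at h2 <;> simpa [Int.natCast_dvd_natCast] using h2
    have := Nat.le_of_dvd (by omega) h3
    have := Nat.le_of_dvd (by have := hp.two_le; omega) hep
    omega
  have hD3 := degree_ge_three hG θ₀ (hne θ₀ (hYne θ₀ hθ₀)) (hdeg θ₀)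
  have hdvd := CfsgLib.Char.degree_dvd_card θ₀ (hdeg θ₀)
  have hlt := sq_degree_lt θ₀ (hYne θ₀ hθ₀)
  rw [S.degree_Y θ₀ hθ₀] at hD3 hdvd hlt
  rw [hg] at hdvd
  rw [habs]
  refine ⟨⟨⟨hD3, Nat.mod_eq_zero_of_dvd
    (((hp.coprime_iff_not_dvd.2 hpD).symm).dvd_of_dvd_mul_right hdvd)⟩, hlt⟩, ?_⟩
  refine (S.congr_Y.mul_left S.ε).trans ?_
  rcases S.sign with hs | hs <;> rw [hs] <;> norm_num

set_option maxHeartbeats 1000000 in
/-- The values at an involution form an admissible assignment, linked to the characters. -/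
theorem Shape.exists_assign_linked [Fintype G] (hG : ¬ IsMulCommutative G) {p m e B : ℕ} [Fact p.Prime]
    {P : Sylow p G} (S : Shape p e (P : Subgroup G)) (hodd : p ≠ 2) (hP : Nat.card (P : Subgroup G) = p)
    (hg : Nat.card G = m * p) (hm : ¬ p ∣ m) (hep : e ∣ p - 1) (he : 2 ≤ e)
    (hC : Nat.card (Subgroup.centralizer ((P : Subgroup G) : Set G)) = p)
    (hB : Nat.card G ≤ B * B) {x : G} (hx : x ∈ (P : Subgroup G)) (hx1 : x ≠ 1) {u : G}
    (huo : orderOf u = 2) :
    ∃ l ∈ degLists (Nat.card G) m p e B,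
      (∀ d ∈ l, ∃ χ ∈ S.X, d = S.εX χ * (charDegree (χ : G → ℂ) : ℤ)) ∧ 1 + l.sum = S.ε * (S.D : ℤ) ∧
      2 ∣ Nat.card (Subgroup.centralizer ({u} : Set G)) ∧ Nat.card (Subgroup.centralizer ({u} : Set G)) ∣ m ∧
      ∃ a ∈ assigns (Nat.card (Subgroup.centralizer ({u} : Set G))) l,
        goodAssignK (Nat.card G) p e (CfsgLib.Char.classConst u u x)
          (Nat.card (Subgroup.centralizer ({u} : Set G))) a = true := by
  classical
  have hp : p.Prime := Fact.out
  haveI := Fintype.ofFinite (IrrCharacter G)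
  have hdeg : ∀ χ : IrrCharacter G, (χ : G → ℂ) 1 = (charDegree (χ : G → ℂ) : ℂ) :=
    fun χ => (charDegree_eq χ).1
  have h1o : ¬ p ∣ orderOf (1 : G) := by rw [orderOf_one]; exact hp.not_dvd_one
  have hcentP : ∀ a : G, Commute x a → a ∈ (P : Subgroup G) := fun a ha =>
    mem_of_commute_gen hP hC hx hx1 ha
  have hu2 : u * u = 1 := by rw [← sq, ← huo, pow_orderOf_eq_one]
  -- the centralizer of `u`
  set c := Nat.card (Subgroup.centralizer ({u} : Set G)) with hc
  have hc2 : 2 ∣ c := by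
    rw [← huo]
    exact Subgroup.orderOf_dvd_natCard _ (Subgroup.mem_centralizer_singleton_iff.2 rfl)
  have hpc : ¬ p ∣ c := by
    intro h
    obtain ⟨y', hy'⟩ := exists_prime_orderOf_dvd_card' p h
    have hyo : orderOf (y' : G) = p := by rw [Subgroup.orderOf_coe, hy']
    obtain ⟨Q, hQ⟩ := (IsPGroup.of_card (p := p) (n := 1) (G := Subgroup.zpowers (y' : G))
      (by rw [Nat.card_zpowers, hyo, pow_one])).exists_le_sylow
    obtain ⟨g, hg'⟩ := MulAction.exists_smul_eq G Q P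
    have hymem : g * (y' : G) * g⁻¹ ∈ (P : Subgroup G) := by
      rw [← hg', Sylow.coe_subgroup_smul]
      exact ⟨_, hQ (Subgroup.mem_zpowers _), rfl⟩
    have hygen : Subgroup.zpowers (g * (y' : G) * g⁻¹) = (P : Subgroup G) :=
      Subgroup.eq_of_le_of_card_ge (Subgroup.zpowers_le.2 hymem) (by
        rw [hP, Nat.card_zpowers]
        exact le_of_eq (hyo.symm.trans ((MulAut.conj g).orderOf_eq (y' : G)).symm))
    have hcom : Commute (g * (y' : G) * g⁻¹) (g * u * g⁻¹) := by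
      have h1 : Commute (y' : G) u := Subgroup.mem_centralizer_singleton_iff.1 y'.2
      exact h1.map (MulAut.conj g).toMonoidHom
    have hmem : g * u * g⁻¹ ∈ (P : Subgroup G) := by
      refine hcentP _ ?_
      obtain ⟨j, hj⟩ : x ∈ Subgroup.zpowers (g * (y' : G) * g⁻¹) := hygen.symm ▸ hx
      rw [← hj]
      exact hcom.zpow_left j
    have h1 := Subgroup.orderOf_dvd_natCard _ hmem
    rw [hP, show orderOf (g * u * g⁻¹) = 2 from ((MulAut.conj g).orderOf_eq u).trans huo] at h1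
    exact hodd ((Nat.prime_dvd_prime_iff_eq Nat.prime_two hp).1 h1).symm
  have hcm : c ∣ m := by
    have h : c ∣ m * p := hg ▸ Subgroup.card_subgroup_dvd_card _
    exact ((hp.coprime_iff_not_dvd.2 hpc).symm).dvd_of_dvd_mul_right h
  -- the characters
  have hne : ∀ χ : IrrCharacter G, χ ≠ oneChar G → (χ : G → ℂ) ≠ fun _ => 1 := fun χ h h' =>
    h (Subtype.ext h')
  have hXne : ∀ χ ∈ S.X, χ ≠ oneChar G := fun χ h h' => S.one_notMem_X (h' ▸ h)
  have hYne : ∀ θ ∈ S.Y, θ ≠ oneChar G := fun θ h h' => S.one_notMem_Y (h' ▸ h)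
  choose r hr hrlt hr4 using fun χ : {χ : IrrCharacter G // χ ≠ oneChar G} =>
    involution_value hG χ.1 (hne _ χ.2) huo
  let sv : IrrCharacter G → ℤ := fun χ => if h : χ ≠ oneChar G then r ⟨χ, h⟩ else 1
  have hsv : ∀ χ : IrrCharacter G, χ ≠ oneChar G → (χ : G → ℂ) u = sv χ ∧
      (sv χ).natAbs < charDegree (χ : G → ℂ) ∧ (sv χ - (charDegree (χ : G → ℂ) : ℤ)) % 4 = 0 := by
    intro χ h
    simp only [sv, dif_pos h]
    exact ⟨hr ⟨χ, h⟩, hrlt ⟨χ, h⟩, hr4 ⟨χ, h⟩⟩
  obtain ⟨θ₀, hθ₀⟩ : S.Y.Nonempty := Finset.card_pos.1 (by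
    rw [S.card_Y]; exact Nat.div_pos (Nat.le_of_dvd (by have := hp.two_le; omega) hep) (by omega))
  obtain ⟨hθ₀u, hθ₀lt, hθ₀4⟩ := hsv θ₀ (hYne θ₀ hθ₀)
  have hur : ¬ p ∣ orderOf u := by
    rw [huo]; exact fun h => hodd ((Nat.prime_dvd_prime_iff_eq hp Nat.prime_two).1 h)
  -- the degree list
  let f : IrrCharacter G → ℤ := fun χ => S.εX χ * (charDegree (χ : G → ℂ) : ℤ)
  let v : IrrCharacter G → ℤ := fun χ => S.εX χ * sv χ
  have hrel1 : S.ε * (S.D : ℤ) = 1 + ∑ χ ∈ S.X, f χ := by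
    have h := S.relation θ₀ hθ₀ 1 h1o
    simp only [hdeg, S.degree_Y θ₀ hθ₀] at h
    simp only [f]
    exact_mod_cast h
  have hrelu : S.ε * sv θ₀ = 1 + ∑ χ ∈ S.X, v χ := by
    have h := S.relation θ₀ hθ₀ u hur
    rw [hθ₀u, Finset.sum_congr rfl fun χ hχ => by rw [(hsv χ (hXne χ hχ)).1]] at h
    simp only [v]
    exact_mod_cast h
  have hcol : 1 + ∑ χ ∈ S.X, v χ * v χ + ((((p - 1) / e : ℕ) : ℤ)) * ((S.ε * sv θ₀) * (S.ε * sv θ₀)) ≤ (c : ℤ) := by
    have h := CfsgLib.Char.sum_irr_mul_conj u u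
    rw [if_pos (IsConj.refl u)] at h
    have hre := congrArg Complex.re h
    rw [Complex.natCast_re, Complex.re_sum] at hre
    have hsub := Finset.sum_le_sum_of_subset_of_nonneg
      (Finset.subset_univ ({oneChar G} ∪ S.X ∪ S.Y))
      (f := fun χ : IrrCharacter G => ((χ : G → ℂ) u * conj ((χ : G → ℂ) u)).re)
      (fun χ _ _ => by rw [Complex.mul_conj]; exact Complex.normSq_nonneg _)
    rw [hre, Finset.sum_union (Finset.disjoint_union_left.2
      ⟨Finset.disjoint_singleton_left.2 S.one_notMem_Y, S.disjoint⟩), Finset.sum_union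
      (Finset.disjoint_singleton_left.2 S.one_notMem_X), Finset.sum_singleton] at hsub
    have hX' : ∀ χ ∈ S.X, ((χ : G → ℂ) u * conj ((χ : G → ℂ) u)).re = ((v χ * v χ : ℤ) : ℝ) := by
      intro χ hχ
      rw [(hsv χ (hXne χ hχ)).1]
      simp only [v]
      rcases S.sign_X χ hχ with hs | hs <;> simp [hs]
    have hY' : ∀ θ ∈ S.Y, ((θ : G → ℂ) u * conj ((θ : G → ℂ) u)).re =
        (((S.ε * sv θ₀) * (S.ε * sv θ₀) : ℤ) : ℝ) := by
      intro θ hθ
      rw [S.regular_Y θ hθ θ₀ hθ₀ u hur, hθ₀u]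
      rcases S.sign with hs | hs <;> simp [hs]
    rw [Finset.sum_congr rfl hX', Finset.sum_congr rfl hY', Finset.sum_const, S.card_Y] at hsub
    simp only [nsmul_eq_mul, oneChar, ← hc] at hsub
    generalize (p - 1) / e = t at hsub ⊢
    generalize c = c' at hsub ⊢
    have h2 : ((1 + ∑ χ ∈ S.X, v χ * v χ + (t : ℤ) * ((S.ε * sv θ₀) * (S.ε * sv θ₀)) : ℤ) : ℝ) ≤ ((c' : ℤ) : ℝ) := by
      push_cast at hsub ⊢
      simpa using hsub
    exact_mod_cast h2
  have hf0 : ∀ χ ∈ S.X, f χ ≠ 0 := fun χ hχ => by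
    have := (charDegree_eq χ).2
    simp only [f]
    rcases S.sign_X χ hχ with hs | hs <;> simp [hs, this]
  have hmem : ∀ χ ∈ S.X, f χ ∈ cands (Nat.card G) m p 1 B := fun χ hχ => S.mem_cands_one hG hg hB hχ
  obtain ⟨X', hX'perm, hX'mem⟩ := exists_combo f _ S.X.toList
    (fun χ hχ => hmem χ (Finset.mem_toList.1 hχ))
  rw [Finset.length_toList, show S.X.card = e - 1 by have := S.card_X; omega] at hX'mem
  have hmemX : ∀ χ ∈ X', χ ∈ S.X := fun χ hχ => Finset.mem_toList.1 (hX'perm.mem_iff.1 hχ)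
  have hsumX : ∀ g : IrrCharacter G → ℤ, (X'.map g).sum = ∑ χ ∈ S.X, g χ := fun g => by
    rw [(hX'perm.map g).sum_eq, Finset.sum_map_toList]
  refine ⟨X'.map f, ?_, fun d hd => ?_, by rw [hsumX, hrel1], hc2, hcm, ?_⟩
  · have hh := S.okAbs_Y hG hg hep he hθ₀
    simp only [degLists, List.mem_filter, hX'mem, true_and, Bool.and_eq_true, beq_iff_eq, hsumX, ← hrel1]
    exact hh
  · obtain ⟨χ, hχ, rfl⟩ := List.mem_map.1 hd
    exact ⟨χ, hmemX χ hχ, rfl⟩
  refine ⟨X'.map fun χ => (f χ, v χ), mem_assigns f v c X' fun χ hχ => ?_, ?_⟩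
  · obtain ⟨-, hlt, h4⟩ := hsv χ (hXne χ (hmemX χ hχ))
    refine mem_valsFor ?_ ?_ ?_
    · simp only [f, v]
      rcases S.sign_X χ (hmemX χ hχ) with hs | hs <;> simpa [hs] using hlt
    · have h1 : v χ * v χ ≤ ∑ ψ ∈ S.X, v ψ * v ψ :=
        Finset.single_le_sum (f := fun ψ => v ψ * v ψ) (fun ψ _ => mul_self_nonneg _) (hmemX χ hχ)
      have h2 : 0 ≤ ((((p - 1) / e : ℕ) : ℤ)) * ((S.ε * sv θ₀) * (S.ε * sv θ₀)) :=
        mul_nonneg (Int.natCast_nonneg _) (mul_self_nonneg _)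
      linarith
    · simp only [f, v]
      rcases S.sign_X χ (hmemX χ hχ) with hs | hs <;> rw [hs] <;> omega
  have hmapf : (X'.map fun χ => (f χ, v χ)).map Prod.fst = X'.map f := by simp [List.map_map, Function.comp_def]
  have hmapv : (X'.map fun χ => (f χ, v χ)).map Prod.snd = X'.map v := by simp [List.map_map, Function.comp_def]
  have hmapq : ((X'.map fun χ => (f χ, v χ)).map fun q => q.2 * q.2) = X'.map fun χ => v χ * v χ := by
    simp [List.map_map, Function.comp_def]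
  simp only [goodAssignK, hmapf, hmapv, hmapq, hsumX, ← hrel1, ← hrelu, Bool.and_eq_true,
    decide_eq_true_eq, beq_iff_eq]
  refine ⟨⟨⟨?_, ?_⟩, hcol⟩, ?_⟩
  · rw [S.degree_Y θ₀ hθ₀] at hθ₀lt
    rcases S.sign with hs | hs <;> rw [hs] <;> simpa using hθ₀lt
  · rw [S.degree_Y θ₀ hθ₀] at hθ₀4
    rcases S.sign with hs | hs <;> rw [hs] <;> omega
  -- the class multiplication formula
  obtain ⟨hden, hnum⟩ := fracSum_spec f v X' fun χ hχ => hf0 χ (hmemX χ hχ)
  have hxr : ¬ p ∣ orderOf (1 : G) := h1o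
  have hsum : ∑ᶠ ψ : IrrCharacter G,
      (ψ : G → ℂ) u * (ψ : G → ℂ) u * conj ((ψ : G → ℂ) x) / (ψ : G → ℂ) 1 =
        1 + ∑ χ ∈ S.X, (v χ : ℂ) ^ 2 / (f χ : ℂ) -
          ((S.ε * sv θ₀ : ℤ) : ℂ) ^ 2 / ((S.ε * (S.D : ℤ) : ℤ) : ℂ) := by
    rw [finsum_eq_sum_of_fintype, ← Finset.sum_subset (Finset.subset_univ ({oneChar G} ∪ S.X ∪ S.Y))]
    · rw [Finset.sum_union (Finset.disjoint_union_left.2
        ⟨Finset.disjoint_singleton_left.2 S.one_notMem_Y, S.disjoint⟩), Finset.sum_union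
        (Finset.disjoint_singleton_left.2 S.one_notMem_X), Finset.sum_singleton, sub_eq_add_neg]
      refine congrArg₂ (· + ·) (congrArg₂ (· + ·) (by simp [oneChar]) (Finset.sum_congr rfl fun χ hχ => ?_)) ?_
      · have hxc := S.value_X χ hχ x hx hx1 1 (one_mem _) h1o
        rw [mul_one] at hxc
        rw [(hsv χ (hXne χ hχ)).1, hxc, hdeg, map_intCast]
        simp only [f, v]
        rcases S.sign_X χ hχ with hs | hs <;> simp [hs] <;> ring
      · have hv := S.value_Y x hx hx1 1 (one_mem _) h1o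
        simp only [mul_one] at hv
        calc ∑ θ ∈ S.Y, (θ : G → ℂ) u * (θ : G → ℂ) u * conj ((θ : G → ℂ) x) / (θ : G → ℂ) 1
            = ∑ θ ∈ S.Y, (sv θ₀ : ℂ) ^ 2 / (S.D : ℂ) * conj ((θ : G → ℂ) x) := by
              refine Finset.sum_congr rfl fun θ hθ => ?_
              rw [S.regular_Y θ hθ θ₀ hθ₀ u hur, hθ₀u, hdeg, S.degree_Y θ hθ]
              ring
          _ = _ := by
              rw [← Finset.mul_sum, ← map_sum, hv, map_neg, map_intCast]
              rcases S.sign with hs | hs <;> simp [hs] <;> ring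
    · intro ψ _ hψ
      simp only [Finset.mem_union, Finset.mem_singleton, not_or] at hψ
      rw [S.outside hC ψ hψ.1.1 hψ.1.2 hψ.2 x hx hx1, map_zero, mul_zero, zero_div]
  have hform := CfsgLib.Char.classConst_formula u u x
  rw [hsum, CfsgLib.Char.card_isConj] at hform
  set F : ℂ := 1 + ∑ χ ∈ S.X, (v χ : ℂ) ^ 2 / (f χ : ℂ) -
          ((S.ε * sv θ₀ : ℤ) : ℂ) ^ 2 / ((S.ε * (S.D : ℤ) : ℤ) : ℂ) with hF
  have hi : ((Subgroup.centralizer ({u} : Set G)).index : ℂ) * (c : ℂ) = (Nat.card G : ℂ) := by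
    rw [← Nat.cast_mul, hc, Subgroup.index_mul_card]
  have hmain : (CfsgLib.Char.classConst u u x : ℂ) * (c : ℂ) * (c : ℂ) = (Nat.card G : ℂ) * F := by
    rw [hform, ← hi]
    have hi0 : ((Subgroup.centralizer ({u} : Set G)).index : ℂ) ≠ 0 :=
      Nat.cast_ne_zero.2 Subgroup.index_ne_zero_of_finite
    have hc0 : (c : ℂ) ≠ 0 := Nat.cast_ne_zero.2 Nat.card_pos.ne'
    field_simp
  have hD0 : ((S.ε * (S.D : ℤ) : ℤ) : ℂ) ≠ 0 := by
    have : S.D ≠ 0 := by rw [← S.degree_Y θ₀ hθ₀]; exact (charDegree_eq θ₀).2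
    rcases S.sign with hs | hs <;> simp [hs, this]
  have hlist : (X'.map fun χ => (v χ : ℂ) ^ 2 / (f χ : ℂ)).sum = ∑ χ ∈ S.X, (v χ : ℂ) ^ 2 / (f χ : ℂ) := by
    rw [(hX'perm.map _).sum_eq, Finset.sum_map_toList]
  rw [hlist] at hnum
  set num : ℤ := (fracSum (X'.map fun χ => (f χ, v χ))).1
  set den : ℤ := (fracSum (X'.map fun χ => (f χ, v χ))).2
  suffices h : (((Nat.card G : ℤ) * (num * (S.ε * (S.D : ℤ)) - S.ε * sv θ₀ * (S.ε * sv θ₀) * den) : ℤ) : ℂ) =
      (((CfsgLib.Char.classConst u u x : ℤ) * (c : ℤ) * (c : ℤ) * (den * (S.ε * (S.D : ℤ))) : ℤ) : ℂ) by exact_mod_cast h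
  calc (((Nat.card G : ℤ) * (num * (S.ε * (S.D : ℤ)) - S.ε * sv θ₀ * (S.ε * sv θ₀) * den) : ℤ) : ℂ)
      = (Nat.card G : ℂ) * ((num : ℂ) * ((S.ε * (S.D : ℤ) : ℤ) : ℂ) -
          ((S.ε * sv θ₀ : ℤ) : ℂ) ^ 2 * (den : ℂ)) := by push_cast; ring
    _ = (Nat.card G : ℂ) * F * ((den : ℂ) * ((S.ε * (S.D : ℤ) : ℤ) : ℂ)) := by
        rw [hnum, hF]
        field_simp
    _ = _ := by rw [← hmain]; push_cast; ring

/-- The values at an involution form an admissible assignment. -/
theorem Shape.exists_assign [Fintype G] (hG : ¬ IsMulCommutative G) {p m e B : ℕ} [Fact p.Prime]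
    {P : Sylow p G} (S : Shape p e (P : Subgroup G)) (hodd : p ≠ 2) (hP : Nat.card (P : Subgroup G) = p)
    (hg : Nat.card G = m * p) (hm : ¬ p ∣ m) (hep : e ∣ p - 1) (he : 2 ≤ e)
    (hC : Nat.card (Subgroup.centralizer ((P : Subgroup G) : Set G)) = p)
    (hB : Nat.card G ≤ B * B) {x : G} (hx : x ∈ (P : Subgroup G)) (hx1 : x ≠ 1) {u : G}
    (huo : orderOf u = 2) :
    ∃ l ∈ degLists (Nat.card G) m p e B,
      2 ∣ Nat.card (Subgroup.centralizer ({u} : Set G)) ∧ Nat.card (Subgroup.centralizer ({u} : Set G)) ∣ m ∧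
      ∃ a ∈ assigns (Nat.card (Subgroup.centralizer ({u} : Set G))) l,
        goodAssignK (Nat.card G) p e (CfsgLib.Char.classConst u u x)
          (Nat.card (Subgroup.centralizer ({u} : Set G))) a = true := by
  obtain ⟨l, hl, -, -, h⟩ := S.exists_assign_linked hG hodd hP hg hm hep he hC hB hx hx1 huo
  exact ⟨l, hl, h⟩

/-- The involution test is passed. -/
theorem Shape.invPossible_eq [Fintype G] (hG : ¬ IsMulCommutative G) {p m e B : ℕ} [Fact p.Prime]
    {P : Sylow p G} (S : Shape p e (P : Subgroup G)) (hodd : p ≠ 2) (hP : Nat.card (P : Subgroup G) = p)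
    (hg : Nat.card G = m * p) (hm : ¬ p ∣ m) (hep : e ∣ p - 1) (he : 2 ≤ e) (heven : Even e)
    (hC : Nat.card (Subgroup.centralizer ((P : Subgroup G) : Set G)) = p)
    (hN : Nat.card (Subgroup.normalizer ((P : Subgroup G) : Set G)) = e * p)
    (hB : Nat.card G ≤ B * B) : invPossible (Nat.card G) m p e B = true := by
  classical
  have hp : p.Prime := Fact.out
  obtain ⟨N, hNdef⟩ : ∃ N, N = Subgroup.normalizer ((P : Subgroup G) : Set G) := ⟨_, rfl⟩
  obtain ⟨x', hx'⟩ := exists_prime_orderOf_dvd_card' (G := (P : Subgroup G)) p (by rw [hP])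
  obtain ⟨x, hx, hxo⟩ : ∃ x ∈ (P : Subgroup G), orderOf x = p :=
    ⟨x', x'.2, by rw [Subgroup.orderOf_coe, hx']⟩
  have hx1 : x ≠ 1 := fun h => by rw [h, orderOf_one] at hxo; exact hp.one_lt.ne hxo
  have hcentP : ∀ a : G, Commute x a → a ∈ (P : Subgroup G) := fun a ha =>
    mem_of_commute_gen hP hC hx hx1 ha
  have hgen : Subgroup.zpowers x = (P : Subgroup G) := CfsgLib.Perm.Small.zpowers_eq_of_mem hP hx hx1
  -- an inverting involution
  obtain ⟨u', hu'⟩ := exists_prime_orderOf_dvd_card' (G := N) 2 (by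
    rw [hNdef, hN]; exact dvd_mul_of_dvd_left heven.two_dvd p)
  obtain ⟨u, huN, huo⟩ : ∃ u ∈ N, orderOf u = 2 := ⟨u', u'.2, by rw [Subgroup.orderOf_coe, hu']⟩
  have hu2 : u * u = 1 := by rw [← sq, ← huo, pow_orderOf_eq_one]
  have huinv : u⁻¹ = u := inv_eq_of_mul_eq_one_right hu2
  have huP : u ∉ (P : Subgroup G) := fun h => by
    have h1 := Subgroup.orderOf_dvd_natCard _ h
    rw [hP, huo] at h1
    exact hodd ((Nat.prime_dvd_prime_iff_eq Nat.prime_two hp).1 h1).symm
  have hconjP : ∀ w ∈ (P : Subgroup G), u * w * u ∈ (P : Subgroup G) := fun w hw => by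
    have h := ((Subgroup.mem_normalizer_iff.1 (hNdef ▸ huN)) w).1 hw
    rwa [huinv] at h
  obtain ⟨k, hk⟩ : u * x * u ∈ Subgroup.zpowers x := hgen.symm ▸ hconjP x hx
  replace hk : x ^ k = u * x * u := hk
  have hpk : ((k : ZMod p)) * k = 1 := by
    have h1 : x ^ (k * k) = x ^ (1 : ℤ) := by
      rw [zpow_one, zpow_mul, hk]
      have h2 : (u * x * u) ^ k = u * x ^ k * u := by
        conv_lhs => rw [show u * x * u = u * x * u⁻¹ by rw [huinv]]
        rw [conj_zpow, huinv]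
      rw [h2, hk]
      calc u * (u * x * u) * u = (u * u) * x * (u * u) := by group
        _ = x := by rw [hu2]; group
    rw [zpow_eq_zpow_iff_modEq, hxo, ← ZMod.intCast_eq_intCast_iff] at h1
    push_cast at h1
    exact h1
  have hinv : u * x * u = x⁻¹ := by
    rcases (mul_self_eq_one_iff.1 hpk) with hk1 | hk1
    · exfalso
      refine huP (hcentP u ?_)
      have h1 : x ^ k = x ^ (1 : ℤ) := zpow_eq_zpow_iff_modEq.2 (by
        rw [hxo, ← ZMod.intCast_eq_intCast_iff]; push_cast; exact hk1)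
      rw [hk, zpow_one] at h1
      show x * u = u * x
      nth_rewrite 1 [← h1]
      rw [mul_assoc, hu2, mul_one]
    · rw [← hk, ← zpow_neg_one]
      exact zpow_eq_zpow_iff_modEq.2 (by rw [hxo, ← ZMod.intCast_eq_intCast_iff]; push_cast; exact hk1)
  obtain ⟨l, hl, hc2, hcm, a, ha, hgood⟩ := S.exists_assign hG hodd hP hg hm hep he hC hB hx hx1 huo
  rw [classConst_eq_of_inverting hodd hP hC hx hx1 hu2 hinv] at hgood
  refine List.any_eq_true.2 ⟨l, hl, List.any_eq_true.2 ⟨_, List.mem_range.2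
    (Nat.lt_succ_of_le (Nat.le_of_dvd (Nat.pos_of_ne_zero fun h => hm (h ▸ dvd_zero p)) hcm)), ?_⟩⟩
  simp only [Bool.and_eq_true, beq_iff_eq, Nat.mod_eq_zero_of_dvd hc2, Nat.mod_eq_zero_of_dvd hcm,
    true_and]
  exact List.any_eq_true.2 ⟨a, ha, hgood⟩

/-- An involution with centralizer order divisible by `t` has `p` pairs or none. -/
theorem Shape.centralPossible_eq [Fintype G] (hG : ¬ IsMulCommutative G) {p m e B t : ℕ} [Fact p.Prime]
    {P : Sylow p G} (S : Shape p e (P : Subgroup G)) (hodd : p ≠ 2) (hP : Nat.card (P : Subgroup G) = p)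
    (hg : Nat.card G = m * p) (hm : ¬ p ∣ m) (hep : e ∣ p - 1) (he : 2 ≤ e)
    (hC : Nat.card (Subgroup.centralizer ((P : Subgroup G) : Set G)) = p)
    (hB : Nat.card G ≤ B * B) (h2 : 2 ∣ Nat.card G) (ht : ∃ a, t = 2 ^ a) (htm : t ∣ Nat.card G) :
    centralPossible (Nat.card G) m p e B t = true := by
  classical
  have hp : p.Prime := Fact.out
  haveI : Fact (Nat.Prime 2) := ⟨Nat.prime_two⟩
  obtain ⟨x', hx'⟩ := exists_prime_orderOf_dvd_card' (G := (P : Subgroup G)) p (by rw [hP])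
  obtain ⟨x, hx, hxo⟩ : ∃ x ∈ (P : Subgroup G), orderOf x = p :=
    ⟨x', x'.2, by rw [Subgroup.orderOf_coe, hx']⟩
  have hx1 : x ≠ 1 := fun h => by rw [h, orderOf_one] at hxo; exact hp.one_lt.ne hxo
  -- a central involution of a Sylow two-subgroup
  obtain ⟨T⟩ : Nonempty (Sylow 2 G) := inferInstance
  haveI : Nontrivial (T : Subgroup G) := (Subgroup.nontrivial_iff_ne_bot _).2 (T.ne_bot_of_dvd_card h2)
  haveI : Nontrivial (Subgroup.center (T : Subgroup G)) := T.2.center_nontrivial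
  obtain ⟨z', hz'⟩ := exists_prime_orderOf_dvd_card' (G := Subgroup.center (T : Subgroup G)) 2 (by
    obtain ⟨k, hk⟩ := (T.2.to_subgroup (Subgroup.center (T : Subgroup G))).exists_card_eq
    rcases k with _ | k
    · rw [pow_zero] at hk
      exact absurd hk Finite.one_lt_card.ne'
    · rw [hk, pow_succ]; exact dvd_mul_left 2 _)
  obtain ⟨u, hudef⟩ : ∃ u : G, u = ((z' : (T : Subgroup G)) : G) := ⟨_, rfl⟩
  have huo : orderOf u = 2 := by rw [hudef, Subgroup.orderOf_coe, Subgroup.orderOf_coe, hz']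
  have hu2 : u * u = 1 := by rw [← sq, ← huo, pow_orderOf_eq_one]
  have htc : t ∣ Nat.card (Subgroup.centralizer ({u} : Set G)) := by
    obtain ⟨a, rfl⟩ := ht
    have hT : 2 ^ a ∣ Nat.card (T : Subgroup G) := T.pow_dvd_card_of_pow_dvd_card htm
    refine hT.trans (Subgroup.card_dvd_of_le fun w hw => ?_)
    rw [Subgroup.mem_centralizer_singleton_iff, hudef]
    exact congrArg Subtype.val (Subgroup.mem_center_iff.1 z'.2 ⟨w, hw⟩)
  have hcases : CfsgLib.Char.classConst u u x = 0 ∨ CfsgLib.Char.classConst u u x = p := by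
    rcases Nat.eq_zero_or_pos (CfsgLib.Char.classConst u u x) with h | h
    · exact Or.inl h
    refine Or.inr ?_
    obtain ⟨⟨a, b⟩, ha, hb, hab⟩ := (Nat.card_pos_iff.1 h).1.some
    simp only at ha hb hab
    have hsq : ∀ a : G, IsConj u a → a * a = 1 := fun a ha => by
      obtain ⟨g, rfl⟩ := isConj_iff.1 ha
      calc g * u * g⁻¹ * (g * u * g⁻¹) = g * (u * u) * g⁻¹ := by group
        _ = 1 := by rw [hu2]; group
    have hbx : b = a * x := by rw [← hab, ← mul_assoc, hsq a ha, one_mul]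
    have hinv : a * x * a = x⁻¹ := by
      refine eq_inv_of_mul_eq_one_left ?_
      calc a * x * a * x = (a * x) * (a * x) := by group
        _ = 1 := by rw [← hbx]; exact hsq b hb
    rw [← classConst_eq_of_inverting hodd hP hC hx hx1 (hsq a ha) hinv]
    exact Nat.card_congr (Equiv.subtypeEquivRight fun q =>
      ⟨fun h => ⟨ha.symm.trans h.1, ha.symm.trans h.2.1, h.2.2⟩,
        fun h => ⟨ha.trans h.1, ha.trans h.2.1, h.2.2⟩⟩)
  obtain ⟨l, hl, hc2, hcm, a, ha, hgood⟩ := S.exists_assign hG hodd hP hg hm hep he hC hB hx hx1 huo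
  refine List.any_eq_true.2 ⟨l, hl, List.any_eq_true.2 ⟨_, List.mem_range.2
    (Nat.lt_succ_of_le (Nat.le_of_dvd (Nat.pos_of_ne_zero fun h => hm (h ▸ dvd_zero p)) hcm)), ?_⟩⟩
  simp only [Bool.and_eq_true, beq_iff_eq, Nat.mod_eq_zero_of_dvd hc2, Nat.mod_eq_zero_of_dvd hcm,
    Nat.mod_eq_zero_of_dvd htc, true_and]
  refine List.any_eq_true.2 ⟨a, ha, ?_⟩
  rw [Bool.or_eq_true]
  rcases hcases with h | h <;> rw [h] at hgood
  · exact Or.inr hgood
  · exact Or.inl hgood

end CfsgLib.Perm.PrimeBlock
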