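import Mathlib
import Cfsg.Agent.Lib.Perm.Small.PrimeCriterion

/-!
# A finite test refuting orders of simple groups
-/

set_option autoImplicit false

namespace CfsgLib.Perm.PrimeBlock

/-- All admissible Sylow data are refuted, except those listed in `skip`. -/
def refutedAll (g m p B : ℕ) (skip : List (ℕ × ℕ)) : Bool :=
  (List.range (m + 1)).all fun n =>
    !(decide (1 < n) && (n % p == 1) && (m % n == 0) && (decide (12 ≤ n) || (n.factorial % (2 * g) == 0))) ||
      (List.range p).all fun e =>
        !(decide (2 ≤ e) && ((p - 1) % e == 0) && ((m / n) % e == 0)) ||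
          skip.contains (n, e) || !possible g m p e (m / n / e) B

variable {G : Type*} [Group G] [Finite G] [IsSimpleGroup G]

theorem mem_skip_of_refutedAll (g p m B : ℕ) [Fact p.Prime] (skip : List (ℕ × ℕ))
    (hcard : Nat.card G = g) (hnp : ¬ g.Prime) (hodd : p ≠ 2) (hg : g = m * p) (hm : ¬ p ∣ m)
    (hB : g ≤ B * B) (h : refutedAll g m p B skip = true) :
    ∃ n e c : ℕ, n * (e * c) = m ∧ (n, e) ∈ skip := by
  have hG : ¬ IsMulCommutative G := fun hc => by
    haveI := hc
    letI : CommGroup G :=
      { (inferInstance : Group G) with mul_comm := fun a b => IsMulCommutative.is_comm.comm a b }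
    exact hnp (hcard ▸ (IsSimpleGroup.prime_card (α := G)))
  obtain ⟨n, e, c, hn, hn1, hn2, hfac, he2, hep, hposs⟩ :=
    exists_possible hG g p m B hodd hcard hg hm hB
  have hm0 : m ≠ 0 := fun h => hm (h ▸ dvd_zero p)
  have hnd : n ∣ m := ⟨e * c, hn.symm⟩
  have hmn : m / n = e * c := by rw [← hn, Nat.mul_div_cancel_left _ (by omega)]
  have hepos : e < p := by
    have := Nat.le_of_dvd (by have := (Fact.out : p.Prime).two_le; omega) hep
    have := (Fact.out : p.Prime).two_le
    omega
  simp only [refutedAll, List.all_eq_true, List.mem_range, Bool.or_eq_true, Bool.and_eq_true,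
    Bool.not_eq_true', Bool.and_eq_false_iff, decide_eq_true_eq, beq_iff_eq,
    List.contains_iff_mem] at h
  rcases h n (Nat.lt_succ_of_le (Nat.le_of_dvd (Nat.pos_of_ne_zero hm0) hnd)) with hcase | hcase
  · exfalso
    rcases hcase with ((hc | hc) | hc) | hc
    · simp [hn2] at hc
    · simp [hn1] at hc
    · simp [Nat.mod_eq_zero_of_dvd hnd] at hc
    · rw [Bool.or_eq_false_iff] at hc
      simp [Nat.mod_eq_zero_of_dvd hfac] at hc
  · rcases hcase e hepos with (hc | hc) | hc
    · exfalso
      rcases hc with (hc | hc) | hc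
      · simp [he2] at hc
      · simp [Nat.mod_eq_zero_of_dvd hep] at hc
      · simp [hmn] at hc
    · exact ⟨n, e, c, hn, hc⟩
    · rw [hmn, Nat.mul_div_cancel_left _ (by omega : 0 < e), hposs] at hc
      exact absurd hc (by decide)

theorem card_ne_of_refutedAll (g p m B : ℕ) [Fact p.Prime] (hnp : ¬ g.Prime) (hodd : p ≠ 2)
    (hg : g = m * p) (hm : ¬ p ∣ m) (hB : g ≤ B * B) (h : refutedAll g m p B [] = true) :
    Nat.card G ≠ g := fun hcard => by
  obtain ⟨n, e, c, -, hmem⟩ := mem_skip_of_refutedAll g p m B [] hcard hnp hodd hg hm hB h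
  simp at hmem

end CfsgLib.Perm.PrimeBlock
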