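import Mathlib
import Cfsg.Agent.Lib.Perm.Small.InvolutionShape
import Cfsg.Agent.Lib.Perm.Small.PrimeTest

/-!
# The combined order criterion: principal block degrees and the involution test
-/

set_option autoImplicit false

namespace CfsgLib.Perm.PrimeBlock

/-- All admissible parameters are refuted by the two tests, except those in `skip`. -/
def refutedTwo (g m p B t : ℕ) (skip : List (ℕ × ℕ)) : Bool :=
  (List.range (m + 1)).all fun n =>
    !(decide (1 < n) && (n % p == 1) && (m % n == 0) && (decide (12 ≤ n) || (n.factorial % (2 * g) == 0))) ||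
      (List.range p).all fun e =>
        !(decide (2 ≤ e) && ((p - 1) % e == 0) && ((m / n) % e == 0)) ||
          skip.contains (n, e) || !possible g m p e (m / n / e) B ||
            ((m / n / e == 1) && (((e % 2 == 0) && !invPossible g m p e B) || !centralPossible g m p e B t))

variable {G : Type*} [Group G] [Finite G] [IsSimpleGroup G]

theorem mem_skip_of_refutedTwo (g p m B t : ℕ) [Fact p.Prime] (skip : List (ℕ × ℕ))
    (hcard : Nat.card G = g) (hnp : ¬ g.Prime) (hodd : p ≠ 2) (hg : g = m * p) (hm : ¬ p ∣ m)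
    (hB : g ≤ B * B) (h2 : 2 ∣ g) (ht : ∃ a, t = 2 ^ a) (htg : t ∣ g) (h : refutedTwo g m p B t skip = true) :
    ∃ n e c : ℕ, n * (e * c) = m ∧ (n, e) ∈ skip := by
  haveI := Fintype.ofFinite G
  have hG : ¬ IsMulCommutative G := fun hc => by
    haveI := hc
    letI : CommGroup G :=
      { (inferInstance : Group G) with mul_comm := fun a b => IsMulCommutative.is_comm.comm a b }
    exact hnp (hcard ▸ (IsSimpleGroup.prime_card (α := G)))
  subst hcard
  obtain ⟨P, n, e, c, hP, hn, hn1, hn1', hfac, he2, hep, hC, hN, -, ⟨S⟩⟩ :=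
    exists_data hG p m hodd hg hm
  have hposs := S.possible_eq hG hP hg hep he2 hC
    (fun h => hm (hn ▸ h.trans ((dvd_mul_left c e).trans (dvd_mul_left _ n)))) hB
  have hnd : n ∣ m := ⟨e * c, hn.symm⟩
  have hmn : m / n = e * c := by rw [← hn, Nat.mul_div_cancel_left _ (by omega)]
  have hc : m / n / e = c := by rw [hmn, Nat.mul_div_cancel_left _ (by omega : 0 < e)]
  have hepos : e < p := by
    have := Nat.le_of_dvd (by have := (Fact.out : p.Prime).two_le; omega) hep
    have := (Fact.out : p.Prime).two_le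
    omega
  simp only [refutedTwo, List.all_eq_true, List.mem_range, Bool.or_eq_true, Bool.and_eq_true,
    Bool.not_eq_true', Bool.and_eq_false_iff, decide_eq_true_eq, beq_iff_eq,
    List.contains_iff_mem] at h
  rcases h n (Nat.lt_succ_of_le (Nat.le_of_dvd (Nat.pos_of_ne_zero fun h => hm (h ▸ dvd_zero p)) hnd))
    with hcase | hcase
  · exfalso
    rcases hcase with ((hx | hx) | hx) | hx
    · simp [hn1'] at hx
    · simp [hn1] at hx
    · simp [Nat.mod_eq_zero_of_dvd hnd] at hx
    · rw [Bool.or_eq_false_iff, beq_eq_false_iff_ne] at hx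
      exact hx.2 (Nat.mod_eq_zero_of_dvd hfac)
  · rcases hcase e hepos with ((hx | hx) | hx) | hx
    · exfalso
      rcases hx with (hx | hx) | hx
      · simp [he2] at hx
      · simp [Nat.mod_eq_zero_of_dvd hep] at hx
      · simp [hmn] at hx
    · exact ⟨n, e, c, hn, hx⟩
    · rw [hc, hposs] at hx
      exact absurd hx (by decide)
    · rw [hc] at hx
      obtain ⟨rfl, hx⟩ := hx
      rw [mul_one] at hC hN
      rcases hx with ⟨heven, hinv⟩ | hcen
      · rw [S.invPossible_eq hG hodd hP hg hm hep he2 (Nat.even_iff.2 heven) hC hN hB] at hinv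
        exact absurd hinv (by decide)
      · rw [S.centralPossible_eq hG hodd hP hg hm hep he2 hC hB h2 ht htg] at hcen
        exact absurd hcen (by decide)

theorem card_ne_of_refutedTwo (g p m B t : ℕ) [Fact p.Prime] (hnp : ¬ g.Prime) (hodd : p ≠ 2)
    (hg : g = m * p) (hm : ¬ p ∣ m) (hB : g ≤ B * B) (h2 : 2 ∣ g) (ht : ∃ a, t = 2 ^ a) (htg : t ∣ g) (h : refutedTwo g m p B t [] = true) :
    Nat.card G ≠ g := fun hcard => by
  obtain ⟨n, e, c, -, hmem⟩ := mem_skip_of_refutedTwo g p m B t [] hcard hnp hodd hg hm hB h2 ht htg h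
  simp at hmem

end CfsgLib.Perm.PrimeBlock
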