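import Mathlib
import Cfsg.Agent.Lib.Perm.Small.InvolutionCriterion
import Cfsg.Agent.Lib.Perm.Small.PrimeTest
import Cfsg.Agent.Lib.Invol.SmallSimple

/-!
# Further tools refuting orders of simple groups
-/

set_option autoImplicit false
set_option linter.all false

namespace CfsgLib.Perm.PrimeBlock

open Cfsg Module

variable {G : Type*} [Group G] [Finite G] [IsSimpleGroup G]

/-- A proper subgroup of index `n` forces `2|G|` to divide `n!`. -/
theorem index_dvd_factorial_twice (hG : ¬ IsMulCommutative G) {H : Subgroup G} (hH : H ≠ ⊤) :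
    2 * Nat.card G ∣ H.index.factorial := by
  refine CfsgLib.Invol.two_mul_card_dvd_factorial hG (α := G ⧸ H) ?_
  obtain ⟨g, hg⟩ : ∃ g, g ∉ H := by
    by_contra h
    push Not at h
    exact hH ((Subgroup.eq_top_iff' H).2 h)
  exact ⟨g, QuotientGroup.mk 1, fun h => hg (by
    rw [MulAction.Quotient.smul_mk, QuotientGroup.eq] at h
    simpa using h)⟩

/-- The Sylow and block data left open by the test. -/
theorem data_of_refutedTwo [Fintype G] (g p m B t : ℕ) [Fact p.Prime] (skip : List (ℕ × ℕ))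
    (hcard : Nat.card G = g) (hG : ¬ IsMulCommutative G) (hodd : p ≠ 2) (hg : g = m * p) (hm : ¬ p ∣ m)
    (hB : g ≤ B * B) (h2 : 2 ∣ g) (ht : ∃ a, t = 2 ^ a) (htg : t ∣ g) (h : refutedTwo g m p B t skip = true) :
    ∃ (P : Sylow p G) (n e c : ℕ), (n, e) ∈ skip ∧ Nat.card (P : Subgroup G) = p ∧ n * (e * c) = m ∧
      n = Nat.card (Sylow p G) ∧
      Nat.card (Subgroup.centralizer ((P : Subgroup G) : Set G)) = p * c ∧
      Nat.card (Subgroup.normalizer ((P : Subgroup G) : Set G)) = e * (p * c) ∧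
      Nonempty (Shape p e (P : Subgroup G)) := by
  subst hcard
  obtain ⟨P, n, e, c, hP, hn, hn1, hn1', hfac, he2, hep, hC, hN, hnS, ⟨S⟩⟩ :=
    exists_data hG p m hodd hg hm
  refine ⟨P, n, e, c, ?_, hP, hn, hnS, hC, hN, ⟨S⟩⟩
  have hposs := S.possible_eq hG hP hg hep he2 hC
    (fun h => hm (hn ▸ h.trans ((dvd_mul_left c e).trans (dvd_mul_left _ n)))) hB
  have hnd : n ∣ m := ⟨e * c, hn.symm⟩
  have hmn : m / n = e * c := by rw [← hn, Nat.mul_div_cancel_left _ (by omega)]
  have hc : m / n / e = c := by rw [hmn, Nat.mul_div_cancel_left _ (by omega : 0 < e)]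
  have hepos : e < p := by
    have := Nat.le_of_dvd (by have := (Fact.out : p.Prime).two_le; omega) hep
    have := (Fact.out : p.Prime).two_le
    omega
  simp only [refutedTwo, List.all_eq_true, List.mem_range, Bool.or_eq_true, Bool.and_eq_true,
    Bool.not_eq_true', Bool.and_eq_false_iff, decide_eq_true_eq, beq_iff_eq,
    List.contains_iff_mem] at h
  rcases h n (Nat.lt_succ_of_le (Nat.le_of_dvd (Nat.pos_of_ne_zero fun h => hm (h ▸ dvd_zero p)) hnd))
    with hcase | hcase
  · exfalso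
    rcases hcase with ((hx | hx) | hx) | hx
    · simp [hn1'] at hx
    · simp [hn1] at hx
    · simp [Nat.mod_eq_zero_of_dvd hnd] at hx
    · rw [Bool.or_eq_false_iff, beq_eq_false_iff_ne] at hx
      exact hx.2 (Nat.mod_eq_zero_of_dvd hfac)
  · rcases hcase e hepos with ((hx | hx) | hx) | hx
    · exfalso
      rcases hx with (hx | hx) | hx
      · simp [he2] at hx
      · simp [Nat.mod_eq_zero_of_dvd hep] at hx
      · simp [hmn] at hx
    · exact hx
    · rw [hc, hposs] at hx
      exact absurd hx (by decide)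
    · rw [hc] at hx
      obtain ⟨rfl, hx⟩ := hx
      rw [mul_one] at hC hN
      rcases hx with ⟨heven, hinv⟩ | hcen
      · rw [S.invPossible_eq hG hodd hP hg hm hep he2 (Nat.even_iff.2 heven) hC hN hB] at hinv
        exact absurd hinv (by decide)
      · rw [S.centralPossible_eq hG hodd hP hg hm hep he2 hC hB h2 ht htg] at hcen
        exact absurd hcen (by decide)

/-- If an element of order `p` is permuted through all its non-trivial powers by an element `s` with
`s ^ (p-1) = 1`, no faithful character has degree `p - 1`: the determinant of `s` would be `-1`. -/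
theorem false_of_degree_pred (hG : ¬ IsMulCommutative G) {p : ℕ} [hp : Fact p.Prime] (hodd : p ≠ 2)
    {x g : G} (hx : orderOf x = p) {k : ℕ} (hconj : g * x * g⁻¹ = x ^ k)
    (hprim : orderOf (k : ZMod p) = p - 1) (hg : g ^ (p - 1) = 1) (χ : IrrCharacter G)
    (hne : (χ : G → ℂ) ≠ fun _ => 1) (hd : (χ : G → ℂ) 1 = ((p - 1 : ℕ) : ℂ)) : False := by
  classical
  obtain ⟨n, ρ, hρ, he⟩ := χ.2
  obtain ⟨b, μ, hμ, hb, hsum⟩ := CfsgLib.Char.exists_eigen_data ρ x
  have hdim : finrank ℂ (Fin n → ℂ) = p - 1 := by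
    rw [← he, Representation.char_one] at hd
    exact_mod_cast hd
  obtain ⟨i, hi⟩ : ∃ i, μ i ≠ 1 := by
    by_contra hall
    push Not at hall
    have h1 : (χ : G → ℂ) x = (χ : G → ℂ) 1 := by
      have h := hsum 1
      rw [pow_one] at h
      rw [← he, h, Representation.char_one]
      simp [hall]
    have := eq_one_of_value χ hne h1
    rw [this, orderOf_one] at hx
    exact hp.out.one_lt.ne hx
  have hμp : μ i ^ p = 1 := hx ▸ hμ i
  have hord : orderOf (μ i) = p := orderOf_eq_prime hμp hi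
  obtain ⟨s, hs⟩ : ∃ s : G, s = g⁻¹ := ⟨_, rfl⟩
  have hsn : s ^ (p - 1) = 1 := by rw [hs, inv_pow, hg, inv_one]
  have hconjpow : ∀ j : ℕ, x * s ^ j = s ^ j * x ^ (k ^ j) := by
    intro j
    induction j with
    | zero => simp
    | succ j ih =>
      have h1 : x ^ (k ^ j) * s = s * x ^ (k ^ (j + 1)) := by
        rw [pow_succ k j, mul_comm (k ^ j) k, pow_mul, ← hconj, conj_pow, hs]
        group
      rw [pow_succ, ← mul_assoc, ih, mul_assoc, h1, mul_assoc]
  obtain ⟨v, hv⟩ : ∃ v : Fin (p - 1) → (Fin n → ℂ), ∀ j, v j = ρ (s ^ (j : ℕ)) (b i) := ⟨_, fun j => rfl⟩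
  have heig : ∀ j, ρ x (v j) = μ i ^ (k ^ (j : ℕ)) • v j := by
    intro j
    rw [hv, ← Module.End.mul_apply, ← map_mul, hconjpow, map_mul, Module.End.mul_apply, hb, map_smul]
  have hv0 : ∀ j, v j ≠ 0 := by
    intro j h
    have h1 := congrArg (ρ (s ^ (j : ℕ))⁻¹) h
    rw [hv, ← Module.End.mul_apply, ← map_mul, inv_mul_cancel, map_one, map_zero] at h1
    exact b.ne_zero i h1
  have hinj : Function.Injective fun j : Fin (p - 1) => μ i ^ (k ^ (j : ℕ)) := by
    intro a c h
    simp only [IsOfFinOrder.pow_eq_pow_iff_modEq (orderOf_pos_iff.1 (hord ▸ hp.out.pos) : IsOfFinOrder (μ i)), hord] at h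
    rw [← ZMod.natCast_eq_natCast_iff, Nat.cast_pow, Nat.cast_pow] at h
    exact Fin.ext (pow_injOn_Iio_orderOf (x := (k : ZMod p)) (by simp [hprim]) (by simp [hprim]) h)
  have hli := Module.End.eigenvectors_linearIndependent' (ρ x) _ hinj v
    fun j => ⟨Module.End.mem_eigenspace_iff.2 (heig j), hv0 j⟩
  haveI : Nonempty (Fin (p - 1)) := ⟨⟨0, by have := hp.out.two_le; omega⟩⟩
  obtain ⟨B, hB⟩ : ∃ B : Basis (Fin (p - 1)) ℂ (Fin n → ℂ), ∀ j, B j = v j :=
    ⟨basisOfLinearIndependentOfCardEqFinrank hli (by rw [Fintype.card_fin, hdim]),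
      fun j => by rw [coe_basisOfLinearIndependentOfCardEqFinrank]⟩
  have hrot : ∀ j, ρ s (B j) = B (finRotate (p - 1) j) := by
    intro j
    have hval : ((finRotate (p - 1) j : Fin (p - 1)) : ℕ) = ((j : ℕ) + 1) % (p - 1) := by
      obtain ⟨q, hq⟩ : ∃ q, p - 1 = q + 1 := ⟨p - 2, by have := hp.out.two_le; omega⟩
      generalize p - 1 = r at hq j ⊢
      subst hq
      rw [finRotate_succ_apply, Fin.val_add]
      simp
    rw [hB, hB, hv, hv, hval, ← pow_eq_pow_mod _ hsn, pow_succ', map_mul, Module.End.mul_apply]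
  have hdet := rho_det_eq_one hG ρ s
  rw [← LinearMap.det_toMatrix B, show LinearMap.toMatrix B B (ρ s) =
      (finRotate (p - 1))⁻¹.permMatrix ℂ from ?_, Matrix.det_permutation, Equiv.Perm.sign_inv,
    sign_finRotate] at hdet
  · obtain ⟨r, hr⟩ : Odd (p - 1 - 1) := by
      obtain ⟨r, hr⟩ := hp.out.odd_of_ne_two hodd
      exact ⟨r - 1, by have := hp.out.two_le; omega⟩
    rw [hr] at hdet
    norm_num [pow_succ, pow_mul] at hdet
  · ext a c
    rw [LinearMap.toMatrix_apply, hrot, B.repr_self, Equiv.Perm.permMatrix,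
      PEquiv.toMatrix_apply, Finsupp.single_apply]
    simp only [Equiv.toPEquiv_apply, Option.mem_def, Option.some.injEq, Equiv.Perm.inv_def,
      Equiv.symm_apply_eq]
    exact if_congr ⟨fun h => h.symm, fun h => h.symm⟩ rfl rfl

end CfsgLib.Perm.PrimeBlock
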