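import Mathlib
import Cfsg.Agent.Lib.Perm.Small.OrderTools
import Cfsg.Agent.Lib.Invol.OrdersThousand
import Cfsg.Agent.S0985
import Cfsg.Agent.S0713

/-!
# Simple groups do not have order 4500, 5292 or 5400

Two Sylow subgroups meet in a subgroup of index `p`, whose normalizer is too large; for 5400 it gives a
primitive action in which an element of order five is a five-cycle.
-/

set_option autoImplicit false
set_option linter.all false

namespace CfsgLib.Perm.Intersection

open Cfsg CfsgLib.Perm.PrimeBlock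
open scoped Pointwise

variable {G : Type*} [Group G] [Finite G]

theorem exists_normalizer {p : ℕ} [Fact p.Prime] (hn : ¬ Nat.card (Sylow p G) ≡ 1 [MOD p ^ 2]) :
    ∃ (P : Sylow p G) (D : Subgroup G), D ≤ P ∧ Nat.card D * p = Nat.card (P : Subgroup G) ∧
      (P : Subgroup G) ≤ Subgroup.normalizer (D : Set G) ∧
      1 < Nat.card (Sylow p ↥(Subgroup.normalizer (D : Set G))) := by
  classical
  have hp : p.Prime := Fact.out
  obtain ⟨P, R, hne, hidx⟩ := Cfsg.Agent.S0985.result p 2 hn
  rw [show p ^ (2 - 1) = p by norm_num] at hidx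
  obtain ⟨D, hD⟩ : ∃ D, D = (R : Subgroup G) ⊓ (P : Subgroup G) := ⟨_, rfl⟩
  obtain ⟨a, ha⟩ := P.isPGroup'.exists_card_eq
  have hcardR : Nat.card (R : Subgroup G) = Nat.card (P : Subgroup G) :=
    R.card_eq_multiplicity.trans P.card_eq_multiplicity.symm
  have hDP : D ≤ (P : Subgroup G) := hD ▸ inf_le_right
  have hDR : D ≤ (R : Subgroup G) := hD ▸ inf_le_left
  have hidxD : (D.subgroupOf (P : Subgroup G)).index = p := by
    have h1 : (D.subgroupOf (P : Subgroup G)) = (R : Subgroup G).subgroupOf (P : Subgroup G) := by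
      rw [hD, Subgroup.inf_subgroupOf_right]
    rw [h1]
    obtain ⟨i, -, hi⟩ := (Nat.dvd_prime_pow hp).1 (ha ▸ Subgroup.index_dvd_card ((R : Subgroup G).subgroupOf (P : Subgroup G)))
    rw [hi] at hidx ⊢
    rcases i with _ | _ | i
    · exfalso
      rw [pow_zero, Subgroup.index_eq_one, Subgroup.subgroupOf_eq_top] at hi
      exact hne (Sylow.ext ((P.is_maximal' R.isPGroup' hi)).symm)
    · simp
    · exfalso
      have := (Nat.pow_le_pow_iff_right hp.one_lt).1 (hidx.trans_eq (pow_one p).symm)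
      omega
  have hcardD : Nat.card D * p = Nat.card (P : Subgroup G) := by
    have h1 := (D.subgroupOf (P : Subgroup G)).card_mul_index
    rw [hidxD, Nat.card_congr (Subgroup.subgroupOfEquivOfLe hDP).toEquiv] at h1
    exact h1
  have hnorm : ∀ Q : Sylow p G, D ≤ Q → (Q : Subgroup G) ≤ Subgroup.normalizer (D : Set G) := by
    intro Q hQ
    have hQc : Nat.card (Q : Subgroup G) = Nat.card (P : Subgroup G) :=
      Q.card_eq_multiplicity.trans P.card_eq_multiplicity.symm
    have h1 := (D.subgroupOf (Q : Subgroup G)).card_mul_index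
    rw [Nat.card_congr (Subgroup.subgroupOfEquivOfLe hQ).toEquiv, hQc, ← hcardD] at h1
    have h2 := Nat.eq_of_mul_eq_mul_left Nat.card_pos h1
    haveI : (D.subgroupOf (Q : Subgroup G)).Normal := by
      refine Subgroup.normal_of_index_eq_minFac_card ?_
      have h3 : p ∣ Nat.card (Q : Subgroup G) := by rw [hQc, ← hcardD]; exact dvd_mul_left p _
      rw [h2, hQc, ha, Nat.Prime.pow_minFac hp]
      intro h0
      rw [hQc, ha, h0, pow_zero, Nat.dvd_one] at h3
      exact hp.one_lt.ne' h3
    exact Subgroup.le_normalizer_of_normal_subgroupOf hQ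
  refine ⟨P, D, hDP, hcardD, hnorm P hDP, ?_⟩
  rw [Finite.one_lt_card_iff_nontrivial]
  refine ⟨P.subtype (hnorm P hDP), R.subtype (hnorm R hDR), fun h => hne ?_⟩
  have h' := congrArg (fun S : Sylow p ↥(Subgroup.normalizer (D : Set G)) =>
    (S : Subgroup _).map (Subgroup.normalizer (D : Set G)).subtype) h
  simp only [Sylow.coe_subtype, Subgroup.map_subgroupOf_eq_of_le (hnorm P hDP),
    Subgroup.map_subgroupOf_eq_of_le (hnorm R hDR)] at h'
  exact Sylow.ext h'

/-- A Sylow number dividing the index inside a subgroup. -/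
theorem card_sylow_dvd {p : ℕ} [Fact p.Prime] (P : Sylow p G) {M : Subgroup G} (hPM : (P : Subgroup G) ≤ M)
    {k : ℕ} (hk : Nat.card M = Nat.card (P : Subgroup G) * k) : Nat.card (Sylow p M) ∣ k := by
  have h1 := (P.subtype hPM : Subgroup M).card_mul_index
  rw [Sylow.coe_subtype, Nat.card_congr (Subgroup.subgroupOfEquivOfLe hPM).toEquiv, hk] at h1
  have h2 := (P.subtype hPM).card_dvd_index
  rw [Sylow.coe_subtype, Nat.eq_of_mul_eq_mul_left Nat.card_pos h1] at h2
  exact h2

variable [IsSimpleGroup G]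

theorem noncomm_of_card (h : ¬ (Nat.card G).Prime) : ¬ IsMulCommutative G := fun hc => by
  haveI := hc
  letI : CommGroup G := { (inferInstance : Group G) with mul_comm := fun a b => IsMulCommutative.is_comm.comm a b }
  exact h IsSimpleGroup.prime_card

theorem normalizer_ne_top {D : Subgroup G} (h1 : Nat.card D ≠ 1) (h2 : Nat.card D ≠ Nat.card G) :
    Subgroup.normalizer (D : Set G) ≠ ⊤ := by
  intro e
  rw [Subgroup.normalizer_eq_top_iff] at e
  rcases IsSimpleGroup.eq_bot_or_eq_top_of_normal D e with e' | e'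
  · exact h1 (by rw [e', Subgroup.card_bot])
  · exact h2 (by rw [e', Subgroup.card_top])

/-- An abelian Sylow subgroup is not its own normalizer. -/
theorem ne_of_abelian_selfnormalizing {p : ℕ} [Fact p.Prime] (P : Sylow p G) [IsMulCommutative (P : Subgroup G)]
    (hP1 : Nat.card (P : Subgroup G) ≠ 1) (hPG : Nat.card (P : Subgroup G) ≠ Nat.card G) :
    Subgroup.normalizer ((P : Subgroup G) : Set G) ≠ P := by
  intro hN
  have hle : Subgroup.normalizer ((P : Subgroup G) : Set G) ≤ Subgroup.centralizer ((P : Subgroup G) : Set G) :=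
    hN.le.trans (Subgroup.le_centralizer _)
  have hc := MonoidHom.ker_transferSylow_isComplement' P hle
  have h3 := hc.card_mul
  rcases IsSimpleGroup.eq_bot_or_eq_top_of_normal (MonoidHom.transferSylow P hle).ker inferInstance with e | e
  · rw [e, Subgroup.card_bot, one_mul] at h3; exact hPG h3
  · rw [e, Subgroup.card_top] at h3
    exact hP1 (Nat.eq_of_mul_eq_mul_left Nat.card_pos (h3.trans (mul_one _).symm))

theorem card_sylow_eq {p g a r : ℕ} [Fact p.Prime] (hg : Nat.card G = g) (h : ¬ p ∣ r) (e : g = p ^ a * r)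
    (P : Sylow p G) : Nat.card (P : Subgroup G) = p ^ a := by
  rw [P.card_eq_multiplicity, hg]
  congr 1
  exact CfsgLib.Invol.Thousand.factorization_eq (Fact.out : p.Prime) h e

/-- No simple group has order 4500. -/
theorem card_ne_4500 : Nat.card G ≠ 4500 := by
  intro hg
  haveI : Fact (Nat.Prime 5) := ⟨by norm_num⟩
  have hG := noncomm_of_card (G := G) (by rw [hg]; norm_num)
  have hf := CfsgLib.Invol.sylow_dvd_factorial hG (p := 5) (by rw [hg]; norm_num)
  rw [hg] at hf
  obtain ⟨P₀⟩ : Nonempty (Sylow 5 G) := inferInstance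
  have hPc := fun P : Sylow 5 G => card_sylow_eq (a := 3) (r := 36) hg (by norm_num) (by norm_num) P
  have hi := (P₀ : Subgroup G).index_mul_card
  rw [hPc, hg] at hi
  have hd : Nat.card (Sylow 5 G) ∣ 36 := by
    have := P₀.card_dvd_index
    rwa [show (P₀ : Subgroup G).index = 36 by omega] at this
  have hmod : Nat.card (Sylow 5 G) % 5 = 1 := card_sylow_modEq_one 5 G
  have h36 : ¬ Nat.card (Sylow 5 G) ≡ 1 [MOD 5 ^ 2] := by
    intro h
    have hone := CfsgLib.Invol.one_lt_card_sylow hG (p := 5) (by rw [hg]; norm_num)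
    generalize Nat.card (Sylow 5 G) = n at hd hmod hf h hone
    have := Nat.le_of_dvd (by norm_num) hd
    interval_cases n <;> first | omega | (norm_num [Nat.ModEq] at h) | (norm_num [Nat.factorial] at hf) |
      (norm_num at hd)
  obtain ⟨P, D, hDP, hDc, hPM, hs⟩ := exists_normalizer h36
  rw [hPc] at hDc
  have hne := normalizer_ne_top (D := D) (by omega) (by omega)
  obtain ⟨k, hk⟩ := hPc P ▸ Subgroup.card_dvd_of_le hPM
  have hsd := card_sylow_dvd P hPM (k := k) (by rw [hk, hPc])
  have hsm : Nat.card (Sylow 5 ↥(Subgroup.normalizer (D : Set G))) % 5 = 1 := card_sylow_modEq_one 5 _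
  have hfac := index_dvd_factorial_twice hG hne
  have hM := (Subgroup.normalizer (D : Set G)).card_mul_index
  rw [hk, hg] at hM
  rw [hg] at hfac
  obtain ⟨i, hi'⟩ : ∃ i, (Subgroup.normalizer (D : Set G)).index = i := ⟨_, rfl⟩
  rw [hi'] at hM hfac
  have hki : k * i = 36 := by rw [mul_assoc] at hM; norm_num at hM; omega
  generalize Nat.card (Sylow 5 ↥(Subgroup.normalizer (D : Set G))) = s at hs hsd hsm
  have hk6 : 6 ∣ k := by
    have hs36 : s ∣ 36 := hsd.trans (hki ▸ dvd_mul_right k i)
    have := Nat.le_of_dvd (by norm_num) hs36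
    interval_cases s <;> omega
  obtain ⟨q, rfl⟩ := hk6
  rw [mul_assoc] at hki
  have hi6 : i ∣ 6 := ⟨q, by rw [mul_comm i q]; omega⟩
  have := Nat.le_of_dvd (by norm_num) hi6
  interval_cases i <;> norm_num [Nat.factorial] at hfac

/-- No simple group has order 5292. -/
theorem card_ne_5292 : Nat.card G ≠ 5292 := by
  intro hg
  haveI : Fact (Nat.Prime 7) := ⟨by norm_num⟩
  have hG := noncomm_of_card (G := G) (by rw [hg]; norm_num)
  have hf := CfsgLib.Invol.sylow_dvd_factorial hG (p := 7) (by rw [hg]; norm_num)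
  rw [hg] at hf
  obtain ⟨P₀⟩ : Nonempty (Sylow 7 G) := inferInstance
  have hPc := fun P : Sylow 7 G => card_sylow_eq (a := 2) (r := 108) hg (by norm_num) (by norm_num) P
  have hi := (P₀ : Subgroup G).index_mul_card
  rw [hPc, hg] at hi
  have hd : Nat.card (Sylow 7 G) ∣ 108 := by
    have := P₀.card_dvd_index
    rwa [show (P₀ : Subgroup G).index = 108 by omega] at this
  have hmod : Nat.card (Sylow 7 G) % 7 = 1 := card_sylow_modEq_one 7 G
  have h36 : ¬ Nat.card (Sylow 7 G) ≡ 1 [MOD 7 ^ 2] := by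
    intro h
    have hone := CfsgLib.Invol.one_lt_card_sylow hG (p := 7) (by rw [hg]; norm_num)
    generalize Nat.card (Sylow 7 G) = n at hd hmod hf h hone
    have := Nat.le_of_dvd (by norm_num) hd
    interval_cases n <;> first | omega | (norm_num [Nat.ModEq] at h) | (norm_num [Nat.factorial] at hf) |
      (norm_num at hd)
  obtain ⟨P, D, hDP, hDc, hPM, hs⟩ := exists_normalizer h36
  rw [hPc] at hDc
  have hne := normalizer_ne_top (D := D) (by omega) (by omega)
  obtain ⟨k, hk⟩ := hPc P ▸ Subgroup.card_dvd_of_le hPM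
  have hsd := card_sylow_dvd P hPM (k := k) (by rw [hk, hPc])
  have hsm : Nat.card (Sylow 7 ↥(Subgroup.normalizer (D : Set G))) % 7 = 1 := card_sylow_modEq_one 7 _
  have hfac := index_dvd_factorial_twice hG hne
  have hM := (Subgroup.normalizer (D : Set G)).card_mul_index
  rw [hk, hg] at hM
  rw [hg] at hfac
  obtain ⟨i, hi'⟩ : ∃ i, (Subgroup.normalizer (D : Set G)).index = i := ⟨_, rfl⟩
  rw [hi'] at hM hfac
  have hki : k * i = 108 := by rw [mul_assoc] at hM; norm_num at hM; omega
  generalize Nat.card (Sylow 7 ↥(Subgroup.normalizer (D : Set G))) = s at hs hsd hsm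
  have hk36 : 36 ∣ k := by
    have hs108 : s ∣ 108 := hsd.trans (hki ▸ dvd_mul_right k i)
    have := Nat.le_of_dvd (by norm_num) hs108
    interval_cases s <;> omega
  obtain ⟨q, rfl⟩ := hk36
  rw [mul_assoc] at hki
  have hi3 : i ∣ 3 := ⟨q, by rw [mul_comm i q]; omega⟩
  have := Nat.le_of_dvd (by norm_num) hi3
  interval_cases i <;> norm_num [Nat.factorial] at hfac

/-- The element `d` of `D` fixes all but five cosets of the normalizer of `D`. -/
theorem moved_le_five [Fact (Nat.Prime 5)] (hn : Nat.card (Sylow 5 G) = 36) (hg : Nat.card G = 5400)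
    {D : Subgroup G} (hDc : Nat.card D = 5) {M : Subgroup G} (hM : M = Subgroup.normalizer (D : Set G))
    {q : ℕ} (hMc : Nat.card M = 150 * q) (hs : Nat.card (Sylow 5 M) = 6) {d : G} (hd : d ∈ D) :
    Nat.card {c : G ⧸ M // d • c ≠ c} ≤ 5 := by
  classical
  haveI : Fintype (G ⧸ M) := Fintype.ofFinite _
  haveI : Fintype (Sylow 5 M) := Fintype.ofFinite _
  have hPc := fun P : Sylow 5 G => card_sylow_eq (a := 2) (r := 216) hg (by norm_num) (by norm_num) P
  have hDM : D ≤ M := hM ▸ Subgroup.le_normalizer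
  -- the Sylow subgroups of `M` are Sylow in `G` and contain `D`
  have hSc : ∀ S : Sylow 5 M, Nat.card (S : Subgroup M) = 25 := by
    intro S
    have h1 : Nat.card M = 5 ^ 2 * (6 * q) := by rw [hMc]; ring
    have h25 : 25 ∣ Nat.card (S : Subgroup M) := S.pow_dvd_card_of_pow_dvd_card (n := 2) ⟨6 * q, h1⟩
    obtain ⟨j, hj⟩ := S.isPGroup'.exists_card_eq
    have h2 := Subgroup.card_subgroup_dvd_card ((S : Subgroup M).map M.subtype)
    rw [Subgroup.card_map_of_injective M.subtype_injective, hj, hg] at h2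
    rw [hj] at h25 ⊢
    have h3 : 5 ^ j ≤ 5 ^ 6 := le_trans (Nat.le_of_dvd (by norm_num) h2) (by norm_num)
    have h4 := (Nat.pow_le_pow_iff_right (by norm_num)).1 h3
    interval_cases j <;> first | rfl | (norm_num at h2; done) | (norm_num at h25; done)
  have hQ : ∀ S : Sylow 5 M, ∃ Q : Sylow 5 G, (Q : Subgroup G) = (S : Subgroup M).map M.subtype := by
    intro S
    obtain ⟨Q, hQ⟩ := (S.isPGroup'.map M.subtype).exists_le_sylow
    exact ⟨Q, (Subgroup.eq_of_le_of_card_ge hQ (by
      rw [Subgroup.card_map_of_injective M.subtype_injective, hSc, hPc]; norm_num)).symm⟩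
  choose Q hQ using hQ
  have hQM : ∀ S, (Q S : Subgroup G) ≤ M := fun S => hQ S ▸ Subgroup.map_subtype_le _
  have hQinj : Function.Injective Q := fun S T h => Sylow.ext
    (Subgroup.map_injective M.subtype_injective (by rw [← hQ, ← hQ, h]))
  haveI hnorm : (D.subgroupOf M).Normal := by rw [hM]; exact Subgroup.normal_in_normalizer
  have hDQ : ∀ S, D ≤ (Q S : Subgroup G) := by
    intro S v hv
    have h5 : IsPGroup 5 (D.subgroupOf M) := IsPGroup.of_card (n := 1)
      (by rw [Nat.card_congr (Subgroup.subgroupOfEquivOfLe hDM).toEquiv, hDc, pow_one])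
    obtain ⟨T, hT⟩ := h5.exists_le_sylow
    obtain ⟨g, hg'⟩ := MulAction.exists_smul_eq M T S
    rw [hQ]
    refine ⟨⟨v, hDM hv⟩, ?_, rfl⟩
    have h := hT (hnorm.conj_mem ⟨v, hDM hv⟩ hv g⁻¹)
    rw [← hg', Sylow.coe_subgroup_smul]
    exact ⟨_, h, by simp [mul_assoc]⟩
  have hNQ : ∀ S, Nat.card ↥(Subgroup.normalizer ((Q S : Subgroup G) : Set G)) = 150 := by
    intro S
    have h := (Subgroup.normalizer ((Q S : Subgroup G) : Set G)).card_mul_index
    rw [show (Subgroup.normalizer ((Q S : Subgroup G) : Set G)).index = 36 from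
      ((Q S).card_eq_index_normalizer.symm.trans hn), hg] at h
    omega
  have hNQM : ∀ S, Nat.card ↥(Subgroup.normalizer ((Q S : Subgroup G) : Set G) ⊓ M) = 25 * q := by
    intro S
    have hsub : (Q S : Subgroup G).subgroupOf M = (S : Subgroup M) := by
      rw [hQ]; exact Subgroup.comap_map_eq_self_of_injective M.subtype_injective _
    have h1 := Subgroup.subgroupOf_normalizer_eq (hQM S)
    have h2 := (Subgroup.normalizer (((Q S : Subgroup G).subgroupOf M : Subgroup M) : Set M)).card_mul_index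
    have h3 : (Subgroup.normalizer (((Q S : Subgroup G).subgroupOf M : Subgroup M) : Set M)).index = 6 := by
      rw [hsub]; exact S.card_eq_index_normalizer.symm.trans hs
    rw [h3, ← h1, hMc] at h2
    rw [← Nat.card_congr (Subgroup.subgroupOfEquivOfLe (inf_le_right :
      Subgroup.normalizer ((Q S : Subgroup G) : Set G) ⊓ M ≤ M)).toEquiv, Subgroup.inf_subgroupOf_right]
    omega
  obtain ⟨O, hO⟩ : ∃ O : Sylow 5 M → Finset (G ⧸ M), ∀ S c, c ∈ O S ↔
      ∃ g ∈ Subgroup.normalizer ((Q S : Subgroup G) : Set G), (g : G ⧸ M) = c :=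
    ⟨fun S => Finset.univ.filter fun c => ∃ g ∈ Subgroup.normalizer ((Q S : Subgroup G) : Set G), (g : G ⧸ M) = c,
      fun S c => by simp⟩
  have hOc : ∀ S, (O S).card * q = 6 := by
    intro S
    obtain ⟨N, hN⟩ : ∃ N, N = Subgroup.normalizer ((Q S : Subgroup G) : Set G) := ⟨_, rfl⟩
    have hfix : MulAction.stabilizer N ((1 : G) : G ⧸ M) = (N ⊓ M).subgroupOf N := by
      ext a
      rw [MulAction.mem_stabilizer_iff, Subgroup.inf_subgroupOf_left, Subgroup.mem_subgroupOf]
      show (a : G) • ((1 : G) : G ⧸ M) = ((1 : G) : G ⧸ M) ↔ _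
      rw [MulAction.Quotient.smul_coe, smul_eq_mul, mul_one, QuotientGroup.eq, mul_one, inv_mem_iff]
    have horb : (O S : Set (G ⧸ M)) = MulAction.orbit N ((1 : G) : G ⧸ M) := by
      ext c
      rw [Finset.mem_coe, hO, MulAction.mem_orbit_iff]
      constructor
      · rintro ⟨g, hg', rfl⟩
        exact ⟨⟨g, hN ▸ hg'⟩, by show g • ((1 : G) : G ⧸ M) = _; rw [MulAction.Quotient.smul_coe, smul_eq_mul, mul_one]⟩
      · rintro ⟨a, rfl⟩
        exact ⟨a, hN ▸ a.2, by show _ = (a : G) • ((1 : G) : G ⧸ M); rw [MulAction.Quotient.smul_coe, smul_eq_mul, mul_one]⟩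
    have h := ((N ⊓ M).subgroupOf N).card_mul_index
    rw [← hfix, MulAction.index_stabilizer, ← horb, Set.ncard_coe_finset, hfix,
      Nat.card_congr (Subgroup.subgroupOfEquivOfLe (inf_le_left : N ⊓ M ≤ N)).toEquiv, hN, hNQM, hNQ] at h
    rw [mul_comm 25 q, mul_assoc] at h
    have : q * (25 * (O S).card) = q * 25 * (O S).card := (mul_assoc _ _ _).symm
    nlinarith
  have hone : ∀ S, ((1 : G) : G ⧸ M) ∈ O S := fun S => (hO S _).2 ⟨1, one_mem _, rfl⟩
  have hfixed : ∀ S, ∀ c ∈ O S, d • c = c := by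
    intro S c hc
    obtain ⟨g, hg', rfl⟩ := (hO S c).1 hc
    rw [MulAction.Quotient.smul_coe, smul_eq_mul, QuotientGroup.eq]
    refine hQM S ?_
    have h1 : g⁻¹ * d⁻¹ * g ∈ (Q S : Subgroup G) :=
      (Subgroup.mem_normalizer_iff''.1 hg' _).1 (inv_mem (hDQ S hd))
    simpa [mul_assoc] using h1
  have hdisj : ∀ S T : Sylow 5 M, S ≠ T → Disjoint ((O S).erase ((1 : G) : G ⧸ M)) ((O T).erase ((1 : G) : G ⧸ M)) := by
    intro S T hST
    rw [Finset.disjoint_left]
    intro c hcS hcT
    obtain ⟨hc1, hcS⟩ := Finset.mem_erase.1 hcS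
    obtain ⟨-, hcT⟩ := Finset.mem_erase.1 hcT
    obtain ⟨g, hgS, rfl⟩ := (hO S c).1 hcS
    obtain ⟨g', hgT, hgg⟩ := (hO T _).1 hcT
    rw [QuotientGroup.eq] at hgg
    apply hc1
    rw [QuotientGroup.eq, mul_one, inv_mem_iff]
    -- the intersection is `D`
    have hne : (Q S : Subgroup G) ≠ (Q T : Subgroup G) := fun h => hST (hQinj (Sylow.ext h))
    obtain ⟨I, hI⟩ : ∃ I, I = (Q S : Subgroup G) ⊓ (Q T : Subgroup G) := ⟨_, rfl⟩
    have hID : D = I := by
      refine Subgroup.eq_of_le_of_card_ge (hI ▸ le_inf (hDQ S) (hDQ T)) ?_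
      have h1 : Nat.card I ∣ 5 ^ 2 := hPc (Q S) ▸ Subgroup.card_dvd_of_le (hI ▸ inf_le_left)
      obtain ⟨j, hj, hj'⟩ := (Nat.dvd_prime_pow (Fact.out : Nat.Prime 5)).1 h1
      rw [hDc, hj']
      interval_cases j <;> norm_num
      exfalso
      refine hne ((Subgroup.eq_of_le_of_card_ge (hI ▸ inf_le_left : I ≤ _) (by rw [hj', hPc])).symm.trans
        (Subgroup.eq_of_le_of_card_ge (hI ▸ inf_le_right : I ≤ _) (by rw [hj', hPc])))
    have hconj : ∀ v ∈ D, g * v * g⁻¹ ∈ D := by
      intro v hv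
      rw [hID, hI]
      refine ⟨(Subgroup.mem_normalizer_iff.1 hgS v).1 (hDQ S hv), ?_⟩
      obtain ⟨m, hm⟩ : ∃ m, m = g'⁻¹ * g := ⟨_, rfl⟩
      have hmM : m ∈ M := hm ▸ hgg
      have h1 : m * v * m⁻¹ ∈ D := (Subgroup.mem_normalizer_iff.1 (hM ▸ hmM) v).1 hv
      have h2 := (Subgroup.mem_normalizer_iff.1 hgT (m * v * m⁻¹)).1 (hDQ T h1)
      have h3 : g' * (m * v * m⁻¹) * g'⁻¹ = g * v * g⁻¹ := by rw [hm]; group
      rwa [h3] at h2
    rw [hM, Subgroup.mem_normalizer_iff]
    intro v
    refine ⟨hconj v, fun hv => ?_⟩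
    obtain ⟨w, hw⟩ := (Nat.bijective_iff_injective_and_card (fun w : D => (⟨g * w * g⁻¹, hconj w w.2⟩ : D))).2
      ⟨fun a b h => Subtype.ext (mul_left_cancel (mul_right_cancel (congrArg Subtype.val h))), rfl⟩ |>.2 ⟨_, hv⟩
    have := mul_left_cancel (mul_right_cancel (congrArg Subtype.val hw))
    exact this ▸ w.2
  obtain ⟨F, hF⟩ : ∃ F : Finset (G ⧸ M), F = insert ((1 : G) : G ⧸ M)
      ((Finset.univ : Finset (Sylow 5 M)).biUnion fun S => (O S).erase ((1 : G) : G ⧸ M)) := ⟨_, rfl⟩
  have hFc : (F.card + 5) * q = 36 := by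
    rw [hF, Finset.card_insert_of_notMem (by simp), Finset.card_biUnion fun S _ T _ h => hdisj S T h]
    have h1 : ∀ S : Sylow 5 M, ((O S).erase ((1 : G) : G ⧸ M)).card * q + q = 6 := fun S => by
      rw [← Nat.succ_mul, Nat.succ_eq_add_one, Finset.card_erase_add_one (hone S), hOc S]
    have h2 : (∑ S : Sylow 5 M, ((O S).erase ((1 : G) : G ⧸ M)).card) * q + 6 * q = 36 := by
      rw [Finset.sum_mul]
      have h3 := Finset.sum_add_distrib (s := (Finset.univ : Finset (Sylow 5 M)))
        (f := fun S => ((O S).erase ((1 : G) : G ⧸ M)).card * q) (g := fun _ => q)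
      rw [Finset.sum_congr rfl fun S _ => h1 S, Finset.sum_const, Finset.sum_const, Finset.card_univ,
        ← Nat.card_eq_fintype_card, hs, smul_eq_mul, smul_eq_mul] at h3
      omega
    rw [← h2]; ring
  have hsub : (Finset.univ.filter fun c : G ⧸ M => d • c ≠ c) ⊆ Finset.univ \ F := by
    intro c hc
    simp only [Finset.mem_filter, Finset.mem_univ, true_and, Finset.mem_sdiff] at hc ⊢
    intro hcF
    rw [hF, Finset.mem_insert, Finset.mem_biUnion] at hcF
    rcases hcF with rfl | ⟨S, -, hS⟩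
    · obtain ⟨S⟩ : Nonempty (Sylow 5 M) := inferInstance
      exact hc (hfixed S _ (hone S))
    · exact hc (hfixed S c (Finset.mem_of_mem_erase hS))
  have h := Finset.card_le_card hsub
  rw [Finset.card_sdiff_of_subset (Finset.subset_univ F), Finset.card_univ, ← Nat.card_eq_fintype_card] at h
  have hi : Nat.card (G ⧸ M) * q = 36 := by
    have := M.card_mul_index
    rw [hMc, hg] at this
    show M.index * q = 36
    nlinarith
  have hqpos : 0 < q := Nat.pos_of_ne_zero fun h0 => by rw [h0] at hi; omega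
  have : F.card + 5 = Nat.card (G ⧸ M) := Nat.eq_of_mul_eq_mul_right hqpos (hFc.trans hi.symm)
  rw [Nat.card_eq_fintype_card, Fintype.card_subtype]
  omega

/-- No simple group has order 5400. -/
theorem card_ne_5400 : Nat.card G ≠ 5400 := by
  classical
  intro hg
  haveI : Fact (Nat.Prime 5) := ⟨by norm_num⟩
  have hG := noncomm_of_card (G := G) (by rw [hg]; norm_num)
  have hf := CfsgLib.Invol.sylow_dvd_factorial hG (p := 5) (by rw [hg]; norm_num)
  rw [hg] at hf
  have hone := CfsgLib.Invol.one_lt_card_sylow hG (p := 5) (by rw [hg]; norm_num)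
  have hPc := fun P : Sylow 5 G => card_sylow_eq (a := 2) (r := 216) hg (by norm_num) (by norm_num) P
  obtain ⟨P₀⟩ : Nonempty (Sylow 5 G) := inferInstance
  have hi := (P₀ : Subgroup G).index_mul_card
  rw [hPc, hg] at hi
  have hd : Nat.card (Sylow 5 G) ∣ 216 := by
    have := P₀.card_dvd_index
    rwa [show (P₀ : Subgroup G).index = 216 by omega] at this
  have hmod : Nat.card (Sylow 5 G) % 5 = 1 := card_sylow_modEq_one 5 G
  have hn216 : Nat.card (Sylow 5 G) ≠ 216 := by
    intro h
    have hNc : Nat.card ↥(Subgroup.normalizer ((P₀ : Subgroup G) : Set G)) = 25 := by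
      have h1 := (Subgroup.normalizer ((P₀ : Subgroup G) : Set G)).card_mul_index
      rw [show (Subgroup.normalizer ((P₀ : Subgroup G) : Set G)).index = 216 from
        P₀.card_eq_index_normalizer.symm.trans h, hg] at h1
      omega
    haveI : IsMulCommutative (P₀ : Subgroup G) := IsPGroup.isMulCommutative_of_card_eq_prime_sq (p := 5) (hPc P₀)
    exact ne_of_abelian_selfnormalizing P₀ (by rw [hPc]; norm_num) (by rw [hPc, hg]; norm_num)
      ((Subgroup.eq_of_le_of_card_ge Subgroup.le_normalizer (by rw [hNc, hPc]; norm_num)).symm)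
  have hn : Nat.card (Sylow 5 G) = 36 := by
    generalize Nat.card (Sylow 5 G) = n at hd hmod hf hone hn216
    have := Nat.le_of_dvd (by norm_num) hd
    interval_cases n <;> first | omega | (norm_num [Nat.factorial] at hf; done) | (norm_num at hd; done)
  obtain ⟨P, D, hDP, hDc, hPM, hs⟩ := exists_normalizer (p := 5) (G := G)
    (by rw [hn]; norm_num [Nat.ModEq])
  rw [hPc] at hDc
  obtain ⟨M, hM⟩ : ∃ M, M = Subgroup.normalizer (D : Set G) := ⟨_, rfl⟩
  have hne : M ≠ ⊤ := hM ▸ normalizer_ne_top (D := D) (by omega) (by omega)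
  rw [← hM] at hPM hs
  obtain ⟨k, hk⟩ := hPc P ▸ Subgroup.card_dvd_of_le hPM
  have hsd := card_sylow_dvd P hPM (k := k) (by rw [hk, hPc])
  have hsm : Nat.card (Sylow 5 M) % 5 = 1 := card_sylow_modEq_one 5 _
  have hMi := M.card_mul_index
  rw [hk, hg] at hMi
  have hki : k * M.index = 216 := by rw [mul_assoc] at hMi; norm_num at hMi; omega
  have hfac := index_dvd_factorial_twice hG hne
  rw [hg] at hfac
  have hi7 : ¬ M.index ≤ 8 := by
    intro h
    generalize M.index = i at h hfac
    interval_cases i <;> norm_num [Nat.factorial] at hfac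
  have hsix : Nat.card (Sylow 5 M) = 6 := by
    have hd2 : Nat.card (Sylow 5 M) ∣ 216 := hsd.trans (hki ▸ dvd_mul_right k _)
    have hle : Nat.card (Sylow 5 M) ≤ k := Nat.le_of_dvd (Nat.pos_of_ne_zero fun h => by rw [h] at hki; omega) hsd
    have hk24 : k ≤ 24 := by nlinarith
    generalize Nat.card (Sylow 5 M) = s at hs hsm hd2 hle
    have := hle.trans hk24
    interval_cases s <;> omega
  obtain ⟨q, rfl⟩ : 6 ∣ k := hsix ▸ hsd
  have hMc : Nat.card M = 150 * q := by rw [hk]; ring
  obtain ⟨d', hd'⟩ := exists_prime_orderOf_dvd_card' (G := D) 5 (by rw [show Nat.card D = 5 by omega])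
  have hdo : orderOf (d' : G) = 5 := by rw [Subgroup.orderOf_coe, hd']
  have hmv := moved_le_five hn hg (by omega) hM hMc hsix d'.2
  -- a maximal subgroup above the normalizer
  obtain ⟨H, hH, hMH⟩ := (IsCoatomic.eq_top_or_exists_le_coatom M).resolve_left hne
  haveI : Fintype (G ⧸ H) := Fintype.ofFinite _
  haveI : Fintype (G ⧸ M) := Fintype.ofFinite _
  have hfacH := index_dvd_factorial_twice hG hH.1
  rw [hg] at hfacH
  have hn9 : 9 ≤ H.index := by
    by_contra h
    push Not at h
    generalize H.index = i at h hfacH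
    interval_cases i <;> norm_num [Nat.factorial] at hfacH
  have hcard : Fintype.card (G ⧸ H) = H.index := by rw [← Nat.card_eq_fintype_card]; rfl
  haveI : Nontrivial (G ⧸ H) := Fintype.one_lt_card_iff_nontrivial.1 (by omega)
  haveI hprim : MulAction.IsPreprimitive G (G ⧸ H) := by
    rw [← MulAction.isCoatom_stabilizer_iff_preprimitive G ((1 : G) : G ⧸ H), MulAction.stabilizer_quotient]
    exact hH
  let f := MulAction.toPermHom G (G ⧸ H)
  let ι : G ⧸ H →ₑ[(f.rangeRestrict : G → f.range)] G ⧸ H := { toFun := id, map_smul' := fun g a => rfl }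
  have hΓ : MulAction.IsPreprimitive f.range (G ⧸ H) :=
    MulAction.IsPreprimitive.of_surjective (f := ι) Function.surjective_id
  have hinj : Function.Injective f := by
    rw [← MonoidHom.ker_eq_bot_iff]
    refine (IsSimpleGroup.eq_bot_or_eq_top_of_normal f.ker inferInstance).resolve_right fun h => ?_
    refine hH.1 ((Subgroup.eq_top_iff' H).2 fun g => ?_)
    have h1 := congrArg (fun σ : Equiv.Perm (G ⧸ H) => σ ((1 : G) : G ⧸ H))
      (MonoidHom.mem_ker.1 (h ▸ Subgroup.mem_top g : g ∈ f.ker))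
    simp only [f, MulAction.toPermHom_apply, MulAction.toPerm_apply, Equiv.Perm.one_apply,
      MulAction.Quotient.smul_coe, smul_eq_mul, mul_one, QuotientGroup.eq, inv_mem_iff] at h1
    exact h1
  obtain ⟨σ, hσ⟩ : ∃ σ, σ = f d' := ⟨_, rfl⟩
  have hσo : orderOf σ = 5 := by rw [hσ, orderOf_injective f hinj, hdo]
  have hsupp : σ.support.card ≤ 5 := by
    refine le_trans ?_ hmv
    let π : G ⧸ M → G ⧸ H := Subgroup.quotientMapOfLE hMH
    have hsub : σ.support ⊆ (Finset.univ.filter fun c : G ⧸ M => (d' : G) • c ≠ c).image π := by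
      intro c hc
      rw [Equiv.Perm.mem_support] at hc
      induction c using QuotientGroup.induction_on with
      | _ a =>
        refine Finset.mem_image.2 ⟨(a : G ⧸ M), Finset.mem_filter.2 ⟨Finset.mem_univ _, fun h => hc ?_⟩, rfl⟩
        rw [hσ]
        show (d' : G) • (a : G ⧸ H) = (a : G ⧸ H)
        rw [MulAction.Quotient.smul_coe, smul_eq_mul, QuotientGroup.eq] at h ⊢
        exact hMH h
    rw [Nat.card_eq_fintype_card, Fintype.card_subtype]
    exact (Finset.card_le_card hsub).trans Finset.card_image_le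
  have hcyc : σ.IsCycle := Equiv.Perm.isCycle_of_prime_order (hσo ▸ (Fact.out : Nat.Prime 5))
    (by rw [hσo]; omega)
  have hA := Cfsg.Agent.S0713.result f.range hΓ (p := 5) (g := σ) (by norm_num) (by omega) (by omega) hcyc
    (hcyc.orderOf.symm.trans hσo) (hσ ▸ ⟨_, rfl⟩)
  have h1 := Nat.le_of_dvd Nat.card_pos (Subgroup.card_dvd_of_le hA)
  rw [← Nat.card_congr (MonoidHom.ofInjective hinj).toEquiv, hg, nat_card_alternatingGroup,
    Nat.card_eq_fintype_card, hcard] at h1
  have h2 := Nat.factorial_le hn9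
  norm_num [Nat.factorial] at h2
  omega

end CfsgLib.Perm.Intersection
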