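import Mathlib
import Cfsg.Agent.Lib.Perm.Small.NotIntersection
import Cfsg.Agent.S0713

/-!
# Simple groups do not have order 1764, 1800, 2700, 3528 or 3600

Two Sylow subgroups of order `p ^ 2` meet in a subgroup of order `p` whose normalizer is too large.
-/

set_option autoImplicit false
set_option linter.all false

namespace CfsgLib.Perm.Intersection

open Cfsg CfsgLib.Perm.PrimeBlock

variable {G : Type*} [Group G] [Finite G] [IsSimpleGroup G]

/-- The data common to all the orders. -/
theorem exists_pair_data {p g r : ℕ} [Fact p.Prime] (hg : Nat.card G = g) (hr : g = p ^ 2 * r)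
    (hpr : ¬ p ∣ r) (hnp : ¬ g.Prime) (hr1 : 1 < r)
    (hsmall : ∀ n, n ≤ r → n ∣ r → n % p = 1 → 2 * g ∣ n.factorial → ¬ n % (p ^ 2) = 1) :
    ∃ (D M : Subgroup G) (k : ℕ), M = Subgroup.normalizer (D : Set G) ∧ Nat.card D = p ∧ M ≠ ⊤ ∧
      Nat.card M = p ^ 2 * k ∧ k * M.index = r ∧ Nat.card (Sylow p M) ∣ k ∧ 1 < Nat.card (Sylow p M) ∧
      2 * g ∣ M.index.factorial := by
  classical
  have hp : p.Prime := Fact.out
  have hG := noncomm_of_card (G := G) (by rw [hg]; exact hnp)
  have hpg : p ∣ Nat.card G := by rw [hg, hr]; exact (dvd_pow_self p two_ne_zero).mul_right r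
  have hf := CfsgLib.Invol.sylow_dvd_factorial hG hpg
  rw [hg] at hf
  have hone := CfsgLib.Invol.one_lt_card_sylow hG hpg
  have hPc := fun P : Sylow p G => card_sylow_eq (a := 2) (r := r) hg hpr hr P
  obtain ⟨P₀⟩ : Nonempty (Sylow p G) := inferInstance
  have hi := (P₀ : Subgroup G).index_mul_card
  rw [hPc, hg, hr, mul_comm] at hi
  have hd : Nat.card (Sylow p G) ∣ r :=
    (Nat.eq_of_mul_eq_mul_left (pow_pos hp.pos 2) hi) ▸ P₀.card_dvd_index
  have hmod : Nat.card (Sylow p G) % p = 1 := by
    rw [card_sylow_modEq_one p G, Nat.mod_eq_of_lt hp.one_lt]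
  have hn : ¬ Nat.card (Sylow p G) ≡ 1 [MOD p ^ 2] := by
    rw [Nat.ModEq, Nat.mod_eq_of_lt (Nat.one_lt_pow two_ne_zero hp.one_lt)]
    exact hsmall _ (Nat.le_of_dvd (by omega) hd) hd hmod hf
  obtain ⟨P, D, hDP, hDc, hPM, hs⟩ := exists_normalizer hn
  rw [hPc] at hDc
  have hDc' : Nat.card D = p := Nat.eq_of_mul_eq_mul_right hp.pos (hDc.trans (pow_two p))
  obtain ⟨M, hM⟩ : ∃ M, M = Subgroup.normalizer (D : Set G) := ⟨_, rfl⟩
  have hne : M ≠ ⊤ := hM ▸ normalizer_ne_top (D := D) (by rw [hDc']; exact hp.one_lt.ne') (by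
    rw [hDc', hg]; intro h; exact hnp (h ▸ hp))
  rw [← hM] at hPM hs
  obtain ⟨k, hk⟩ := hPc P ▸ Subgroup.card_dvd_of_le hPM
  refine ⟨D, M, k, hM, hDc', hne, hk, ?_, card_sylow_dvd P hPM (k := k) (by rw [hk, hPc]), hs,
    hg ▸ index_dvd_factorial_twice hG hne⟩
  have h := M.card_mul_index
  rw [hk, hg, hr, mul_assoc] at h
  exact Nat.eq_of_mul_eq_mul_left (pow_pos hp.pos 2) h

/-- A group of order `150` has a normal Sylow five-subgroup. -/
theorem card_sylow_five_of_150 {M : Type*} [Group M] [Finite M] (hM : Nat.card M = 150)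
    [Fact (Nat.Prime 5)] : Nat.card (Sylow 5 M) = 1 := by
  classical
  haveI : Fact (Nat.Prime 2) := ⟨Nat.prime_two⟩
  have hmin : (Nat.card M).minFac = 2 := by rw [hM, Nat.minFac_eq_two_iff]; norm_num
  obtain ⟨T⟩ : Nonempty (Sylow 2 M) := inferInstance
  have hTc : Nat.card (T : Subgroup M) = 2 := by
    rw [T.card_eq_multiplicity, hM,
      CfsgLib.Invol.Thousand.factorization_eq (a := 1) (r := 75) Nat.prime_two (by norm_num) (by norm_num)]
    norm_num
  have hc := IsCyclic.isComplement' hmin (P := T) (isCyclic_of_prime_card hTc)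
  obtain ⟨K, hKn, hK⟩ : ∃ K : Subgroup M, K.Normal ∧ K.index = 2 :=
    ⟨_, inferInstance, hc.symm.index_eq_card.trans hTc⟩
  have hKc : Nat.card K = 75 := by have := K.card_mul_index; rw [hK, hM] at this; omega
  have hnK : Nat.card (Sylow 5 K) = 1 := by
    obtain ⟨S⟩ : Nonempty (Sylow 5 K) := inferInstance
    have hSc : Nat.card (S : Subgroup K) = 25 := by
      rw [S.card_eq_multiplicity, hKc,
        CfsgLib.Invol.Thousand.factorization_eq (a := 2) (r := 3) (by norm_num) (by norm_num) (by norm_num)]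
      norm_num
    have h1 := (S : Subgroup K).index_mul_card
    rw [hSc, hKc] at h1
    have h2 : Nat.card (Sylow 5 K) ∣ 3 := by
      have := S.card_dvd_index
      rwa [show (S : Subgroup K).index = 3 by omega] at this
    have h3 : Nat.card (Sylow 5 K) % 5 = 1 := card_sylow_modEq_one 5 K
    have := Nat.le_of_dvd (by norm_num) h2
    omega
  obtain ⟨S⟩ : Nonempty (Sylow 5 M) := inferInstance
  have hle : ∀ S : Sylow 5 M, (S : Subgroup M) ≤ K := by
    intro S x hx
    obtain ⟨j, hj⟩ := S.2 ⟨x, hx⟩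
    have h1 : x ^ 5 ^ j = 1 := congrArg Subtype.val hj
    by_contra hxK
    have hxK2 : x ^ 2 ∈ K := Subgroup.sq_mem_of_index_two hK x
    obtain ⟨q, hq⟩ : ∃ q, 5 ^ j = 2 * q + 1 := (Odd.pow (by decide : Odd 5))
    rw [hq, pow_succ, pow_mul] at h1
    exact hxK ((Subgroup.mul_mem_cancel_left K (pow_mem hxK2 q)).1 (h1 ▸ K.one_mem))
  haveI : Subsingleton (Sylow 5 K) := (Nat.card_eq_one_iff_unique.1 hnK).1
  haveI : Subsingleton (Sylow 5 M) := ⟨fun A B => by
    have h := Subsingleton.elim (A.subtype (hle A)) (B.subtype (hle B))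
    have h' := congrArg (fun S : Sylow 5 K => (S : Subgroup K).map K.subtype) h
    simp only [Sylow.coe_subtype, Subgroup.map_subgroupOf_eq_of_le (hle A),
      Subgroup.map_subgroupOf_eq_of_le (hle B)] at h'
    exact Sylow.ext h'⟩
  exact Nat.card_eq_one_iff_unique.2 ⟨inferInstance, inferInstance⟩

theorem card_ne_1764 : Nat.card G ≠ 1764 := by
  intro hg
  haveI : Fact (Nat.Prime 7) := ⟨by norm_num⟩
  obtain ⟨D, M, k, -, -, hne, -, hki, hsk, hs, hfac⟩ := exists_pair_data (p := 7) (r := 36) hg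
    (by norm_num) (by norm_num) (by norm_num) (by norm_num)
    (fun n hn hd hmod hf => by
      interval_cases n <;> first | omega | (norm_num [Nat.factorial] at hf; done))
  have hsm : Nat.card (Sylow 7 M) % 7 = 1 := card_sylow_modEq_one 7 _
  have h36 : k = 36 := by
    have hs36 : Nat.card (Sylow 7 M) ∣ 36 := hsk.trans (hki ▸ dvd_mul_right k _)
    generalize Nat.card (Sylow 7 M) = s at hs hsm hs36 hsk
    have := Nat.le_of_dvd (by norm_num) hs36
    have hk' : k ∣ 36 := hki ▸ dvd_mul_right k _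
    have := Nat.le_of_dvd (by norm_num) hk'
    have hk0 : k ≠ 0 := fun h => by rw [h] at hki; omega
    interval_cases s <;> first | omega | (have := Nat.le_of_dvd (by omega) hsk; omega)
  subst h36
  exact hne (Subgroup.index_eq_one.1 (by omega))

theorem card_ne_3528 : Nat.card G ≠ 3528 := by
  intro hg
  haveI : Fact (Nat.Prime 7) := ⟨by norm_num⟩
  obtain ⟨D, M, k, -, -, hne, -, hki, hsk, hs, hfac⟩ := exists_pair_data (p := 7) (r := 72) hg
    (by norm_num) (by norm_num) (by norm_num) (by norm_num)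
    (fun n hn hd hmod hf => by
      interval_cases n <;> first | omega | (norm_num [Nat.factorial] at hf; done))
  have hsm : Nat.card (Sylow 7 M) % 7 = 1 := card_sylow_modEq_one 7 _
  have hs72 : Nat.card (Sylow 7 M) ∣ 72 := hsk.trans (hki ▸ dvd_mul_right k _)
  generalize Nat.card (Sylow 7 M) = s at hs hsm hs72 hsk
  generalize M.index = i at hki hfac
  have := Nat.le_of_dvd (by norm_num) hs72
  obtain ⟨q, rfl⟩ := hsk
  have hi : i ≤ 9 := by
    have h8 : 8 ≤ s := by omega
    rcases Nat.eq_zero_or_pos q with rfl | hq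
    · omega
    · have h1 := Nat.mul_le_mul_right (q * i) h8
      rw [← mul_assoc, ← mul_assoc, hki] at h1
      have h2 := Nat.le_mul_of_pos_left i hq
      rw [mul_assoc] at h1
      omega
  interval_cases i <;> norm_num [Nat.factorial] at hfac

theorem index_cases_five {r g : ℕ} {M : Subgroup G} {k : ℕ} [Fact (Nat.Prime 5)]
    (hki : k * M.index = r) (hsk : Nat.card (Sylow 5 M) ∣ k) (hs : 1 < Nat.card (Sylow 5 M))
    (hr : r ∣ 432) (hfac : 2 * g ∣ M.index.factorial) :
    (6 ∣ k) ∨ (16 ∣ k) := by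
  have hsm : Nat.card (Sylow 5 M) % 5 = 1 := card_sylow_modEq_one 5 _
  have hd : Nat.card (Sylow 5 M) ∣ 432 := (hsk.trans (hki ▸ dvd_mul_right k _)).trans hr
  generalize Nat.card (Sylow 5 M) = s at hs hsm hd hsk
  have hmem : s ∈ Nat.divisors 432 := Nat.mem_divisors.2 ⟨hd, by norm_num⟩
  have hall : ∀ s ∈ Nat.divisors 432, s % 5 = 1 → 1 < s → 6 ∣ s ∨ 16 ∣ s := by decide +kernel
  exact (hall s hmem hsm hs).imp (fun h => h.trans hsk) (fun h => h.trans hsk)

theorem false_of_card_150 {D M : Subgroup G} [Fact (Nat.Prime 5)] (hMc : Nat.card M = 150)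
    (hs : 1 < Nat.card (Sylow 5 M)) : False := by
  rw [card_sylow_five_of_150 hMc] at hs
  omega

theorem card_ne_1800 : Nat.card G ≠ 1800 := by
  intro hg
  haveI : Fact (Nat.Prime 5) := ⟨by norm_num⟩
  obtain ⟨D, M, k, -, -, hne, hk, hki, hsk, hs, hfac⟩ := exists_pair_data (p := 5) (r := 72) hg
    (by norm_num) (by norm_num) (by norm_num) (by norm_num)
    (fun n hn hd hmod hf => by
      interval_cases n <;> first | omega | (norm_num [Nat.factorial] at hf; done))
  rcases index_cases_five hki hsk hs (by norm_num) hfac with ⟨q, rfl⟩ | ⟨q, rfl⟩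
  · have hi : M.index ∣ 12 := ⟨q, by rw [mul_assoc] at hki; rw [mul_comm M.index q]; omega⟩
    generalize M.index = i at hi hki hfac
    have := Nat.le_of_dvd (by norm_num) hi
    interval_cases i <;> first | omega | (norm_num [Nat.factorial] at hfac; done) |
      exact false_of_card_150 (D := D) (by rw [hk]; omega) hs
  · generalize M.index = i at hki
    have : 2 * (q * i) = 9 := by rw [mul_assoc] at hki; omega
    omega

theorem card_ne_2700 : Nat.card G ≠ 2700 := by
  intro hg
  haveI : Fact (Nat.Prime 5) := ⟨by norm_num⟩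
  obtain ⟨D, M, k, -, -, hne, hk, hki, hsk, hs, hfac⟩ := exists_pair_data (p := 5) (r := 108) hg
    (by norm_num) (by norm_num) (by norm_num) (by norm_num)
    (fun n hn hd hmod hf => by
      interval_cases n <;> first | omega | (norm_num [Nat.factorial] at hf; done))
  rcases index_cases_five hki hsk hs (by norm_num) hfac with ⟨q, rfl⟩ | ⟨q, rfl⟩
  · have hi : M.index ∣ 18 := ⟨q, by rw [mul_assoc] at hki; rw [mul_comm M.index q]; omega⟩
    generalize M.index = i at hi hki hfac
    have := Nat.le_of_dvd (by norm_num) hi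
    interval_cases i <;> first | omega | (norm_num [Nat.factorial] at hfac; done) |
      exact false_of_card_150 (D := D) (by rw [hk]; omega) hs
  · generalize M.index = i at hki
    have : 4 * (q * i) = 27 := by rw [mul_assoc] at hki; omega
    omega

/-- A normal subgroup of order five with six Sylow five-subgroups in a group of order 300 is central. -/
theorem le_center_of_card_300 {M : Type*} [Group M] [Finite M] [Fact (Nat.Prime 5)] (D : Subgroup M)
    [D.Normal] (hD : Nat.card D = 5) (hM : Nat.card M = 300) (hs : 1 < Nat.card (Sylow 5 M)) :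
    Subgroup.centralizer (D : Set M) = ⊤ := by
  classical
  obtain ⟨L, hL⟩ : ∃ L, L = Subgroup.centralizer (D : Set M) := ⟨_, rfl⟩
  rw [← hL]
  have hSc : ∀ S : Sylow 5 M, Nat.card (S : Subgroup M) = 25 := fun S => by
    rw [S.card_eq_multiplicity, hM,
      CfsgLib.Invol.Thousand.factorization_eq (a := 2) (r := 12) (by norm_num) (by norm_num) (by norm_num)]
    norm_num
  have hle : ∀ S : Sylow 5 M, (S : Subgroup M) ≤ L := by
    intro S
    have hDS : D ≤ S := by
      obtain ⟨T, hT⟩ := (IsPGroup.of_card (p := 5) (n := 1) (G := D) (by rw [hD, pow_one])).exists_le_sylow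
      obtain ⟨g, hg'⟩ := MulAction.exists_smul_eq M T S
      intro v hv
      rw [← hg', Sylow.coe_subgroup_smul]
      exact ⟨_, hT (‹D.Normal›.conj_mem v hv g⁻¹), by simp [mul_assoc]⟩
    haveI : IsMulCommutative (S : Subgroup M) :=
      IsPGroup.isMulCommutative_of_card_eq_prime_sq (p := 5) (by rw [hSc]; norm_num)
    exact hL ▸ (Subgroup.le_centralizer (S : Subgroup M)).trans (Subgroup.centralizer_le hDS)
  have hidx : L.index ∣ 4 := by
    have h1 : (Subgroup.normalizerMonoidHom D).ker.index ∣ Nat.card (MulAut D) := by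
      rw [Subgroup.index_ker]; exact Subgroup.card_subgroup_dvd_card _
    haveI : IsCyclic D := isCyclic_of_prime_card hD
    rw [Subgroup.normalizerMonoidHom_ker, IsCyclic.card_mulAut, hD, Nat.totient_prime (by norm_num),
      ← Subgroup.relIndex, Subgroup.normalizer_eq_top_iff.2 ‹D.Normal›, Subgroup.relIndex_top_right, ← hL] at h1
    exact h1
  have hcard := L.card_mul_index
  rw [hM] at hcard
  have hsL : Nat.card (Sylow 5 L) ≠ 1 := by
    intro h
    haveI : Subsingleton (Sylow 5 L) := (Nat.card_eq_one_iff_unique.1 h).1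
    haveI : Subsingleton (Sylow 5 M) := ⟨fun A B => by
      have h := Subsingleton.elim (A.subtype (hle A)) (B.subtype (hle B))
      have h' := congrArg (fun S : Sylow 5 L => (S : Subgroup L).map L.subtype) h
      simp only [Sylow.coe_subtype, Subgroup.map_subgroupOf_eq_of_le (hle A),
        Subgroup.map_subgroupOf_eq_of_le (hle B)] at h'
      exact Sylow.ext h'⟩
    exact hs.ne' (Nat.card_eq_one_iff_unique.2 ⟨inferInstance, inferInstance⟩)
  obtain ⟨i, hi, hi'⟩ := (Nat.dvd_prime_pow (m := 2) Nat.prime_two).1 hidx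
  interval_cases i
  · exact Subgroup.index_eq_one.1 (by simpa using hi')
  · rw [hi'] at hcard
    exact absurd (card_sylow_five_of_150 (M := L) (by omega)) hsL
  · exfalso
    rw [hi'] at hcard
    obtain ⟨S⟩ : Nonempty (Sylow 5 L) := inferInstance
    have hSL : Nat.card (S : Subgroup L) = 25 := by
      rw [S.card_eq_multiplicity, show Nat.card L = 75 by omega,
        CfsgLib.Invol.Thousand.factorization_eq (a := 2) (r := 3) (by norm_num) (by norm_num) (by norm_num)]
      norm_num
    have h2 := (S : Subgroup L).index_mul_card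
    rw [hSL] at h2
    have h3 : Nat.card (Sylow 5 L) ∣ 3 := by
      have := S.card_dvd_index
      rwa [show (S : Subgroup L).index = 3 by omega] at this
    have h4 : Nat.card (Sylow 5 L) % 5 = 1 := card_sylow_modEq_one 5 L
    have := Nat.le_of_dvd (by norm_num) h3
    omega

theorem card_ne_3600 : Nat.card G ≠ 3600 := by
  classical
  intro hg
  haveI : Fact (Nat.Prime 5) := ⟨by norm_num⟩
  have hG := noncomm_of_card (G := G) (by rw [hg]; norm_num)
  obtain ⟨D, M, k, hM, hDc, hne, hk, hki, hsk, hs, hfac⟩ := exists_pair_data (p := 5) (r := 144) hg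
    (by norm_num) (by norm_num) (by norm_num) (by norm_num)
    (fun n hn hd hmod hf => by
      have hall : ∀ n ∈ Nat.divisors 144, n % 5 = 1 → n % 5 ^ 2 = 1 → n = 1 := by decide +kernel
      intro h25
      rw [hall n (Nat.mem_divisors.2 ⟨hd, by norm_num⟩) hmod h25] at hf
      norm_num [Nat.factorial] at hf)
  have hsmallidx : ∀ i, i ≤ 9 → ¬ 2 * 3600 ∣ i.factorial := by
    intro i hi h
    interval_cases i <;> norm_num [Nat.factorial] at h
  rcases index_cases_five hki hsk hs (by norm_num) hfac with ⟨q, rfl⟩ | ⟨q, rfl⟩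
  swap
  · rw [mul_assoc] at hki
    exact hsmallidx _ (Nat.le_of_dvd (by norm_num) (⟨q, by rw [mul_comm M.index q]; omega⟩ : M.index ∣ 9)) hfac
  have hi : M.index ∣ 24 := ⟨q, by rw [mul_assoc] at hki; rw [mul_comm M.index q]; omega⟩
  obtain ⟨i, hidef⟩ : ∃ i, M.index = i := ⟨_, rfl⟩
  rw [hidef] at hi hki hfac
  have := Nat.le_of_dvd (by norm_num) hi
  have hi' : i = 12 ∨ i = 24 := by
    rcases Nat.lt_or_ge 9 i with h | h
    · interval_cases i <;> omega
    · exact absurd hfac (hsmallidx i h)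
  rcases hi' with rfl | rfl
  swap
  · exact false_of_card_150 (D := D) (by rw [hk]; omega) hs
  obtain rfl : q = 2 := by omega
  norm_num at hk
  haveI hDn : (D.subgroupOf M).Normal := by rw [hM]; exact Subgroup.normal_in_normalizer
  have hDM : D ≤ M := hM ▸ Subgroup.le_normalizer
  have hcent := le_center_of_card_300 (M := M) (D.subgroupOf M)
    (by rw [Nat.card_congr (Subgroup.subgroupOfEquivOfLe hDM).toEquiv, hDc]) hk hs
  obtain ⟨d', hd'⟩ := exists_prime_orderOf_dvd_card' (G := D) 5 (by rw [hDc])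
  have hdo : orderOf (d' : G) = 5 := by rw [Subgroup.orderOf_coe, hd']
  have hcomm : ∀ m ∈ M, m * (d' : G) = (d' : G) * m := by
    intro m hm
    have h1 : (⟨m, hm⟩ : M) ∈ Subgroup.centralizer ((D.subgroupOf M : Subgroup M) : Set M) :=
      hcent.symm ▸ Subgroup.mem_top _
    exact (congrArg Subtype.val (Subgroup.mem_centralizer_iff.1 h1 ⟨(d' : G), hDM d'.2⟩ d'.2)).symm
  haveI : Fintype (G ⧸ M) := Fintype.ofFinite _
  have hcard : Fintype.card (G ⧸ M) = 12 := by rw [← Nat.card_eq_fintype_card]; exact hidef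
  haveI : Nontrivial (G ⧸ M) := Fintype.one_lt_card_iff_nontrivial.1 (by omega)
  let f := MulAction.toPermHom G (G ⧸ M)
  have hinj : Function.Injective f := by
    rw [← MonoidHom.ker_eq_bot_iff]
    refine (IsSimpleGroup.eq_bot_or_eq_top_of_normal f.ker inferInstance).resolve_right fun h => ?_
    refine hne ((Subgroup.eq_top_iff' M).2 fun g => ?_)
    have h1 := congrArg (fun σ : Equiv.Perm (G ⧸ M) => σ ((1 : G) : G ⧸ M))
      (MonoidHom.mem_ker.1 (h ▸ Subgroup.mem_top g : g ∈ f.ker))
    simp only [f, MulAction.toPermHom_apply, MulAction.toPerm_apply, Equiv.Perm.one_apply,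
      MulAction.Quotient.smul_coe, smul_eq_mul, mul_one, QuotientGroup.eq, inv_mem_iff] at h1
    exact h1
  obtain ⟨σ, hσ⟩ : ∃ σ, σ = f d' := ⟨_, rfl⟩
  have hσo : orderOf σ = 5 := by rw [hσ, orderOf_injective f hinj, hdo]
  obtain ⟨c, hc⟩ := Equiv.Perm.cycleType_prime_order (σ := σ) (hσo ▸ (Fact.out : Nat.Prime 5))
  rw [hσo] at hc
  have hmap : M.map f ≤ Subgroup.centralizer ({σ} : Set (Equiv.Perm (G ⧸ M))) := by
    rintro _ ⟨m, hm, rfl⟩
    rw [Subgroup.mem_centralizer_singleton_iff, hσ, ← map_mul, ← map_mul, hcomm m hm]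
  have hdvd := Subgroup.card_dvd_of_le hmap
  have hsum := σ.sum_cycleType_le
  rw [Subgroup.card_map_of_injective hinj, hk, Equiv.Perm.nat_card_centralizer, hc, hcard,
    Multiset.sum_replicate, Multiset.prod_replicate, smul_eq_mul] at hdvd
  rw [hc, hcard, Multiset.sum_replicate, smul_eq_mul] at hsum
  simp [Multiset.toFinset_replicate, Multiset.count_replicate] at hdvd
  have hc0 : c = 0 := by
    rcases c with _ | _ | c
    · rfl
    · norm_num [Nat.factorial] at hdvd
    · omega
  subst hc0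
  have hsupp : σ.support.card = 5 := by
    rw [← Equiv.Perm.sum_cycleType, hc]; simp
  have hcyc : σ.IsCycle := Equiv.Perm.isCycle_of_prime_order (hσo ▸ (Fact.out : Nat.Prime 5))
    (by rw [hσo]; omega)
  have hcoatom : IsCoatom M := by
    refine ⟨hne, fun H hH => ?_⟩
    by_contra htop
    have hf2 := index_dvd_factorial_twice hG htop
    rw [hg] at hf2
    have h1 := Subgroup.relIndex_mul_index hH.le
    rw [hidef] at h1
    have h2 : M.relIndex H ≠ 1 := fun e => hH.not_ge (Subgroup.relIndex_eq_one.1 e)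
    refine hsmallidx _ ?_ hf2
    by_contra hlt
    push Not at hlt
    rcases Nat.eq_zero_or_pos (M.relIndex H) with e | e
    · rw [e] at h1; omega
    · have h3 := Nat.mul_le_mul (show 2 ≤ M.relIndex H by omega) (show 10 ≤ H.index by omega)
      omega
  haveI hprim : MulAction.IsPreprimitive G (G ⧸ M) := by
    rw [← MulAction.isCoatom_stabilizer_iff_preprimitive G ((1 : G) : G ⧸ M), MulAction.stabilizer_quotient]
    exact hcoatom
  let ι : G ⧸ M →ₑ[(f.rangeRestrict : G → f.range)] G ⧸ M := { toFun := id, map_smul' := fun g a => rfl }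
  have hΓ : MulAction.IsPreprimitive f.range (G ⧸ M) :=
    MulAction.IsPreprimitive.of_surjective (f := ι) Function.surjective_id
  have hA := Cfsg.Agent.S0713.result f.range hΓ (p := 5) (g := σ) (by norm_num) (by omega) (by omega) hcyc
    hsupp (hσ ▸ ⟨_, rfl⟩)
  have h1 := Nat.le_of_dvd Nat.card_pos (Subgroup.card_dvd_of_le hA)
  rw [← Nat.card_congr (MonoidHom.ofInjective hinj).toEquiv, hg, nat_card_alternatingGroup,
    Nat.card_eq_fintype_card, hcard] at h1
  norm_num [Nat.factorial] at h1

end CfsgLib.Perm.Intersection
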