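import Mathlib
import Cfsg.Agent.Lib.Perm.Small.InvolutionShape

/-!
# The test for an involution centralizing the Sylow subgroup of prime order

An involution `y` in `C_G(P)` takes on each nonexceptional principal character a value congruent to the
sign modulo `p`; column orthogonality then bounds `|C_G(y)|` from below.
-/

set_option autoImplicit false
set_option linter.unusedSectionVars false
set_option linter.style.haveILetI false

namespace CfsgLib.Perm.PrimeBlock

open Cfsg CfsgLib.Block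
open scoped ComplexConjugate

/-- Possible signed values at a centralizing involution. -/
def valsCent (p d : ℕ) (s : ℤ) : List ℤ := (valsFor d s).filter fun S => S % (p : ℤ) == 1

/-- All assignments of such values. -/
def assignsCent (p d : ℕ) : List ℤ → List (List (ℤ × ℤ))
  | [] => [[]]
  | s :: r => (valsCent p d s).flatMap fun S => (assignsCent p d r).map ((s, S) :: ·)

/-- One assignment is consistent with `|C_G(y)| ≤ d`. -/
def goodCent (p e d : ℕ) (l : List (ℤ × ℤ)) : Bool :=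
  let T : ℤ := 1 + (l.map Prod.snd).sum
  let D : ℤ := 1 + (l.map Prod.fst).sum
  decide (T.natAbs < D.natAbs) && ((T - D) % 4 == 0) &&
    (((((p - 1) / e : ℕ) : ℤ) * T + 1) % (p : ℤ) == 0) &&
      decide (1 + (l.map fun x => x.2 * x.2).sum + (((p - 1) / e : ℕ) : ℤ) * (T * T) ≤ (d : ℤ))

/-- Some degrees and values are consistent with `|C_G(y)| ≤ d`. -/
def centPossible (g m p e B d : ℕ) : Bool :=
  (degLists g m p e B).any fun l => (assignsCent p (d + 1) l).any (goodCent p e d)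

theorem mem_assignsCent {ι : Type*} (f v : ι → ℤ) (p d : ℕ) :
    ∀ X : List ι, (∀ a ∈ X, v a ∈ valsCent p d (f a)) →
      X.map (fun a => (f a, v a)) ∈ assignsCent p d (X.map f) := by
  intro X
  induction X with
  | nil => intro _; simp [assignsCent]
  | cons a X ih =>
    intro h
    simp only [List.map_cons, assignsCent, List.mem_flatMap, List.mem_map]
    exact ⟨v a, h a (by simp), _, ih fun b hb => h b (List.mem_cons_of_mem _ hb), rfl⟩

/-- The value at an involution commuting with `x` is congruent to the value on the section. -/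
theorem dvd_value_sub {G : Type*} [Group G] [Finite G] {χ : G → ℂ} (hχ : IsCharacter G χ) {p : ℕ}
    (hp : p.Prime) (hodd : p ≠ 2) {x y : G} (hx : orderOf x = p) (hy : orderOf y = 2)
    (hcomm : Commute x y) {c r : ℤ} (hc : ∀ j : ℕ, ¬ p ∣ j → χ (x ^ j * y) = (c : ℂ))
    (hr : χ y = (r : ℂ)) : (p : ℤ) ∣ r - c := by
  classical
  obtain ⟨m, ρ, rfl⟩ := hχ
  obtain ⟨b, μ, hμ, hb, hpow⟩ := CfsgLib.Char.exists_eigen_data ρ (x * y)
  have hcop : Nat.Coprime p 2 := (Nat.Prime.coprime_iff_not_dvd hp).2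
    fun h => hodd ((Nat.prime_dvd_prime_iff_eq hp Nat.prime_two).1 h)
  have hord : orderOf (x * y) = p * 2 := by
    rw [hcomm.orderOf_mul_eq_mul_orderOf_of_coprime (by rw [hx, hy]; exact hcop), hx, hy]
  obtain ⟨A, hA1, hA2⟩ := Nat.chineseRemainder hcop 1 0
  obtain ⟨B, hB1, hB2⟩ := Nat.chineseRemainder hcop 0 1
  have hxA : (x * y) ^ A = x := by
    rw [hcomm.mul_pow, show x ^ A = x ^ 1 from pow_eq_pow_iff_modEq.2 (by rwa [hx]),
      show y ^ A = y ^ 0 from pow_eq_pow_iff_modEq.2 (by rwa [hy]), pow_zero, mul_one, pow_one]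
  have hyB : (x * y) ^ B = y := by
    rw [hcomm.mul_pow, show x ^ B = x ^ 0 from pow_eq_pow_iff_modEq.2 (by rwa [hx]),
      show y ^ B = y ^ 1 from pow_eq_pow_iff_modEq.2 (by rwa [hy]), pow_zero, one_mul, pow_one]
  have hval : ∀ j : ℕ, ρ.character (x ^ j * y) = ∑ i, (μ i ^ A) ^ j * μ i ^ B := by
    intro j
    rw [show x ^ j * y = (x * y) ^ (A * j + B) by rw [pow_add, pow_mul, hxA, hyB], hpow]
    exact Finset.sum_congr rfl fun i _ => by rw [pow_add, pow_mul]
  have hlam : ∀ i, (μ i ^ A) ^ p = 1 := by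
    intro i
    obtain ⟨t, ht⟩ : 2 ∣ A := Nat.modEq_zero_iff_dvd.1 hA2
    rw [← pow_mul, ht, show 2 * t * p = orderOf (x * y) * t by rw [hord]; ring, pow_mul, hμ, one_pow]
  have hν : ∀ i, μ i ^ B = 1 ∨ μ i ^ B = -1 := by
    intro i
    obtain ⟨t, ht⟩ : p ∣ B := Nat.modEq_zero_iff_dvd.1 hB1
    refine sq_eq_one_iff.1 ?_
    rw [← pow_mul, ht, show p * t * 2 = orderOf (x * y) * t by rw [hord]; ring, pow_mul, hμ, one_pow]
  obtain ⟨N, hN⟩ : ∃ N : ℤ, ∑ i ∈ Finset.univ.filter (fun i => μ i ^ A = 1), μ i ^ B = (N : ℂ) := by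
    refine ⟨∑ i ∈ Finset.univ.filter (fun i => μ i ^ A = 1), (if μ i ^ B = 1 then 1 else -1), ?_⟩
    push_cast
    refine Finset.sum_congr rfl fun i _ => ?_
    rcases hν i with h | h <;> rw [h] <;> norm_num
  have hgeo : ∀ i, ∑ j ∈ Finset.range p, (μ i ^ A) ^ j = if μ i ^ A = 1 then (p : ℂ) else 0 := by
    intro i
    split_ifs with he
    · simp [he]
    · rw [geom_sum_eq he, hlam, sub_self, zero_div]
  have hsum : (p : ℂ) * N = (r : ℂ) + ((p : ℂ) - 1) * c := by
    rw [← hN, Finset.mul_sum, Finset.sum_filter]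
    calc (∑ i, if μ i ^ A = 1 then (p : ℂ) * μ i ^ B else 0)
        = ∑ i, (∑ j ∈ Finset.range p, (μ i ^ A) ^ j) * μ i ^ B := by
          refine Finset.sum_congr rfl fun i _ => ?_
          rw [hgeo]; split_ifs <;> ring
      _ = ∑ j ∈ Finset.range p, ρ.character (x ^ j * y) := by
          simp only [Finset.sum_mul, hval]
          exact Finset.sum_comm
      _ = _ := by
          rw [Finset.range_eq_Ico, Finset.sum_eq_sum_Ico_succ_bot hp.pos, pow_zero, one_mul, hr,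
            Finset.sum_congr rfl (g := fun _ => (c : ℂ)) fun j hj => ?_, Finset.sum_const, Nat.card_Ico,
            nsmul_eq_mul, Nat.cast_sub hp.one_lt.le]
          · simp
          · rw [Finset.mem_Ico] at hj
            exact hc j (Nat.not_dvd_of_pos_of_lt (by omega) hj.2)
  have hz : (p : ℤ) * N = r + ((p : ℤ) - 1) * c := by exact_mod_cast hsum
  exact ⟨N - c, by linear_combination -hz⟩

variable {G : Type*} [Group G] [IsSimpleGroup G]

set_option maxHeartbeats 1000000 in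
/-- A centralizing involution passes the test. -/
theorem Shape.centPossible_eq [Fintype G] (hG : ¬ IsMulCommutative G) {p m e B d : ℕ} [Fact p.Prime]
    {P : Sylow p G} (S : Shape p e (P : Subgroup G)) (hodd : p ≠ 2) (hP : Nat.card (P : Subgroup G) = p)
    (hg : Nat.card G = m * p) (hep : e ∣ p - 1) (he : 2 ≤ e)
    (hB : Nat.card G ≤ B * B) {y : G}
    (hy : y ∈ Subgroup.centralizer ((P : Subgroup G) : Set G)) (hyo : orderOf y = 2)
    (hd : Nat.card (Subgroup.centralizer ({y} : Set G)) ≤ d) :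
    centPossible (Nat.card G) m p e B d = true := by
  classical
  have hp : p.Prime := Fact.out
  haveI := Fintype.ofFinite (IrrCharacter G)
  have hdeg : ∀ χ : IrrCharacter G, (χ : G → ℂ) 1 = (charDegree (χ : G → ℂ) : ℂ) :=
    fun χ => (charDegree_eq χ).1
  have h1o : ¬ p ∣ orderOf (1 : G) := by rw [orderOf_one]; exact hp.not_dvd_one
  obtain ⟨x', hx'⟩ := exists_prime_orderOf_dvd_card' (G := (P : Subgroup G)) p (by rw [hP])
  obtain ⟨x, hx, hxo⟩ : ∃ x ∈ (P : Subgroup G), orderOf x = p :=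
    ⟨x', x'.2, by rw [Subgroup.orderOf_coe, hx']⟩
  have hyr : ¬ p ∣ orderOf y := by
    rw [hyo]; exact fun h => hodd ((Nat.prime_dvd_prime_iff_eq hp Nat.prime_two).1 h)
  have hxy : Commute x y := Subgroup.mem_centralizer_iff.1 hy x hx
  have hxj : ∀ j : ℕ, ¬ p ∣ j → x ^ j ∈ (P : Subgroup G) ∧ x ^ j ≠ 1 := fun j hj =>
    ⟨pow_mem hx j, fun h => hj (hxo ▸ orderOf_dvd_of_pow_eq_one h)⟩
  have hne : ∀ χ : IrrCharacter G, χ ≠ oneChar G → (χ : G → ℂ) ≠ fun _ => 1 := fun χ h h' =>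
    h (Subtype.ext h')
  have hXne : ∀ χ ∈ S.X, χ ≠ oneChar G := fun χ h h' => S.one_notMem_X (h' ▸ h)
  have hYne : ∀ θ ∈ S.Y, θ ≠ oneChar G := fun θ h h' => S.one_notMem_Y (h' ▸ h)
  choose r hr hrlt hr4 using fun χ : {χ : IrrCharacter G // χ ≠ oneChar G} =>
    involution_value hG χ.1 (hne _ χ.2) hyo
  let sv : IrrCharacter G → ℤ := fun χ => if h : χ ≠ oneChar G then r ⟨χ, h⟩ else 1
  have hsv : ∀ χ : IrrCharacter G, χ ≠ oneChar G → (χ : G → ℂ) y = sv χ ∧
      (sv χ).natAbs < charDegree (χ : G → ℂ) ∧ (sv χ - (charDegree (χ : G → ℂ) : ℤ)) % 4 = 0 := by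
    intro χ h
    simp only [sv, dif_pos h]
    exact ⟨hr ⟨χ, h⟩, hrlt ⟨χ, h⟩, hr4 ⟨χ, h⟩⟩
  obtain ⟨θ₀, hθ₀⟩ : S.Y.Nonempty := Finset.card_pos.1 (by
    rw [S.card_Y]; exact Nat.div_pos (Nat.le_of_dvd (by have := hp.two_le; omega) hep) (by omega))
  obtain ⟨hθ₀y, hθ₀lt, hθ₀4⟩ := hsv θ₀ (hYne θ₀ hθ₀)
  rw [S.degree_Y θ₀ hθ₀] at hθ₀lt hθ₀4
  let f : IrrCharacter G → ℤ := fun χ => S.εX χ * (charDegree (χ : G → ℂ) : ℤ)
  let v : IrrCharacter G → ℤ := fun χ => S.εX χ * sv χ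
  have hrel1 : S.ε * (S.D : ℤ) = 1 + ∑ χ ∈ S.X, f χ := by
    have h := S.relation θ₀ hθ₀ 1 h1o
    simp only [hdeg, S.degree_Y θ₀ hθ₀] at h
    simp only [f]
    exact_mod_cast h
  have hrely : S.ε * sv θ₀ = 1 + ∑ χ ∈ S.X, v χ := by
    have h := S.relation θ₀ hθ₀ y hyr
    rw [hθ₀y, Finset.sum_congr rfl fun χ hχ => by rw [(hsv χ (hXne χ hχ)).1]] at h
    simp only [v]
    exact_mod_cast h
  obtain ⟨t, ht⟩ : ∃ t, t = (p - 1) / e := ⟨_, rfl⟩
  have hcol : 1 + ∑ χ ∈ S.X, v χ * v χ + (t : ℤ) * ((S.ε * sv θ₀) * (S.ε * sv θ₀)) ≤ (d : ℤ) := by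
    have h := CfsgLib.Char.sum_irr_mul_conj y y
    rw [if_pos (IsConj.refl y)] at h
    have hre := congrArg Complex.re h
    rw [Complex.natCast_re, Complex.re_sum] at hre
    have hsub := Finset.sum_le_sum_of_subset_of_nonneg
      (Finset.subset_univ ({oneChar G} ∪ S.X ∪ S.Y))
      (f := fun χ : IrrCharacter G => ((χ : G → ℂ) y * conj ((χ : G → ℂ) y)).re)
      (fun χ _ _ => by rw [Complex.mul_conj]; exact Complex.normSq_nonneg _)
    rw [hre, Finset.sum_union (Finset.disjoint_union_left.2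
      ⟨Finset.disjoint_singleton_left.2 S.one_notMem_Y, S.disjoint⟩), Finset.sum_union
      (Finset.disjoint_singleton_left.2 S.one_notMem_X), Finset.sum_singleton] at hsub
    have hX' : ∀ χ ∈ S.X, ((χ : G → ℂ) y * conj ((χ : G → ℂ) y)).re = ((v χ * v χ : ℤ) : ℝ) := by
      intro χ hχ
      rw [(hsv χ (hXne χ hχ)).1]
      simp only [v]
      rcases S.sign_X χ hχ with hs | hs <;> simp [hs]
    have hY' : ∀ θ ∈ S.Y, ((θ : G → ℂ) y * conj ((θ : G → ℂ) y)).re =
        (((S.ε * sv θ₀) * (S.ε * sv θ₀) : ℤ) : ℝ) := by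
      intro θ hθ
      rw [S.regular_Y θ hθ θ₀ hθ₀ y hyr, hθ₀y]
      rcases S.sign with hs | hs <;> simp [hs]
    rw [Finset.sum_congr rfl hX', Finset.sum_congr rfl hY', Finset.sum_const, S.card_Y, ← ht] at hsub
    simp only [nsmul_eq_mul, oneChar] at hsub
    have hd' := (Nat.cast_le (α := ℝ)).2 hd
    have h2 : ((1 + ∑ χ ∈ S.X, v χ * v χ + (t : ℤ) * ((S.ε * sv θ₀) * (S.ε * sv θ₀)) : ℤ) : ℝ) ≤ ((d : ℤ) : ℝ) := by
      push_cast at hsub ⊢
      refine le_trans ?_ hd'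
      simpa using hsub
    exact_mod_cast h2
  have hcongrX : ∀ χ ∈ S.X, v χ % (p : ℤ) = 1 := by
    intro χ hχ
    have h := dvd_value_sub (CfsgLib.Char.isCharacter_irr χ) hp hodd hxo hyo hxy (c := S.εX χ)
      (fun j hj => S.value_X χ hχ _ (hxj j hj).1 (hxj j hj).2 y hy hyr) (hsv χ (hXne χ hχ)).1
    have h1 : v χ ≡ 1 [ZMOD p] := by
      refine ((Int.modEq_iff_dvd.2 h).symm.mul_left (S.εX χ)).trans ?_
      rcases S.sign_X χ hχ with hs | hs <;> rw [hs] <;> rfl
    rw [Int.ModEq, Int.emod_eq_of_lt (by norm_num : (0 : ℤ) ≤ 1)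
      (by have := hp.one_lt; exact_mod_cast this)] at h1
    exact h1
  have hcongrY : ((t : ℤ) * (S.ε * sv θ₀) + 1) % (p : ℤ) = 0 := by
    have h := dvd_value_sub (CfsgLib.Char.isCharacter_sum S.Y (fun θ => (θ : G → ℂ))
        fun θ _ => CfsgLib.Char.isCharacter_irr θ) hp hodd hxo hyo hxy (c := -S.ε) (r := (t : ℤ) * sv θ₀)
      (fun j hj => by
        rw [Finset.sum_apply, S.value_Y _ (hxj j hj).1 (hxj j hj).2 y hy hyr]; push_cast; rfl)
      (by
        rw [Finset.sum_apply, Finset.sum_congr rfl (g := fun _ : IrrCharacter G => (sv θ₀ : ℂ))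
          (fun θ hθ => by rw [S.regular_Y θ hθ θ₀ hθ₀ y hyr, hθ₀y]), Finset.sum_const, nsmul_eq_mul,
          S.card_Y, ← ht]
        push_cast; rfl)
    refine Int.emod_eq_zero_of_dvd ?_
    have h2 := h.mul_left S.ε
    rw [show (t : ℤ) * (S.ε * sv θ₀) + 1 = S.ε * ((t : ℤ) * sv θ₀ - -S.ε) from by
      rcases S.sign with hs | hs <;> rw [hs] <;> ring]
    exact h2
  obtain ⟨X', hX'perm, hX'mem⟩ := exists_combo f _ S.X.toList
    (fun χ hχ => S.mem_cands_one hG hg hB (Finset.mem_toList.1 hχ))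
  rw [Finset.length_toList, show S.X.card = e - 1 by have := S.card_X; omega] at hX'mem
  have hmemX : ∀ χ ∈ X', χ ∈ S.X := fun χ hχ => Finset.mem_toList.1 (hX'perm.mem_iff.1 hχ)
  have hsumX : ∀ g : IrrCharacter G → ℤ, (X'.map g).sum = ∑ χ ∈ S.X, g χ := fun g => by
    rw [(hX'perm.map g).sum_eq, Finset.sum_map_toList]
  refine List.any_eq_true.2 ⟨X'.map f, ?_, List.any_eq_true.2
    ⟨X'.map fun χ => (f χ, v χ), mem_assignsCent f v p (d + 1) X' fun χ hχ => ?_, ?_⟩⟩
  · have hh := S.okAbs_Y hG hg hep he hθ₀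
    simp only [degLists, List.mem_filter, hX'mem, true_and, Bool.and_eq_true, beq_iff_eq, hsumX, ← hrel1]
    exact hh
  · obtain ⟨-, hlt, h4⟩ := hsv χ (hXne χ (hmemX χ hχ))
    simp only [valsCent, List.mem_filter, beq_iff_eq]
    refine ⟨mem_valsFor ?_ ?_ ?_, hcongrX χ (hmemX χ hχ)⟩
    · simp only [f, v]
      rcases S.sign_X χ (hmemX χ hχ) with hs | hs <;> simpa [hs] using hlt
    · have h1 : v χ * v χ ≤ ∑ ψ ∈ S.X, v ψ * v ψ :=
        Finset.single_le_sum (f := fun ψ => v ψ * v ψ) (fun ψ _ => mul_self_nonneg _) (hmemX χ hχ)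
      have h2 : 0 ≤ (t : ℤ) * ((S.ε * sv θ₀) * (S.ε * sv θ₀)) :=
        mul_nonneg (Int.natCast_nonneg _) (mul_self_nonneg _)
      push_cast
      linarith
    · simp only [f, v]
      rcases S.sign_X χ (hmemX χ hχ) with hs | hs <;> rw [hs] <;> omega
  have hmapf : (X'.map fun χ => (f χ, v χ)).map Prod.fst = X'.map f := by simp [List.map_map, Function.comp_def]
  have hmapv : (X'.map fun χ => (f χ, v χ)).map Prod.snd = X'.map v := by simp [List.map_map, Function.comp_def]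
  have hmapq : ((X'.map fun χ => (f χ, v χ)).map fun q => q.2 * q.2) = X'.map fun χ => v χ * v χ := by
    simp [List.map_map, Function.comp_def]
  simp only [goodCent, hmapf, hmapv, hmapq, hsumX, ← hrel1, ← hrely, ← ht, Bool.and_eq_true,
    decide_eq_true_eq, beq_iff_eq]
  refine ⟨⟨⟨?_, ?_⟩, hcongrY⟩, hcol⟩
  · rcases S.sign with hs | hs <;> rw [hs] <;> simpa using hθ₀lt
  · rcases S.sign with hs | hs <;> rw [hs] <;> omega

end CfsgLib.Perm.PrimeBlock
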