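import Mathlib
import Cfsg.Agent.Lib.Invol.SmallSimple

/-!
# Centralizers of a Sylow subgroup of prime order in permutation actions

An element centralizing `x` of prime order `p` and fixing every orbit of `x` acts on each orbit as a
power of `x`, so its `p`-th power acts trivially.
-/

set_option autoImplicit false
set_option linter.style.haveILetI false

namespace CfsgLib.Perm.PrimeBlock

open MulAction

variable {G α : Type*} [Group G] [Finite G] [MulAction G α] [Finite α] [FaithfulSMul G α]

omit [Finite G] in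
/-- An element commuting with `x` and fixing each orbit of `x` has order dividing that of `x`. -/
theorem pow_eq_one_of_fixes_orbits {x y : G} (hc : Commute x y) {p : ℕ} (hx : x ^ p = 1)
    (h : ∀ a : α, ∃ j : ℤ, x ^ j • a = y • a) : y ^ p = 1 := by
  refine FaithfulSMul.eq_of_smul_eq_smul (α := α) fun a => ?_
  obtain ⟨j, hj⟩ := h a
  have key : ∀ k : ℕ, y ^ k • a = x ^ (j * k) • a := by
    intro k
    induction k with
    | zero => simp
    | succ k ih =>
      rw [pow_succ, mul_smul, ← hj, ← mul_smul, ← ((hc.zpow_left j).pow_right k).eq, mul_smul, ih,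
        ← mul_smul, ← zpow_add]
      congr 2
      push_cast; ring
  rw [key, one_smul, mul_comm, zpow_mul, zpow_natCast, hx, one_zpow, one_smul]

/-- The centralizer of a subgroup of prime order not dividing `c` acts on its orbits with kernel
inside it. -/
theorem dvd_factorial_orbits {p c : ℕ} [Fact p.Prime] {P : Subgroup G}
    (hP : Nat.card P = p) (hC : Nat.card (Subgroup.centralizer (P : Set G)) = p * c) (hpc : ¬ p ∣ c) :
    c ∣ (Nat.card (orbitRel.Quotient P α)).factorial := by
  classical
  have hp : p.Prime := Fact.out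
  obtain ⟨C, hCdef⟩ : ∃ C, C = Subgroup.centralizer (P : Set G) := ⟨_, rfl⟩
  rw [← hCdef] at hC
  have hcomm : ∀ (y : C) (w : P), Commute (w : G) (y : G) := fun y w => by
    exact Subgroup.mem_centralizer_iff.1 (hCdef.le y.2) w w.2
  let act : C → orbitRel.Quotient P α → orbitRel.Quotient P α := fun y =>
    Quotient.map' (fun a => (y : G) • a) (by
      intro a b hab
      rw [orbitRel_apply, mem_orbit_iff] at hab
      obtain ⟨w, rfl⟩ := hab
      rw [orbitRel_apply, mem_orbit_iff]
      refine ⟨w, ?_⟩
      show (w : G) • (y : G) • b = (y : G) • (w : G) • b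
      rw [← mul_smul, (hcomm y w).eq, mul_smul])
  letI inst : MulAction C (orbitRel.Quotient P α) :=
    { smul := act
      one_smul := fun q => Quotient.inductionOn' q fun a =>
        congrArg Quotient.mk'' (one_smul G a)
      mul_smul := fun y z q => Quotient.inductionOn' q fun a =>
        congrArg Quotient.mk'' (mul_smul (y : G) (z : G) a) }
  let f := MulAction.toPermHom C (orbitRel.Quotient P α)
  have h1 : Nat.card f.range ∣ (Nat.card (orbitRel.Quotient P α)).factorial := by
    rw [← Nat.card_perm]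
    exact Subgroup.card_subgroup_dvd_card _
  have h2 : Nat.card f.ker * Nat.card f.range = p * c := by
    rw [← Subgroup.index_ker, Subgroup.card_mul_index, hC]
  have hker : ∀ y : f.ker, ((y : C) : G) ^ p = 1 := by
    intro y
    haveI : Nontrivial P := Finite.one_lt_card_iff_nontrivial.1 (by rw [hP]; exact hp.one_lt)
    obtain ⟨⟨x, hx⟩, hne⟩ := exists_ne (1 : P)
    have hxo : orderOf x = p := by
      have h := orderOf_dvd_natCard (⟨x, hx⟩ : P)
      rw [hP, Subgroup.orderOf_mk] at h
      exact ((Nat.dvd_prime hp).1 h).resolve_left fun h' => hne (Subtype.ext (orderOf_eq_one_iff.1 h'))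
    have hgen : Subgroup.zpowers x = P :=
      Subgroup.eq_of_le_of_card_ge (Subgroup.zpowers_le.2 hx) (by rw [hP, Nat.card_zpowers, hxo])
    refine pow_eq_one_of_fixes_orbits (α := α) (hcomm y ⟨x, hx⟩) (hxo ▸ pow_orderOf_eq_one x) fun a => ?_
    have h := congrArg (fun σ : Equiv.Perm (orbitRel.Quotient P α) => σ (Quotient.mk'' a))
      (MonoidHom.mem_ker.1 y.2)
    have h' : (Quotient.mk'' (((y : C) : G) • a) : orbitRel.Quotient P α) = Quotient.mk'' a := h
    rw [Quotient.eq'', orbitRel_apply, mem_orbit_iff] at h'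
    obtain ⟨w, hw⟩ := h'
    obtain ⟨j, hj⟩ : (w : G) ∈ Subgroup.zpowers x := hgen.symm ▸ w.2
    refine ⟨j, ?_⟩
    rw [show x ^ j = (w : G) from hj]
    exact hw
  have h3 : Nat.card f.ker ∣ p := by
    obtain ⟨k, hk⟩ : ∃ k, Nat.card f.ker = p ^ k := by
      refine IsPGroup.iff_card.1 fun y => ⟨1, ?_⟩
      rw [pow_one]
      exact Subtype.ext (Subtype.ext (hker y))
    rcases k with _ | _ | k
    · rw [hk, pow_zero]; exact one_dvd p
    · rw [hk, pow_one]
    · exfalso
      have h4 : p ^ 2 ∣ p * c := ⟨p ^ k * Nat.card f.range, by rw [← h2, hk]; ring⟩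
      rw [pow_two] at h4
      exact hpc (Nat.dvd_of_mul_dvd_mul_left hp.pos h4)
  refine dvd_trans ?_ h1
  have h5 : c ∣ Nat.card f.ker * Nat.card f.range := h2 ▸ dvd_mul_left c p
  exact (Nat.Coprime.dvd_of_dvd_mul_left (Nat.Coprime.coprime_dvd_right h3 ((hp.coprime_iff_not_dvd.2 hpc).symm)) h5)

/-- The number of orbits of a subgroup of prime order with `f` fixed points. -/
theorem card_orbits {p f : ℕ} [Fact p.Prime] {P : Subgroup G} (hP : Nat.card P = p)
    (hf : Nat.card (fixedPoints P α) = f) :
    p * Nat.card (orbitRel.Quotient P α) = Nat.card α + (p - 1) * f := by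
  classical
  have hp : p.Prime := Fact.out
  haveI := Fintype.ofFinite α
  haveI := Fintype.ofFinite (orbitRel.Quotient P α)
  have hcount : Nat.card α = ∑ q : orbitRel.Quotient P α, Nat.card (orbitRel.Quotient.orbit q) := by
    rw [Nat.card_congr (selfEquivSigmaOrbits' P α), Nat.card_sigma]
  have hsize : ∀ q : orbitRel.Quotient P α, Nat.card (orbitRel.Quotient.orbit q) +
      (p - 1) * (if Nat.card (orbitRel.Quotient.orbit q) = 1 then 1 else 0) = p := by
    intro q
    have hd : Nat.card (orbitRel.Quotient.orbit q) ∣ p := by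
      induction q using Quotient.inductionOn' with
      | h a =>
        rw [orbitRel.Quotient.orbit_mk, Nat.card_coe_set_eq, ← MulAction.index_stabilizer, ← hP]
        exact Subgroup.index_dvd_card _
    rcases (Nat.dvd_prime hp).1 hd with h | h
    · rw [h, if_pos rfl]; have := hp.one_lt; omega
    · rw [h, if_neg hp.one_lt.ne']; omega
  have hfix : f = ∑ q : orbitRel.Quotient P α, (if Nat.card (orbitRel.Quotient.orbit q) = 1 then 1 else 0) := by
    rw [Finset.sum_boole, Nat.cast_id, ← hf, ← Fintype.card_subtype, ← Nat.card_eq_fintype_card]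
    refine Nat.card_congr (Equiv.ofBijective (fun a : fixedPoints P α =>
      (⟨Quotient.mk'' (a : α), ?_⟩ : {q : orbitRel.Quotient P α // Nat.card (orbitRel.Quotient.orbit q) = 1}))
      ⟨?_, ?_⟩)
    · rw [orbitRel.Quotient.orbit_mk, Nat.card_coe_set_eq, Set.ncard_eq_one]
      refine ⟨(a : α), Set.eq_singleton_iff_unique_mem.2 ⟨mem_orbit_self _, ?_⟩⟩
      rintro _ ⟨w, rfl⟩
      exact a.2 w
    · intro a b h
      have h' : (Quotient.mk'' (a : α) : orbitRel.Quotient P α) = Quotient.mk'' (b : α) :=
        congrArg Subtype.val h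
      rw [Quotient.eq'', orbitRel_apply, mem_orbit_iff] at h'
      obtain ⟨w, hw⟩ := h'
      exact Subtype.ext (hw.symm.trans (b.2 w))
    · rintro ⟨q, hq⟩
      induction q using Quotient.inductionOn' with
      | h a =>
        refine ⟨⟨a, fun w => ?_⟩, rfl⟩
        rw [orbitRel.Quotient.orbit_mk, Nat.card_coe_set_eq, Set.ncard_eq_one] at hq
        obtain ⟨b, hb⟩ := hq
        have h1 := hb.le (mem_orbit_self a)
        have h2 := hb.le (mem_orbit a w)
        rw [Set.mem_singleton_iff] at h1 h2
        exact h2.trans h1.symm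
  rw [hcount, hfix, Finset.mul_sum, ← Finset.sum_add_distrib, Finset.sum_congr rfl fun q _ => hsize q,
    Finset.sum_const, Finset.card_univ, smul_eq_mul, mul_comm, Nat.card_eq_fintype_card]

/-- Acting on the Sylow subgroups, a Sylow subgroup of prime order fixes only itself. -/
theorem fixedPoints_sylow {p : ℕ} [Fact p.Prime] (P : Sylow p G) :
    Nat.card (fixedPoints (P : Subgroup G) (Sylow p G)) = 1 := by
  refine Nat.card_eq_one_iff_exists.2 ⟨⟨P, fun x => ?_⟩, fun Q => Subtype.ext ?_⟩
  · exact Sylow.smul_eq_iff_mem_normalizer.2 (Subgroup.le_normalizer x.2)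
  · obtain ⟨Q, hQ⟩ := Q
    have hle : (P : Subgroup G) ≤ Subgroup.normalizer ((Q : Subgroup G) : Set G) := fun x hx =>
      Sylow.smul_eq_iff_mem_normalizer.1 (hQ ⟨x, hx⟩)
    refine Sylow.ext (P.3 Q.2 ?_)
    intro x hx
    exact (IsPGroup.inf_normalizer_sylow P.2 Q).le ⟨hx, hle hx⟩ |>.2

omit [Finite α] [FaithfulSMul G α] in
/-- A non-abelian simple group acting non-trivially acts faithfully. -/
theorem faithful_of_nontrivial [IsSimpleGroup G] (hne : ∃ (g : G) (a : α), g • a ≠ a) :
    FaithfulSMul G α := by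
  refine ⟨fun {a b} h => ?_⟩
  have hker : (MulAction.toPermHom G α).ker = ⊥ := by
    refine (IsSimpleGroup.eq_bot_or_eq_top_of_normal _ inferInstance).resolve_right fun ht => ?_
    obtain ⟨g, c, hgc⟩ := hne
    exact hgc (congrArg (fun σ : Equiv.Perm α => σ c)
      (MonoidHom.mem_ker.1 (ht ▸ Subgroup.mem_top g)))
  exact (MonoidHom.ker_eq_bot_iff _).1 hker (Equiv.ext h)

end CfsgLib.Perm.PrimeBlock
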