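import Mathlib
import Cfsg.Agent.Lib.Perm.Small.Count

/-!
# Sylow subgroups of prime order: fixed points and counting
-/

set_option autoImplicit false
set_option linter.all false

namespace CfsgLib.Perm.SylowPrime

open Subgroup MulAction
open scoped Pointwise

variable {G : Type*} [Group G] [Finite G] {p : ℕ} [hp : Fact p.Prime]

/-- In a simple group with several Sylow `p`-subgroups, only the identity normalizes all of them. -/
theorem eq_one_of_fix_all [IsSimpleGroup G] (hn : 1 < Nat.card (Sylow p G)) {y : G}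
    (h : ∀ R : Sylow p G, y • R = R) : y = 1 := by
  have hy : y ∈ (MulAction.toPermHom G (Sylow p G)).ker := by
    rw [MonoidHom.mem_ker]
    exact Equiv.ext h
  rcases IsSimpleGroup.eq_bot_or_eq_top_of_normal (MulAction.toPermHom G (Sylow p G)).ker inferInstance
    with e | e
  · rw [e, Subgroup.mem_bot] at hy; exact hy
  · exfalso
    obtain ⟨A, B, hAB⟩ := (Finite.one_lt_card_iff_nontrivial.1 hn).exists_pair_ne
    obtain ⟨g, hg⟩ := MulAction.exists_smul_eq G A B
    have := congrArg (fun σ => σ A) (MonoidHom.mem_ker.1 (e ▸ Subgroup.mem_top g : g ∈ (MulAction.toPermHom G (Sylow p G)).ker))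
    exact hAB (this.symm.trans hg)

/-- A non-trivial element of a Sylow subgroup of prime order fixes no other Sylow subgroup. -/
theorem eq_of_fix {P R : Sylow p G} (hP : Nat.card (P : Subgroup G) = p) {x : G}
    (hx : x ∈ (P : Subgroup G)) (hx1 : x ≠ 1) (h : x • R = R) : R = P := by
  have hmem : x ∈ (P : Subgroup G) ⊓ Subgroup.normalizer ((R : Subgroup G) : Set G) :=
    ⟨hx, Sylow.smul_eq_iff_mem_normalizer.1 h⟩
  have hxR := ((IsPGroup.inf_normalizer_sylow P.isPGroup' R).le hmem).2
  have hgen := CfsgLib.Perm.Small.zpowers_eq_of_mem hP hx hx1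
  have hle : (P : Subgroup G) ≤ R := hgen ▸ Subgroup.zpowers_le.2 hxR
  exact Sylow.ext ((P.is_maximal' R.isPGroup' hle))

theorem pow_smul_eq_iff {P R : Sylow p G} (hP : Nat.card (P : Subgroup G) = p) {x : G}
    (hx : x ∈ (P : Subgroup G)) (hx1 : x ≠ 1) (hR : R ≠ P) (i : ℕ) : x ^ i • R = R ↔ p ∣ i := by
  have hxo : orderOf x = p := by
    have h := Subgroup.orderOf_dvd_natCard _ hx
    rw [hP] at h
    exact ((Nat.dvd_prime hp.out).1 h).resolve_left fun h' => hx1 (orderOf_eq_one_iff.1 h')
  constructor
  · intro h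
    by_contra hi
    refine hR (eq_of_fix hP (pow_mem hx i) (fun h1 => hi ?_) h)
    rw [← hxo]
    exact orderOf_dvd_of_pow_eq_one h1
  · rintro ⟨j, rfl⟩
    rw [pow_mul, orderOf_dvd_iff_pow_eq_one.1 (dvd_of_eq hxo), one_pow, one_smul]

/-- Two subgroups of order `p` inside a subgroup of order below `p²` are equal. -/
theorem eq_of_card_prime_of_lt_sq {K A B : Subgroup G} (hA : A ≤ K) (hB : B ≤ K)
    (hAc : Nat.card A = p) (hBc : Nat.card B = p) (hK : Nat.card K < p * p) : A = B := by
  by_contra hne
  have hinf : A ⊓ B = ⊥ := by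
    rcases (Nat.dvd_prime hp.out).1 (hAc ▸ Subgroup.card_dvd_of_le (inf_le_left : A ⊓ B ≤ A)) with e | e
    · exact Subgroup.card_eq_one.1 e
    · exfalso
      have h1 : A ⊓ B = A := Subgroup.eq_of_le_of_card_ge inf_le_left (by rw [e, hAc])
      have h2 : A ⊓ B = B := Subgroup.eq_of_le_of_card_ge inf_le_right (by rw [e, hBc])
      exact hne (h1.symm.trans h2)
  have hinj : Function.Injective fun q : A × B => (⟨(q.1 : G) * q.2, mul_mem (hA q.1.2) (hB q.2.2)⟩ : K) :=
    fun q r h => Subgroup.mul_injective_of_disjoint (disjoint_iff.2 hinf) (congrArg Subtype.val h)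
  have := Nat.card_le_card_of_injective _ hinj
  rw [Nat.card_prod, hAc, hBc] at this
  omega

/-- Conjugation of centralizers. -/
theorem centralizer_map (f : G ≃* G) (H : Subgroup G) :
    Subgroup.centralizer ((H.map f.toMonoidHom : Subgroup G) : Set G) =
      (Subgroup.centralizer (H : Set G)).map f.toMonoidHom := by
  ext a
  constructor
  · intro ha
    refine ⟨f.symm a, fun h hh => f.injective ?_, f.apply_symm_apply a⟩
    rw [map_mul, map_mul, f.apply_symm_apply]
    exact ha (f h) ⟨h, hh, rfl⟩
  · rintro ⟨b, hb, rfl⟩ _ ⟨h, hh, rfl⟩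
    show f h * f b = f b * f h
    rw [← map_mul, ← map_mul, hb h hh]

theorem card_centralizer_sylow (P R : Sylow p G) :
    Nat.card (Subgroup.centralizer ((P : Subgroup G) : Set G)) =
      Nat.card (Subgroup.centralizer ((R : Subgroup G) : Set G)) := by
  obtain ⟨g, rfl⟩ := MulAction.exists_smul_eq G P R
  rw [show ((g • P : Sylow p G) : Subgroup G) = (P : Subgroup G).map (MulAut.conj g).toMonoidHom from rfl,
    centralizer_map, Subgroup.card_map_of_injective (MulAut.conj g).injective]

theorem card_normalizer_sylow (P R : Sylow p G) :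
    Nat.card (Subgroup.normalizer ((P : Subgroup G) : Set G)) =
      Nat.card (Subgroup.normalizer ((R : Subgroup G) : Set G)) := by
  have h1 := (Subgroup.normalizer ((P : Subgroup G) : Set G)).card_mul_index
  have h2 := (Subgroup.normalizer ((R : Subgroup G) : Set G)).card_mul_index
  rw [show (Subgroup.normalizer ((P : Subgroup G) : Set G)).index = Nat.card (Sylow p G) from P.card_eq_index_normalizer.symm] at h1
  rw [show (Subgroup.normalizer ((R : Subgroup G) : Set G)).index = Nat.card (Sylow p G) from R.card_eq_index_normalizer.symm] at h2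
  exact Nat.eq_of_mul_eq_mul_right Nat.card_pos (h1.trans h2.symm)

/-- Sylow counting inside a subgroup containing a Sylow subgroup of prime order. -/
theorem exists_count (P : Sylow p G) (hP : Nat.card (P : Subgroup G) = p) {K : Subgroup G}
    (hK : (P : Subgroup G) ≤ K) :
    ∃ s, Nat.card K = Nat.card ↥(Subgroup.normalizer ((P : Subgroup G) : Set G) ⊓ K) * s ∧ s % p = 1 := by
  classical
  have hst : MulAction.stabilizer K P = (Subgroup.normalizer ((P : Subgroup G) : Set G) ⊓ K).subgroupOf K := by
    ext k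
    rw [MulAction.mem_stabilizer_iff, Subgroup.mem_subgroupOf]
    exact ⟨fun h => ⟨Sylow.smul_eq_iff_mem_normalizer.1 h, k.2⟩, fun h => Sylow.smul_eq_iff_mem_normalizer.2 h.1⟩
  refine ⟨Nat.card (MulAction.orbit K P), ?_, ?_⟩
  · rw [Nat.card_coe_set_eq, ← MulAction.index_stabilizer, hst,
      ← Nat.card_congr (Subgroup.subgroupOfEquivOfLe (inf_le_right :
        Subgroup.normalizer ((P : Subgroup G) : Set G) ⊓ K ≤ K)).toEquiv, Subgroup.card_mul_index]
  · have hsub : IsPGroup p ((P : Subgroup G).subgroupOf K) :=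
      P.isPGroup'.of_equiv (Subgroup.subgroupOfEquivOfLe hK).symm
    have hfix : MulAction.fixedPoints ((P : Subgroup G).subgroupOf K) (MulAction.orbit K P) =
        {⟨P, MulAction.mem_orbit_self P⟩} := by
      ext ⟨R, hR⟩
      rw [MulAction.mem_fixedPoints, Set.mem_singleton_iff]
      obtain ⟨x', hx'⟩ := exists_prime_orderOf_dvd_card' (G := (P : Subgroup G)) p (by rw [hP])
      constructor
      · intro h
        have h1 := congrArg Subtype.val (h ⟨⟨(x' : G), hK x'.2⟩, x'.2⟩)
        refine Subtype.ext (eq_of_fix hP x'.2 (fun e => ?_) h1)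
        rw [← Subgroup.orderOf_coe, e, orderOf_one] at hx'
        exact hp.out.one_lt.ne hx'
      · rintro h ⟨⟨y, hyK⟩, hy⟩
        refine Subtype.ext ?_
        show y • R = R
        rw [Subtype.mk.injEq] at h
        rw [h, Sylow.smul_eq_iff_mem_normalizer]
        exact Subgroup.le_normalizer hy
    have h := hsub.card_modEq_card_fixedPoints (MulAction.orbit K P)
    rw [hfix, show Nat.card ({⟨P, MulAction.mem_orbit_self P⟩} : Set (MulAction.orbit K P)) = 1 by simp] at h
    rw [h, Nat.mod_eq_of_lt hp.out.one_lt]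

end CfsgLib.Perm.SylowPrime
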