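import Mathlib
import Cfsg.Agent.Lib.Perm.Small.OrderTools
import Cfsg.Agent.Lib.Perm.Small.OrbitCentralizer
import Cfsg.Agent.Lib.Perm.Small.CentralizerTest
import Cfsg.Agent.Lib.Perm.Small.SylowPrime
import Cfsg.Agent.Lib.Classical.ProjLine
import Cfsg.Agent.S0998

/-!
# Simple groups do not have order 1344, 1512, 1680 or 3360
-/

set_option autoImplicit false
set_option linter.all false

namespace CfsgLib.Perm.MidPrimes

open Cfsg CfsgLib.Perm.PrimeBlock CfsgLib.Block Subgroup

variable {G : Type*} [Group G] [Finite G] [IsSimpleGroup G]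

theorem noncomm_of_card' (h : ¬ (Nat.card G).Prime) : ¬ IsMulCommutative G := fun hc => by
  haveI := hc
  letI : CommGroup G := { (inferInstance : Group G) with mul_comm := fun a b => IsMulCommutative.is_comm.comm a b }
  exact h IsSimpleGroup.prime_card

/-- The part prime to `p` of the centralizer permutes the orbits on the Sylow subgroups. -/
theorem centralizer_dvd_factorial {p c k : ℕ} [Fact p.Prime] (P : Sylow p G)
    (hP : Nat.card (P : Subgroup G) = p)
    (hC : Nat.card (centralizer ((P : Subgroup G) : Set G)) = p * c) (hpc : ¬ p ∣ c)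
    (hn : 1 < Nat.card (Sylow p G)) (hk : p * k = Nat.card (Sylow p G) + (p - 1)) :
    c ∣ k.factorial := by
  haveI : FaithfulSMul G (Sylow p G) := ⟨fun {a b} h => by
    have h1 := CfsgLib.Perm.SylowPrime.eq_one_of_fix_all hn (y := b⁻¹ * a) fun R => by
      rw [mul_smul, h R, inv_smul_smul]
    calc a = b * (b⁻¹ * a) := by group
      _ = b := by rw [h1, mul_one]⟩
  have h2 := card_orbits (α := Sylow p G) hP (fixedPoints_sylow P)
  rw [mul_one] at h2
  have h3 := dvd_factorial_orbits (α := Sylow p G) hP hC hpc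
  rwa [Nat.eq_of_mul_eq_mul_left (Fact.out : p.Prime).pos (h2.trans hk.symm)] at h3

theorem card_ne_1344 : Nat.card G ≠ 1344 := by
  intro hg
  have hG := noncomm_of_card' (G := G) (by rw [hg]; norm_num)
  have hnc : ¬ IsCyclic G := fun h => hG h.isMulCommutative
  rcases Cfsg.Agent.S0998.result hnc 7 2 3 6 (by norm_num) (by norm_num) (by norm_num) (by norm_num)
    (by norm_num) (by norm_num) (by rw [hg]; norm_num) with ⟨F, _, _, hF, ⟨f⟩⟩ | ⟨F, _, _, hF, ⟨f⟩⟩ <;>
  · have h := CfsgLib.Classical.card_psl2 (F := F)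
    rw [← Nat.card_congr f.toEquiv, hg, hF] at h
    norm_num at h

theorem orderOf_three_seven : orderOf ((3 : ℕ) : ZMod 7) = 7 - 1 := by
  refine (orderOf_eq_iff (by norm_num)).2 ⟨by decide, fun m hm hm0 => ?_⟩
  interval_cases m <;> decide

/-- The check on the degree lists for order 1512: an inverting involution forces a degree six. -/
theorem lists_1512 : ((degLists 1512 216 7 6 39).all fun l =>
    ((1 + l.sum).natAbs == 6) || l.any (fun d => d.natAbs == 6) ||
      !((List.range 217).any fun c => (c % 2 == 0) && (216 % c == 0) &&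
          (assigns c l).any (goodAssignK 1512 7 6 7 c))) = true := by decide +kernel

theorem card_ne_1512 : Nat.card G ≠ 1512 := by
  classical
  intro hg
  haveI : Fact (Nat.Prime 7) := ⟨by norm_num⟩
  haveI := Fintype.ofFinite G
  have hG := noncomm_of_card' (G := G) (by rw [hg]; norm_num)
  obtain ⟨P, n, e, c, hmem, hP, hnec, hnS, hC, hN, ⟨S⟩⟩ := data_of_refutedTwo 1512 7 216 39 8 [(36, 6)]
    hg hG (by norm_num) (by norm_num) (by norm_num) (by norm_num) (by norm_num) ⟨3, rfl⟩ (by norm_num)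
    (by decide +kernel)
  simp only [List.mem_singleton, Prod.mk.injEq] at hmem
  obtain ⟨rfl, rfl⟩ := hmem
  obtain rfl : c = 1 := by omega
  rw [mul_one] at hC hN
  obtain ⟨N, hNdef⟩ : ∃ N, N = normalizer ((P : Subgroup G) : Set G) := ⟨_, rfl⟩
  haveI : IsCyclic (P : Subgroup G) := isCyclic_of_prime_card hP
  have hker : Nat.card (normalizerMonoidHom (P : Subgroup G)).ker = 7 := by
    rw [normalizerMonoidHom_ker,
      Nat.card_congr (subgroupOfEquivOfLe (centralizer_le_normalizer _)).toEquiv, hC]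
  have hrange : (normalizerMonoidHom (P : Subgroup G)).range = ⊤ := by
    refine Subgroup.eq_top_of_card_eq _ ?_
    have h1 := (normalizerMonoidHom (P : Subgroup G)).ker.card_mul_index
    rw [hker, index_ker, hN] at h1
    rw [IsCyclic.card_mulAut, hP, Nat.totient_prime (by norm_num)]
    omega
  obtain ⟨x', hx'⟩ := exists_prime_orderOf_dvd_card' (G := (P : Subgroup G)) 7 (by rw [hP])
  obtain ⟨x, hx, hxo⟩ : ∃ x ∈ (P : Subgroup G), orderOf x = 7 :=
    ⟨x', x'.2, by rw [Subgroup.orderOf_coe, hx']⟩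
  have hx1 : x ≠ 1 := fun h => by rw [h, orderOf_one] at hxo; norm_num at hxo
  have hx7 : x ^ 7 = 1 := hxo ▸ pow_orderOf_eq_one x
  -- the automorphism cubing everything
  haveI : IsMulCommutative (P : Subgroup G) := IsCyclic.isMulCommutative
  letI : CommGroup (P : Subgroup G) :=
    { (inferInstance : Group (P : Subgroup G)) with mul_comm := fun a b => IsMulCommutative.is_comm.comm a b }
  have hbij : Function.Bijective fun a : (P : Subgroup G) => a ^ 3 := by
    have := (powCoprime (G := (P : Subgroup G)) (n := 3) (by rw [hP]; norm_num)).bijective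
    exact this
  let φ : MulAut (P : Subgroup G) := MulEquiv.ofBijective (powMonoidHom 3) hbij
  obtain ⟨g₀, hg₀⟩ := MonoidHom.range_eq_top.1 hrange φ
  have hconj₀ : (g₀ : G) * x * (g₀ : G)⁻¹ = x ^ 3 := congrArg Subtype.val (MulEquiv.congr_fun hg₀ ⟨x, hx⟩)
  obtain ⟨g, hg6, hconj⟩ : ∃ g : G, g ^ 6 = 1 ∧ g * x * g⁻¹ = x ^ 3 := by
    refine ⟨(g₀ : G) ^ 7, ?_, ?_⟩
    · have h : ((g₀ : G)) ^ 42 = 1 := by
        have h1 := Subgroup.orderOf_dvd_natCard _ g₀.2
        rw [hN] at h1
        exact orderOf_dvd_iff_pow_eq_one.1 h1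
      rw [← pow_mul]; exact h
    · have key : ∀ j : ℕ, (g₀ : G) ^ j * x * ((g₀ : G) ^ j)⁻¹ = x ^ 3 ^ j := by
        intro j
        induction j with
        | zero => simp
        | succ j ih =>
          calc (g₀ : G) ^ (j + 1) * x * ((g₀ : G) ^ (j + 1))⁻¹
              = (g₀ : G) * ((g₀ : G) ^ j * x * ((g₀ : G) ^ j)⁻¹) * (g₀ : G)⁻¹ := by rw [pow_succ']; group
            _ = ((g₀ : G) * x * (g₀ : G)⁻¹) ^ 3 ^ j := by rw [ih, conj_pow]
            _ = _ := by rw [hconj₀, ← pow_mul, ← pow_succ']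
      rw [key, pow_eq_pow_iff_modEq, hxo]
      decide
  have hprim := orderOf_three_seven
  have hno : ∀ χ : IrrCharacter G, χ ≠ oneChar G → charDegree (χ : G → ℂ) ≠ 6 := by
    intro χ hne h6
    refine false_of_degree_pred hG (by norm_num : 7 ≠ 2) hxo hconj hprim (by simpa using hg6) χ
      (fun h => hne (Subtype.ext h)) ?_
    rw [(charDegree_eq χ).1, h6]
  -- the involution inverting `x`
  obtain ⟨u, hu⟩ : ∃ u, u = g ^ 3 := ⟨_, rfl⟩
  have hu2 : u * u = 1 := by rw [hu, ← pow_add]; exact hg6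
  have hinv : u * x * u = x⁻¹ := by
    have hui : u⁻¹ = u := inv_eq_of_mul_eq_one_right hu2
    have key : ∀ j : ℕ, g ^ j * x * (g ^ j)⁻¹ = x ^ 3 ^ j := by
      intro j
      induction j with
      | zero => simp
      | succ j ih =>
        calc g ^ (j + 1) * x * (g ^ (j + 1))⁻¹ = g * (g ^ j * x * (g ^ j)⁻¹) * g⁻¹ := by rw [pow_succ']; group
          _ = (g * x * g⁻¹) ^ 3 ^ j := by rw [ih, conj_pow]
          _ = _ := by rw [hconj, ← pow_mul, ← pow_succ']
    have h1 : u * x * u = x ^ 27 := by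
      nth_rewrite 2 [← hui]
      rw [hu, key]
      norm_num
    rw [h1]
    refine eq_inv_of_mul_eq_one_left ?_
    rw [← pow_succ, show (27 + 1 : ℕ) = 7 * 4 by norm_num, pow_mul, hx7, one_pow]
  have huo : orderOf u = 2 := by
    refine orderOf_eq_prime (by rw [sq, hu2]) fun h1 => ?_
    rw [h1, one_mul, mul_one] at hinv
    have : x ^ 2 = 1 := by rw [sq]; nth_rewrite 1 [hinv]; exact inv_mul_cancel x
    have := orderOf_dvd_of_pow_eq_one this
    rw [hxo] at this; norm_num at this
  obtain ⟨l, hl, hlχ, hlD, hc2, hcm, a, ha, hgood⟩ := S.exists_assign_linked hG (by norm_num : 7 ≠ 2) hP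
    (m := 216) (B := 39) (by rw [hg]) (by norm_num) (by norm_num) (by norm_num) hC (by rw [hg]; norm_num)
    hx hx1 huo
  rw [classConst_eq_of_inverting (by norm_num : 7 ≠ 2) hP hC hx hx1 hu2 hinv, hg] at hgood
  rw [hg] at hl
  have hall := List.all_eq_true.1 lists_1512 l hl
  simp only [Bool.or_eq_true, beq_iff_eq, List.any_eq_true, Bool.not_eq_true', List.any_eq_false] at hall
  rcases hall with (h6 | ⟨d, hd, h6⟩) | hnone
  · obtain ⟨θ, hθ⟩ : S.Y.Nonempty := Finset.card_pos.1 (by rw [S.card_Y]; norm_num)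
    refine hno θ (fun h => S.one_notMem_Y (h ▸ hθ)) ?_
    rw [S.degree_Y θ hθ]
    rcases S.sign with hs | hs <;> rw [hs] at hlD <;> omega
  · obtain ⟨χ, hχ, rfl⟩ := hlχ d hd
    refine hno χ (fun h => S.one_notMem_X (h ▸ hχ)) ?_
    rcases S.sign_X χ hχ with hs | hs <;> rw [hs] at h6 <;> simpa using h6
  · refine hnone (Nat.card (centralizer ({u} : Set G))) (List.mem_range.2
      (Nat.lt_succ_of_le (Nat.le_of_dvd (by norm_num) hcm))) ?_
    simp only [Bool.and_eq_true, beq_iff_eq, Nat.mod_eq_zero_of_dvd hc2, Nat.mod_eq_zero_of_dvd hcm,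
      true_and, List.any_eq_true]
    exact ⟨a, ha, hgood⟩

/-- An involution has `p` pairs of conjugates with product `x`, or none. -/
theorem classConst_cases {p : ℕ} [Fact p.Prime] {P : Sylow p G} (hodd : p ≠ 2)
    (hP : Nat.card (P : Subgroup G) = p)
    (hC : Nat.card (centralizer ((P : Subgroup G) : Set G)) = p) {x : G}
    (hx : x ∈ (P : Subgroup G)) (hx1 : x ≠ 1) {u : G} (hu2 : u * u = 1) :
    CfsgLib.Char.classConst u u x = 0 ∨ CfsgLib.Char.classConst u u x = p := by
  rcases Nat.eq_zero_or_pos (CfsgLib.Char.classConst u u x) with h | h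
  · exact Or.inl h
  refine Or.inr ?_
  obtain ⟨⟨a, b⟩, ha, hb, hab⟩ := (Nat.card_pos_iff.1 h).1.some
  simp only at ha hb hab
  have hsq : ∀ a : G, IsConj u a → a * a = 1 := fun a ha => by
    obtain ⟨g, rfl⟩ := isConj_iff.1 ha
    calc g * u * g⁻¹ * (g * u * g⁻¹) = g * (u * u) * g⁻¹ := by group
      _ = 1 := by rw [hu2]; group
  have hbx : b = a * x := by rw [← hab, ← mul_assoc, hsq a ha, one_mul]
  have hinv : a * x * a = x⁻¹ := by
    refine eq_inv_of_mul_eq_one_left ?_
    calc a * x * a * x = (a * x) * (a * x) := by group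
      _ = 1 := by rw [← hbx]; exact hsq b hb
  rw [← classConst_eq_of_inverting hodd hP hC hx hx1 (hsq a ha) hinv]
  exact Nat.card_congr (Equiv.subtypeEquivRight fun q =>
    ⟨fun h => ⟨ha.symm.trans h.1, ha.symm.trans h.2.1, h.2.2⟩,
      fun h => ⟨ha.trans h.1, ha.trans h.2.1, h.2.2⟩⟩)

/-- All involutions have centralizers of order sixteen. -/
theorem lists_1680 : ((degLists 1680 240 7 2 41).all fun l => (List.range 241).all fun c =>
    !((c % 2 == 0) && (240 % c == 0) &&
      (assigns c l).any fun a => goodAssignK 1680 7 2 7 c a || goodAssignK 1680 7 2 0 c a) || (c == 16)) =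
      true := by decide +kernel

theorem card_ne_1680 : Nat.card G ≠ 1680 := by
  classical
  intro hg
  haveI : Fact (Nat.Prime 7) := ⟨by norm_num⟩
  haveI : Fact (Nat.Prime 5) := ⟨by norm_num⟩
  haveI := Fintype.ofFinite G
  have hG := noncomm_of_card' (G := G) (by rw [hg]; norm_num)
  obtain ⟨P, n, e, c, hmem, hP, hnec, hnS, hC, hN, ⟨S⟩⟩ := data_of_refutedTwo 1680 7 240 41 16
    [(8, 2), (15, 2), (120, 2)]
    hg hG (by norm_num) (by norm_num) (by norm_num) (by norm_num) (by norm_num) ⟨4, rfl⟩ (by norm_num)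
    (by decide +kernel)
  simp only [List.mem_cons, List.not_mem_nil, or_false, Prod.mk.injEq] at hmem
  rcases hmem with ⟨rfl, rfl⟩ | ⟨rfl, rfl⟩ | ⟨rfl, rfl⟩
  · have h := centralizer_dvd_factorial (k := 2) P hP hC (by omega) (by omega) (by omega)
    rw [show c = 15 by omega] at h
    norm_num [Nat.factorial] at h
  · have h := centralizer_dvd_factorial (k := 3) P hP hC (by omega) (by omega) (by omega)
    rw [show c = 8 by omega] at h
    norm_num [Nat.factorial] at h
  obtain rfl : c = 1 := by omega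
  rw [mul_one] at hC
  obtain ⟨Q, n5, e5, c5, hmem5, hQ, hnec5, -, hC5, -, -⟩ := data_of_refutedTwo 1680 5 336 41 16
    [(21, 4)] hg hG (by norm_num) (by norm_num) (by norm_num) (by norm_num) (by norm_num) ⟨4, rfl⟩
    (by norm_num) (by decide +kernel)
  simp only [List.mem_singleton, Prod.mk.injEq] at hmem5
  obtain ⟨rfl, rfl⟩ := hmem5
  obtain rfl : c5 = 4 := by omega
  obtain ⟨u', hu'⟩ := exists_prime_orderOf_dvd_card'
    (G := centralizer ((Q : Subgroup G) : Set G)) 2 (by rw [hC5]; norm_num)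
  obtain ⟨u, huC, huo⟩ : ∃ u ∈ centralizer ((Q : Subgroup G) : Set G), orderOf u = 2 :=
    ⟨u', u'.2, by rw [Subgroup.orderOf_coe, hu']⟩
  obtain ⟨x', hx'⟩ := exists_prime_orderOf_dvd_card' (G := (P : Subgroup G)) 7 (by rw [hP])
  have hx1 : (x' : G) ≠ 1 := fun h => by
    rw [← Subgroup.orderOf_coe, h, orderOf_one] at hx'; norm_num at hx'
  obtain ⟨l, hl, hc2, hcm, a, ha, hgood⟩ := S.exists_assign hG (by norm_num : 7 ≠ 2) hP (m := 240) (B := 41)
    (by rw [hg]) (by norm_num) (by norm_num) (by norm_num) hC (by rw [hg]; norm_num) x'.2 hx1 huo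
  rw [hg] at hl hgood
  have h5 : 5 ∣ Nat.card (centralizer ({u} : Set G)) := by
    rw [← hQ]
    exact Subgroup.card_dvd_of_le fun q hq =>
      Subgroup.mem_centralizer_singleton_iff.2 (Subgroup.mem_centralizer_iff.1 huC q hq)
  generalize Nat.card (centralizer ({u} : Set G)) = cu at hc2 hcm ha hgood h5
  have hall := List.all_eq_true.1 (List.all_eq_true.1 lists_1680 l hl) cu
    (List.mem_range.2 (Nat.lt_succ_of_le (Nat.le_of_dvd (by norm_num) hcm)))
  have hu2 : u * u = 1 := by rw [← sq, ← huo, pow_orderOf_eq_one]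
  simp only [Bool.or_eq_true, beq_iff_eq, Bool.not_eq_true', Bool.and_eq_false_iff, List.any_eq_false,
    Bool.or_eq_false_iff] at hall
  rcases hall with ((h | h) | h) | h
  · simp [Nat.mod_eq_zero_of_dvd hc2] at h
  · simp [Nat.mod_eq_zero_of_dvd hcm] at h
  · have h' := h a ha
    rcases classConst_cases (by norm_num : 7 ≠ 2) hP hC x'.2 hx1 hu2 with e | e <;> rw [e] at hgood <;>
      simp [hgood] at h'
  · rw [h] at h5; norm_num at h5

theorem centPossible_3360 : centPossible 3360 480 7 2 58 420 = false := by decide +kernel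

theorem card_ne_3360 : Nat.card G ≠ 3360 := by
  classical
  intro hg
  haveI : Fact (Nat.Prime 7) := ⟨by norm_num⟩
  haveI := Fintype.ofFinite G
  have hG := noncomm_of_card' (G := G) (by rw [hg]; norm_num)
  obtain ⟨P, n, e, c, hmem, hP, hnec, hnS, hC, hN, ⟨S⟩⟩ := data_of_refutedTwo 3360 7 480 58 32
    [(8, 2), (8, 3), (15, 2), (120, 2)]
    hg hG (by norm_num) (by norm_num) (by norm_num) (by norm_num) (by norm_num) ⟨5, rfl⟩ (by norm_num)
    (by decide +kernel)
  simp only [List.mem_cons, List.not_mem_nil, or_false, Prod.mk.injEq] at hmem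
  rcases hmem with ⟨rfl, rfl⟩ | ⟨rfl, rfl⟩ | ⟨rfl, rfl⟩ | ⟨rfl, rfl⟩
  · have h := centralizer_dvd_factorial (k := 2) P hP hC (by omega) (by omega) (by omega)
    rw [show c = 30 by omega] at h
    norm_num [Nat.factorial] at h
  · have h := centralizer_dvd_factorial (k := 2) P hP hC (by omega) (by omega) (by omega)
    rw [show c = 20 by omega] at h
    norm_num [Nat.factorial] at h
  · have h := centralizer_dvd_factorial (k := 3) P hP hC (by omega) (by omega) (by omega)
    rw [show c = 16 by omega] at h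
    norm_num [Nat.factorial] at h
  obtain ⟨w', hw'⟩ := exists_prime_orderOf_dvd_card'
    (G := centralizer ((P : Subgroup G) : Set G)) 2 (by rw [hC, show c = 2 by omega]; norm_num)
  obtain ⟨w, hwC, hwo⟩ : ∃ w ∈ centralizer ((P : Subgroup G) : Set G), orderOf w = 2 :=
    ⟨w', w'.2, by rw [Subgroup.orderOf_coe, hw']⟩
  have hne : centralizer ({w} : Set G) ≠ ⊤ := by
    intro htop
    have hcen : w ∈ Subgroup.center G := Subgroup.mem_center_iff.2 fun g =>
      Subgroup.mem_centralizer_singleton_iff.1 (htop.symm ▸ Subgroup.mem_top g)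
    rcases IsSimpleGroup.eq_bot_or_eq_top_of_normal (Subgroup.center G) inferInstance with h | h
    · rw [h, Subgroup.mem_bot] at hcen
      rw [hcen, orderOf_one] at hwo
      norm_num at hwo
    · exact hG ⟨⟨fun a b => (Subgroup.mem_center_iff.1 (h.symm ▸ Subgroup.mem_top b) a)⟩⟩
  have hidx := index_dvd_factorial_twice hG hne
  rw [hg] at hidx
  have hle : Nat.card (centralizer ({w} : Set G)) ≤ 420 := by
    have h := (centralizer ({w} : Set G)).card_mul_index
    rw [hg] at h
    by_contra hlt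
    push Not at hlt
    generalize (centralizer ({w} : Set G)).index = i at h hidx
    have : i ≤ 7 := by
      by_contra h8
      push Not at h8
      have := Nat.mul_le_mul (Nat.succ_le_of_lt hlt) (Nat.succ_le_of_lt h8)
      omega
    interval_cases i <;> norm_num [Nat.factorial] at hidx
  have h := S.centPossible_eq hG (by norm_num : 7 ≠ 2) hP (m := 480) (B := 58) (d := 420) (by rw [hg])
    (by norm_num) (by norm_num) (by rw [hg]; norm_num) hwC hwo hle
  rw [hg, centPossible_3360] at h
  exact absurd h (by decide)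

end CfsgLib.Perm.MidPrimes
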