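import Mathlib
import Cfsg.Agent.Lib.Perm.Small.OrderTools
import Cfsg.Agent.Lib.Perm.Small.SylowPrime
import Cfsg.Agent.S0991
import Cfsg.Agent.Lib.Invol.OrdersThousand

/-!
# There is no simple group of order 5040
-/

set_option autoImplicit false
set_option linter.all false

namespace CfsgLib.Perm.Not5040

open Cfsg CfsgLib.Perm.PrimeBlock CfsgLib.Perm.SylowPrime
open scoped Pointwise

variable {G : Type*} [Group G] [Finite G] [IsSimpleGroup G] (hg : Nat.card G = 5040)
include hg

theorem noncomm : ¬ IsMulCommutative G := fun hc => by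
  haveI := hc
  letI : CommGroup G := { (inferInstance : Group G) with mul_comm := fun a b => IsMulCommutative.is_comm.comm a b }
  have h : (Nat.card G).Prime := IsSimpleGroup.prime_card
  rw [hg] at h
  norm_num at h

/-- Every proper subgroup has index above eight. -/
theorem eight_lt_index {H : Subgroup G} (hH : H ≠ ⊤) : 8 < H.index := by
  classical
  have hG := noncomm hg
  have hd := index_dvd_factorial_twice hG hH
  rw [hg] at hd
  by_contra hle
  push Not at hle
  obtain ⟨n, hn⟩ : ∃ n, H.index = n := ⟨_, rfl⟩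
  rw [hn] at hd hle
  have h8 : n = 8 := by
    interval_cases n <;> first | rfl | (norm_num [Nat.factorial] at hd)
  subst h8
  obtain ⟨f, hf⟩ := Cfsg.Agent.S0991.result hG H hH
  haveI : IsSimpleGroup (alternatingGroup (Fin H.index)) :=
    alternatingGroup.isSimpleGroup (by rw [Nat.card_fin, hn]; norm_num)
  haveI : Nontrivial (Fin H.index) := Fin.nontrivial_iff_two_le.2 (by rw [hn]; norm_num)
  have hA : Nat.card (alternatingGroup (Fin H.index)) = 20160 := by
    rw [nat_card_alternatingGroup, Nat.card_fin, hn]; norm_num [Nat.factorial]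
  have hR : Nat.card f.range = 5040 :=
    ((Nat.card_congr (MonoidHom.ofInjective hf).toEquiv).symm).trans hg
  have hi := f.range.card_mul_index
  rw [hR, hA] at hi
  have hne : f.range ≠ ⊤ := fun e => by rw [e, Subgroup.card_top, hA] at hR; norm_num at hR
  have hnc : ¬ IsMulCommutative (alternatingGroup (Fin H.index)) := fun hc =>
    hG ⟨⟨fun a b => hf (by rw [map_mul, map_mul]; exact hc.is_comm.comm _ _)⟩⟩
  have h4 := index_dvd_factorial_twice hnc hne
  rw [hA, show f.range.index = 4 by omega] at h4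
  norm_num [Nat.factorial] at h4

/-- Fifteen Sylow subgroups: a centralizing subgroup of order eight cannot act. -/
theorem false_fifteen [Fact (Nat.Prime 7)] (P : Sylow 7 G) (hP : Nat.card (P : Subgroup G) = 7)
    (hn : Nat.card (Sylow 7 G) = 15)
    (h8 : 8 ∣ Nat.card (Subgroup.centralizer ((P : Subgroup G) : Set G))) : False := by
  classical
  haveI : Fact (Nat.Prime 2) := ⟨Nat.prime_two⟩
  obtain ⟨C, hC⟩ : ∃ C, C = Subgroup.centralizer ((P : Subgroup G) : Set G) := ⟨_, rfl⟩
  rw [← hC] at h8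
  obtain ⟨T, hT⟩ := Sylow.exists_subgroup_card_pow_prime (G := C) 2 (n := 3) h8
  obtain ⟨x', hx'⟩ := exists_prime_orderOf_dvd_card' (G := (P : Subgroup G)) 7 (by rw [hP])
  obtain ⟨x, hx, hx1⟩ : ∃ x, x ∈ (P : Subgroup G) ∧ x ≠ 1 := ⟨x', x'.2, fun e => by
    rw [← Subgroup.orderOf_coe, e, orderOf_one] at hx'; norm_num at hx'⟩
  have hcP : ∀ y ∈ C, y • P = P := fun y hy => Sylow.smul_eq_iff_mem_normalizer.2
    (Subgroup.centralizer_le_normalizer _ (hC ▸ hy))
  have hcx : ∀ y ∈ C, ∀ (i : ℕ) (R : Sylow 7 G), y • x ^ i • R = x ^ i • y • R := by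
    intro y hy i R
    have h1 : Commute x y := Subgroup.mem_centralizer_iff.1 (hC ▸ hy) x hx
    rw [← mul_smul, ← mul_smul, (h1.pow_left i).eq]
  obtain ⟨R, hR⟩ : ∃ R : Sylow 7 G, R ≠ P := by
    by_contra h
    push Not at h
    haveI : Subsingleton (Sylow 7 G) := ⟨fun a b => (h a).trans (h b).symm⟩
    have := Finite.card_le_one_iff_subsingleton.2 ‹Subsingleton (Sylow 7 G)›
    omega
  obtain ⟨rel, hrel⟩ : ∃ rel : Sylow 7 G → Sylow 7 G → Prop, ∀ a b, rel a b ↔ ∃ i : ℕ, x ^ i • a = b :=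
    ⟨_, fun a b => Iff.rfl⟩
  have hsymm : ∀ a b, rel a b → rel b a := by
    intro a b h
    obtain ⟨i, rfl⟩ := (hrel a b).1 h
    refine (hrel _ _).2 ⟨orderOf x * (i + 1) - i, ?_⟩
    rw [← mul_smul, ← pow_add, Nat.sub_add_cancel
      (le_trans (Nat.le_succ i) (Nat.le_mul_of_pos_left _ (orderOf_pos x))), pow_mul,
      pow_orderOf_eq_one, one_pow, one_smul]
  have htrans : ∀ a b c, rel a b → rel b c → rel a c := by
    intro a b c h1 h2
    obtain ⟨i, rfl⟩ := (hrel a b).1 h1
    obtain ⟨j, rfl⟩ := (hrel _ c).1 h2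
    exact (hrel _ _).2 ⟨j + i, by rw [pow_add, mul_smul]⟩
  have hne : ∀ a : Sylow 7 G, a ≠ P → ∀ i : ℕ, x ^ i • a ≠ P := by
    intro a ha i h
    refine ha (smul_left_cancel (x ^ i) (h.trans ?_))
    exact (Sylow.smul_eq_iff_mem_normalizer.2 (Subgroup.le_normalizer (pow_mem hx i))).symm
  -- two orbits cover everything outside `P`
  have hcover : ∀ a b : Sylow 7 G, a ≠ P → b ≠ P → ¬ rel R a → ¬ rel R b → rel a b := by
    intro a b ha hb hRa hRb
    by_contra hab
    have hinj : Function.Injective (fun q : Option (Fin 7 × Fin 2) => q.elim P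
        fun q => x ^ (q.1 : ℕ) • (if q.2 = 0 then R else a)) := by
      have hoff : ∀ q : Fin 2, (if q = 0 then R else a) ≠ P := fun q => by split <;> assumption
      rintro (_ | ⟨i, q⟩) (_ | ⟨j, r⟩) h
      · rfl
      · exact absurd h.symm (hne _ (hoff r) j)
      · exact absurd h (hne _ (hoff q) i)
      · simp only [Option.elim] at h
        have hqr : q = r := by
          fin_cases q <;> fin_cases r <;> simp at h ⊢
          · exact hRa (htrans _ _ _ ((hrel _ _).2 ⟨i, h⟩) (hsymm _ _ ((hrel _ _).2 ⟨j, rfl⟩)))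
          · exact hRa (htrans _ _ _ ((hrel _ _).2 ⟨j, h.symm⟩) (hsymm _ _ ((hrel _ _).2 ⟨i, rfl⟩)))
        subst hqr
        obtain ⟨k, hk⟩ : ∃ k, (i : ℕ) + k = j ∨ (j : ℕ) + k = i := by
          rcases le_total (i : ℕ) j with h' | h'
          · exact ⟨_, Or.inl (Nat.add_sub_cancel' h')⟩
          · exact ⟨_, Or.inr (Nat.add_sub_cancel' h')⟩
        have hd : 7 ∣ k := by
          refine (pow_smul_eq_iff hP hx hx1 (hoff q) k).1 ?_
          rcases hk with hk | hk <;> rw [← hk, pow_add, mul_smul] at h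
          · exact (smul_left_cancel _ h).symm
          · exact smul_left_cancel _ h
        have hi7 := i.2
        have hj7 := j.2
        rw [show i = j from Fin.ext (by omega)]
    have hsurj := ((Nat.bijective_iff_injective_and_card _).2 ⟨hinj, by simp [hn]⟩).2 b
    obtain ⟨(_ | ⟨i, q⟩), hq⟩ := hsurj
    · exact hb hq.symm
    · simp only [Option.elim] at hq
      split at hq
      · exact hRb ((hrel _ _).2 ⟨i, hq⟩)
      · exact hab ((hrel _ _).2 ⟨i, hq⟩)
  -- an element of order dividing two that preserves an orbit fixes it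
  have hfix : ∀ y ∈ C, y * y = 1 → ∀ a : Sylow 7 G, a ≠ P → rel a (y • a) → y • a = a := by
    intro y hy hy2 a ha h
    obtain ⟨i, hi⟩ := (hrel _ _).1 h
    have h2 : x ^ (i + i) • a = a := by
      rw [pow_add, mul_smul, hi, ← hcx y hy, hi, ← mul_smul, hy2, one_smul]
    have hd := (pow_smul_eq_iff hP hx hx1 ha _).1 h2
    rw [← hi, (pow_smul_eq_iff hP hx hx1 ha i).2 (by omega)]
  have hyne : ∀ y ∈ C, ∀ a : Sylow 7 G, a ≠ P → y • a ≠ P := fun y hy a ha h =>
    ha (smul_left_cancel y (h.trans (hcP y hy).symm))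
  have hmove : ∀ y ∈ C, y * y = 1 → y ≠ 1 → ¬ rel R (y • R) := by
    intro y hy hy2 hy1 hRR
    have h1 := hfix y hy hy2 R hR hRR
    refine hy1 (eq_one_of_fix_all (by rw [hn]; norm_num) fun a => ?_)
    by_cases haP : a = P
    · rw [haP]; exact hcP y hy
    by_cases hRa : rel R a
    · obtain ⟨i, rfl⟩ := (hrel _ _).1 hRa
      rw [hcx y hy, h1]
    refine hfix y hy hy2 a haP (hcover a _ haP (hyne y hy a haP) hRa fun h => hRa ?_)
    obtain ⟨i, hi⟩ := (hrel _ _).1 h
    have : a = y • x ^ i • R := by rw [hi, ← mul_smul, hy2, one_smul]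
    rw [this, hcx y hy, h1]
    exact (hrel _ _).2 ⟨i, rfl⟩
  -- the subgroup of order eight is elementary abelian and at most of order two
  have hsq : ∀ t : T, ((t : C) : G) * ((t : C) : G) = 1 := by
    intro t
    obtain ⟨y, hy⟩ : ∃ y, y = ((t : C) : G) := ⟨_, rfl⟩
    have hyC : y ∈ C := hy ▸ (t : C).2
    have h8y : (y * y) * (y * y) * ((y * y) * (y * y)) = 1 := by
      have h := pow_card_eq_one' (G := T) (x := t)
      rw [hT] at h
      have h' := congrArg (fun s : T => ((s : C) : G)) h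
      simp only [SubmonoidClass.coe_pow, OneMemClass.coe_one, ← hy] at h'
      simpa [pow_succ, mul_assoc] using h'
    obtain ⟨w, hw⟩ : ∃ w, w = y * y := ⟨_, rfl⟩
    have hwC : w ∈ C := hw ▸ mul_mem hyC hyC
    have hpres : ∀ a : Sylow 7 G, a ≠ P → rel a (w • a) := by
      intro a ha
      have hya := hyne y hyC a ha
      have hwa := hyne w hwC a ha
      by_cases h1 : rel a (y • a)
      · obtain ⟨i, hi⟩ := (hrel _ _).1 h1
        refine (hrel _ _).2 ⟨i + i, ?_⟩
        rw [pow_add, mul_smul, hi, ← hcx y hyC, hi, hw, mul_smul]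
      · by_contra h2
        have hmap : ∀ b c : Sylow 7 G, rel b c → rel (y • b) (y • c) := by
          intro b c h
          obtain ⟨i, rfl⟩ := (hrel _ _).1 h
          exact (hrel _ _).2 ⟨i, (hcx y hyC i b).symm⟩
        by_cases hRa : rel R a
        · have e1 : ¬ rel R (y • a) := fun h => h1 (htrans _ _ _ (hsymm _ _ hRa) h)
          have e2 : ¬ rel R (w • a) := fun h => h2 (htrans _ _ _ (hsymm _ _ hRa) h)
          have h3 := hcover _ _ hya hwa e1 e2
          rw [hw, mul_smul] at h3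
          obtain ⟨i, hi⟩ := (hrel _ _).1 h3
          exact h1 ((hrel _ _).2 ⟨i, smul_left_cancel y ((hcx y hyC i a).trans hi)⟩)
        · have e1 : rel R (y • a) := by
            by_contra h
            exact h1 (hcover _ _ ha hya hRa h)
          have e2 : rel R (w • a) := by
            by_contra h
            exact h2 (hcover _ _ ha hwa hRa h)
          have h3 := htrans _ _ _ (hsymm _ _ e1) e2
          rw [hw, mul_smul] at h3
          obtain ⟨i, hi⟩ := (hrel _ _).1 h3
          exact h1 ((hrel _ _).2 ⟨i, smul_left_cancel y ((hcx y hyC i a).trans hi)⟩)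
    -- `w` has order dividing four, so two steps
    have hw4 : (w * w) * (w * w) = 1 := by rw [hw]; exact h8y
    have hpres2 : ∀ a : Sylow 7 G, a ≠ P → rel a ((w * w) • a) := by
      intro a ha
      rw [mul_smul]
      exact htrans _ _ _ (hpres a ha) (hpres _ (hyne w hwC a ha))
    have hww : w * w = 1 := by
      by_contra h
      exact hmove _ (mul_mem hwC hwC) hw4 h (hpres2 R hR)
    rw [← hy, ← hw]
    by_contra h
    exact hmove w hwC hww h (hpres R hR)
  obtain ⟨a, b, ha, hb, hab⟩ : ∃ a b : T, a ≠ 1 ∧ b ≠ 1 ∧ a ≠ b := by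
    haveI : Fintype T := Fintype.ofFinite _
    have h3 : 2 < (Finset.univ.erase (1 : T)).card := by
      rw [Finset.card_erase_of_mem (Finset.mem_univ _), Finset.card_univ, ← Nat.card_eq_fintype_card, hT]
      norm_num
    obtain ⟨a, ha, b, hb, hab⟩ := Finset.one_lt_card.1 (lt_trans (by norm_num) h3)
    exact ⟨a, b, (Finset.mem_erase.1 ha).1, (Finset.mem_erase.1 hb).1, hab⟩
  have hz : ∀ c : T, c ≠ 1 → ¬ rel R (((c : C) : G) • R) := fun c hc => hmove _ (c : C).2 (hsq c)
    fun e => hc (Subtype.ext (Subtype.ext e))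
  have haR := hz a ha
  have hbR := hz b hb
  refine hz (a * b) (fun e => hab ?_) ?_
  · have : a * a = 1 := Subtype.ext (Subtype.ext (hsq a))
    exact mul_left_cancel (this.trans e.symm)
  · obtain ⟨i, hi⟩ := (hrel _ _).1 (hcover _ _ (hyne _ (a : C).2 R hR) (hyne _ (b : C).2 R hR) haR hbR)
    refine (hrel _ _).2 ⟨i, ?_⟩
    show x ^ i • R = (((a : C) : G) * ((b : C) : G)) • R
    rw [mul_smul, ← hi, hcx _ (a : C).2, ← mul_smul ((a : C) : G), hsq, one_smul]

/-- Thirty-six Sylow subgroups with centralizer of order seventy. -/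
theorem false_thirtySix [Fintype G] [Fact (Nat.Prime 7)]
    (hC7 : ∀ P : Sylow 7 G, Nat.card (Subgroup.centralizer ((P : Subgroup G) : Set G)) = 70)
    (hN7 : ∀ P : Sylow 7 G, Nat.card (Subgroup.normalizer ((P : Subgroup G) : Set G)) = 140)
    (hP7 : ∀ P : Sylow 7 G, Nat.card (P : Subgroup G) = 7) : False := by
  classical
  haveI : Fact (Nat.Prime 5) := ⟨by norm_num⟩
  haveI : Fact (Nat.Prime 2) := ⟨Nat.prime_two⟩
  have hG := noncomm hg
  obtain ⟨Q, n, e, c, hmem, hQ, hnec, hnS, hCQ, hNQ, -⟩ :=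
    data_of_refutedTwo (G := G) 5040 5 1008 71 16 [(126, 4), (36, 4), (21, 4)] hg hG (by norm_num)
      (by norm_num) (by norm_num) (by norm_num) (by norm_num) ⟨4, rfl⟩ (by norm_num) (by decide +kernel)
  -- some Sylow seven-subgroup centralizes `Q`
  obtain ⟨P₀⟩ : Nonempty (Sylow 7 G) := inferInstance
  obtain ⟨y', hy'⟩ := exists_prime_orderOf_dvd_card'
    (G := Subgroup.centralizer ((P₀ : Subgroup G) : Set G)) 5 (by rw [hC7 P₀]; norm_num)
  have hyo : orderOf (y' : G) = 5 := by rw [Subgroup.orderOf_coe, hy']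
  obtain ⟨Q', hQ'⟩ := (IsPGroup.of_card (p := 5) (n := 1) (G := Subgroup.zpowers (y' : G))
    (by rw [Nat.card_zpowers, hyo, pow_one])).exists_le_sylow
  obtain ⟨g, hgQ⟩ := MulAction.exists_smul_eq G Q' Q
  obtain ⟨P, hPdef⟩ : ∃ P : Sylow 7 G, P = g • P₀ := ⟨_, rfl⟩
  have hQgen : Subgroup.zpowers (g * (y' : G) * g⁻¹) = (Q : Subgroup G) := by
    refine CfsgLib.Perm.Small.zpowers_eq_of_mem hQ ?_ fun h => ?_
    · rw [← hgQ, Sylow.coe_subgroup_smul]
      exact ⟨_, hQ' (Subgroup.mem_zpowers _), rfl⟩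
    · rw [conj_eq_one_iff] at h
      rw [h, orderOf_one] at hyo
      norm_num at hyo
  have hPQ : (P : Subgroup G) ≤ Subgroup.centralizer ((Q : Subgroup G) : Set G) := by
    intro a ha
    rw [hPdef, Sylow.coe_subgroup_smul] at ha
    obtain ⟨b, hb, rfl⟩ := ha
    rw [Subgroup.mem_centralizer_iff]
    intro q hq
    obtain ⟨i, rfl⟩ : q ∈ Subgroup.zpowers (g * (y' : G) * g⁻¹) := hQgen.symm ▸ hq
    have h1 : Commute (y' : G) b := (Subgroup.mem_centralizer_iff.1 y'.2 b hb).symm
    exact ((h1.map (MulAut.conj g).toMonoidHom).zpow_left i).eq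
  have h7 : 7 ∣ 5 * c := by
    rw [← hCQ, ← hP7 P]
    exact Subgroup.card_dvd_of_le hPQ
  obtain ⟨hCQ', hNQ'⟩ : Nat.card (Subgroup.centralizer ((Q : Subgroup G) : Set G)) = 35 ∧
      Nat.card (Subgroup.normalizer ((Q : Subgroup G) : Set G)) = 140 := by
    simp only [List.mem_cons, List.not_mem_nil, or_false, Prod.mk.injEq] at hmem
    rcases hmem with ⟨rfl, rfl⟩ | ⟨rfl, rfl⟩ | ⟨rfl, rfl⟩ <;> refine ⟨?_, ?_⟩ <;> omega
  obtain ⟨CQ, hCQdef⟩ : ∃ CQ, CQ = Subgroup.centralizer ((Q : Subgroup G) : Set G) := ⟨_, rfl⟩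
  -- the two normalizers coincide
  have hNle : Subgroup.normalizer ((Q : Subgroup G) : Set G) ≤ Subgroup.normalizer ((P : Subgroup G) : Set G) := by
    intro a ha
    refine Sylow.smul_eq_iff_mem_normalizer.1 (Sylow.ext ?_)
    refine eq_of_card_prime_of_lt_sq (p := 7) (K := CQ) ?_ (hCQdef ▸ hPQ) (hP7 _) (hP7 _) (by rw [hCQdef, hCQ']; norm_num)
    intro b hb
    rw [Sylow.coe_subgroup_smul] at hb
    obtain ⟨w, hw, rfl⟩ := hb
    rw [hCQdef, Subgroup.mem_centralizer_iff]
    intro q hq
    show q * (a * w * a⁻¹) = a * w * a⁻¹ * q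
    have h1 : a⁻¹ * q * a ∈ (Q : Subgroup G) := (Subgroup.mem_normalizer_iff''.1 ha q).1 hq
    have h2 := Subgroup.mem_centralizer_iff.1 (hPQ hw) _ h1
    calc q * (a * w * a⁻¹) = a * ((a⁻¹ * q * a) * w) * a⁻¹ := by group
      _ = a * (w * (a⁻¹ * q * a)) * a⁻¹ := by rw [h2]
      _ = a * w * a⁻¹ * q := by group
  have hNeq : Subgroup.normalizer ((Q : Subgroup G) : Set G) = Subgroup.normalizer ((P : Subgroup G) : Set G) :=
    Subgroup.eq_of_le_of_card_ge hNle (by rw [hN7, hNQ'])
  obtain ⟨N, hNdef⟩ : ∃ N, N = Subgroup.normalizer ((P : Subgroup G) : Set G) := ⟨_, rfl⟩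
  -- an involution centralizing `P`
  obtain ⟨z', hz'⟩ := exists_prime_orderOf_dvd_card'
    (G := Subgroup.centralizer ((P : Subgroup G) : Set G)) 2 (by rw [hC7 P]; norm_num)
  obtain ⟨z, hzC, hzo⟩ : ∃ z ∈ Subgroup.centralizer ((P : Subgroup G) : Set G), orderOf z = 2 :=
    ⟨z', z'.2, by rw [Subgroup.orderOf_coe, hz']⟩
  have hz2 : z * z = 1 := by rw [← sq, ← hzo, pow_orderOf_eq_one]
  have hodd : ∀ a ∈ CQ, a * a = 1 → a = 1 := by
    intro a ha h
    have h1 : orderOf a ∣ 2 := orderOf_dvd_of_pow_eq_one (by rw [sq, h])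
    have h2 : orderOf a ∣ 35 := hCQ' ▸ hCQdef ▸ Subgroup.orderOf_dvd_natCard _ ha
    exact orderOf_eq_one_iff.1 (Nat.dvd_one.1 ((Nat.dvd_gcd h1 h2).trans (by norm_num)))
  -- involutions of the normalizer invert `Q`
  have hinv : ∀ a ∈ N, a * a = 1 → a ≠ 1 → ∀ q ∈ (Q : Subgroup G), a * q * a = q⁻¹ := by
    intro a ha ha2 ha1
    have hai : a⁻¹ = a := inv_eq_of_mul_eq_one_right ha2
    obtain ⟨y, hy, hyo⟩ : ∃ y ∈ (Q : Subgroup G), orderOf y = 5 := by
      obtain ⟨w, hw⟩ := exists_prime_orderOf_dvd_card' (G := (Q : Subgroup G)) 5 (by rw [hQ])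
      exact ⟨w, w.2, by rw [Subgroup.orderOf_coe, hw]⟩
    have hgen := CfsgLib.Perm.Small.zpowers_eq_of_mem hQ hy (fun h => by rw [h, orderOf_one] at hyo; norm_num at hyo)
    have hmemQ : a * y * a ∈ (Q : Subgroup G) := by
      have h := ((Subgroup.mem_normalizer_iff.1 (hNeq.symm ▸ hNdef ▸ ha)) y).1 hy
      rwa [hai] at h
    obtain ⟨k, hk⟩ : a * y * a ∈ Subgroup.zpowers y := hgen.symm ▸ hmemQ
    simp only at hk
    have hconj : ∀ m : ℤ, a * y ^ m * a = (a * y * a) ^ m := by
      intro m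
      calc a * y ^ m * a = a * y ^ m * a⁻¹ := by rw [hai]
        _ = (a * y * a⁻¹) ^ m := conj_zpow.symm
        _ = _ := by rw [hai]
    have hkk : ((k : ZMod 5)) * k = 1 := by
      have h1 : y ^ (k * k) = y ^ (1 : ℤ) := by
        rw [zpow_one, zpow_mul, hk, ← hconj, hk]
        calc a * (a * y * a) * a = (a * a) * y * (a * a) := by group
          _ = y := by rw [ha2]; group
      rw [zpow_eq_zpow_iff_modEq, hyo, ← ZMod.intCast_eq_intCast_iff] at h1
      push_cast at h1
      exact h1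
    intro q hq
    obtain ⟨j, rfl⟩ : q ∈ Subgroup.zpowers y := hgen.symm ▸ hq
    show a * y ^ j * a = (y ^ j)⁻¹
    rcases mul_self_eq_one_iff.1 hkk with hk1 | hk1
    · exfalso
      refine ha1 (hodd a ?_ ha2)
      rw [hCQdef, Subgroup.mem_centralizer_iff]
      intro w hw
      obtain ⟨i, rfl⟩ : w ∈ Subgroup.zpowers y := hgen.symm ▸ hw
      have h1 : y ^ k = y ^ (1 : ℤ) := zpow_eq_zpow_iff_modEq.2 (by
        rw [hyo, ← ZMod.intCast_eq_intCast_iff]; push_cast; exact hk1)
      rw [hk, zpow_one] at h1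
      have h2 := hconj i
      rw [h1] at h2
      show y ^ i * a = a * y ^ i
      calc y ^ i * a = (a * y ^ i * a) * a := by rw [h2]
        _ = a * y ^ i * (a * a) := by group
        _ = a * y ^ i := by rw [ha2, mul_one]
    · rw [hconj, ← hk, ← zpow_mul, ← zpow_neg]
      exact zpow_eq_zpow_iff_modEq.2 (by
        rw [hyo, ← ZMod.intCast_eq_intCast_iff]; push_cast; rw [hk1]; ring)
  have heq : ∀ a b : G, a ∈ N → b ∈ N → a * a = 1 → b * b = 1 → a ≠ 1 → b ≠ 1 → Commute a b → a = b := by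
    intro a b ha hb ha2 hb2 ha1 hb1 hc
    have h1 : a * b = 1 := by
      refine hodd _ ?_ (by rw [← sq, hc.mul_pow, sq, sq, ha2, hb2, one_mul])
      rw [hCQdef, Subgroup.mem_centralizer_iff]
      intro q hq
      have hbi : b * q * b = q⁻¹ := hinv b hb hb2 hb1 q hq
      have h3 : a * b * q * (a * b) = q * 1 := by
        calc a * b * q * (a * b) = a * b * q * (b * a) := by rw [hc.eq]
          _ = a * (b * q * b) * a := by group
          _ = q * 1 := by rw [hbi, hinv a ha ha2 ha1 _ (inv_mem hq), inv_inv, mul_one]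
      calc q * (a * b) = (a * b * q * (a * b)) * (a * b) := by rw [h3, mul_one]
        _ = a * b * q * ((a * b) * (a * b)) := by group
        _ = a * b * q := by rw [← sq (a * b), hc.mul_pow, sq, sq, ha2, hb2, mul_one, mul_one]
    calc a = a * (b * b) := by rw [hb2, mul_one]
      _ = b := by rw [← mul_assoc, h1, one_mul]
  have hCPN : Subgroup.centralizer ((P : Subgroup G) : Set G) ≤ N :=
    hNdef ▸ Subgroup.centralizer_le_normalizer _
  have hz1 : z ≠ 1 := fun h => by rw [h, orderOf_one] at hzo; norm_num at hzo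
  -- the conjugates of `z` under the normalizer
  obtain ⟨K, hKdef⟩ : ∃ K, K = Subgroup.centralizer ({z} : Set G) := ⟨_, rfl⟩
  have horb : 28 ≤ Nat.card ↥(N ⊓ K) := by
    let f : N → (Q : Subgroup G) := fun a => ⟨(a : G) * z * (a : G)⁻¹ * z, ?_⟩
    swap
    · obtain ⟨w, hw⟩ : ∃ w, w = (a : G) * z * (a : G)⁻¹ := ⟨_, rfl⟩
      rw [← hw]
      have hwC : w ∈ Subgroup.centralizer ((P : Subgroup G) : Set G) := by
        rw [Subgroup.mem_centralizer_iff]
        intro b hb
        have h1 : (a : G)⁻¹ * b * (a : G) ∈ (P : Subgroup G) :=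
          (Subgroup.mem_normalizer_iff''.1 (hNdef ▸ a.2) b).1 hb
        have h2 := Subgroup.mem_centralizer_iff.1 hzC _ h1
        rw [hw]
        calc b * ((a : G) * z * (a : G)⁻¹) = (a : G) * (((a : G)⁻¹ * b * (a : G)) * z) * (a : G)⁻¹ := by group
          _ = (a : G) * (z * ((a : G)⁻¹ * b * (a : G))) * (a : G)⁻¹ := by rw [h2]
          _ = _ := by group
      have hw2 : w * w = 1 := by
        rw [hw]
        calc (a : G) * z * (a : G)⁻¹ * ((a : G) * z * (a : G)⁻¹) = (a : G) * (z * z) * (a : G)⁻¹ := by group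
          _ = 1 := by rw [hz2]; group
      have hw1 : w ≠ 1 := fun h => hz1 (by
        calc z = (a : G)⁻¹ * w * (a : G) := by rw [hw]; group
          _ = 1 := by rw [h]; group)
      -- `w * z` centralizes `P` and `Q`
      have hwzP : w * z ∈ Subgroup.centralizer ((P : Subgroup G) : Set G) := mul_mem hwC hzC
      have hwzQ : w * z ∈ CQ := by
        rw [hCQdef, Subgroup.mem_centralizer_iff]
        intro q hq
        have e1 := hinv z (hCPN hzC) hz2 hz1 q hq
        have e2 := hinv w (hCPN hwC) hw2 hw1 _ (inv_mem hq)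
        rw [inv_inv] at e2
        calc q * (w * z) = (w * q⁻¹ * w) * (w * z) := by rw [e2]
          _ = w * q⁻¹ * (w * w) * z := by group
          _ = w * (z * q * z) * z := by rw [hw2, e1, mul_one]
          _ = w * z * q * (z * z) := by group
          _ = w * z * q := by rw [hz2, mul_one]
      obtain ⟨u, hu⟩ : ∃ u, u = (w * z) ^ 5 := ⟨_, rfl⟩
      have hu7 : u ^ 7 = 1 := by
        rw [hu, ← pow_mul]
        have h := pow_card_eq_one' (G := CQ) (x := ⟨_, hwzQ⟩)
        rw [show Nat.card CQ = 35 from hCQdef ▸ hCQ'] at h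
        exact congrArg Subtype.val h
      have hu1 : u = 1 := by
        have hgenP : u ∈ (P : Subgroup G) := by
          have hle := (IsPGroup.inf_normalizer_sylow (p := 7) (P := Subgroup.zpowers u) (Q := P) ?_).le
          · exact (hle ⟨Subgroup.mem_zpowers u, hu ▸ pow_mem (hNdef ▸ hCPN hwzP) 5⟩).2
          · intro ⟨b, i, hb⟩
            exact ⟨1, Subtype.ext (by
              show b ^ 7 ^ 1 = 1
              rw [← hb, pow_one]
              show (u ^ i) ^ 7 = 1
              rw [← zpow_natCast, ← zpow_mul, mul_comm, zpow_mul, zpow_natCast, hu7, one_zpow])⟩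
        have hzu : z * u = u * z := (Subgroup.mem_centralizer_iff.1 hzC u hgenP).symm
        have hflip : z * u * z = u⁻¹ := by
          rw [hu, ← inv_pow, mul_inv_rev, inv_eq_of_mul_eq_one_right hz2, inv_eq_of_mul_eq_one_right hw2]
          calc z * (w * z) ^ 5 * z = z * (w * z) ^ 5 * z⁻¹ := by rw [inv_eq_of_mul_eq_one_right hz2]
            _ = (z * (w * z) * z⁻¹) ^ 5 := conj_pow.symm
            _ = (z * w) ^ 5 := by
              congr 1
              group
        have h2 : u ^ 2 = 1 := by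
          rw [hzu, mul_assoc, hz2, mul_one] at hflip
          rw [sq]
          nth_rewrite 1 [hflip]
          exact inv_mul_cancel u
        calc u = u ^ 7 * ((u ^ 2) ^ 3)⁻¹ := by group
          _ = 1 := by rw [hu7, h2, one_pow, inv_one, one_mul]
      rw [hu] at hu1
      have hle := (IsPGroup.inf_normalizer_sylow (p := 5) (P := Subgroup.zpowers (w * z)) (Q := Q) ?_).le
      · exact (hle ⟨Subgroup.mem_zpowers _, Subgroup.centralizer_le_normalizer _ (hCQdef ▸ hwzQ)⟩).2
      · intro ⟨b, i, hb⟩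
        exact ⟨1, Subtype.ext (by
          show b ^ 5 ^ 1 = 1
          rw [← hb, pow_one]
          show ((w * z) ^ i) ^ 5 = 1
          rw [← zpow_natCast, ← zpow_mul, mul_comm, zpow_mul, zpow_natCast, hu1, one_zpow])⟩
    -- the fibres are cosets of the centralizer
    let φ : N ⧸ ((N ⊓ K).subgroupOf N) → (Q : Subgroup G) := Quotient.lift f (by
      intro a b hab
      rw [← Quotient.eq_iff_equiv] at hab
      have h1 := QuotientGroup.eq.1 hab
      rw [Subgroup.mem_subgroupOf] at h1
      have h2 : ((a⁻¹ * b : N) : G) * z = z * ((a⁻¹ * b : N) : G) :=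
        Subgroup.mem_centralizer_singleton_iff.1 (hKdef ▸ h1.2)
      simp only [Subgroup.coe_mul, Subgroup.coe_inv] at h2
      refine Subtype.ext ?_
      show (a : G) * z * (a : G)⁻¹ * z = (b : G) * z * (b : G)⁻¹ * z
      congr 1
      calc (a : G) * z * (a : G)⁻¹ = (a : G) * (z * ((a : G)⁻¹ * b)) * (b : G)⁻¹ := by group
        _ = (a : G) * (((a : G)⁻¹ * b) * z) * (b : G)⁻¹ := by rw [h2]
        _ = _ := by group)
    have hφ : Function.Injective φ := by
      intro a b h
      induction a using QuotientGroup.induction_on with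
      | _ a =>
      induction b using QuotientGroup.induction_on with
      | _ b =>
        have h' : (a : G) * z * (a : G)⁻¹ * z = (b : G) * z * (b : G)⁻¹ * z := congrArg Subtype.val h
        have h'' := mul_right_cancel h'
        rw [QuotientGroup.eq, Subgroup.mem_subgroupOf]
        refine ⟨(a⁻¹ * b).2, hKdef ▸ Subgroup.mem_centralizer_singleton_iff.2 ?_⟩
        show (a : G)⁻¹ * b * z = z * ((a : G)⁻¹ * b)
        calc (a : G)⁻¹ * b * z = (a : G)⁻¹ * ((b : G) * z * (b : G)⁻¹) * b := by group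
          _ = (a : G)⁻¹ * ((a : G) * z * (a : G)⁻¹) * b := by rw [h'']
          _ = _ := by group
    have hle := Nat.card_le_card_of_injective φ hφ
    have hmul := ((N ⊓ K).subgroupOf N).card_mul_index
    rw [Nat.card_congr (Subgroup.subgroupOfEquivOfLe (inf_le_left : N ⊓ K ≤ N)).toEquiv,
      show Nat.card N = 140 from hNdef ▸ hN7 P] at hmul
    rw [← Subgroup.index, hQ] at hle
    by_contra hlt
    push Not at hlt
    have := Nat.mul_le_mul (Nat.le_of_lt_succ hlt) hle
    omega
  -- no element of order five centralizes an involution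
  have h5 : ¬ 5 ∣ Nat.card K := by
    intro h
    obtain ⟨b', hb'⟩ := exists_prime_orderOf_dvd_card' (G := K) 5 h
    obtain ⟨R, hR⟩ := (IsPGroup.of_card (p := 5) (n := 1) (G := Subgroup.zpowers (b' : G))
      (by rw [Nat.card_zpowers, Subgroup.orderOf_coe, hb', pow_one])).exists_le_sylow
    have hb1 : (b' : G) ≠ 1 := fun e => by
      rw [← Subgroup.orderOf_coe, e, orderOf_one] at hb'; norm_num at hb'
    obtain ⟨g', hg'⟩ := MulAction.exists_smul_eq G R Q
    have hgen : Subgroup.zpowers (g' * (b' : G) * g'⁻¹) = (Q : Subgroup G) := by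
      refine CfsgLib.Perm.Small.zpowers_eq_of_mem hQ ?_ fun h => hb1 (conj_eq_one_iff.1 h)
      rw [← hg', Sylow.coe_subgroup_smul]
      exact ⟨_, hR (Subgroup.mem_zpowers _), rfl⟩
    have hmem : g' * z * g'⁻¹ ∈ CQ := by
      rw [hCQdef, Subgroup.mem_centralizer_iff]
      intro q hq
      obtain ⟨i, rfl⟩ : q ∈ Subgroup.zpowers (g' * (b' : G) * g'⁻¹) := hgen.symm ▸ hq
      have h1 : Commute (b' : G) z := Subgroup.mem_centralizer_singleton_iff.1 (hKdef ▸ b'.2)
      exact ((h1.map (MulAut.conj g').toMonoidHom).zpow_left i).eq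
    exact hz1 (conj_eq_one_iff.1 (hodd _ hmem (by
      calc g' * z * g'⁻¹ * (g' * z * g'⁻¹) = g' * (z * z) * g'⁻¹ := by group
        _ = 1 := by rw [hz2]; group)))
  have hPK : (P : Subgroup G) ≤ K := fun b hb => hKdef ▸
    Subgroup.mem_centralizer_singleton_iff.2 (Subgroup.mem_centralizer_iff.1 hzC b hb)
  obtain ⟨s, hs, hs7⟩ := exists_count P (hP7 P) hPK
  rw [← hNdef] at hs
  have hd1 : Nat.card ↥(N ⊓ K) ∣ 140 := hN7 P ▸ hNdef ▸ Subgroup.card_dvd_of_le inf_le_left
  have hd2 : Nat.card K ∣ 5040 := hg ▸ Subgroup.card_subgroup_dvd_card K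
  have hnk : Nat.card ↥(N ⊓ K) = 28 := by
    have h5' : ¬ 5 ∣ Nat.card ↥(N ⊓ K) := fun h => h5 (h.trans (Subgroup.card_dvd_of_le inf_le_right))
    have := Nat.le_of_dvd (by norm_num) hd1
    generalize Nat.card ↥(N ⊓ K) = m at hd1 horb h5' this ⊢
    interval_cases m <;> omega
  rw [hnk] at hs
  have hs180 : s ∣ 180 := by
    rw [hs, show (5040 : ℕ) = 28 * 180 by norm_num] at hd2
    exact Nat.dvd_of_mul_dvd_mul_left (by norm_num) hd2
  have hs5 : ¬ 5 ∣ s := fun h => h5 (hs ▸ h.mul_left 28)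
  have hs1 : s = 1 := by
    rcases eq_or_ne s 1 with h | h
    · exact h
    exfalso
    have hsl := Nat.le_of_dvd (by norm_num) hs180
    have h36 : s = 36 := by interval_cases s <;> omega
    have hKne : K ≠ ⊤ := fun e => by rw [e, Subgroup.card_top, hg] at hs; omega
    have h1 := K.card_mul_index
    rw [hs, h36, hg] at h1
    have h2 := eight_lt_index hg hKne
    omega
  rw [hs1, mul_one] at hs
  have hKN : K ≤ N := by
    have : N ⊓ K = K := Subgroup.eq_of_le_of_card_ge inf_le_right (by rw [hs, hnk])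
    exact this ▸ inf_le_left
  -- a central involution of a Sylow two-subgroup containing `z`
  obtain ⟨T, hT⟩ := (IsPGroup.of_card (p := 2) (n := 1) (G := Subgroup.zpowers z)
    (by rw [Nat.card_zpowers, hzo, pow_one])).exists_le_sylow
  have hzT : z ∈ (T : Subgroup G) := hT (Subgroup.mem_zpowers z)
  haveI : Nontrivial (T : Subgroup G) := ⟨⟨z, hzT⟩, 1, fun e => hz1 (congrArg Subtype.val e)⟩
  haveI : Nontrivial (Subgroup.center (T : Subgroup G)) := T.2.center_nontrivial
  obtain ⟨w', hw'⟩ := exists_prime_orderOf_dvd_card' (G := Subgroup.center (T : Subgroup G)) 2 (by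
    obtain ⟨k, hk⟩ := (T.2.to_subgroup (Subgroup.center (T : Subgroup G))).exists_card_eq
    rcases k with _ | k
    · rw [pow_zero] at hk
      exact absurd hk Finite.one_lt_card.ne'
    · rw [hk, pow_succ]; exact dvd_mul_left 2 _)
  obtain ⟨w, hw⟩ : ∃ w : G, w = ((w' : (T : Subgroup G)) : G) := ⟨_, rfl⟩
  have hwo : orderOf w = 2 := by rw [hw, Subgroup.orderOf_coe, Subgroup.orderOf_coe, hw']
  have hcomm : ∀ v ∈ (T : Subgroup G), Commute w v := fun v hv => by
    have := congrArg Subtype.val (Subgroup.mem_center_iff.1 w'.2 ⟨v, hv⟩)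
    rw [hw]
    exact this.symm
  have hwK : w ∈ K := hKdef ▸ Subgroup.mem_centralizer_singleton_iff.2 (hcomm z hzT)
  have hwz : w = z := heq w z (hKN hwK) (hCPN hzC) (by rw [← sq, ← hwo, pow_orderOf_eq_one]) hz2
    (fun e => by rw [e, orderOf_one] at hwo; norm_num at hwo) hz1 (hcomm z hzT)
  have hTK : (T : Subgroup G) ≤ K := fun v hv =>
    hKdef ▸ Subgroup.mem_centralizer_singleton_iff.2 (hwz ▸ hcomm v hv).symm
  have h16 : 2 ^ 4 ∣ Nat.card (T : Subgroup G) := T.pow_dvd_card_of_pow_dvd_card (by rw [hg]; norm_num)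
  have := h16.trans (Subgroup.card_dvd_of_le hTK)
  rw [hs] at this
  norm_num at this

/-- One hundred and twenty Sylow subgroups with centralizer of order twenty-one. -/
theorem false_oneTwenty_two [Fact (Nat.Prime 7)] (P : Sylow 7 G) (hP : Nat.card (P : Subgroup G) = 7)
    (hC : Nat.card (Subgroup.centralizer ((P : Subgroup G) : Set G)) = 21)
    (hN : Nat.card (Subgroup.normalizer ((P : Subgroup G) : Set G)) = 42) : False := by
  classical
  haveI : Fact (Nat.Prime 3) := ⟨Nat.prime_three⟩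
  obtain ⟨y', hy'⟩ := exists_prime_orderOf_dvd_card'
    (G := Subgroup.centralizer ((P : Subgroup G) : Set G)) 3 (by rw [hC]; norm_num)
  obtain ⟨Y, hY⟩ : ∃ Y, Y = Subgroup.zpowers (y' : G) := ⟨_, rfl⟩
  have hYc : Nat.card Y = 3 := by rw [hY, Nat.card_zpowers, Subgroup.orderOf_coe, hy']
  have hYC : Y ≤ Subgroup.centralizer ((P : Subgroup G) : Set G) := hY ▸ Subgroup.zpowers_le.2 y'.2
  have hPC : (P : Subgroup G) ≤ Subgroup.centralizer ((P : Subgroup G) : Set G) := by
    haveI : IsMulCommutative (P : Subgroup G) := (isCyclic_of_prime_card hP).isMulCommutative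
    exact Subgroup.le_centralizer _
  have hdisj : Disjoint (P : Subgroup G) Y := by
    rw [disjoint_iff]
    exact Subgroup.inf_eq_bot_of_coprime (by rw [hP, hYc]; norm_num)
  have huniq : ∀ w ∈ Subgroup.centralizer ((P : Subgroup G) : Set G), w ^ 3 = 1 → w ∈ Y := by
    intro w hw h3
    have hinj : Function.Injective fun q : ↥(P : Subgroup G) × ↥Y =>
        (⟨(q.1 : G) * q.2, mul_mem (hPC q.1.2) (hYC q.2.2)⟩ : Subgroup.centralizer ((P : Subgroup G) : Set G)) :=
      fun q r h => Subgroup.mul_injective_of_disjoint hdisj (congrArg Subtype.val h)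
    obtain ⟨⟨a, b⟩, hab⟩ := ((Nat.bijective_iff_injective_and_card _).2
      ⟨hinj, by rw [Nat.card_prod, hP, hYc, hC]⟩).2 ⟨w, hw⟩
    have hab' : (a : G) * b = w := congrArg Subtype.val hab
    have hc : Commute (a : G) b := Subgroup.mem_centralizer_iff.1 (hYC b.2) a a.2
    have hb3 : (b : G) ^ 3 = 1 := by
      have h := pow_card_eq_one' (G := Y) (x := b)
      rw [hYc] at h
      exact congrArg Subtype.val h
    have ha7 : (a : G) ^ 7 = 1 := by
      have h := pow_card_eq_one' (G := (P : Subgroup G)) (x := a)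
      rw [hP] at h
      exact congrArg Subtype.val h
    rw [← hab', hc.mul_pow, hb3, mul_one] at h3
    have : (a : G) = 1 := by
      calc (a : G) = (a : G) ^ 7 * (((a : G) ^ 3) ^ 2)⁻¹ := by group
        _ = 1 := by rw [ha7, h3, one_pow, inv_one, one_mul]
    rw [← hab', this, one_mul]
    exact b.2
  obtain ⟨K, hK⟩ : ∃ K, K = Subgroup.normalizer (Y : Set G) := ⟨_, rfl⟩
  have hNK : Subgroup.normalizer ((P : Subgroup G) : Set G) ≤ K := by
    have hstep : ∀ a ∈ Subgroup.normalizer ((P : Subgroup G) : Set G), ∀ v ∈ Y, a * v * a⁻¹ ∈ Y := by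
      intro a ha v hv
      refine huniq _ ?_ ?_
      · rw [Subgroup.mem_centralizer_iff]
        intro b hb
        have h1 : a⁻¹ * b * a ∈ (P : Subgroup G) := (Subgroup.mem_normalizer_iff''.1 ha b).1 hb
        have h2 := Subgroup.mem_centralizer_iff.1 (hYC hv) _ h1
        calc b * (a * v * a⁻¹) = a * ((a⁻¹ * b * a) * v) * a⁻¹ := by group
          _ = a * (v * (a⁻¹ * b * a)) * a⁻¹ := by rw [h2]
          _ = _ := by group
      · have h := pow_card_eq_one' (G := Y) (x := ⟨v, hv⟩)
        rw [hYc] at h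
        have h' : v ^ 3 = 1 := congrArg Subtype.val h
        rw [conj_pow, h', mul_one, mul_inv_cancel]
    intro a ha
    rw [hK, Subgroup.mem_normalizer_iff]
    intro v
    refine ⟨hstep a ha v, fun h => ?_⟩
    have := hstep a⁻¹ (inv_mem ha) _ h
    simpa [mul_assoc] using this
  obtain ⟨s, hs, hs7⟩ := exists_count P hP (le_trans Subgroup.le_normalizer hNK)
  rw [inf_eq_left.2 hNK, hN] at hs
  -- a Sylow three-subgroup containing `Y` is abelian
  obtain ⟨T, hT⟩ := (IsPGroup.of_card (p := 3) (n := 1) (G := Y) (by rw [hYc, pow_one])).exists_le_sylow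
  have hTc : Nat.card (T : Subgroup G) = 3 ^ 2 := by
    rw [T.card_eq_multiplicity, hg]
    congr 1
    exact CfsgLib.Invol.Thousand.factorization_eq (r := 560) Nat.prime_three (by norm_num) (by norm_num)
  haveI : IsMulCommutative (T : Subgroup G) := IsPGroup.isMulCommutative_of_card_eq_prime_sq (p := 3) hTc
  have hTK : (T : Subgroup G) ≤ K := fun t ht => by
    rw [hK]
    refine Subgroup.centralizer_le_normalizer _ ?_
    rw [Subgroup.mem_centralizer_iff]
    intro v hv
    exact congrArg Subtype.val (IsMulCommutative.is_comm.comm (⟨v, hT hv⟩ : (T : Subgroup G)) ⟨t, ht⟩)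
  have h9 : 9 ∣ 42 * s := by
    have h := Subgroup.card_dvd_of_le hTK
    rw [hTc, hs] at h
    norm_num at h
    exact h
  have hd : 42 * s ∣ 42 * 120 := hs ▸ (show 42 * 120 = Nat.card G by rw [hg]) ▸ Subgroup.card_subgroup_dvd_card K
  have hs120 : s ∣ 120 := Nat.dvd_of_mul_dvd_mul_left (by norm_num) hd
  have hsl := Nat.le_of_dvd (by norm_num) hs120
  have hcases : s = 15 ∨ s = 120 := by interval_cases s <;> omega
  have hKne : K ≠ ⊤ := by
    intro e
    rw [hK, Subgroup.normalizer_eq_top_iff] at e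
    rcases IsSimpleGroup.eq_bot_or_eq_top_of_normal Y e with e' | e'
    · rw [e', Subgroup.card_bot] at hYc; norm_num at hYc
    · rw [e', Subgroup.card_top, hg] at hYc; norm_num at hYc
  have h8 := eight_lt_index hg hKne
  have h1 := K.card_mul_index
  rw [hs, hg] at h1
  rcases hcases with rfl | rfl <;> omega

omit hg in
theorem fracSum_le : ∀ a : List (ℤ × ℤ), (∀ q ∈ a, 8 ≤ q.1.natAbs) →
    (fracSum a).2 ≠ 0 ∧ 8 * ((fracSum a).1 * (fracSum a).2) ≤
      (8 + (a.map fun x => x.2 * x.2).sum) * ((fracSum a).2 * (fracSum a).2)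
  | [], _ => by simp [fracSum]
  | (f, v) :: r, h => by
    obtain ⟨h0, h1⟩ := fracSum_le r fun q hq => h q (List.mem_cons_of_mem _ hq)
    have hf : 8 ≤ f.natAbs := h (f, v) (by simp)
    have hf0 : f ≠ 0 := by omega
    have hf' : (8 : ℤ) ≤ (f.natAbs : ℤ) := by exact_mod_cast hf
    have hf8 : 8 * f ≤ f * f := by
      rcases Int.natAbs_eq f with e | e
      · nlinarith
      · nlinarith
    refine ⟨mul_ne_zero h0 hf0, ?_⟩
    simp only [fracSum, List.map_cons, List.sum_cons]
    generalize (fracSum r).1 = num at h1 ⊢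
    generalize (fracSum r).2 = den at h0 h1 ⊢
    generalize (r.map fun x => x.2 * x.2).sum = S at h1 ⊢
    nlinarith [mul_le_mul_of_nonneg_left h1 (mul_self_nonneg f),
      mul_le_mul_of_nonneg_left hf8 (mul_nonneg (mul_self_nonneg v) (mul_self_nonneg den))]

omit hg in
/-- Away from small degrees the centralizer of the involution is small. -/
theorem centralizer_le (c : ℕ) (a : List (ℤ × ℤ)) (h8 : ∀ q ∈ a, 8 ≤ q.1.natAbs)
    (hD : 8 ≤ (1 + (a.map Prod.fst).sum).natAbs) (hgood : goodAssignK 5040 7 6 7 c a = true) :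
    c ≤ 97 := by
  obtain ⟨h0, h1⟩ := fracSum_le a h8
  simp only [goodAssignK, Bool.and_eq_true, decide_eq_true_eq, beq_iff_eq] at hgood
  obtain ⟨⟨-, hc⟩, he⟩ := hgood
  generalize (fracSum a).1 = num at h1 he
  generalize (fracSum a).2 = den at h0 h1 he
  generalize (a.map fun x => x.2 * x.2).sum = S at h1 hc
  generalize 1 + (a.map Prod.fst).sum = D at hD he
  generalize 1 + (a.map Prod.snd).sum = T at he hc
  have hD' : (8 : ℤ) ≤ (D.natAbs : ℤ) := by exact_mod_cast hD
  have hD8 : -(8 * D) ≤ D * D := by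
    rcases Int.natAbs_eq D with e | e
    · nlinarith
    · nlinarith
  have hD0 : D ≠ 0 := by omega
  norm_num at hc he
  have hpos : (0 : ℤ) < den * den * (D * D) :=
    mul_pos (mul_self_pos.2 h0) (mul_self_pos.2 hD0)
  have hkey : 56 * ((c : ℤ) * c) * (den * den * (D * D)) ≤ 5040 * (7 + c) * (den * den * (D * D)) := by
    have e1 : 56 * ((c : ℤ) * c) * (den * den * (D * D)) =
        5040 * (8 * (num * den) * (D * D) + T * T * (den * den) * (-(8 * D))) := by
      linear_combination (-(8 * den * D)) * he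
    rw [e1]
    nlinarith [mul_le_mul_of_nonneg_left h1 (mul_self_nonneg D),
      mul_le_mul_of_nonneg_left hD8 (mul_nonneg (mul_self_nonneg T) (mul_self_nonneg den)),
      mul_le_mul_of_nonneg_left hc hpos.le]
  have h2 := le_of_mul_le_mul_right hkey hpos
  by_contra hlt
  have h98 : (98 : ℤ) ≤ c := by omega
  nlinarith [mul_le_mul_of_nonneg_left h98 (Int.natCast_nonneg c)]

/-- The test for one degree list. -/
def listOk (l : List ℤ) : Bool :=
  (List.range 98).all fun c => !((c % 2 == 0) && (720 % c == 0)) ||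
    (assigns c l).all fun a => !goodAssignK 5040 7 6 7 c a

omit hg in
theorem listOk_0 : (([[-20, -20, 36, 36, -48], [15, 36, 36, -48, -48], [15, -20, 36, 36, -48]] : List (List ℤ)).all listOk) = true := by decide +kernel

omit hg in
theorem listOk_1 : (([[15, -20, -20, 36, -48], [15, -20, -20, 36, 36], [15, -20, -20, -20, 36]] : List (List ℤ)).all listOk) = true := by decide +kernel

omit hg in
theorem listOk_2 : (([[8, 36, 36, -48, -48], [8, -20, -20, -20, 36], [8, 15, 36, -48, -48]] : List (List ℤ)).all listOk) = true := by decide +kernel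

omit hg in
theorem listOk_3 : (([[8, 15, 36, 36, -48], [8, 15, -20, 36, -48], [8, 15, -20, -20, 36]] : List (List ℤ)).all listOk) = true := by decide +kernel

omit hg in
theorem listOk_4 : (([[8, 15, -20, -20, -20], [8, 8, -20, 36, -48], [8, 8, 15, 36, -48]] : List (List ℤ)).all listOk) = true := by decide +kernel

omit hg in
theorem listOk_5 : (([[8, 8, 15, -20, -48], [8, 8, 15, -20, 36], [8, 8, 15, -20, -20]] : List (List ℤ)).all listOk) = true := by decide +kernel

omit hg in
theorem listOk_6 : (([[8, 8, 8, -20, -20], [8, 8, 8, 15, -48], [8, 8, 8, 15, -20]] : List (List ℤ)).all listOk) = true := by decide +kernel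

omit hg in
theorem listOk_7 : (([[8, 8, 8, 8, -48], [8, 8, 8, 8, 15]] : List (List ℤ)).all listOk) = true := by decide +kernel

omit hg in
theorem degLists_eq : ((degLists 5040 720 7 6 71).all fun l => l.contains (-6) || (1 + l.sum == 6) ||
    ((l.all fun d => decide (8 ≤ d.natAbs)) && decide (8 ≤ (1 + l.sum).natAbs) &&
      (([[-20, -20, 36, 36, -48], [15, 36, 36, -48, -48], [15, -20, 36, 36, -48]] : List (List ℤ)) ++ ([[15, -20, -20, 36, -48], [15, -20, -20, 36, 36], [15, -20, -20, -20, 36]] : List (List ℤ)) ++ ([[8, 36, 36, -48, -48], [8, -20, -20, -20, 36], [8, 15, 36, -48, -48]] : List (List ℤ)) ++ ([[8, 15, 36, 36, -48], [8, 15, -20, 36, -48], [8, 15, -20, -20, 36]] : List (List ℤ)) ++ ([[8, 15, -20, -20, -20], [8, 8, -20, 36, -48], [8, 8, 15, 36, -48]] : List (List ℤ)) ++ ([[8, 8, 15, -20, -48], [8, 8, 15, -20, 36], [8, 8, 15, -20, -20]] : List (List ℤ)) ++ ([[8, 8, 8, -20, -20], [8, 8, 8, 15, -48], [8, 8, 8, 15, -20]] : List (List ℤ)) ++ ([[8, 8, 8, 8, -48], [8, 8,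 8, 8, 15]] : List (List ℤ))).contains l)) = true := by decide +kernel

omit hg in
/-- The degree lists passing the involution test contain degree six, or only large degrees. -/
theorem six_occurs (l : List ℤ) (hl : l ∈ degLists 5040 720 7 6 71) :
    (-6 : ℤ) ∈ l ∨ 1 + l.sum = 6 ∨ ((∀ d ∈ l, 8 ≤ d.natAbs) ∧ 8 ≤ (1 + l.sum).natAbs ∧ listOk l = true) := by
  have h := List.all_eq_true.1 degLists_eq l hl
  simp only [Bool.or_eq_true, List.contains_iff_mem, beq_iff_eq, Bool.and_eq_true, List.all_eq_true,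
    decide_eq_true_eq, List.mem_append] at h
  rcases h with (h | h) | ⟨⟨h8, hD⟩, h⟩
  · exact Or.inl h
  · exact Or.inr (Or.inl h)
  refine Or.inr (Or.inr ⟨h8, hD, ?_⟩)
  rcases h with ((((((h | h) | h) | h) | h) | h) | h) | h
  · exact List.all_eq_true.1 listOk_0 l h
  · exact List.all_eq_true.1 listOk_1 l h
  · exact List.all_eq_true.1 listOk_2 l h
  · exact List.all_eq_true.1 listOk_3 l h
  · exact List.all_eq_true.1 listOk_4 l h
  · exact List.all_eq_true.1 listOk_5 l h
  · exact List.all_eq_true.1 listOk_6 l h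
  · exact List.all_eq_true.1 listOk_7 l h

omit hg in
theorem map_fst_of_mem_assigns {c : ℕ} : ∀ {l : List ℤ} {a : List (ℤ × ℤ)},
    a ∈ assigns c l → a.map Prod.fst = l
  | [], a, h => by
    simp only [assigns, List.mem_singleton] at h
    simp [h]
  | s :: r, a, h => by
    simp only [assigns, List.mem_flatMap, List.mem_map] at h
    obtain ⟨S, -, a', ha', rfl⟩ := h
    simp [map_fst_of_mem_assigns ha']

omit hg in
theorem prim_seven : orderOf ((3 : ℕ) : ZMod 7) = 7 - 1 := by
  rw [orderOf_eq_iff (by norm_num)]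
  refine ⟨by decide, fun m hm hm0 => ?_⟩
  interval_cases m <;> decide

/-- One hundred and twenty self-centralizing Sylow subgroups. -/
theorem false_oneTwenty_six [Fintype G] [Fact (Nat.Prime 7)] (P : Sylow 7 G) (hP : Nat.card (P : Subgroup G) = 7)
    (hC : Nat.card (Subgroup.centralizer ((P : Subgroup G) : Set G)) = 7)
    (hN : Nat.card (Subgroup.normalizer ((P : Subgroup G) : Set G)) = 42)
    (S : Shape 7 6 (P : Subgroup G)) : False := by
  classical
  have hG := noncomm hg
  haveI : IsCyclic (P : Subgroup G) := isCyclic_of_prime_card hP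
  letI : CommGroup (P : Subgroup G) := IsCyclic.commGroup
  -- an element inducing the cube map
  obtain ⟨φ, hφ⟩ : ∃ φ, φ = Subgroup.normalizerMonoidHom (P : Subgroup G) := ⟨_, rfl⟩
  have hrange : φ.range = ⊤ := by
    refine Subgroup.eq_top_of_card_eq _ ?_
    rw [IsCyclic.card_mulAut, hP, Nat.totient_prime (by norm_num), ← Subgroup.index_ker, hφ,
      Subgroup.normalizerMonoidHom_ker]
    have hle : Subgroup.centralizer ((P : Subgroup G) : Set G) ≤ Subgroup.normalizer ((P : Subgroup G) : Set G) :=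
      Subgroup.centralizer_le_normalizer _
    have h := ((Subgroup.centralizer ((P : Subgroup G) : Set G)).subgroupOf
      (Subgroup.normalizer ((P : Subgroup G) : Set G))).card_mul_index
    rw [Nat.card_congr (Subgroup.subgroupOfEquivOfLe hle).toEquiv, hC, hN] at h
    omega
  obtain ⟨x', hx'⟩ := exists_prime_orderOf_dvd_card' (G := (P : Subgroup G)) 7 (by rw [hP])
  obtain ⟨a, ha⟩ : ∃ a : ↥(Subgroup.normalizer ((P : Subgroup G) : Set G)), True ∧ (φ a) x' = x' ^ 3 := by
    obtain ⟨a, ha⟩ := (φ.range.eq_top_iff'.1 hrange)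
      ({ powCoprime (G := (P : Subgroup G)) (n := 3) (by rw [hP]; norm_num) with
          map_mul' := fun u v => mul_pow u v 3 } : MulAut (P : Subgroup G))
    refine ⟨a, trivial, ?_⟩
    rw [ha]
    rfl
  obtain ⟨g, hgdef⟩ : ∃ g : G, g = (a : G) := ⟨_, rfl⟩
  obtain ⟨x, hxdef⟩ : ∃ x : G, x = (x' : G) := ⟨_, rfl⟩
  have hx : x ∈ (P : Subgroup G) := hxdef ▸ x'.2
  have hxo : orderOf x = 7 := by rw [hxdef, Subgroup.orderOf_coe, hx']
  have hx1 : x ≠ 1 := fun h => by rw [h, orderOf_one] at hxo; norm_num at hxo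
  have hconj : g * x * g⁻¹ = x ^ 3 := by
    have h := congrArg Subtype.val ha.2
    rw [hφ, Subgroup.normalizerMonoidHom_apply_apply_coe] at h
    rw [hgdef, hxdef]
    exact h
  have hpow : ∀ j : ℕ, g ^ j * x * (g ^ j)⁻¹ = x ^ (3 ^ j) := by
    intro j
    induction j with
    | zero => simp
    | succ j ih =>
      calc g ^ (j + 1) * x * (g ^ (j + 1))⁻¹ = g * (g ^ j * x * (g ^ j)⁻¹) * g⁻¹ := by
            rw [pow_succ']; group
        _ = g * x ^ (3 ^ j) * g⁻¹ := by rw [ih]
        _ = (g * x * g⁻¹) ^ (3 ^ j) := conj_pow.symm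
        _ = _ := by rw [hconj, ← pow_mul, pow_succ']
  have h729 : x ^ (3 ^ 6) = x := by
    conv_rhs => rw [← pow_one x]
    rw [pow_eq_pow_iff_modEq, hxo]
    decide
  have hg6P : g ^ 6 ∈ (P : Subgroup G) := by
    refine mem_of_commute_gen hP hC hx hx1 ?_
    have h := hpow 6
    rw [h729] at h
    exact (mul_inv_eq_iff_eq_mul.1 h).symm
  have hg6 : g ^ 6 = 1 := by
    by_contra h
    have hgen := CfsgLib.Perm.Small.zpowers_eq_of_mem hP hg6P h
    obtain ⟨i, hi⟩ : x ∈ Subgroup.zpowers (g ^ 6) := hgen.symm ▸ hx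
    simp only at hi
    have hgx : Commute g x := hi ▸ ((Commute.refl g).pow_right 6).zpow_right i
    have h3 : x ^ 3 = x ^ 1 := by rw [← hconj, hgx.eq, mul_inv_cancel_right, pow_one]
    rw [pow_eq_pow_iff_modEq, hxo] at h3
    exact absurd h3 (by decide)
  -- an involution inverting `x`
  have hu2 : g ^ 3 * g ^ 3 = 1 := by rw [← pow_add]; exact hg6
  have huinv : (g ^ 3)⁻¹ = g ^ 3 := inv_eq_of_mul_eq_one_right hu2
  have hinv : g ^ 3 * x * g ^ 3 = x⁻¹ := by
    have h := hpow 3
    rw [huinv] at h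
    rw [h]
    refine eq_inv_of_mul_eq_one_left ?_
    rw [← pow_succ]
    exact orderOf_dvd_iff_pow_eq_one.1 (hxo ▸ by norm_num)
  have huo : orderOf (g ^ 3) = 2 := by
    refine orderOf_eq_prime (by rw [sq]; exact hu2) fun h => ?_
    rw [h, one_mul, mul_one] at hinv
    have h2 : x ^ 2 = x ^ 0 := by rw [sq, pow_zero]; nth_rewrite 1 [hinv]; exact inv_mul_cancel x
    rw [pow_eq_pow_iff_modEq, hxo] at h2
    exact absurd h2 (by decide)
  obtain ⟨l, hl, hlink, hsum, hc2, hcm, b, hb, hgood⟩ := S.exists_assign_linked hG (m := 720) (B := 71)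
    (by norm_num) hP (by rw [hg]) (by norm_num) (by norm_num) (by norm_num) hC (by rw [hg]; norm_num) hx hx1 huo
  rw [classConst_eq_of_inverting (by norm_num) hP hC hx hx1 hu2 hinv, hg] at hgood
  rw [hg] at hl
  have hall := six_occurs l hl
  -- some irreducible character has degree six
  obtain ⟨χ, hχne, hχd⟩ : ∃ χ : IrrCharacter G, (χ : G → ℂ) ≠ (fun _ => 1) ∧
      charDegree (χ : G → ℂ) = 6 := by
    rcases hall with h | h | h
    · obtain ⟨χ, hχ, he⟩ := hlink _ h
      refine ⟨χ, fun e => S.one_notMem_X ?_, ?_⟩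
      · convert hχ using 1
        exact Subtype.ext e.symm
      · rcases S.sign_X χ hχ with hs | hs <;> rw [hs] at he <;> omega
    · obtain ⟨θ, hθ⟩ : S.Y.Nonempty := Finset.card_pos.1 (by rw [S.card_Y]; norm_num)
      refine ⟨θ, fun e => S.one_notMem_Y ?_, ?_⟩
      · convert hθ using 1
        exact Subtype.ext e.symm
      · rw [S.degree_Y θ hθ]
        rw [hsum] at h
        rcases S.sign with hs | hs <;> rw [hs] at h <;> omega
    · exfalso
      obtain ⟨h8, hD8, h⟩ := h
      simp only [listOk, Bool.or_eq_true, List.all_eq_true, List.mem_range,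
        Bool.not_eq_true', Bool.and_eq_false_iff, beq_eq_false_iff_ne] at h
      have hfst := map_fst_of_mem_assigns hb
      have hle := centralizer_le _ b (fun q hq => h8 q.1 (hfst ▸ List.mem_map_of_mem hq))
        (by rw [hfst]; exact hD8) hgood
      rcases h _ (Nat.lt_succ_of_le hle) with (h1 | h1) | h1
      · exact h1 (Nat.mod_eq_zero_of_dvd hc2)
      · exact h1 (Nat.mod_eq_zero_of_dvd hcm)
      · rw [h1 b hb] at hgood
        exact absurd hgood (by decide)
  have hprim : orderOf ((3 : ℕ) : ZMod 7) = 7 - 1 := prim_seven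
  exact false_of_degree_pred hG (by norm_num) hxo hconj hprim hg6 χ hχne
    (by rw [(CfsgLib.Block.charDegree_eq χ).1, hχd])

/-- There is no simple group of order 5040. -/
theorem false_of_card : False := by
  classical
  haveI := Fintype.ofFinite G
  haveI : Fact (Nat.Prime 7) := ⟨by norm_num⟩
  have hG := noncomm hg
  obtain ⟨P, n, e, c, hmem, hP, hnec, hnS, hC, hN, ⟨S⟩⟩ :=
    data_of_refutedTwo (G := G) 5040 7 720 71 16
      [(120, 6), (120, 2), (36, 2), (15, 6), (15, 2), (8, 6), (8, 2)] hg hG (by norm_num)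
      (by norm_num) (by norm_num) (by norm_num) (by norm_num) ⟨4, rfl⟩ (by norm_num) (by decide +kernel)
  simp only [List.mem_cons, List.not_mem_nil, or_false, Prod.mk.injEq] at hmem
  have height : n = 8 → False := fun h => by
    subst h
    have hne : Subgroup.normalizer ((P : Subgroup G) : Set G) ≠ ⊤ := fun e' => by
      rw [e', Subgroup.card_top, hg] at hN
      obtain ⟨rfl | rfl, hh⟩ : (e = 6 ∨ e = 2) ∧ True := ⟨by omega, trivial⟩ <;> omega
    have h := eight_lt_index hg hne
    rw [show (Subgroup.normalizer ((P : Subgroup G) : Set G)).index = Nat.card (Sylow 7 G) from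
      P.card_eq_index_normalizer.symm, ← hnS] at h
    omega
  rcases hmem with ⟨rfl, rfl⟩ | ⟨rfl, rfl⟩ | ⟨rfl, rfl⟩ | ⟨rfl, rfl⟩ | ⟨rfl, rfl⟩ | ⟨rfl, rfl⟩ | ⟨rfl, rfl⟩
  · obtain rfl : c = 1 := by omega
    exact false_oneTwenty_six hg P hP hC hN S
  · obtain rfl : c = 3 := by omega
    exact false_oneTwenty_two hg P hP hC hN
  · obtain rfl : c = 10 := by omega
    exact false_thirtySix hg (fun R => (card_centralizer_sylow R P).trans hC)
      (fun R => (card_normalizer_sylow R P).trans hN)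
      (fun R => (R.card_eq_multiplicity).trans (P.card_eq_multiplicity.symm.trans hP))
  · obtain rfl : c = 8 := by omega
    exact false_fifteen hg P hP hnS.symm (by rw [hC]; norm_num)
  · obtain rfl : c = 24 := by omega
    exact false_fifteen hg P hP hnS.symm (by rw [hC]; norm_num)
  · exact height rfl
  · exact height rfl

end CfsgLib.Perm.Not5040
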