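import Mathlib
import Cfsg.Agent.Lib.Perm.Small.OrderTools
import Cfsg.Agent.Lib.Perm.Small.SylowPrime

/-!
# There is no simple group of order 4620
-/

set_option autoImplicit false
set_option linter.all false

namespace CfsgLib.Perm.Not4620

open Cfsg CfsgLib.Perm.PrimeBlock CfsgLib.Perm.SylowPrime
open scoped Pointwise

variable {G : Type*} [Group G] [Finite G] [IsSimpleGroup G]

/-- An element of order five centralizing one of twenty-two Sylow subgroups fixes all of them. -/
theorem card_ne_4620 : Nat.card G ≠ 4620 := by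
  intro hg
  classical
  haveI := Fintype.ofFinite G
  haveI : Fact (Nat.Prime 7) := ⟨by norm_num⟩
  haveI : Fact (Nat.Prime 5) := ⟨by norm_num⟩
  have hG : ¬ IsMulCommutative G := fun hc => by
    haveI := hc
    letI : CommGroup G := { (inferInstance : Group G) with mul_comm := fun a b => IsMulCommutative.is_comm.comm a b }
    have h : (Nat.card G).Prime := IsSimpleGroup.prime_card
    rw [hg] at h
    norm_num at h
  obtain ⟨P, n, e, c, hmem, hP, hnec, hnS, hC, hN, -⟩ :=
    data_of_refutedTwo (G := G) 4620 7 660 68 4 [(22, 6)] hg hG (by norm_num)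
      (by norm_num) (by norm_num) (by norm_num) (by norm_num) ⟨2, rfl⟩ (by norm_num) (by decide +kernel)
  simp only [List.mem_singleton, Prod.mk.injEq] at hmem
  obtain ⟨rfl, rfl⟩ := hmem
  obtain rfl : c = 5 := by omega
  obtain ⟨y', hy'⟩ := exists_prime_orderOf_dvd_card'
    (G := Subgroup.centralizer ((P : Subgroup G) : Set G)) 5 (by rw [hC]; norm_num)
  obtain ⟨y, hyC, hyo⟩ : ∃ y ∈ Subgroup.centralizer ((P : Subgroup G) : Set G), orderOf y = 5 :=
    ⟨y', y'.2, by rw [Subgroup.orderOf_coe, hy']⟩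
  obtain ⟨Y, hY⟩ : ∃ Y, Y = Subgroup.zpowers y := ⟨_, rfl⟩
  have hYp : IsPGroup 5 Y := IsPGroup.of_card (n := 1) (by rw [hY, Nat.card_zpowers, hyo, pow_one])
  -- the fixed points of `Y` are permuted by `P`
  obtain ⟨F, hF⟩ : ∃ F : Set (Sylow 7 G), F = MulAction.fixedPoints Y (Sylow 7 G) := ⟨_, rfl⟩
  have hmemF : ∀ R, R ∈ F ↔ y • R = R := by
    intro R
    rw [hF, MulAction.mem_fixedPoints]
    constructor
    · exact fun h => h ⟨y, hY ▸ Subgroup.mem_zpowers y⟩
    · rintro h ⟨v, hv⟩
      show v • R = R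
      rw [hY] at hv
      exact (Subgroup.zpowers_le.2 (MulAction.mem_stabilizer_iff.2 h) hv : v ∈ MulAction.stabilizer G R)
  have hinv : ∀ (a : (P : Subgroup G)) (R : Sylow 7 G), R ∈ F → a • R ∈ F := by
    intro a R hR
    rw [hmemF] at hR ⊢
    show y • (a : G) • R = (a : G) • R
    rw [← mul_smul, ← Subgroup.mem_centralizer_iff.1 hyC a a.2, mul_smul, hR]
  let Fs : SubMulAction ↥(P : Subgroup G) (Sylow 7 G) := { carrier := F, smul_mem' := fun a R hR => hinv a R hR }
  have hPF : P ∈ F := (hmemF P).2 (Sylow.smul_eq_iff_mem_normalizer.2 (Subgroup.centralizer_le_normalizer _ hyC))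
  have hfix : MulAction.fixedPoints ↥(P : Subgroup G) Fs = {(⟨P, hPF⟩ : Fs)} := by
    ext ⟨R, hR⟩
    rw [MulAction.mem_fixedPoints, Set.mem_singleton_iff]
    obtain ⟨x', hx'⟩ := exists_prime_orderOf_dvd_card' (G := (P : Subgroup G)) 7 (by rw [hP])
    constructor
    · intro h
      refine Subtype.ext (eq_of_fix hP x'.2 (fun e => ?_) (congrArg Subtype.val (h x')))
      rw [← Subgroup.orderOf_coe, e, orderOf_one] at hx'
      norm_num at hx'
    · rintro h a
      refine Subtype.ext ?_
      show (a : G) • R = R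
      rw [Subtype.mk.injEq] at h
      rw [h, Sylow.smul_eq_iff_mem_normalizer]
      exact Subgroup.le_normalizer a.2
  have h7 := P.isPGroup'.card_modEq_card_fixedPoints Fs
  rw [hfix, show Nat.card ({(⟨P, hPF⟩ : Fs)} : Set Fs) = 1 by simp] at h7
  have h5 := hYp.card_modEq_card_fixedPoints (Sylow 7 G)
  rw [← hF, ← hnS] at h5
  have hle : Nat.card F ≤ 22 := hnS ▸ Nat.card_le_card_of_injective _ Subtype.val_injective
  have hFs : Nat.card Fs = Nat.card F := rfl
  rw [hFs] at h7
  have h22 : Nat.card F = 22 := by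
    simp only [Nat.ModEq] at h5 h7
    generalize Nat.card F = f at h5 h7 hle
    omega
  have hall : ∀ R : Sylow 7 G, R ∈ F := by
    haveI : Fintype (Sylow 7 G) := Fintype.ofFinite _
    intro R
    have hsurj := ((Nat.bijective_iff_injective_and_card (fun r : F => (r : Sylow 7 G))).2
      ⟨Subtype.val_injective, by rw [h22, ← hnS]⟩).2 R
    obtain ⟨r, rfl⟩ := hsurj
    exact r.2
  have := eq_one_of_fix_all (p := 7) (by rw [← hnS]; norm_num) fun R => (hmemF R).1 (hall R)
  rw [this, orderOf_one] at hyo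
  norm_num at hyo

end CfsgLib.Perm.Not4620
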