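import Cfsg.Agent.Lib.Perm.Small.OrdersRangeCheck
import Cfsg.Agent.Lib.Perm.Small.NotIntersection
import Cfsg.Agent.Lib.Perm.Small.NotFortySixTwenty
import Cfsg.Agent.Lib.Perm.Small.NotFiveThousandForty
import Cfsg.Agent.S0073

/-!
# The orders of simple groups from 3641 to 6232
-/

set_option autoImplicit false
set_option linter.all false

namespace CfsgLib.Perm.OrdersRange

open CfsgLib.Invol.Thousand CfsgLib.Perm.PrimeBlock

theorem primeSmall_of_prime {n : ℕ} (hn : n < 6400) (h : n.Prime) : primeSmall n = true := by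
  simp only [primeSmall, Bool.and_eq_true, decide_eq_true_eq, List.all_eq_true, List.mem_range,
    Bool.or_eq_true, Bool.not_eq_true', beq_eq_false_iff_ne]
  refine ⟨h.two_le, hn, fun d hd => ?_⟩
  by_contra hno
  push Not at hno
  rcases (Nat.dvd_prime h).1 (Nat.dvd_of_mod_eq_zero hno.2.2) with e | e <;> omega

variable {G : Type*} [Group G] [Finite G] [IsSimpleGroup G]

/-- The orders of non-abelian simple groups from 3641 to 6232. -/
theorem card_mem_range (hG : ¬ IsMulCommutative G) (h1 : 3640 < Nat.card G) (h2 : Nat.card G ≤ 6232) :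
    Nat.card G = 4080 ∨ Nat.card G = 5616 ∨ Nat.card G = 6048 ∨ Nat.card G = 6072 := by
  obtain ⟨g, hg⟩ : ∃ g, Nat.card G = g := ⟨_, rfl⟩
  rw [hg] at h1 h2 ⊢
  obtain ⟨c, hc⟩ := exists_okRange g h1 h2
  unfold okRange at hc
  split at hc
  · simp only [Bool.and_eq_true, beq_iff_eq] at hc
    haveI := CfsgLib.Char.isSolvable_of_card_two_primes (primeSmall_spec hc.1) (primeSmall_spec hc.2.1) G c.a c.b
      (hg.trans hc.2.2)
    exact absurd ⟨⟨fun a b => IsSimpleGroup.comm_iff_isSolvable.2 inferInstance a b⟩⟩ hG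
  · simp only [separate, List.contains_iff_mem, List.mem_cons, List.not_mem_nil, or_false] at hc
    rcases hc with e | e | e | e | e | e | e | e | e
    · exact Or.inl e
    · exact Or.inr (Or.inl e)
    · exact Or.inr (Or.inr (Or.inl e))
    · exact Or.inr (Or.inr (Or.inr e))
    · exact absurd (hg.trans e) CfsgLib.Perm.Intersection.card_ne_4500
    · exact absurd (hg.trans e) CfsgLib.Perm.Not4620.card_ne_4620
    · exact (CfsgLib.Perm.Not5040.false_of_card (hg.trans e)).elim
    · exact absurd (hg.trans e) CfsgLib.Perm.Intersection.card_ne_5292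
    · exact absurd (hg.trans e) CfsgLib.Perm.Intersection.card_ne_5400
  · rw [beq_iff_eq] at hc
    exact absurd (hg ▸ hc) (CfsgLib.Invol.card_mod_four_ne_two hG)
  · simp only [Bool.and_eq_true, decide_eq_true_eq, beq_iff_eq, Bool.not_eq_true', beq_eq_false_iff_ne,
      List.all_eq_true, List.mem_range, Bool.or_eq_true] at hc
    obtain ⟨hp, ha, hdvd, hndvd, hall⟩ := hc
    haveI : Fact c.p.Prime := ⟨primeSmall_spec hp⟩
    have hpg : c.p ∣ Nat.card G := by
      rw [hg]; exact (dvd_pow_self _ ha.ne').trans (Nat.dvd_of_mod_eq_zero hdvd)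
    obtain ⟨P⟩ : Nonempty (Sylow c.p G) := inferInstance
    have hPc : Nat.card (P : Subgroup G) = c.p ^ c.a := by
      rw [P.card_eq_multiplicity, hg]
      congr 1
      obtain ⟨r, hr⟩ := Nat.dvd_of_mod_eq_zero hdvd
      refine CfsgLib.Invol.Thousand.factorization_eq (r := r) (primeSmall_spec hp) ?_ hr
      intro hpr
      refine hndvd (Nat.mod_eq_zero_of_dvd ?_)
      rw [hr, pow_succ]
      exact mul_dvd_mul_left _ hpr
    have h3 := (P : Subgroup G).index_mul_card
    rw [hPc, hg] at h3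
    have hdiv : g / c.p ^ c.a = (P : Subgroup G).index := by
      rw [← h3, Nat.mul_div_cancel _ (pow_pos (primeSmall_spec hp).pos _)]
    have hn : Nat.card (Sylow c.p G) ∣ g / c.p ^ c.a := hdiv ▸ P.card_dvd_index
    have hpos : 0 < g / c.p ^ c.a := hdiv ▸ Nat.pos_of_ne_zero Subgroup.index_ne_zero_of_finite
    have h4 := CfsgLib.Invol.one_lt_card_sylow hG hpg
    have hmod : Nat.card (Sylow c.p G) % c.p = 1 := by
      rw [card_sylow_modEq_one c.p G, Nat.mod_eq_of_lt (primeSmall_spec hp).one_lt]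
    have hdiv' := (Nat.div_add_mod (Nat.card (Sylow c.p G)) c.p)
    rw [hmod] at hdiv'
    have hj : Nat.card (Sylow c.p G) / c.p < g / c.p ^ c.a / c.p + 1 :=
      Nat.lt_succ_of_le (Nat.div_le_div_right (Nat.le_of_dvd hpos hn))
    rcases hall _ hj with e | e | e
    · rw [hdiv'] at e
      exact absurd (Nat.mod_eq_zero_of_dvd hn) e
    · rw [e] at hdiv'
      omega
    · rw [hdiv'] at e
      exact absurd (Nat.mod_eq_zero_of_dvd (hg ▸ CfsgLib.Invol.sylow_dvd_factorial hG hpg)) e.2
  · simp only [Bool.and_eq_true, decide_eq_true_eq, beq_iff_eq, Bool.not_eq_true', beq_eq_false_iff_ne] at hc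
    obtain ⟨hp, hodd, hnp, hdvd, hm, hB, href⟩ := hc
    haveI : Fact c.p.Prime := ⟨primeSmall_spec hp⟩
    refine absurd hg (card_ne_of_refutedAll g c.p (g / c.p) c.a (fun e => ?_) hodd
      (Nat.div_mul_cancel (Nat.dvd_of_mod_eq_zero hdvd)).symm (fun e => hm (Nat.mod_eq_zero_of_dvd e)) hB href)
    rw [primeSmall_of_prime (by omega) e] at hnp
    exact absurd hnp (by decide)
  · simp only [Bool.and_eq_true, decide_eq_true_eq, beq_iff_eq, Bool.not_eq_true', beq_eq_false_iff_ne,
      List.any_eq_true, List.mem_range] at hc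
    obtain ⟨hp, hodd, hnp, hdvd, hm, hB, ⟨k, -, hk⟩, hq, h5, href⟩ := hc
    haveI : Fact c.p.Prime := ⟨primeSmall_spec hp⟩
    refine absurd hg (card_ne_of_refutedTwo g c.p (g / c.p) c.a c.q (fun e => ?_) hodd
      (Nat.div_mul_cancel (Nat.dvd_of_mod_eq_zero hdvd)).symm (fun e => hm (Nat.mod_eq_zero_of_dvd e)) hB
      (Nat.dvd_of_mod_eq_zero h5) ⟨k, hk⟩ (Nat.dvd_of_mod_eq_zero hq) href)
    rw [primeSmall_of_prime (by omega) e] at hnp
    exact absurd hnp (by decide)
  · simp only [Bool.and_eq_true, decide_eq_true_eq, beq_iff_eq, Bool.not_eq_true', beq_eq_false_iff_ne,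
      List.all_eq_true, List.mem_range, Bool.or_eq_true] at hc
    obtain ⟨hp2, hdvd, hcube, h12, hall⟩ := hc
    have hmin : g.minFac = c.p := by
      refine le_antisymm (Nat.minFac_le_of_dvd hp2 (Nat.dvd_of_mod_eq_zero hdvd)) ?_
      by_contra hlt
      push Not at hlt
      have h3 := (Nat.minFac_prime (by omega : g ≠ 1)).two_le
      rcases hall _ hlt with e | e
      · omega
      · exact e (Nat.mod_eq_zero_of_dvd (Nat.minFac_dvd g))
    rcases Cfsg.Agent.S0073.result (G := G) (by
        by_contra hcon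
        push Not at hcon
        exact hG ⟨⟨hcon⟩⟩) with e | e
    · rw [hg, hmin] at e
      exact absurd (Nat.mod_eq_zero_of_dvd e) hcube
    · exact absurd (Nat.mod_eq_zero_of_dvd (hg ▸ e)) h12
  · exact absurd hc (by decide)

end CfsgLib.Perm.OrdersRange
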