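import Mathlib
import Cfsg.Agent.Lib.Perm.Small.Count
import Cfsg.Agent.Lib.Invol.SmallSimple

/-!
# Simple groups of order 168
-/

set_option autoImplicit false

namespace CfsgLib.Perm.Small

open Subgroup

variable {G : Type*} [Group G] [Finite G]

theorem orderOf_conj' (u g : G) : orderOf (u * g * u⁻¹) = orderOf g :=
  orderOf_injective (MulAut.conj u).toMonoidHom (MulAut.conj u).injective g

open scoped Pointwise in
theorem exists_conj_of_mem_smul {p : ℕ} (g : G) (T : Sylow p G) {a : G}
    (ha : a ∈ ((g • T : Sylow p G) : Subgroup G)) : ∃ a' ∈ (T : Subgroup G), g * a' * g⁻¹ = a := by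
  rw [Sylow.coe_subgroup_smul] at ha
  obtain ⟨a', ha', rfl⟩ := ha
  exact ⟨a', ha', rfl⟩

open scoped Pointwise in
theorem conj_mem_smul {p : ℕ} (g : G) (T : Sylow p G) {a : G} (ha : a ∈ (T : Subgroup G)) :
    g * a * g⁻¹ ∈ ((g • T : Sylow p G) : Subgroup G) := by
  rw [Sylow.coe_subgroup_smul]
  exact ⟨a, ha, rfl⟩

variable [IsSimpleGroup G] (h : Nat.card G = 168)
include h

theorem s168_noncomm : ¬ IsMulCommutative G := by
  intro hc
  haveI := hc
  letI : CommGroup G := { (inferInstance : Group G) with mul_comm := fun a b => IsMulCommutative.is_comm.comm a b }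
  have hp : (Nat.card G).Prime := IsSimpleGroup.prime_card
  rw [h] at hp
  norm_num at hp

theorem s168_index {H : Subgroup G} (hH : H ≠ ⊤) : 7 ≤ H.index := by
  have hfac := CfsgLib.Invol.two_mul_card_dvd_factorial (s168_noncomm h) (α := G ⧸ H) (by
    by_contra hall
    push_neg at hall
    apply hH
    rw [eq_top_iff]
    intro g _
    have h' := hall g ((1 : G) : G ⧸ H)
    change ((g * 1 : G) : G ⧸ H) = ((1 : G) : G ⧸ H) at h'
    rw [mul_one, QuotientGroup.eq, mul_one] at h'
    simpa using inv_mem h')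
  rw [h, show Nat.card (G ⧸ H) = H.index from rfl] at hfac
  by_contra hlt
  push_neg at hlt
  interval_cases hi : H.index <;> norm_num [Nat.factorial] at hfac

theorem s168_card_le {H : Subgroup G} (hH : H ≠ ⊤) : Nat.card H ≤ 24 := by
  have h1 := H.card_mul_index
  rw [h] at h1
  have h2 := Nat.mul_le_mul_left (Nat.card H) (s168_index h hH)
  omega

theorem s168_no_transfer {p : ℕ} [Fact p.Prime] (P : Sylow p G) (hp : p ∣ Nat.card G)
    (hle : normalizer ((P : Subgroup G) : Set G) ≤ centralizer ((P : Subgroup G) : Set G)) : False := by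
  have hidx := (MonoidHom.ker_transferSylow_isComplement' P hle).symm.index_eq_card
  rcases IsSimpleGroup.eq_bot_or_eq_top_of_normal (MonoidHom.transferSylow P hle).ker (MonoidHom.normal_ker _) with h' | h'
  · rw [h', Subgroup.index_bot] at hidx
    apply CfsgLib.Invol.not_isPGroup_of_simple (s168_noncomm h) (p := p)
    have : (P : Subgroup G) = ⊤ := Subgroup.eq_top_of_card_eq _ hidx.symm
    intro g
    obtain ⟨k, hk⟩ := P.2 ⟨g, this ▸ Subgroup.mem_top g⟩
    exact ⟨k, congrArg Subtype.val hk⟩
  · rw [h', Subgroup.index_top] at hidx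
    exact P.ne_bot_of_dvd_card hp (Subgroup.card_eq_one.1 hidx.symm)

theorem s168_sylow_seven (P : Sylow 7 G) [Fact (Nat.Prime 7)] : Nat.card (P : Subgroup G) = 7 :=
  card_sylow_prime (m := 24) (by rw [h]) (by norm_num) P

theorem s168_sylow_three (P : Sylow 3 G) [Fact (Nat.Prime 3)] : Nat.card (P : Subgroup G) = 3 :=
  card_sylow_prime (m := 56) (by rw [h]) (by norm_num) P

theorem s168_n_seven [Fact (Nat.Prime 7)] : Nat.card (Sylow 7 G) = 8 := by
  obtain ⟨P⟩ : Nonempty (Sylow 7 G) := inferInstance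
  have h1 := P.card_dvd_index
  have h2 := (P : Subgroup G).card_mul_index
  rw [s168_sylow_seven h P, h] at h2
  rw [show (P : Subgroup G).index = 24 by omega] at h1
  have hm : Nat.card (Sylow 7 G) % 7 = 1 := card_sylow_modEq_one 7 G
  have h3 := CfsgLib.Invol.one_lt_card_sylow (s168_noncomm h) (p := 7) (by rw [h]; norm_num)
  have hle := Nat.le_of_dvd (by norm_num) h1
  interval_cases hc : Nat.card (Sylow 7 G) <;> omega

/-- centralizers in normalizers of self-centralizing Sylow subgroups of prime order -/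
theorem s168_cent_prime {p q : ℕ} [hp : Fact p.Prime] (hq : q.Prime) (P : Sylow p G)
    (hP : Nat.card (P : Subgroup G) = p) (hN : Nat.card (normalizer ((P : Subgroup G) : Set G)) = p * q)
    {x : G} (hx : x ∈ (P : Subgroup G)) (hx1 : x ≠ 1) : centralizer ({x} : Set G) = (P : Subgroup G) := by
  have hgen := zpowers_eq_of_mem hP hx hx1
  have hPc : (P : Subgroup G) ≤ centralizer ({x} : Set G) := by
    rw [← hgen]
    exact zpowers_le.2 (mem_centralizer_singleton_iff.2 rfl)
  have hCN : centralizer ({x} : Set G) ≤ normalizer ((P : Subgroup G) : Set G) := by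
    rw [← hgen, ← centralizer_closure, ← zpowers_eq_closure]
    exact centralizer_le_normalizer _
  have hd := card_dvd_of_le hCN
  have hd' := card_dvd_of_le hPc
  rw [hN] at hd
  rw [hP] at hd'
  obtain ⟨c, hc⟩ := hd'
  rw [hc] at hd
  rcases (Nat.dvd_prime hq).1 (Nat.dvd_of_mul_dvd_mul_left hp.out.pos hd) with hcq | hcq
  · exact (eq_of_le_of_card_ge hPc (by rw [hP, hc, hcq, mul_one])).symm
  · exfalso
    apply s168_no_transfer h P (hP ▸ Subgroup.card_subgroup_dvd_card (P : Subgroup G))
    have heq : centralizer ({x} : Set G) = normalizer ((P : Subgroup G) : Set G) :=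
      eq_of_le_of_card_ge hCN (by rw [hN, hc, hcq])
    intro g hg
    rw [← heq, ← centralizer_closure, ← zpowers_eq_closure, hgen] at hg
    exact hg

theorem s168_cent_seven [Fact (Nat.Prime 7)] {x : G} (hx : orderOf x = 7) :
    centralizer ({x} : Set G) = zpowers x := by
  obtain ⟨P, hP⟩ := (IsPGroup.of_card (p := 7) (n := 1) (G := zpowers x)
    (by rw [Nat.card_zpowers, hx, pow_one])).exists_le_sylow
  have hN := card_sylow_mul_card_normalizer P
  rw [s168_n_seven h, h] at hN
  have hx1 : x ≠ 1 := fun hh => by rw [hh, orderOf_one] at hx; norm_num at hx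
  rw [s168_cent_prime h (q := 3) (by norm_num) P (s168_sylow_seven h P) (by omega) (hP (mem_zpowers x)) hx1,
    zpowers_eq_of_mem (s168_sylow_seven h P) (hP (mem_zpowers x)) hx1]

theorem s168_n_three [Fact (Nat.Prime 3)] : Nat.card (Sylow 3 G) = 28 := by
  haveI : Fact (Nat.Prime 7) := ⟨by norm_num⟩
  obtain ⟨P⟩ : Nonempty (Sylow 3 G) := inferInstance
  have h1 := P.card_dvd_index
  have h2 := (P : Subgroup G).card_mul_index
  rw [s168_sylow_three h P, h] at h2
  rw [show (P : Subgroup G).index = 56 by omega] at h1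
  have hm : Nat.card (Sylow 3 G) % 3 = 1 := card_sylow_modEq_one 3 G
  have h3 := CfsgLib.Invol.one_lt_card_sylow (s168_noncomm h) (p := 3) (by rw [h]; norm_num)
  have hfac := CfsgLib.Invol.sylow_dvd_factorial (s168_noncomm h) (p := 3) (by rw [h]; norm_num)
  rw [h] at hfac
  have hall : ∀ c ∈ Nat.divisors 56, c % 3 = 1 → 1 < c → c = 4 ∨ c = 7 ∨ c = 28 := by decide +kernel
  rcases hall _ (Nat.mem_divisors.2 ⟨h1, by norm_num⟩) hm h3 with h4 | h4 | h4
  · rw [h4] at hfac; norm_num [Nat.factorial] at hfac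
  · -- all elements of order three would lie in one subgroup of order 21
    exfalso
    obtain ⟨Q⟩ : Nonempty (Sylow 7 G) := inferInstance
    obtain ⟨N, hN⟩ : ∃ N : Subgroup G, N = normalizer ((Q : Subgroup G) : Set G) := ⟨_, rfl⟩
    have hNc : Nat.card N = 21 := by
      have hh := card_sylow_mul_card_normalizer Q
      rw [s168_n_seven h, h, ← hN] at hh
      omega
    have hS : ∀ R : Sylow 3 N, Nat.card (R : Subgroup N) = 3 := fun R =>
      card_sylow_prime (m := 7) (by rw [hNc]) (by norm_num) R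
    have hc21 := card_orderOf_eq_prime (G := N) hS
    have hc168 := card_orderOf_eq_prime (G := G) (p := 3) (fun R => s168_sylow_three h R)
    rw [h4] at hc168
    have hn21 : Nat.card (Sylow 3 N) = 7 := by
      obtain ⟨R⟩ : Nonempty (Sylow 3 N) := inferInstance
      have e1 := R.card_dvd_index
      have e2 := (R : Subgroup N).card_mul_index
      rw [hS, hNc] at e2
      rw [show (R : Subgroup N).index = 7 by omega, Nat.dvd_prime (by norm_num)] at e1
      refine e1.resolve_left fun e3 => ?_
      -- a central element of order three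
      haveI : Subsingleton (Sylow 3 N) := Finite.card_le_one_iff_subsingleton.1 e3.le
      haveI := R.normal_of_subsingleton
      obtain ⟨x, hx⟩ := exists_prime_orderOf_dvd_card' (G := N) 7 (by rw [hNc]; norm_num)
      haveI : IsCyclic (R : Subgroup N) := isCyclic_of_prime_card (hS R)
      have haut : Nat.card (MulAut (R : Subgroup N)) = 2 := by
        rw [IsCyclic.card_mulAut, hS, Nat.totient_prime (by norm_num)]
      have h5 : MulAut.conjNormal (H := (R : Subgroup N)) x = 1 := by
        rw [← orderOf_eq_one_iff]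
        have d1 : orderOf (MulAut.conjNormal (H := (R : Subgroup N)) x) ∣ 7 := hx ▸ orderOf_map_dvd _ x
        have d2 : orderOf (MulAut.conjNormal (H := (R : Subgroup N)) x) ∣ 2 := haut ▸ orderOf_dvd_natCard _
        exact Nat.dvd_one.1 ((Nat.dvd_gcd d1 d2).trans (by norm_num))
      obtain ⟨y, hy⟩ := exists_prime_orderOf_dvd_card' (G := (R : Subgroup N)) 3 (by rw [hS])
      have h6 := MulAut.conjNormal_apply x y
      rw [h5] at h6
      have h7 : ((y : N) : G) ∈ centralizer ({(x : G)} : Set G) := by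
        rw [mem_centralizer_singleton_iff]
        exact congrArg Subtype.val (mul_inv_eq_iff_eq_mul.1 h6.symm).symm
      rw [s168_cent_seven h (x := (x : G)) (by rw [orderOf_coe, hx])] at h7
      have h8 := Subgroup.orderOf_dvd_natCard _ h7
      rw [orderOf_coe, orderOf_coe, hy, Nat.card_zpowers, orderOf_coe, hx] at h8
      norm_num at h8
    rw [hn21] at hc21
    -- the conjugates
    have hall3 : ∀ g : G, orderOf g = 3 → g ∈ N := by
      haveI := Fintype.ofFinite {g : G // orderOf g = 3}
      haveI := Fintype.ofFinite {g : N // orderOf g = 3}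
      let f : {g : N // orderOf g = 3} → {g : G // orderOf g = 3} := fun g => ⟨g.1.1, by rw [orderOf_coe, g.2]⟩
      have hf : Function.Bijective f := by
        refine (Fintype.bijective_iff_injective_and_card f).2 ⟨fun a b hab => Subtype.ext (Subtype.ext ?_), ?_⟩
        · exact congrArg (fun g : {g : G // orderOf g = 3} => g.1) hab
        · rw [← Nat.card_eq_fintype_card, ← Nat.card_eq_fintype_card, hc21, hc168]
      intro g hg
      obtain ⟨a, ha⟩ := hf.2 ⟨g, hg⟩
      have : (a.1 : G) = g := congrArg Subtype.val ha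
      exact this ▸ a.1.2
    obtain ⟨K, hK⟩ : ∃ K, K = closure {g : G | orderOf g = 3} := ⟨_, rfl⟩
    haveI : K.Normal := by
      refine ⟨fun x hx g => ?_⟩
      have : K ≤ K.comap (MulAut.conj g).toMonoidHom := by
        nth_rw 1 [hK]
        rw [closure_le]
        intro y hy
        show g * y * g⁻¹ ∈ K
        rw [hK]
        exact subset_closure (show orderOf (g * y * g⁻¹) = 3 by rw [orderOf_conj']; exact hy)
      exact this hx
    have hKN : K ≤ N := hK ▸ (closure_le _).2 hall3
    rcases IsSimpleGroup.eq_bot_or_eq_top_of_normal K inferInstance with h5 | h5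
    · obtain ⟨y, hy⟩ := exists_prime_orderOf_dvd_card' (G := G) 3 (by rw [h]; norm_num)
      have h6 : y ∈ K := hK ▸ subset_closure hy
      rw [h5, mem_bot] at h6
      rw [h6, orderOf_one] at hy
      norm_num at hy
    · rw [h5, top_le_iff] at hKN
      rw [hKN, card_top, h] at hNc
      norm_num at hNc
  · exact h4

theorem s168_cent_three [Fact (Nat.Prime 3)] {x : G} (hx : orderOf x = 3) :
    centralizer ({x} : Set G) = zpowers x := by
  obtain ⟨P, hP⟩ := (IsPGroup.of_card (p := 3) (n := 1) (G := zpowers x)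
    (by rw [Nat.card_zpowers, hx, pow_one])).exists_le_sylow
  have hN := card_sylow_mul_card_normalizer P
  rw [s168_n_three h, h] at hN
  have hx1 : x ≠ 1 := fun hh => by rw [hh, orderOf_one] at hx; norm_num at hx
  rw [s168_cent_prime h (q := 2) (by norm_num) P (s168_sylow_three h P) (by omega) (hP (mem_zpowers x)) hx1,
    zpowers_eq_of_mem (s168_sylow_three h P) (hP (mem_zpowers x)) hx1]

theorem s168_orders (g : G) : orderOf g ∣ 8 ∨ orderOf g = 3 ∨ orderOf g = 7 := by
  haveI : Fact (Nat.Prime 3) := ⟨by norm_num⟩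
  haveI : Fact (Nat.Prime 7) := ⟨by norm_num⟩
  have hd : orderOf g ∣ 168 := h ▸ orderOf_dvd_natCard g
  have hself : ∀ p : ℕ, p.Prime → (∀ x : G, orderOf x = p → centralizer ({x} : Set G) = zpowers x) → p ∣ orderOf g →
      orderOf g = p := by
    intro p hp hc hpd
    have ho : orderOf (g ^ (orderOf g / p)) = p := orderOf_pow_orderOf_div (orderOf_pos g).ne' hpd
    have hmem : g ∈ centralizer ({g ^ (orderOf g / p)} : Set G) :=
      mem_centralizer_singleton_iff.2 ((Commute.refl g).pow_right _).eq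
    rw [hc _ ho] at hmem
    have hd' := Subgroup.orderOf_dvd_natCard _ hmem
    rw [Nat.card_zpowers, ho] at hd'
    exact Nat.dvd_antisymm hd' hpd
  by_cases h3 : 3 ∣ orderOf g
  · exact Or.inr (Or.inl (hself 3 (by norm_num) (fun x hx => s168_cent_three h hx) h3))
  by_cases h7 : 7 ∣ orderOf g
  · exact Or.inr (Or.inr (hself 7 (by norm_num) (fun x hx => s168_cent_seven h hx) h7))
  left
  have hcop : (orderOf g).Coprime 21 := by
    rw [show (21 : ℕ) = 3 * 7 by norm_num, Nat.coprime_mul_iff_right]
    exact ⟨((Nat.prime_three).coprime_iff_not_dvd.2 h3).symm,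
      (((by norm_num : Nat.Prime 7)).coprime_iff_not_dvd.2 h7).symm⟩
  exact hcop.dvd_of_dvd_mul_right (by rw [show 8 * 21 = 168 by norm_num]; exact hd)

theorem s168_card_two_part : Nat.card {g : G // orderOf g ∣ 8 ∧ g ≠ 1} = 63 := by
  classical
  haveI : Fact (Nat.Prime 3) := ⟨by norm_num⟩
  haveI : Fact (Nat.Prime 7) := ⟨by norm_num⟩
  haveI := Fintype.ofFinite G
  have h3 := card_orderOf_eq_prime (G := G) (p := 3) (fun R => s168_sylow_three h R)
  have h7 := card_orderOf_eq_prime (G := G) (p := 7) (fun R => s168_sylow_seven h R)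
  rw [s168_n_three h] at h3
  rw [s168_n_seven h] at h7
  rw [Nat.card_eq_fintype_card, Fintype.card_subtype] at h3 h7 ⊢
  have hu : (Finset.univ : Finset G) = insert 1 ((Finset.univ.filter fun g => orderOf g ∣ 8 ∧ g ≠ 1) ∪
      ((Finset.univ.filter fun g => orderOf g = 3) ∪ (Finset.univ.filter fun g => orderOf g = 7))) := by
    ext g
    simp only [Finset.mem_univ, Finset.mem_insert, Finset.mem_union, Finset.mem_filter, true_and, true_iff]
    by_cases hg : g = 1
    · exact Or.inl hg
    rcases s168_orders h g with h' | h' | h'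
    · exact Or.inr (Or.inl ⟨h', hg⟩)
    · exact Or.inr (Or.inr (Or.inl h'))
    · exact Or.inr (Or.inr (Or.inr h'))
  have hc := congrArg Finset.card hu
  rw [Finset.card_univ, ← Nat.card_eq_fintype_card, h, Finset.card_insert_of_notMem (by simp),
    Finset.card_union_of_disjoint, Finset.card_union_of_disjoint, h3, h7] at hc
  · omega
  · exact Finset.disjoint_filter.2 fun g _ a b => by omega
  · rw [Finset.disjoint_union_right]
    constructor <;> refine Finset.disjoint_filter.2 fun g _ a b => ?_ <;> rw [b] at a <;> norm_num at a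

variable [Fact (Nat.Prime 2)]

theorem s168_sylow_two (T : Sylow 2 G) : Nat.card (T : Subgroup G) = 8 := by
  rw [T.card_eq_multiplicity, h, show (168 : ℕ) = 2 ^ 3 * 21 by norm_num,
    Nat.factorization_mul (by norm_num) (by norm_num), Finsupp.add_apply, Nat.prime_two.factorization_pow,
    Finsupp.single_eq_same, Nat.factorization_eq_zero_of_not_dvd (by norm_num)]
  rfl

theorem s168_dvd_eight {g : G} {T : Sylow 2 G} (hg : g ∈ (T : Subgroup G)) : orderOf g ∣ 8 :=
  s168_sylow_two h T ▸ Subgroup.orderOf_dvd_natCard _ hg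

/-- centralizers of nontrivial elements central in a Sylow 2-subgroup -/
theorem s168_cent_two (T : Sylow 2 G) {z : G} (hz : z ∈ (T : Subgroup G)) (hz1 : z ≠ 1)
    (hzc : ∀ t ∈ (T : Subgroup G), t * z = z * t) : centralizer ({z} : Set G) = (T : Subgroup G) := by
  haveI : Fact (Nat.Prime 3) := ⟨by norm_num⟩
  haveI : Fact (Nat.Prime 7) := ⟨by norm_num⟩
  refine (T.is_maximal' (Q := centralizer ({z} : Set G)) ?_ (fun t ht => mem_centralizer_singleton_iff.2 (hzc t ht)))
  intro c
  have hno : ∀ p : ℕ, p.Prime → p ≠ 2 → orderOf (c : G) = p → centralizer ({(c : G)} : Set G) = zpowers (c : G) → False := by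
    intro p hp hp2 ho hc
    have hmem : z ∈ centralizer ({(c : G)} : Set G) :=
      mem_centralizer_singleton_iff.2 (mem_centralizer_singleton_iff.1 c.2).symm
    rw [hc] at hmem
    have d1 := Subgroup.orderOf_dvd_natCard _ hmem
    rw [Nat.card_zpowers, ho] at d1
    rcases (Nat.dvd_prime hp).1 d1 with d | d
    · exact hz1 (orderOf_eq_one_iff.1 d)
    · have d2 := s168_dvd_eight h hz
      rw [d] at d2
      exact hp2 ((Nat.prime_dvd_prime_iff_eq hp Nat.prime_two).1 (hp.dvd_of_dvd_pow (m := 2) (n := 3) d2))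
  rcases s168_orders h (c : G) with ho | ho | ho
  · obtain ⟨i, -, hi⟩ := (Nat.dvd_prime_pow Nat.prime_two).1 (show orderOf (c : G) ∣ 2 ^ 3 from ho)
    refine ⟨i, Subtype.ext ?_⟩
    rw [SubmonoidClass.coe_pow, OneMemClass.coe_one, ← hi, pow_orderOf_eq_one]
  · exact (hno 3 (by norm_num) (by norm_num) ho (s168_cent_three h ho)).elim
  · exact (hno 7 (by norm_num) (by norm_num) ho (s168_cent_seven h ho)).elim

theorem s168_two_nonabelian (T : Sylow 2 G) : ∃ a ∈ (T : Subgroup G), ∃ b ∈ (T : Subgroup G), a * b ≠ b * a := by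
  classical
  by_contra hcon
  push_neg at hcon
  haveI := Fintype.ofFinite G
  haveI := Fintype.ofFinite (Sylow 2 G)
  have hab : ∀ (R : Sylow 2 G), ∀ a ∈ (R : Subgroup G), ∀ b ∈ (R : Subgroup G), a * b = b * a := by
    intro R a ha b hb
    obtain ⟨g, rfl⟩ := MulAction.exists_smul_eq G T R
    obtain ⟨a', ha', rfl⟩ := exists_conj_of_mem_smul g T ha
    obtain ⟨b', hb', rfl⟩ := exists_conj_of_mem_smul g T hb
    rw [conj_mul, conj_mul, hcon a' ha' b' hb']
  have huniq : ∀ (R R' : Sylow 2 G) (g : G), g ≠ 1 → g ∈ (R : Subgroup G) → g ∈ (R' : Subgroup G) → R = R' :=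
    fun R R' g hg hR hR' => Sylow.ext ((s168_cent_two h R hR hg fun t ht => hab R t ht g hR).symm.trans
      (s168_cent_two h R' hR' hg fun t ht => hab R' t ht g hR'))
  have hU : (Finset.univ.filter fun g : G => orderOf g ∣ 8 ∧ g ≠ 1) =
      Finset.univ.biUnion fun R : Sylow 2 G => Finset.univ.filter fun g => g ∈ (R : Subgroup G) ∧ g ≠ 1 := by
    ext g
    simp only [Finset.mem_filter, Finset.mem_univ, true_and, Finset.mem_biUnion]
    constructor
    · rintro ⟨hg, hg1⟩
      obtain ⟨i, -, hi⟩ := (Nat.dvd_prime_pow Nat.prime_two).1 (show orderOf g ∣ 2 ^ 3 from hg)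
      obtain ⟨R, hR⟩ := (IsPGroup.of_card (p := 2) (n := i) (G := zpowers g) (by rw [Nat.card_zpowers, hi])).exists_le_sylow
      exact ⟨R, hR (mem_zpowers g), hg1⟩
    · rintro ⟨R, hR, hg1⟩
      exact ⟨s168_dvd_eight h hR, hg1⟩
  have h63 := s168_card_two_part h
  rw [Nat.card_eq_fintype_card, Fintype.card_subtype, hU, Finset.card_biUnion (fun R _ R' _ hne => by
      rw [Function.onFun, Finset.disjoint_filter]
      exact fun g _ h1 h2 => hne (huniq R R' g h1.2 h1.1 h2.1)),
    Finset.sum_congr rfl (g := fun _ => 7) fun R _ => ?_, Finset.sum_const, Finset.card_univ, smul_eq_mul,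
    ← Nat.card_eq_fintype_card] at h63
  · have h1 := T.card_dvd_index
    have h2 := (T : Subgroup G).card_mul_index
    rw [s168_sylow_two h T, h] at h2
    rw [show (T : Subgroup G).index = 21 by omega, show Nat.card (Sylow 2 G) = 9 by omega] at h1
    norm_num at h1
  · rw [show (Finset.univ.filter fun g => g ∈ (R : Subgroup G) ∧ g ≠ 1) =
      (Finset.univ.filter fun g => g ∈ (R : Subgroup G)).erase 1 by ext g; simp [and_comm],
      Finset.card_erase_of_mem (by simp), ← Fintype.card_subtype, ← Nat.card_eq_fintype_card]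
    exact congrArg (· - 1) (s168_sylow_two h R)

/-- the centre of a Sylow 2-subgroup -/
theorem s168_center (T : Sylow 2 G) : ∃ z ∈ (T : Subgroup G), orderOf z = 2 ∧
    (∀ t ∈ (T : Subgroup G), t * z = z * t) ∧
    (∀ w ∈ (T : Subgroup G), w ≠ 1 → (∀ t ∈ (T : Subgroup G), t * w = w * t) → w = z) ∧
    (∀ x ∈ (T : Subgroup G), x * x = 1 ∨ x * x = z) ∧ ∀ x ∈ (T : Subgroup G), orderOf x ∣ 4 := by
  classical
  obtain ⟨a, ha, b, hb, hab⟩ := s168_two_nonabelian h T
  obtain ⟨Z, hZ⟩ : ∃ Z, Z = center (T : Subgroup G) := ⟨_, rfl⟩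
  have hncyc : ¬ IsCyclic ((T : Subgroup G) ⧸ center (T : Subgroup G)) := by
    intro hc
    exact hab (congrArg Subtype.val
      (commutative_of_cyclic_center_quotient (QuotientGroup.mk' (center (T : Subgroup G)))
        (le_of_eq (QuotientGroup.ker_mk' _)) ⟨a, ha⟩ ⟨b, hb⟩))
  have hT8 := s168_sylow_two h T
  have hnt : Nontrivial (T : Subgroup G) := by
    refine (nontrivial_iff_ne_bot _).2 fun hb0 => ?_
    rw [hb0, card_bot] at hT8
    norm_num at hT8
  haveI : Nontrivial (center (T : Subgroup G)) := T.2.center_nontrivial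
  have hmul := (center (T : Subgroup G)).card_mul_index
  rw [hT8] at hmul
  have hd : Nat.card (center (T : Subgroup G)) ∣ 8 := hT8 ▸ card_subgroup_dvd_card _
  have hgt : 1 < Nat.card (center (T : Subgroup G)) := Finite.one_lt_card
  have hZ2 : Nat.card (center (T : Subgroup G)) = 2 := by
    obtain ⟨i, hi, hi'⟩ := (Nat.dvd_prime_pow Nat.prime_two).1 (show _ ∣ 2 ^ 3 from hd)
    interval_cases i
    · omega
    · simpa using hi'
    · exfalso
      refine hncyc (isCyclic_of_prime_card (p := 2) ?_)
      show (center (T : Subgroup G)).index = 2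
      rw [hi'] at hmul; omega
    · exfalso
      apply hncyc
      have hone : (center (T : Subgroup G)).index = 1 := by rw [hi'] at hmul; omega
      haveI : Subsingleton ((T : Subgroup G) ⧸ center (T : Subgroup G)) := Finite.card_le_one_iff_subsingleton.1 hone.le
      infer_instance
  obtain ⟨z₀, hz₀⟩ := exists_prime_orderOf_dvd_card' (G := center (T : Subgroup G)) 2 (by rw [hZ2])
  have hgen : ∀ w : (T : Subgroup G), w ∈ center (T : Subgroup G) → w = 1 ∨ w = z₀.1 := by
    intro w hw
    have hzp := zpowers_eq_of_mem (H := center (T : Subgroup G)) hZ2 z₀.2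
      (fun hh => by rw [← orderOf_coe, hh, orderOf_one] at hz₀; norm_num at hz₀)
    have h2 : (z₀.1 : (T : Subgroup G)) ^ 2 = 1 := by
      have hh := pow_orderOf_eq_one (z₀.1 : (T : Subgroup G))
      rwa [orderOf_coe, hz₀] at hh
    rw [← hzp] at hw
    obtain ⟨i, hi⟩ := hw
    have hi' : z₀.1 ^ i = w := hi
    rcases Int.even_or_odd i with ⟨j, rfl⟩ | ⟨j, rfl⟩
    · left
      rw [← hi', ← two_mul, zpow_mul, zpow_two, ← pow_two, h2, one_zpow]
    · right
      rw [← hi', zpow_add, zpow_mul, zpow_two, ← pow_two, h2, one_zpow, one_mul, zpow_one]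
  refine ⟨(z₀.1 : G), z₀.1.2, by rw [orderOf_coe, orderOf_coe, hz₀],
    fun t ht => congrArg Subtype.val (mem_center_iff.1 z₀.2 ⟨t, ht⟩), ?_, ?_, ?_⟩
  · intro w hw hw1 hwc
    have hwm : (⟨w, hw⟩ : (T : Subgroup G)) ∈ center (T : Subgroup G) :=
      mem_center_iff.2 fun t => Subtype.ext (hwc t t.2)
    rcases hgen _ hwm with h' | h'
    · exact absurd (congrArg Subtype.val h') hw1
    · exact congrArg Subtype.val h'
  all_goals
    intro x hx
    have hsq : (⟨x, hx⟩ : (T : Subgroup G)) * ⟨x, hx⟩ ∈ center (T : Subgroup G) := by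
      rw [← QuotientGroup.eq_one_iff, QuotientGroup.mk_mul]
      by_contra hne
      refine hncyc (isCyclic_of_orderOf_eq_card ((⟨x, hx⟩ : (T : Subgroup G)) : (T : Subgroup G) ⧸ center (T : Subgroup G)) ?_)
      have hq : Nat.card ((T : Subgroup G) ⧸ center (T : Subgroup G)) = 4 := by
        show (center (T : Subgroup G)).index = 4
        rw [hZ2] at hmul; omega
      rw [hq]
      have hdd := orderOf_dvd_natCard (G := (T : Subgroup G) ⧸ center (T : Subgroup G)) ((⟨x, hx⟩ : (T : Subgroup G)))
      rw [hq] at hdd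
      obtain ⟨i, hi, hi'⟩ := (Nat.dvd_prime_pow Nat.prime_two).1 (show _ ∣ 2 ^ 2 from hdd)
      interval_cases i
      · exact absurd (by rw [orderOf_eq_one_iff.1 hi', one_mul]) hne
      · exact absurd (by rw [← pow_two, ← orderOf_dvd_iff_pow_eq_one, hi']; norm_num) hne
      · rw [hi']; norm_num
  · rcases hgen _ hsq with h' | h'
    · exact Or.inl (congrArg Subtype.val h')
    · exact Or.inr (congrArg Subtype.val h')
  · rw [orderOf_dvd_iff_pow_eq_one, show (4 : ℕ) = 2 * 2 from rfl, pow_mul, pow_two x]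
    have hz2 : ((z₀.1 : G)) ^ 2 = 1 := by
      have hh := pow_orderOf_eq_one (z₀.1 : G)
      rwa [orderOf_coe, orderOf_coe, hz₀] at hh
    rcases hgen _ hsq with h' | h'
    · rw [show x * x = 1 from congrArg Subtype.val h', one_pow]
    · rw [show x * x = (z₀.1 : G) from congrArg Subtype.val h', hz2]

theorem s168_norm_two (T : Sylow 2 G) : normalizer ((T : Subgroup G) : Set G) = (T : Subgroup G) := by
  obtain ⟨z, hz, hz2, hzc, huniq, -⟩ := s168_center h T
  have hz1 : z ≠ 1 := fun hh => by rw [hh, orderOf_one] at hz2; norm_num at hz2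
  refine le_antisymm (fun g hg => ?_) le_normalizer
  rw [← s168_cent_two h T hz hz1 hzc, mem_centralizer_singleton_iff]
  have hgz : g * z * g⁻¹ ∈ (T : Subgroup G) := (mem_normalizer_iff.1 hg z).1 hz
  refine mul_inv_eq_iff_eq_mul.1 (huniq _ hgz (fun hh => hz1 (conj_eq_one_iff.1 hh)) fun t ht => ?_)
  have ht' : g⁻¹ * t * g ∈ (T : Subgroup G) := by
    have := (mem_normalizer_iff.1 (inv_mem hg) t).1 ht
    rwa [inv_inv] at this
  calc t * (g * z * g⁻¹) = g * ((g⁻¹ * t * g) * z) * g⁻¹ := by group
    _ = g * (z * (g⁻¹ * t * g)) * g⁻¹ := by rw [hzc _ ht']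
    _ = g * z * g⁻¹ * t := by group

theorem s168_n_two : Nat.card (Sylow 2 G) = 21 := by
  obtain ⟨T⟩ : Nonempty (Sylow 2 G) := inferInstance
  have h1 := card_sylow_mul_card_normalizer T
  rw [s168_norm_two h T, s168_sylow_two h T, h] at h1
  omega

/-- counts of elements of order two and four -/
theorem s168_counts : Nat.card {g : G // orderOf g = 2} = 21 ∧ (∀ s t : G, orderOf s = 2 → orderOf t = 2 → IsConj s t) ∧
    Nat.card {g : G // orderOf g = 4} = 42 ∧
    ∀ (T : Sylow 2 G) (z : G), z ∈ (T : Subgroup G) → orderOf z = 2 → (∀ t ∈ (T : Subgroup G), t * z = z * t) →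
      Nat.card {x : G // orderOf x = 4 ∧ x * x = z} = 2 := by
  classical
  haveI := Fintype.ofFinite G
  obtain ⟨T, ⟨z, hz, hz2, hzc, huniq, hsq, h4⟩⟩ : ∃ T : Sylow 2 G, ∃ z ∈ (T : Subgroup G), orderOf z = 2 ∧
      (∀ t ∈ (T : Subgroup G), t * z = z * t) ∧
      (∀ w ∈ (T : Subgroup G), w ≠ 1 → (∀ t ∈ (T : Subgroup G), t * w = w * t) → w = z) ∧
      (∀ x ∈ (T : Subgroup G), x * x = 1 ∨ x * x = z) ∧ ∀ x ∈ (T : Subgroup G), orderOf x ∣ 4 :=
    ⟨Classical.arbitrary _, s168_center h _⟩
  have hz1 : z ≠ 1 := fun hh => by rw [hh, orderOf_one] at hz2; norm_num at hz2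
  have hclass : Nat.card {g : G // IsConj z g} = 21 := by
    have := card_class_mul_card_centralizer z
    rw [s168_cent_two h T hz hz1 hzc, s168_sylow_two h T, h] at this
    omega
  -- central involutions of Sylow subgroups are conjugate
  have hcent : ∀ (R : Sylow 2 G) (w : G), w ∈ (R : Subgroup G) → orderOf w = 2 →
      (∀ t ∈ (R : Subgroup G), t * w = w * t) → IsConj z w := by
    intro R w hw hw2 hwc
    obtain ⟨g, rfl⟩ := MulAction.exists_smul_eq G T R
    obtain ⟨w', hw', rfl⟩ := exists_conj_of_mem_smul g T hw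
    refine isConj_iff.2 ⟨g, ?_⟩
    have hw'1 : w' ≠ 1 := fun hh => by
      rw [hh, mul_one, mul_inv_cancel, orderOf_one] at hw2; norm_num at hw2
    rw [huniq w' hw' hw'1 fun t ht => ?_]
    have := hwc _ (conj_mem_smul g T ht)
    rw [conj_mul, conj_mul] at this
    exact mul_left_cancel (mul_right_cancel this)
  have hsquare : ∀ x : G, orderOf x = 4 → IsConj z (x * x) := by
    intro x hx
    obtain ⟨R, hR⟩ := (IsPGroup.of_card (p := 2) (n := 2) (G := zpowers x)
      (by rw [Nat.card_zpowers, hx]; norm_num)).exists_le_sylow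
    obtain ⟨w, hw, hw2, hwc, -, hRsq, -⟩ := s168_center h R
    rcases hRsq x (hR (mem_zpowers x)) with h' | h'
    · have := orderOf_dvd_of_pow_eq_one (show x ^ 2 = 1 by rw [pow_two, h'])
      rw [hx] at this
      norm_num at this
    · rw [h']
      exact hcent R w hw hw2 hwc
  obtain ⟨a, hadef⟩ : ∃ a, a = Nat.card {x : G // orderOf x = 4 ∧ x * x = z} := ⟨_, rfl⟩
  have hfib : ∀ w, IsConj z w → Nat.card {x : G // orderOf x = 4 ∧ x * x = w} = a := by
    intro w hw
    obtain ⟨g, rfl⟩ := isConj_iff.1 hw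
    rw [hadef]
    refine Nat.card_congr ((MulAut.conj g).toEquiv.subtypeEquiv fun x => ?_).symm
    show orderOf x = 4 ∧ x * x = z ↔ orderOf (g * x * g⁻¹) = 4 ∧ g * x * g⁻¹ * (g * x * g⁻¹) = g * z * g⁻¹
    rw [orderOf_conj', show g * x * g⁻¹ * (g * x * g⁻¹) = g * (x * x) * g⁻¹ by group, mul_left_inj, mul_right_inj]
  have hfour : Nat.card {g : G // orderOf g = 4} = 21 * a := by
    rw [Nat.card_eq_fintype_card, Fintype.card_subtype,
      Finset.card_eq_sum_card_fiberwise (f := fun x => x * x) (t := Finset.univ.filter fun w => IsConj z w)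
        (fun x hx => Finset.mem_filter.2 ⟨Finset.mem_univ _, hsquare x (Finset.mem_filter.1 hx).2⟩),
      Finset.sum_congr rfl (g := fun _ => a) fun w hw => ?_, Finset.sum_const, smul_eq_mul,
      ← Fintype.card_subtype, ← Nat.card_eq_fintype_card, hclass]
    rw [← hfib w (Finset.mem_filter.1 hw).2, Nat.card_eq_fintype_card, Fintype.card_subtype, Finset.filter_filter]
  have ha : 2 ≤ a := by
    obtain ⟨u, hu, v, hv, huv⟩ := s168_two_nonabelian h T
    obtain ⟨x, hx, hxne⟩ : ∃ x ∈ (T : Subgroup G), x * x ≠ 1 := by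
      by_contra hc
      push_neg at hc
      have hinv : ∀ y ∈ (T : Subgroup G), y⁻¹ = y := fun y hy => inv_eq_of_mul_eq_one_left (hc y hy)
      apply huv
      rw [← hinv (u * v) (mul_mem hu hv), mul_inv_rev, hinv u hu, hinv v hv]
    have hxz := (hsq x hx).resolve_left hxne
    have hxo : orderOf x = 4 := by
      obtain ⟨i, hi, hi'⟩ := (Nat.dvd_prime_pow Nat.prime_two).1 (show _ ∣ 2 ^ 2 from h4 x hx)
      interval_cases i
      · exact absurd (by rw [orderOf_eq_one_iff.1 hi', one_mul]) hxne
      · exact absurd (by rw [← pow_two, ← orderOf_dvd_iff_pow_eq_one, hi']; norm_num) hxne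
      · rw [hi']; norm_num
    have hzinv : z⁻¹ = z := inv_eq_of_mul_eq_one_left (by rw [← pow_two, ← hz2, pow_orderOf_eq_one])
    rw [hadef, Nat.card_eq_fintype_card]
    refine Fintype.one_lt_card_iff.2 ⟨⟨x, hxo, hxz⟩, ⟨x⁻¹, by rw [orderOf_inv, hxo],
      by rw [← mul_inv_rev, hxz, hzinv]⟩, fun he => hxne ?_⟩
    have he' : x = x⁻¹ := congrArg Subtype.val he
    nth_rw 2 [he']
    exact mul_inv_cancel x
  have htot : Nat.card {g : G // orderOf g = 2} + Nat.card {g : G // orderOf g = 4} = 63 := by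
    rw [← s168_card_two_part h]
    simp only [Nat.card_eq_fintype_card, Fintype.card_subtype]
    rw [← Finset.card_union_of_disjoint (Finset.disjoint_filter.2 fun g _ a b => by omega)]
    congr 1
    ext g
    simp only [Finset.mem_union, Finset.mem_filter, Finset.mem_univ, true_and]
    constructor
    · rintro (hg | hg) <;> refine ⟨by rw [hg]; norm_num, fun hh => ?_⟩ <;> rw [hh, orderOf_one] at hg <;> norm_num at hg
    · rintro ⟨hg, hg1⟩
      obtain ⟨i, hi, hi'⟩ := (Nat.dvd_prime_pow Nat.prime_two).1 (show orderOf g ∣ 2 ^ 3 from hg)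
      obtain ⟨R, hR⟩ := (IsPGroup.of_card (p := 2) (n := i) (G := zpowers g) (by rw [Nat.card_zpowers, hi'])).exists_le_sylow
      obtain ⟨_, -, -, -, -, -, hR4⟩ := s168_center h R
      have hg4 := hR4 g (hR (mem_zpowers g))
      obtain ⟨j, hj, hj'⟩ := (Nat.dvd_prime_pow Nat.prime_two).1 (show orderOf g ∣ 2 ^ 2 from hg4)
      interval_cases j
      · exact absurd (orderOf_eq_one_iff.1 hj') hg1
      · exact Or.inl hj'
      · exact Or.inr (by rw [hj']; norm_num)
  have hsub : ∀ g : G, IsConj z g → orderOf g = 2 := by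
    intro g hg
    obtain ⟨u, rfl⟩ := isConj_iff.1 hg
    rw [orderOf_conj', hz2]
  have hge : 21 ≤ Nat.card {g : G // orderOf g = 2} := by
    rw [← hclass]
    exact Nat.card_le_card_of_injective (fun g => ⟨g.1, hsub g.1 g.2⟩)
      fun x y he => Subtype.ext (congrArg (fun w : {g : G // orderOf g = 2} => w.1) he)
  have htwo : Nat.card {g : G // orderOf g = 2} = 21 := by omega
  have hall : ∀ s : G, orderOf s = 2 → IsConj z s := by
    intro s hs
    haveI := Fintype.ofFinite {g : G // IsConj z g}
    haveI := Fintype.ofFinite {g : G // orderOf g = 2}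
    let f : {g : G // IsConj z g} → {g : G // orderOf g = 2} := fun g => ⟨g.1, hsub g.1 g.2⟩
    have hf : Function.Bijective f := (Fintype.bijective_iff_injective_and_card f).2
      ⟨fun x y he => Subtype.ext (congrArg (fun w : {g : G // orderOf g = 2} => w.1) he),
        by rw [← Nat.card_eq_fintype_card, ← Nat.card_eq_fintype_card, hclass, htwo]⟩
    obtain ⟨x, hx⟩ := hf.2 ⟨s, hs⟩
    have : x.1 = s := congrArg Subtype.val hx
    exact this ▸ x.2
  refine ⟨htwo, fun s t hs ht => (hall s hs).symm.trans (hall t ht), by omega, fun R w hw hw2 hwc => ?_⟩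
  rw [hfib w (hall w hw2)]
  omega

theorem s168_four_conj {s t : G} (hs : orderOf s = 4) (ht : orderOf t = 4) : IsConj s t := by
  classical
  haveI := Fintype.ofFinite G
  obtain ⟨-, -, h42, -⟩ := s168_counts h
  obtain ⟨T, hT⟩ := (IsPGroup.of_card (p := 2) (n := 2) (G := zpowers s)
    (by rw [Nat.card_zpowers, hs]; norm_num)).exists_le_sylow
  obtain ⟨z, hz, hz2, hzc, huniq, hsq, -⟩ := s168_center h T
  have hsT := hT (mem_zpowers s)
  have hss : s * s = z := (hsq s hsT).resolve_left fun h' => by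
    have := orderOf_dvd_of_pow_eq_one (show s ^ 2 = 1 by rw [pow_two, h'])
    rw [hs] at this
    norm_num at this
  have hz1 : z ≠ 1 := fun hh => by rw [hh, orderOf_one] at hz2; norm_num at hz2
  have hle : centralizer ({s} : Set G) ≤ (T : Subgroup G) := by
    intro c hc
    rw [← s168_cent_two h T hz hz1 hzc, mem_centralizer_singleton_iff, ← hss]
    have := mem_centralizer_singleton_iff.1 hc
    exact ((show Commute c s from this).mul_right this).eq
  have hne : centralizer ({s} : Set G) ≠ (T : Subgroup G) := by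
    intro he
    have hs1 : s ≠ 1 := fun hh => by rw [hh, orderOf_one] at hs; norm_num at hs
    have := huniq s hsT hs1 fun u hu => mem_centralizer_singleton_iff.1 (he ▸ hu : u ∈ centralizer ({s} : Set G))
    rw [this, hz2] at hs
    norm_num at hs
  have hcard : Nat.card (centralizer ({s} : Set G)) = 4 := by
    have h1 := card_dvd_of_le hle
    have h2 : 4 ∣ Nat.card (centralizer ({s} : Set G)) :=
      hs ▸ Subgroup.orderOf_dvd_natCard _ (mem_centralizer_singleton_iff.2 rfl)
    rw [s168_sylow_two h T] at h1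
    have h3 := Nat.le_of_dvd (by norm_num) h1
    have h4 : Nat.card (centralizer ({s} : Set G)) ≠ 8 := fun h5 =>
      hne (eq_of_le_of_card_ge hle (by rw [h5, s168_sylow_two h T]))
    interval_cases hcc : Nat.card (centralizer ({s} : Set G)) <;> omega
  have hclass : Nat.card {g : G // IsConj s g} = 42 := by
    have := card_class_mul_card_centralizer s
    rw [hcard, h] at this
    omega
  let f : {g : G // IsConj s g} → {g : G // orderOf g = 4} := fun g => ⟨g.1, by
    obtain ⟨u, hu⟩ := isConj_iff.1 g.2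
    rw [← hu, orderOf_conj', hs]⟩
  haveI := Fintype.ofFinite {g : G // IsConj s g}
  haveI := Fintype.ofFinite {g : G // orderOf g = 4}
  have hf : Function.Bijective f := (Fintype.bijective_iff_injective_and_card f).2
    ⟨fun x y he => Subtype.ext (congrArg (fun w : {g : G // orderOf g = 4} => w.1) he),
      by rw [← Nat.card_eq_fintype_card, ← Nat.card_eq_fintype_card, hclass, h42]⟩
  obtain ⟨x, hx⟩ := hf.2 ⟨t, ht⟩
  have : x.1 = t := congrArg Subtype.val hx
  exact this ▸ x.2

end CfsgLib.Perm.Small
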