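import Mathlib
import Cfsg.Agent.Lib.Perm.Small.Card168
import Cfsg.Agent.S1012

/-!
# Klein four-subgroups of a simple group of order 168
-/

set_option autoImplicit false

namespace CfsgLib.Perm.Small

open Subgroup

variable {G : Type*} [Group G] [Finite G] [IsSimpleGroup G] (h : Nat.card G = 168) [Fact (Nat.Prime 2)]
include h

theorem s168_no_six (g : G) : orderOf g ≠ 6 := by
  intro hg
  rcases s168_orders h g with h' | h' | h' <;> rw [hg] at h' <;> norm_num at h'

theorem s168_invol_sylow {i : G} (hi : orderOf i = 2) :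
    ∃ T : Sylow 2 G, i ∈ (T : Subgroup G) ∧ (∀ t ∈ (T : Subgroup G), t * i = i * t) ∧
      centralizer ({i} : Set G) = (T : Subgroup G) := by
  obtain ⟨-, hconj, -, -⟩ := s168_counts h
  obtain ⟨T⟩ : Nonempty (Sylow 2 G) := inferInstance
  obtain ⟨z, hz, hz2, hzc, -⟩ := s168_center h T
  obtain ⟨g, rfl⟩ := isConj_iff.1 (hconj z i hz2 hi)
  refine ⟨g • T, conj_mem_smul g T hz, fun t ht => ?_, ?_⟩
  · obtain ⟨t', ht', rfl⟩ := exists_conj_of_mem_smul g T ht
    rw [conj_mul, conj_mul, hzc t' ht']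
  · refine s168_cent_two h (g • T) (conj_mem_smul g T hz) (fun hh => ?_) fun t ht => ?_
    · rw [hh, orderOf_one] at hi; norm_num at hi
    · obtain ⟨t', ht', rfl⟩ := exists_conj_of_mem_smul g T ht
      rw [conj_mul, conj_mul, hzc t' ht']

omit h in
theorem s168_klein_facts {U : Subgroup G} (hU : IsKleinFour U) :
    Nat.card U = 4 ∧ ∀ u ∈ U, u * u = 1 := by
  refine ⟨hU.card_four, fun u hu => ?_⟩
  have := Monoid.pow_exponent_eq_one (⟨u, hu⟩ : U)
  rw [hU.exponent_two, pow_two] at this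
  exact congrArg Subtype.val this

omit h in
theorem s168_invol_of_sq {u : G} (hu : u * u = 1) (hu1 : u ≠ 1) : orderOf u = 2 :=
  orderOf_eq_prime (by rw [pow_two, hu]) hu1

theorem s168_klein_le_sylow {U : Subgroup G} (hU : IsKleinFour U) : ∃ T : Sylow 2 G, U ≤ (T : Subgroup G) := by
  obtain ⟨h4, -⟩ := s168_klein_facts hU
  exact (IsPGroup.of_card (p := 2) (n := 2) (G := U) (by rw [h4]; norm_num)).exists_le_sylow

/-- Klein subgroups of a Sylow subgroup -/
theorem s168_klein_in (T : Sylow 2 G) {U : Subgroup G} (hU : IsKleinFour U) (hle : U ≤ (T : Subgroup G))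
    {z : G} (hz : z ∈ (T : Subgroup G)) (hz2 : orderOf z = 2) (hzc : ∀ t ∈ (T : Subgroup G), t * z = z * t) :
    z ∈ U ∧ (∀ t ∈ (T : Subgroup G), ∀ u ∈ U, t * u * t⁻¹ ∈ U) ∧
      ∃ r ∈ U, r ≠ 1 ∧ r ≠ z ∧ U = (T : Subgroup G) ⊓ centralizer ({r} : Set G) := by
  classical
  obtain ⟨h4, hsq⟩ := s168_klein_facts hU
  have hidx : (U.subgroupOf (T : Subgroup G)).index = 2 := by
    have h1 := (U.subgroupOf (T : Subgroup G)).card_mul_index
    rw [Nat.card_congr (subgroupOfEquivOfLe hle).toEquiv, h4, s168_sylow_two h T] at h1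
    omega
  haveI := normal_of_index_eq_two hidx
  have hnorm : ∀ t ∈ (T : Subgroup G), ∀ u ∈ U, t * u * t⁻¹ ∈ U := fun t ht u hu =>
    (Subgroup.Normal.conj_mem (inferInstance : (U.subgroupOf (T : Subgroup G)).Normal)
      ⟨u, hle hu⟩ hu ⟨t, ht⟩)
  have hcomm : ∀ u ∈ U, ∀ v ∈ U, u * v = v * u := by
    intro u hu v hv
    have hinv : ∀ w ∈ U, w⁻¹ = w := fun w hw => inv_eq_of_mul_eq_one_left (hsq w hw)
    rw [← hinv (u * v) (mul_mem hu hv), mul_inv_rev, hinv u hu, hinv v hv]
  have hz1 : z ≠ 1 := fun hh => by rw [hh, orderOf_one] at hz2; norm_num at hz2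
  have hzz : z * z = 1 := by rw [← pow_two, ← hz2, pow_orderOf_eq_one]
  have hzU : z ∈ U := by
    by_contra hzU
    obtain ⟨a, ha, b, hb, hab⟩ := s168_two_nonabelian h T
    have hdec : ∀ t ∈ (T : Subgroup G), t ∈ U ∨ z * t ∈ U := by
      intro t ht
      by_cases htU : t ∈ U
      · exact Or.inl htU
      · have := (Subgroup.mul_mem_iff_of_index_two hidx (a := (⟨z, hz⟩ : (T : Subgroup G))) (b := ⟨t, ht⟩)).2
          (iff_of_false hzU htU)
        exact Or.inr this
    have hcz : ∀ t ∈ (T : Subgroup G), Commute t z := hzc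
    have hrep : ∀ t ∈ (T : Subgroup G), ∃ u ∈ U, t = u ∨ t = z * u := by
      intro t ht
      rcases hdec t ht with h' | h'
      · exact ⟨t, h', Or.inl rfl⟩
      · exact ⟨z * t, h', Or.inr (by rw [← mul_assoc, hzz, one_mul])⟩
    obtain ⟨u, hu, hau⟩ := hrep a ha
    obtain ⟨v, hv, hbv⟩ := hrep b hb
    have huv : Commute u v := hcomm u hu v hv
    apply hab
    have hzu : Commute z u := (hcz u (hle hu)).symm
    have hzv : Commute z v := (hcz v (hle hv)).symm
    rcases hau with rfl | rfl <;> rcases hbv with rfl | rfl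
    · exact huv.eq
    · exact (hzu.symm.mul_right huv).eq
    · exact (hzv.mul_left huv).eq
    · exact (((Commute.refl z).mul_left hzu.symm).mul_right (hzv.mul_left huv)).eq
  refine ⟨hzU, hnorm, ?_⟩
  haveI := Fintype.ofFinite U
  obtain ⟨r, hr⟩ : ∃ r : U, r ∉ ({1, ⟨z, hzU⟩} : Finset U) := by
    by_contra hcon
    push_neg at hcon
    have h1 := Finset.card_le_card (show (Finset.univ : Finset U) ⊆ _ from fun x _ => hcon x)
    have h2 := Finset.card_le_two (a := (1 : U)) (b := ⟨z, hzU⟩)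
    rw [Finset.card_univ, ← Nat.card_eq_fintype_card, h4] at h1
    omega
  simp only [Finset.mem_insert, Finset.mem_singleton, not_or] at hr
  have hr1 : (r : G) ≠ 1 := fun hh => hr.1 (Subtype.ext hh)
  have hrz : (r : G) ≠ z := fun hh => hr.2 (Subtype.ext hh)
  refine ⟨r, r.2, hr1, hrz, ?_⟩
  have hle2 : U ≤ (T : Subgroup G) ⊓ centralizer ({(r : G)} : Set G) := fun u hu =>
    ⟨hle hu, mem_centralizer_singleton_iff.2 (hcomm u hu r r.2)⟩
  refine eq_of_le_of_card_ge hle2 ?_
  have h1 := card_dvd_of_le (inf_le_left : (T : Subgroup G) ⊓ centralizer ({(r : G)} : Set G) ≤ (T : Subgroup G))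
  rw [s168_sylow_two h T] at h1
  have h2 : Nat.card ↥((T : Subgroup G) ⊓ centralizer ({(r : G)} : Set G)) ≠ 8 := by
    intro h8
    have he := eq_of_le_of_card_ge (inf_le_left : (T : Subgroup G) ⊓ centralizer ({(r : G)} : Set G) ≤ (T : Subgroup G))
      (by rw [h8, s168_sylow_two h T])
    obtain ⟨z', _, _, _, huniq, _⟩ := s168_center h T
    have e1 := huniq (r : G) (hle r.2) hr1 fun t ht => mem_centralizer_singleton_iff.1 ((he.ge ht).2)
    have e2 := huniq z hz hz1 hzc
    exact hrz (e1.trans e2.symm)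
  have h3 := Nat.le_of_dvd (by norm_num) h1
  rw [h4]
  interval_cases hc : Nat.card ↥((T : Subgroup G) ⊓ centralizer ({(r : G)} : Set G)) <;> omega

/-- the centralizer of a noncentral involution in a Sylow subgroup is Klein -/
theorem s168_klein_of_invol (T : Sylow 2 G) {z r : G} (hz : z ∈ (T : Subgroup G)) (hz2 : orderOf z = 2)
    (hzc : ∀ t ∈ (T : Subgroup G), t * z = z * t) (hr : r ∈ (T : Subgroup G)) (hr2 : orderOf r = 2) (hrz : r ≠ z) :
    IsKleinFour ↥((T : Subgroup G) ⊓ centralizer ({r} : Set G)) := by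
  classical
  obtain ⟨U, hU⟩ : ∃ U, U = (T : Subgroup G) ⊓ centralizer ({r} : Set G) := ⟨_, rfl⟩
  rw [← hU]
  obtain ⟨z', hz', hz'2, hz'c, huniq, hsq, -⟩ := s168_center h T
  have hz1 : z ≠ 1 := fun hh => by rw [hh, orderOf_one] at hz2; norm_num at hz2
  have hr1 : r ≠ 1 := fun hh => by rw [hh, orderOf_one] at hr2; norm_num at hr2
  obtain rfl : z = z' := huniq z hz hz1 hzc
  have hzU : z ∈ U := hU ▸ ⟨hz, mem_centralizer_singleton_iff.2 (hzc r hr).symm⟩
  have hrU : r ∈ U := hU ▸ ⟨hr, mem_centralizer_singleton_iff.2 rfl⟩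
  have hrr : r * r = 1 := by rw [← pow_two, ← hr2, pow_orderOf_eq_one]
  have hne : U ≠ (T : Subgroup G) := fun he => hrz (huniq r hr hr1 fun t ht =>
    mem_centralizer_singleton_iff.1 ((hU ▸ he.symm ▸ ht : t ∈ (T : Subgroup G) ⊓ centralizer ({r} : Set G)).2))
  have hleT : U ≤ (T : Subgroup G) := hU ▸ inf_le_left
  have h4 : Nat.card U = 4 := by
    have h1 := card_dvd_of_le hleT
    rw [s168_sylow_two h T] at h1
    have h2 : Nat.card U ≠ 8 := fun h8 => hne (eq_of_le_of_card_ge hleT (by rw [h8, s168_sylow_two h T]))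
    have h3 : 2 < Nat.card U := by
      haveI := Fintype.ofFinite U
      rw [Nat.card_eq_fintype_card]
      exact Fintype.two_lt_card_iff.2 ⟨1, ⟨z, hzU⟩, ⟨r, hrU⟩, fun e => hz1 (congrArg Subtype.val e).symm,
        fun e => hr1 (congrArg Subtype.val e).symm, fun e => hrz (congrArg Subtype.val e).symm⟩
    have h5 := Nat.le_of_dvd (by norm_num) h1
    interval_cases hc : Nat.card U <;> omega
  have hexp : ∀ u : U, u * u = 1 := by
    intro u
    by_contra hu
    have huz : (u : G) * u = z := (hsq u (hleT u.2)).resolve_left fun hh => hu (Subtype.ext hh)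
    have ho : orderOf u = 4 := by
      have hd := orderOf_dvd_natCard u
      rw [h4] at hd
      obtain ⟨i, hi, hi'⟩ := (Nat.dvd_prime_pow Nat.prime_two).1 (show _ ∣ 2 ^ 2 from hd)
      interval_cases i
      · exact absurd (by rw [orderOf_eq_one_iff.1 hi', one_mul]) hu
      · exact absurd (by rw [← pow_two, ← orderOf_dvd_iff_pow_eq_one, hi']; norm_num) hu
      · rw [hi']; norm_num
    have hgen : zpowers u = ⊤ := eq_top_of_card_eq _ (by rw [Nat.card_zpowers, ho, h4])
    obtain ⟨j, hj⟩ : (⟨r, hrU⟩ : U) ∈ zpowers u := hgen ▸ mem_top _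
    have hu4 : u ^ (4 : ℤ) = 1 := by
      rw [show (4 : ℤ) = ((4 : ℕ) : ℤ) from rfl, zpow_natCast, ← ho, pow_orderOf_eq_one]
    have hj' : u ^ j = ⟨r, hrU⟩ := hj
    have h2j : u ^ (2 * j) = 1 := by
      rw [two_mul, zpow_add, hj']
      exact Subtype.ext hrr
    have hd : (orderOf u : ℤ) ∣ 2 * j := orderOf_dvd_iff_zpow_eq_one.2 h2j
    rw [ho] at hd
    obtain ⟨k, rfl⟩ : (2 : ℤ) ∣ j := by omega
    apply hrz
    rcases Int.even_or_odd k with ⟨l, rfl⟩ | ⟨l, rfl⟩
    · exfalso
      rw [show 2 * (l + l) = 4 * l by ring, zpow_mul, hu4, one_zpow] at hj'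
      exact hr1 (congrArg Subtype.val hj').symm
    · rw [show 2 * (2 * l + 1) = 4 * l + 2 by ring, zpow_add, zpow_mul, hu4, one_zpow, one_mul, zpow_two] at hj'
      rw [← huz]
      exact (congrArg Subtype.val hj').symm
  refine ⟨h4, (Nat.dvd_prime Nat.prime_two).1 (Monoid.exponent_dvd_of_forall_pow_eq_one fun u => by
    rw [pow_two]; exact hexp u) |>.resolve_left fun he => ?_⟩
  rw [Monoid.exp_eq_one_iff] at he
  haveI := he
  rw [Nat.card_eq_one_iff_unique.2 ⟨inferInstance, inferInstance⟩] at h4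
  omega

/-- the normalizer of a Klein four-subgroup -/
theorem s168_klein_normalizer {U : Subgroup G} (hU : IsKleinFour U) :
    Nat.card (normalizer (U : Set G)) = 24 ∧ Nonempty (↥(normalizer (U : Set G)) ≃* Equiv.Perm (Fin 4)) := by
  classical
  obtain ⟨h4, hsq⟩ := s168_klein_facts hU
  obtain ⟨T, hT⟩ := s168_klein_le_sylow h hU
  obtain ⟨z, hz, hz2, hzc, huniq, -⟩ := s168_center h T
  obtain ⟨-, hnorm, r, hrU, hr1, hrz, -⟩ := s168_klein_in h T hU hT hz hz2 hzc
  obtain ⟨T', -, hT'c, hT'⟩ := s168_invol_sylow h (s168_invol_of_sq (hsq r hrU) hr1)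
  obtain ⟨N, hN⟩ : ∃ N, N = normalizer (U : Set G) := ⟨_, rfl⟩
  rw [← hN]
  have hmk : ∀ R : Sylow 2 G, (∀ t ∈ (R : Subgroup G), ∀ u ∈ U, t * u * t⁻¹ ∈ U) → (R : Subgroup G) ≤ N := by
    intro R hR t ht
    rw [hN, mem_normalizer_iff]
    refine fun u => ⟨hR t ht u, fun hu => ?_⟩
    have := hR t⁻¹ (inv_mem ht) _ hu
    simpa [mul_assoc] using this
  have hUT' : U ≤ (T' : Subgroup G) := by
    rw [← hT']
    intro u hu
    rw [mem_centralizer_singleton_iff]
    have hinv : ∀ w ∈ U, w⁻¹ = w := fun w hw => inv_eq_of_mul_eq_one_left (hsq w hw)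
    rw [← hinv (u * r) (mul_mem hu hrU), mul_inv_rev, hinv u hu, hinv r hrU]
  obtain ⟨z', hz', hz'2, hz'c, huniq', -⟩ := s168_center h T'
  obtain ⟨-, hnorm', -⟩ := s168_klein_in h T' hU hUT' hz' hz'2 hz'c
  have hTN := hmk T hnorm
  have hT'N := hmk T' hnorm'
  have hne : T ≠ T' := by
    rintro rfl
    exact hrz (huniq r (hT hrU) hr1 hT'c)
  have hNtop : N ≠ ⊤ := by
    intro ht
    haveI : U.Normal := normalizer_eq_top_iff.1 (hN.symm.trans ht)
    rcases IsSimpleGroup.eq_bot_or_eq_top_of_normal U inferInstance with e | e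
    · rw [e, card_bot] at h4; norm_num at h4
    · rw [e, card_top, h] at h4; norm_num at h4
  have h24 : Nat.card N = 24 := by
    have hle := s168_card_le h hNtop
    obtain ⟨c, hc⟩ : 8 ∣ Nat.card N := s168_sylow_two h T ▸ card_dvd_of_le hTN
    have hd := card_subgroup_dvd_card N
    rw [hc, h] at hd
    have hd' : c ∣ 21 := Nat.dvd_of_mul_dvd_mul_left (by norm_num : 0 < 8) (by simpa using hd)
    have hc1 : c ≠ 1 := by
      rintro rfl
      have e1 := eq_of_le_of_card_ge hTN (by rw [hc, s168_sylow_two h T])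
      have e2 := eq_of_le_of_card_ge hT'N (by rw [hc, s168_sylow_two h T'])
      exact hne (Sylow.ext (e1.trans e2.symm))
    have hc3 : c ≤ 3 := by omega
    interval_cases c <;> omega
  refine ⟨h24, Cfsg.Agent.S1012.result h24 fun g => ?_⟩
  rw [← orderOf_coe]
  exact s168_no_six h _

theorem s168_klein_card_eq_two (T : Sylow 2 G) :
    Nat.card {U : Subgroup G // U ≤ (T : Subgroup G) ∧ IsKleinFour ↥U} = 2 := by
  classical
  haveI := Fintype.ofFinite G
  haveI := Fintype.ofFinite (Subgroup G)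
  obtain ⟨z, hz, hz2, hzc, huniq, hsq, h4⟩ := s168_center h T
  have hz1 : z ≠ 1 := fun hh => by rw [hh, orderOf_one] at hz2; norm_num at hz2
  obtain ⟨R, hR⟩ : ∃ R : Finset G, R = Finset.univ.filter fun r => r ∈ (T : Subgroup G) ∧ orderOf r = 2 ∧ r ≠ z :=
    ⟨_, rfl⟩
  -- count the non-central involutions
  have hRc : R.card = 4 := by
    have hT : (Finset.univ.filter fun g => g ∈ (T : Subgroup G)).card = 8 := by
      rw [← Fintype.card_subtype, ← Nat.card_eq_fintype_card]; exact s168_sylow_two h T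
    have hsplit : (Finset.univ.filter fun g => g ∈ (T : Subgroup G)) =
        insert 1 (insert z (R ∪ Finset.univ.filter fun x : G => orderOf x = 4 ∧ x * x = z)) := by
      ext x
      simp only [hR, Finset.mem_filter, Finset.mem_univ, true_and, Finset.mem_insert, Finset.mem_union]
      constructor
      · intro hx
        obtain ⟨i, hi, hi'⟩ := (Nat.dvd_prime_pow Nat.prime_two).1 (show orderOf x ∣ 2 ^ 2 from h4 x hx)
        interval_cases i
        · exact Or.inl (orderOf_eq_one_iff.1 hi')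
        · by_cases hxz : x = z
          · exact Or.inr (Or.inl hxz)
          · exact Or.inr (Or.inr (Or.inl ⟨hx, hi', hxz⟩))
        · refine Or.inr (Or.inr (Or.inr ⟨by rw [hi']; norm_num, (hsq x hx).resolve_left fun hh => ?_⟩))
          have := orderOf_dvd_of_pow_eq_one (show x ^ 2 = 1 by rw [pow_two, hh])
          rw [hi'] at this
          norm_num at this
      · rintro (rfl | rfl | ⟨hx, -, -⟩ | ⟨-, hx2⟩)
        · exact one_mem _
        · exact hz
        · exact hx
        · rw [← s168_cent_two h T hz hz1 hzc, mem_centralizer_singleton_iff, ← hx2, mul_assoc]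
    have hfour := (s168_counts h).2.2.2 T z hz hz2 hzc
    rw [Nat.card_eq_fintype_card, Fintype.card_subtype] at hfour
    rw [hsplit, Finset.card_insert_of_notMem, Finset.card_insert_of_notMem, Finset.card_union_of_disjoint, hfour] at hT
    · omega
    · rw [hR]; exact Finset.disjoint_filter.2 fun x _ a b => by omega
    · simp [hR, hz2]
    · simp [hR, hz1.symm]
  -- each lies in exactly one Klein subgroup
  have hK := Finset.card_eq_sum_card_fiberwise (s := R) (f := fun r => (T : Subgroup G) ⊓ centralizer ({r} : Set G))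
    (t := Finset.univ.filter fun U : Subgroup G => U ≤ (T : Subgroup G) ∧ IsKleinFour ↥U) (fun r hr => by
      have hr' : r ∈ (T : Subgroup G) ∧ orderOf r = 2 ∧ r ≠ z := by simpa [hR] using hr
      exact Finset.mem_filter.2 ⟨Finset.mem_univ _, inf_le_left, s168_klein_of_invol h T hz hz2 hzc hr'.1 hr'.2.1 hr'.2.2⟩)
  rw [Finset.sum_congr rfl (g := fun _ => 2) fun U hU => ?_, Finset.sum_const, smul_eq_mul, hRc,
    ← Fintype.card_subtype, ← Nat.card_eq_fintype_card] at hK
  · omega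
  · obtain ⟨hUT, hUk⟩ := (Finset.mem_filter.1 hU).2
    obtain ⟨hU4, hUsq⟩ := s168_klein_facts hUk
    obtain ⟨hzU, -, -⟩ := s168_klein_in h T hUk hUT hz hz2 hzc
    have hset : (R.filter fun r => (T : Subgroup G) ⊓ centralizer ({r} : Set G) = U) =
        ((Finset.univ.filter fun g => g ∈ U).erase 1).erase z := by
      ext r
      simp only [hR, Finset.mem_filter, Finset.mem_erase, Finset.mem_univ, true_and]
      constructor
      · rintro ⟨⟨hr, hr2, hrz⟩, he⟩
        exact ⟨hrz, fun hh => by rw [hh, orderOf_one] at hr2; norm_num at hr2,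
          he ▸ ⟨hr, mem_centralizer_singleton_iff.2 rfl⟩⟩
      · rintro ⟨hrz, hr1, hrU⟩
        have hr2 := s168_invol_of_sq (hUsq r hrU) hr1
        refine ⟨⟨hUT hrU, hr2, hrz⟩, ?_⟩
        have hk := s168_klein_of_invol h T hz hz2 hzc (hUT hrU) hr2 hrz
        refine (eq_of_le_of_card_ge (H := U) (K := (T : Subgroup G) ⊓ centralizer ({r} : Set G))
          (fun u hu => ⟨hUT hu, mem_centralizer_singleton_iff.2 ?_⟩) ?_).symm
        · have hinv : ∀ w ∈ U, w⁻¹ = w := fun w hw => inv_eq_of_mul_eq_one_left (hUsq w hw)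
          rw [← hinv (u * r) (mul_mem hu hrU), mul_inv_rev, hinv u hu, hinv r hrU]
        · rw [hk.card_four, hU4]
    rw [hset, Finset.card_erase_of_mem (by simp [hz1, hzU]), Finset.card_erase_of_mem (by simp),
      ← Fintype.card_subtype, ← Nat.card_eq_fintype_card]
    show Nat.card U - 1 - 1 = 2
    rw [hU4]

theorem s168_klein_not_conj (T : Sylow 2 G) {U W : Subgroup G} (hUT : U ≤ (T : Subgroup G)) (hWT : W ≤ (T : Subgroup G))
    (hU : IsKleinFour U) (hW : IsKleinFour W) {g : G} (hg : U.map (MulAut.conj g).toMonoidHom = W) : U = W := by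
  classical
  obtain ⟨z, hz, hz2, hzc, -⟩ := s168_center h T
  obtain ⟨-, hnU, -⟩ := s168_klein_in h T hU hUT hz hz2 hzc
  obtain ⟨-, hnW, -⟩ := s168_klein_in h T hW hWT hz hz2 hzc
  obtain ⟨N, hN⟩ : ∃ N, N = normalizer (W : Set G) := ⟨_, rfl⟩
  have hmemW : ∀ x, x ∈ W ↔ g⁻¹ * x * g ∈ U := by
    intro x
    rw [← hg, mem_map]
    exact ⟨fun ⟨u, hu, he⟩ => by rw [← he]; show g⁻¹ * (g * u * g⁻¹) * g ∈ U; simpa [mul_assoc] using hu,
      fun hx => ⟨_, hx, by show g * (g⁻¹ * x * g) * g⁻¹ = x; group⟩⟩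
  have hTN : (T : Subgroup G) ≤ N := by
    intro t ht
    rw [hN, mem_normalizer_iff]
    refine fun u => ⟨hnW t ht u, fun hu => ?_⟩
    have := hnW t⁻¹ (inv_mem ht) _ hu
    simpa [mul_assoc] using this
  have hgTN : ((g • T : Sylow 2 G) : Subgroup G) ≤ N := by
    intro x hx
    obtain ⟨t, ht, rfl⟩ := exists_conj_of_mem_smul g T hx
    rw [hN, mem_normalizer_iff]
    intro u
    rw [hmemW, hmemW, show g⁻¹ * (g * t * g⁻¹ * u * (g * t * g⁻¹)⁻¹) * g = t * (g⁻¹ * u * g) * t⁻¹ by group]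
    refine ⟨hnU t ht _, fun hu => ?_⟩
    have := hnU t⁻¹ (inv_mem ht) _ hu
    simpa [mul_assoc] using this
  obtain ⟨n, hn⟩ := MulAction.exists_smul_eq N ((g • T).subtype hgTN) (T.subtype hTN)
  have hng : (n : G) * g ∈ normalizer ((T : Subgroup G) : Set G) := by
    refine Sylow.smul_eq_iff_mem_normalizer.1 ?_
    rw [mul_smul]
    refine Sylow.ext (SetLike.ext fun x => ?_)
    constructor
    · intro hx
      obtain ⟨y, hy, rfl⟩ := exists_conj_of_mem_smul _ _ hx
      have : (⟨(n : G), n.2⟩ : N) * ⟨y, hgTN hy⟩ * (⟨(n : G), n.2⟩ : N)⁻¹ ∈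
          ((n • (g • T).subtype hgTN : Sylow 2 N) : Subgroup N) := conj_mem_smul n ((g • T).subtype hgTN) hy
      rw [hn] at this
      exact this
    · intro hx
      have h1 : (⟨x, hTN hx⟩ : N) ∈ ((n • (g • T).subtype hgTN : Sylow 2 N) : Subgroup N) := hn.symm ▸ hx
      obtain ⟨y, hy, he⟩ := exists_conj_of_mem_smul _ _ h1
      have he' : (n : G) * (y : G) * (n : G)⁻¹ = x := congrArg Subtype.val he
      rw [← he']
      exact conj_mem_smul (n : G) (g • T) hy
  rw [s168_norm_two h T] at hng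
  ext x
  have hn' : (n : G) ∈ normalizer (W : Set G) := hN.le n.2
  rw [mem_normalizer_iff] at hn'
  constructor
  · intro hx
    have h1 := hnU _ (inv_mem hng) x hx
    have h2 : g * ((n : G) * g)⁻¹ * x * ((n : G) * g)⁻¹⁻¹ * g⁻¹ ∈ W := by
      rw [hmemW]
      simpa [mul_assoc] using h1
    have h3 := (hn' _).1 h2
    simpa [mul_assoc] using h3
  · intro hx
    have h1 : (n : G)⁻¹ * x * (n : G) ∈ W := (hn' _).2 (by simpa [mul_assoc] using hx)
    have h2 := (hmemW _).1 h1
    have h3 := hnU _ hng _ h2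
    simpa [mul_assoc] using h3

end CfsgLib.Perm.Small
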