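import Cfsg.Agent.Lib.Perm.Small.SylowLine
import Cfsg.Agent.Lib.Invol.SmallSimple

/-!
# The simple groups of order 660 and 1092 are unique
-/

set_option autoImplicit false

namespace CfsgLib.Perm.SylowLine

/-- The model of the simple group of order `660`. -/
def modelEleven : Subgroup (Equiv.Perm (Option (ZMod 11))) :=
  Subgroup.closure {
    Equiv.optionCongr (Equiv.addRight (1 : ZMod 11)),
    Equiv.optionCongr ⟨fun x : ZMod 11 => 4 * x, fun x => 3 * x, by decide, by decide⟩,
    Function.Involutive.toPerm
      (fun o : Option (ZMod 11) => o.elim (some 0) fun x => if x = 0 then none else some (2 * x ^ 9))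
      (by unfold Function.Involutive; decide +kernel)}

/-- The model of the simple group of order `1092`. -/
def modelThirteen : Subgroup (Equiv.Perm (Option (ZMod 13))) :=
  Subgroup.closure {
    Equiv.optionCongr (Equiv.addRight (1 : ZMod 13)),
    Equiv.optionCongr ⟨fun x : ZMod 13 => 4 * x, fun x => 10 * x, by decide, by decide⟩,
    Function.Involutive.toPerm
      (fun o : Option (ZMod 13) => o.elim (some 0) fun x => if x = 0 then none else some (x ^ 11))
      (by unfold Function.Involutive; decide +kernel)}

instance factEleven : Fact (Nat.Prime 11) := ⟨by norm_num⟩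

instance factThirteen : Fact (Nat.Prime 13) := ⟨by norm_num⟩

variable {G : Type*} [Group G] [Finite G] [IsSimpleGroup G]

theorem card_sylow_eq_succ {p m : ℕ} [Fact p.Prime] (hna : ¬ IsMulCommutative G)
    (hG : Nat.card G = m * p) (hm : ¬ p ∣ m)
    (hdiv : ∀ n, n < m + 1 → n ∣ m → n % p = 1 → n = 1 ∨ n = p + 1) :
    Nat.card (Sylow p G) = p + 1 := by
  obtain ⟨P⟩ : Nonempty (Sylow p G) := inferInstance
  have hpos : 0 < m := Nat.pos_of_ne_zero fun h => hm (h ▸ dvd_zero p)
  have h1 : Nat.card (Sylow p G) ∣ m * p := hG ▸ (Sylow.card_eq_index_normalizer P ▸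
    (Subgroup.normalizer ((P : Subgroup G) : Set G)).index_dvd_card)
  have h2 : Nat.card (Sylow p G) % p = 1 % p := card_sylow_modEq_one p G
  rw [Nat.mod_eq_of_lt (Fact.out : p.Prime).one_lt] at h2
  have hcop : (Nat.card (Sylow p G)).Coprime p := by
    refine Nat.Coprime.symm ((Nat.Prime.coprime_iff_not_dvd Fact.out).2 fun h => ?_)
    rw [Nat.mod_eq_zero_of_dvd h] at h2
    exact absurd h2 (by omega)
  have h3 := hcop.dvd_of_dvd_mul_right h1
  have h4 := CfsgLib.Invol.one_lt_card_sylow hna (p := p) (by rw [hG]; exact dvd_mul_left p m)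
  rcases hdiv _ (Nat.lt_succ_of_le (Nat.le_of_dvd hpos h3)) h3 h2 with h | h
  · omega
  · exact h

theorem equiv_modelEleven (hna : ¬ IsMulCommutative G) (h : Nat.card G = 660) :
    Nonempty (G ≃* modelEleven) := by
  refine equiv_closure 5 4 2 4 2 1 (by norm_num)
    (card_sylow_eq_succ hna (m := 60) (by omega) (by norm_num) (by decide +kernel)) (by omega)
    (by decide +kernel) (by decide +kernel) (by decide +kernel) (by decide +kernel) (by decide +kernel)
    (by decide +kernel) _ _ _ (by decide +kernel) (by decide +kernel) (by decide +kernel)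

theorem equiv_modelThirteen (hna : ¬ IsMulCommutative G) (h : Nat.card G = 1092) :
    Nonempty (G ≃* modelThirteen) := by
  refine equiv_closure 6 4 2 5 1 7 (by norm_num)
    (card_sylow_eq_succ hna (m := 84) (by omega) (by norm_num) (by decide +kernel)) (by omega)
    (by decide +kernel) (by decide +kernel) (by decide +kernel) (by decide +kernel) (by decide +kernel)
    (by decide +kernel) _ _ _ (by decide +kernel) (by decide +kernel) (by decide +kernel)

end CfsgLib.Perm.SylowLine
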