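import Mathlib
import Cfsg.Agent.Lib.Perm.Small.OrderTools
import Cfsg.Agent.Lib.Perm.Small.SylowPrime

/-!
# Simple groups of order 4080: commuting is transitive

The block test shows that every involution has a centralizer of order sixteen; counting elements then
leaves only the orders 1, 2, 3, 5, 15 and 17.
-/

set_option autoImplicit false
set_option linter.all false

namespace CfsgLib.Perm.Card4080

open Cfsg CfsgLib.Perm.PrimeBlock CfsgLib.Perm.SylowPrime
open scoped Pointwise

variable {G : Type*} [Group G] [Finite G] [IsSimpleGroup G] (hg : Nat.card G = 4080)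
include hg

theorem noncomm : ¬ IsMulCommutative G := fun hc => by
  haveI := hc
  letI : CommGroup G := { (inferInstance : Group G) with mul_comm := fun a b => IsMulCommutative.is_comm.comm a b }
  have h : (Nat.card G).Prime := IsSimpleGroup.prime_card
  rw [hg] at h
  norm_num at h

omit hg in
/-- The involution test admits only centralizers of order sixteen. -/
theorem involution_table : ((degLists 4080 240 17 2 64).all fun l => (List.range 241).all fun c =>
    !((c % 2 == 0) && (240 % c == 0)) || (assigns c l).all fun a =>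
      (!goodAssignK 4080 17 2 0 c a) && (!goodAssignK 4080 17 2 17 c a || (c == 16))) = true := by
  decide +kernel

/-- The data at the prime seventeen. -/
theorem data_seventeen [Fintype G] [Fact (Nat.Prime 17)] :
    ∃ P : Sylow 17 G, Nat.card (Sylow 17 G) = 120 ∧ Nat.card (P : Subgroup G) = 17 ∧
      Nat.card (Subgroup.centralizer ((P : Subgroup G) : Set G)) = 17 ∧
      Nonempty (Shape 17 2 (P : Subgroup G)) := by
  obtain ⟨P, n, e, c, hmem, hP, hnec, hnS, hC, hN, hS⟩ :=
    data_of_refutedTwo (G := G) 4080 17 240 64 16 [(120, 2)] hg (noncomm hg) (by norm_num)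
      (by norm_num) (by norm_num) (by norm_num) (by norm_num) ⟨4, rfl⟩ (by norm_num) (by decide +kernel)
  simp only [List.mem_singleton, Prod.mk.injEq] at hmem
  obtain ⟨rfl, rfl⟩ := hmem
  obtain rfl : c = 1 := by omega
  exact ⟨P, hnS.symm, hP, by rw [hC], hS⟩

/-- Every involution has a centralizer of order sixteen. -/
theorem card_centralizer_involution {t : G} (ht : orderOf t = 2) :
    Nat.card (Subgroup.centralizer ({t} : Set G)) = 16 := by
  classical
  haveI := Fintype.ofFinite G
  haveI : Fact (Nat.Prime 17) := ⟨by norm_num⟩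
  have hG := noncomm hg
  obtain ⟨P, -, hP, hC, ⟨S⟩⟩ := data_seventeen hg
  obtain ⟨x', hx'⟩ := exists_prime_orderOf_dvd_card' (G := (P : Subgroup G)) 17 (by rw [hP])
  obtain ⟨x, hx, hx1⟩ : ∃ x, x ∈ (P : Subgroup G) ∧ x ≠ 1 := ⟨x', x'.2, fun e => by
    rw [← Subgroup.orderOf_coe, e, orderOf_one] at hx'; norm_num at hx'⟩
  have ht2 : t * t = 1 := by rw [← sq, ← ht, pow_orderOf_eq_one]
  have hcases : CfsgLib.Char.classConst t t x = 0 ∨ CfsgLib.Char.classConst t t x = 17 := by
    rcases Nat.eq_zero_or_pos (CfsgLib.Char.classConst t t x) with h | h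
    · exact Or.inl h
    refine Or.inr ?_
    obtain ⟨⟨a, b⟩, ha, hb, hab⟩ := (Nat.card_pos_iff.1 h).1.some
    simp only at ha hb hab
    have hsq : ∀ a : G, IsConj t a → a * a = 1 := fun a ha => by
      obtain ⟨g, rfl⟩ := isConj_iff.1 ha
      calc g * t * g⁻¹ * (g * t * g⁻¹) = g * (t * t) * g⁻¹ := by group
        _ = 1 := by rw [ht2]; group
    have hbx : b = a * x := by rw [← hab, ← mul_assoc, hsq a ha, one_mul]
    have hinv : a * x * a = x⁻¹ := by
      refine eq_inv_of_mul_eq_one_left ?_
      calc a * x * a * x = (a * x) * (a * x) := by group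
        _ = 1 := by rw [← hbx]; exact hsq b hb
    rw [← classConst_eq_of_inverting (by norm_num) hP hC hx hx1 (hsq a ha) hinv]
    exact Nat.card_congr (Equiv.subtypeEquivRight fun q =>
      ⟨fun h => ⟨ha.symm.trans h.1, ha.symm.trans h.2.1, h.2.2⟩,
        fun h => ⟨ha.trans h.1, ha.trans h.2.1, h.2.2⟩⟩)
  obtain ⟨l, hl, hc2, hcm, a, ha, hgood⟩ := S.exists_assign hG (m := 240) (B := 64) (by norm_num) hP
    (by rw [hg]) (by norm_num) (by norm_num) (by norm_num) hC (by rw [hg]; norm_num) hx hx1 ht
  rw [hg] at hl hgood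
  have hall := List.all_eq_true.1 (List.all_eq_true.1 (involution_table) l hl)
    _ (List.mem_range.2 (Nat.lt_succ_of_le (Nat.le_of_dvd (by norm_num) hcm)))
  simp only [Bool.or_eq_true, Bool.not_eq_true', Bool.and_eq_false_iff, beq_eq_false_iff_ne,
    List.all_eq_true, Bool.and_eq_true, beq_iff_eq] at hall
  rcases hall with (h | h) | h
  · exact absurd (Nat.mod_eq_zero_of_dvd hc2) h
  · exact absurd (Nat.mod_eq_zero_of_dvd hcm) h
  obtain ⟨h0, h17⟩ := h a ha
  rcases hcases with hk | hk <;> rw [hk] at hgood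
  · rw [h0] at hgood; exact absurd hgood (by decide)
  · rcases h17 with h17 | h17
    · rw [h17] at hgood; exact absurd hgood (by decide)
    · exact h17

/-- Subgroups commuting with an element of order five or three have odd order. -/
theorem odd_centralizer_prime {p : ℕ} (hp : p.Prime) (hp2 : ¬ p ∣ 16) {K : Subgroup G} {b : G}
    (hb : orderOf b = p) (hK : K ≤ Subgroup.centralizer ({b} : Set G)) : ¬ 2 ∣ Nat.card K := by
  intro h2
  haveI : Fact (Nat.Prime 2) := ⟨Nat.prime_two⟩
  obtain ⟨t', ht'⟩ := exists_prime_orderOf_dvd_card' (G := K) 2 h2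
  have ht : orderOf (t' : G) = 2 := by rw [Subgroup.orderOf_coe, ht']
  have hcomm := Subgroup.mem_centralizer_singleton_iff.1 (hK t'.2)
  have h := Subgroup.orderOf_dvd_natCard (Subgroup.centralizer ({(t' : G)} : Set G))
    (Subgroup.mem_centralizer_singleton_iff.2 hcomm.symm : b ∈ _)
  rw [card_centralizer_involution hg ht, hb] at h
  exact hp2 h

omit hg [IsSimpleGroup G] in
theorem centralizer_zpowers (b : G) :
    Subgroup.centralizer ((Subgroup.zpowers b : Subgroup G) : Set G) = Subgroup.centralizer ({b} : Set G) := by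
  refine le_antisymm (Subgroup.centralizer_le (Set.singleton_subset_iff.2 (Subgroup.mem_zpowers b))) ?_
  intro a ha
  rw [Subgroup.mem_centralizer_iff]
  rintro _ ⟨i, rfl⟩
  have h : Commute b a := (Subgroup.mem_centralizer_singleton_iff.1 ha).symm
  exact (h.zpow_left i).eq

/-- Centralizers of subgroups of order five are cyclic of order fifteen. -/
theorem five_data : ∀ b : G, orderOf b = 5 → Nat.card (Subgroup.centralizer ({b} : Set G)) = 15 ∧
    (haveI : Fact (Nat.Prime 5) := ⟨by norm_num⟩; Nat.card (Sylow 5 G) = 136) := by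
  classical
  haveI := Fintype.ofFinite G
  haveI : Fact (Nat.Prime 5) := ⟨by norm_num⟩
  intro b hb
  obtain ⟨Q, n, e, c, hmem, hQ, hnec, hnS, hC, hN, -⟩ :=
    data_of_refutedTwo (G := G) 4080 5 816 64 16 [(136, 2), (51, 4), (51, 2)] hg (noncomm hg) (by norm_num)
      (by norm_num) (by norm_num) (by norm_num) (by norm_num) ⟨4, rfl⟩ (by norm_num) (by decide +kernel)
  obtain ⟨R, hR⟩ := (IsPGroup.of_card (p := 5) (n := 1) (G := Subgroup.zpowers b)
    (by rw [Nat.card_zpowers, hb, pow_one])).exists_le_sylow
  have hRc : Nat.card (R : Subgroup G) = 5 := R.card_eq_multiplicity.trans (Q.card_eq_multiplicity.symm.trans hQ)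
  have hRb : (R : Subgroup G) = Subgroup.zpowers b :=
    (Subgroup.eq_of_le_of_card_ge hR (by rw [hRc, Nat.card_zpowers, hb])).symm
  have hCb : Nat.card (Subgroup.centralizer ({b} : Set G)) = 5 * c := by
    rw [← centralizer_zpowers, ← hRb, card_centralizer_sylow R Q, hC]
  have hodd := odd_centralizer_prime hg (by norm_num : Nat.Prime 5) (by norm_num) hb le_rfl
  rw [hCb] at hodd ⊢
  simp only [List.mem_cons, List.not_mem_nil, or_false, Prod.mk.injEq] at hmem
  rcases hmem with ⟨rfl, rfl⟩ | ⟨rfl, rfl⟩ | ⟨rfl, rfl⟩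
  · exact ⟨by omega, hnS.symm⟩
  · exact absurd (dvd_mul_of_dvd_right (show 2 ∣ c by omega) 5) hodd
  · exact absurd (dvd_mul_of_dvd_right (show 2 ∣ c by omega) 5) hodd

/-- An element of order three centralizing one of order five has centralizer of order fifteen. -/
theorem three_data {a b : G} (ha : orderOf a = 3) (hb : orderOf b = 5) (hab : Commute a b) :
    Nat.card (Subgroup.centralizer ({a} : Set G)) = 15 := by
  classical
  haveI := Fintype.ofFinite G
  haveI : Fact (Nat.Prime 3) := ⟨by norm_num⟩
  obtain ⟨Q, n, e, c, hmem, hQ, hnec, hnS, hC, hN, -⟩ :=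
    data_of_refutedTwo (G := G) 4080 3 1360 64 16 [(340, 2), (136, 2), (85, 2), (40, 2), (34, 2)] hg (noncomm hg)
      (by norm_num) (by norm_num) (by norm_num) (by norm_num) (by norm_num) ⟨4, rfl⟩ (by norm_num) (by decide +kernel)
  obtain ⟨R, hR⟩ := (IsPGroup.of_card (p := 3) (n := 1) (G := Subgroup.zpowers a)
    (by rw [Nat.card_zpowers, ha, pow_one])).exists_le_sylow
  have hRc : Nat.card (R : Subgroup G) = 3 := R.card_eq_multiplicity.trans (Q.card_eq_multiplicity.symm.trans hQ)
  have hRa : (R : Subgroup G) = Subgroup.zpowers a :=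
    (Subgroup.eq_of_le_of_card_ge hR (by rw [hRc, Nat.card_zpowers, ha])).symm
  have hCa : Nat.card (Subgroup.centralizer ({a} : Set G)) = 3 * c := by
    rw [← centralizer_zpowers, ← hRa, card_centralizer_sylow R Q, hC]
  have h5 := Subgroup.orderOf_dvd_natCard (Subgroup.centralizer ({a} : Set G))
    (Subgroup.mem_centralizer_singleton_iff.2 hab.eq.symm : b ∈ _)
  have hodd := odd_centralizer_prime hg (by norm_num : Nat.Prime 3) (by norm_num) ha le_rfl
  rw [hCa] at hodd h5 ⊢
  rw [hb] at h5
  simp only [List.mem_cons, List.not_mem_nil, or_false, Prod.mk.injEq] at hmem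
  rcases hmem with ⟨rfl, rfl⟩ | ⟨rfl, rfl⟩ | ⟨rfl, rfl⟩ | ⟨rfl, rfl⟩ | ⟨rfl, rfl⟩ <;> omega

/-- A group element of order five has a centralizer that is cyclic. -/
theorem comm_centralizer_five {b : G} (hb : orderOf b = 5) :
    IsMulCommutative (Subgroup.centralizer ({b} : Set G)) := by
  haveI : Fact (Nat.Prime 3) := ⟨by norm_num⟩
  have hc := (five_data hg b hb).1
  obtain ⟨a', ha'⟩ := exists_prime_orderOf_dvd_card' (G := Subgroup.centralizer ({b} : Set G)) 3 (by rw [hc]; norm_num)
  obtain ⟨b', hb'⟩ : ∃ b' : Subgroup.centralizer ({b} : Set G), (b' : G) = b :=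
    ⟨⟨b, Subgroup.mem_centralizer_singleton_iff.2 rfl⟩, rfl⟩
  have hb'o : orderOf b' = 5 := by rw [← Subgroup.orderOf_coe, hb', hb]
  have hcomm : Commute a' b' := Subtype.ext (by
    show (a' : G) * b' = b' * a'
    rw [hb']
    exact Subgroup.mem_centralizer_singleton_iff.1 a'.2)
  have h15 : orderOf (a' * b') = 15 := by
    rw [hcomm.orderOf_mul_eq_mul_orderOf_of_coprime (by rw [ha', hb'o]; norm_num), ha', hb'o]
  exact (isCyclic_of_orderOf_eq_card _ (h15.trans hc.symm)).isMulCommutative

/-- The element orders. -/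
theorem order_cases (g : G) : g = 1 ∨ orderOf g = 2 ∨ orderOf g = 17 ∨
    ∃ b : G, orderOf b = 5 ∧ Commute g b ∧ g ^ 15 = 1 := by
  classical
  haveI := Fintype.ofFinite G
  haveI : Fact (Nat.Prime 17) := ⟨by norm_num⟩
  haveI : Fact (Nat.Prime 5) := ⟨by norm_num⟩
  haveI : Fact (Nat.Prime 3) := ⟨by norm_num⟩
  haveI : Fintype (Sylow 17 G) := Fintype.ofFinite _
  haveI : Fintype (Sylow 5 G) := Fintype.ofFinite _
  obtain ⟨P, hn17, hP, -, -⟩ := data_seventeen hg
  have hP17 : ∀ R : Sylow 17 G, Nat.card (R : Subgroup G) = 17 :=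
    fun R => R.card_eq_multiplicity.trans (P.card_eq_multiplicity.symm.trans hP)
  obtain ⟨u, hu⟩ := exists_prime_orderOf_dvd_card' (G := G) (p := 2) (by rw [hg]; norm_num)
  -- the three sets
  obtain ⟨A, hA⟩ : ∃ A : Finset G, A = Finset.univ.filter fun g => orderOf g = 2 := ⟨_, rfl⟩
  obtain ⟨B, hB⟩ : ∃ B : Finset G, B = Finset.univ.filter fun g => orderOf g = 17 := ⟨_, rfl⟩
  obtain ⟨C, hC⟩ : ∃ C : Finset G, C = Finset.univ.filter fun g => g ≠ 1 ∧
      ∃ b : G, orderOf b = 5 ∧ Commute g b ∧ g ^ 15 = 1 := ⟨_, rfl⟩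
  have hAc : 255 ≤ A.card := by
    have h := CfsgLib.Perm.Small.card_class_mul_card_centralizer u
    rw [card_centralizer_involution hg hu, hg, Nat.card_eq_fintype_card, Fintype.card_subtype] at h
    have hsub : (Finset.univ.filter fun g => IsConj u g) ⊆ A := fun g hg' => by
      obtain ⟨c, rfl⟩ := isConj_iff.1 (Finset.mem_filter.1 hg').2
      rw [hA, Finset.mem_filter]
      exact ⟨Finset.mem_univ _, ((MulAut.conj c).orderOf_eq u).trans hu⟩
    have := Finset.card_le_card hsub
    omega
  have hBc : 1920 ≤ B.card := by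
    have hinj : Function.Injective fun q : Σ R : Sylow 17 G, {x : (R : Subgroup G) // x ≠ 1} => ((q.2.1 : _) : G) := by
      rintro ⟨R, x, hx⟩ ⟨R', y, hy⟩ h
      simp only at h
      have hRR : R = R' := Sylow.ext
        ((CfsgLib.Perm.Small.zpowers_eq_of_mem (hP17 R) x.2 (fun e => hx (Subtype.ext e))).symm.trans
          (h ▸ CfsgLib.Perm.Small.zpowers_eq_of_mem (hP17 R') y.2 (fun e => hy (Subtype.ext e))))
      subst hRR
      obtain rfl : x = y := Subtype.ext h
      rfl
    have hle : Fintype.card (Σ R : Sylow 17 G, {x : (R : Subgroup G) // x ≠ 1}) ≤ B.card := by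
      rw [← Finset.card_univ, ← Finset.card_image_of_injective _ hinj]
      refine Finset.card_le_card fun g hg' => ?_
      obtain ⟨⟨R, x, hx⟩, -, rfl⟩ := Finset.mem_image.1 hg'
      rw [hB, Finset.mem_filter]
      refine ⟨Finset.mem_univ _, ?_⟩
      have h := Subgroup.orderOf_dvd_natCard (R : Subgroup G) x.2
      rw [hP17] at h
      exact ((Nat.dvd_prime (by norm_num)).1 h).resolve_left fun e => hx (Subtype.ext (orderOf_eq_one_iff.1 e))
    rw [Fintype.card_sigma] at hle
    have h16 : ∀ R : Sylow 17 G, Fintype.card {x : (R : Subgroup G) // x ≠ 1} = 16 := fun R => by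
      rw [Fintype.card_subtype_compl, ← Nat.card_eq_fintype_card, hP17, Fintype.card_subtype_eq]
    simp only [h16, Finset.sum_const, Finset.card_univ, ← Nat.card_eq_fintype_card, hn17, smul_eq_mul] at hle
    exact hle
  have hCc : 1904 ≤ C.card := by
    have h5 : ∀ R : Sylow 5 G, Nat.card (R : Subgroup G) = 5 := fun R => by
      rw [R.card_eq_multiplicity, hg, show (4080 : ℕ) = 5 ^ 1 * 816 by norm_num,
        Nat.factorization_mul (by norm_num) (by norm_num), Finsupp.add_apply,
        Nat.Prime.factorization_pow (by norm_num), Finsupp.single_eq_same,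
        Nat.factorization_eq_zero_of_not_dvd (by norm_num), add_zero, pow_one]
    have hgen : ∀ R : Sylow 5 G, ∃ b : G, orderOf b = 5 ∧ Subgroup.zpowers b = (R : Subgroup G) := by
      intro R
      obtain ⟨b, hb⟩ := exists_prime_orderOf_dvd_card' (G := (R : Subgroup G)) 5 (by rw [h5])
      have hbo : orderOf (b : G) = 5 := by rw [Subgroup.orderOf_coe, hb]
      exact ⟨b, hbo, CfsgLib.Perm.Small.zpowers_eq_of_mem (h5 R) b.2
        (fun e => by rw [e, orderOf_one] at hbo; norm_num at hbo)⟩
    choose b hbo hbR using hgen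
    obtain ⟨b₀, hb₀⟩ := exists_prime_orderOf_dvd_card' (G := G) (p := 5) (by rw [hg]; norm_num)
    have hn5 : Nat.card (Sylow 5 G) = 136 := (five_data hg b₀ hb₀).2
    have hcomm : ∀ (R : Sylow 5 G) (h : G), h ∈ Subgroup.centralizer ({b R} : Set G) → h ^ 15 = 1 := by
      intro R h hh
      have e := pow_card_eq_one' (G := Subgroup.centralizer ({b R} : Set G)) (x := ⟨h, hh⟩)
      rw [(five_data hg _ (hbo R)).1] at e
      exact congrArg Subtype.val e
    have hinj : Function.Injective fun q : Σ R : Sylow 5 G, {x : Subgroup.centralizer ({b R} : Set G) // x ≠ 1} =>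
        ((q.2.1 : _) : G) := by
      rintro ⟨R, x, hx⟩ ⟨R', y, hy⟩ h
      simp only at h
      have hRR : R = R' := by
        by_cases h3 : (x : G) ^ 3 = 1
        · have hxo : orderOf (x : G) = 3 := orderOf_eq_prime h3 fun e => hx (Subtype.ext e)
          have hc := Subgroup.mem_centralizer_singleton_iff.1 x.2
          have hc' := Subgroup.mem_centralizer_singleton_iff.1 y.2
          rw [← h] at hc'
          have h15 := three_data hg hxo (hbo R) hc
          refine Sylow.ext (eq_of_card_prime_of_lt_sq (p := 5) (K := Subgroup.centralizer ({(x : G)} : Set G))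
            ?_ ?_ (h5 R) (h5 R') (by rw [h15]; norm_num))
          · rw [← hbR]; exact Subgroup.zpowers_le.2 (Subgroup.mem_centralizer_singleton_iff.2 hc.symm)
          · rw [← hbR]; exact Subgroup.zpowers_le.2 (Subgroup.mem_centralizer_singleton_iff.2 hc'.symm)
        · have hpow : ((x : G) ^ 3) ^ 5 = 1 := by rw [← pow_mul]; exact hcomm R _ x.2
          have hmem : ∀ (S : Sylow 5 G), Commute (x : G) (b S) → (x : G) ^ 3 ∈ (S : Subgroup G) := by
            intro S hc
            have hp5 : IsPGroup 5 (Subgroup.zpowers ((x : G) ^ 3)) := IsPGroup.of_card (n := 1) (by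
              rw [Nat.card_zpowers, pow_one]
              exact orderOf_eq_prime hpow h3)
            have hN : (x : G) ^ 3 ∈ Subgroup.normalizer ((S : Subgroup G) : Set G) :=
              Subgroup.centralizer_le_normalizer _ (pow_mem (by
                rw [← hbR, centralizer_zpowers]; exact Subgroup.mem_centralizer_singleton_iff.2 hc.eq) 3)
            exact ((IsPGroup.inf_normalizer_sylow hp5 S).le ⟨Subgroup.mem_zpowers _, hN⟩).2
          have e1 := hmem R (Subgroup.mem_centralizer_singleton_iff.1 x.2)
          have e2 := hmem R' (by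
            have := Subgroup.mem_centralizer_singleton_iff.1 y.2
            rw [← h] at this
            exact this)
          exact Sylow.ext ((CfsgLib.Perm.Small.zpowers_eq_of_mem (h5 R) e1 h3).symm.trans
            (CfsgLib.Perm.Small.zpowers_eq_of_mem (h5 R') e2 h3))
      subst hRR
      obtain rfl : x = y := Subtype.ext h
      rfl
    have hle : Fintype.card (Σ R : Sylow 5 G, {x : Subgroup.centralizer ({b R} : Set G) // x ≠ 1}) ≤ C.card := by
      rw [← Finset.card_univ, ← Finset.card_image_of_injective _ hinj]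
      refine Finset.card_le_card fun g hg' => ?_
      obtain ⟨⟨R, x, hx⟩, -, rfl⟩ := Finset.mem_image.1 hg'
      rw [hC, Finset.mem_filter]
      exact ⟨Finset.mem_univ _, fun e => hx (Subtype.ext e), b R, hbo R,
        Subgroup.mem_centralizer_singleton_iff.1 x.2, hcomm R _ x.2⟩
    rw [Fintype.card_sigma] at hle
    have h14 : ∀ R : Sylow 5 G, Fintype.card {x : Subgroup.centralizer ({b R} : Set G) // x ≠ 1} = 14 := fun R => by
      rw [Fintype.card_subtype_compl, ← Nat.card_eq_fintype_card, (five_data hg _ (hbo R)).1, Fintype.card_subtype_eq]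
    simp only [h14, Finset.sum_const, Finset.card_univ, ← Nat.card_eq_fintype_card, hn5, smul_eq_mul] at hle
    exact hle
  have h15 : ∀ {a : G}, a ∈ C → orderOf a ∣ 15 := fun {a} ha => by
    rw [hC, Finset.mem_filter] at ha
    obtain ⟨-, -, b, -, -, h⟩ := ha
    exact orderOf_dvd_of_pow_eq_one h
  have hAB : Disjoint A B := by
    rw [Finset.disjoint_left, hA, hB]
    intro a ha hb
    simp only [Finset.mem_filter, Finset.mem_univ, true_and] at ha hb
    omega
  have hABC : Disjoint (A ∪ B) C := by
    rw [Finset.disjoint_left]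
    intro a ha hc
    have h := h15 hc
    simp only [hA, hB, Finset.mem_union, Finset.mem_filter, Finset.mem_univ, true_and] at ha
    rcases ha with e | e <;> rw [e] at h <;> norm_num at h
  have hone : (1 : G) ∉ A ∪ B ∪ C := by simp [hA, hB, hC]
  have huniv : insert (1 : G) (A ∪ B ∪ C) = Finset.univ := by
    refine Finset.eq_univ_of_card _ (le_antisymm (Finset.card_le_univ _) ?_)
    rw [Finset.card_insert_of_notMem hone, Finset.card_union_of_disjoint hABC,
      Finset.card_union_of_disjoint hAB, ← Nat.card_eq_fintype_card, hg]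
    omega
  have h := huniv ▸ Finset.mem_univ g
  simp only [hA, hB, hC, Finset.mem_insert, Finset.mem_union, Finset.mem_filter, Finset.mem_univ, true_and] at h
  rcases h with h | (h | h) | ⟨-, h⟩
  · exact Or.inl h
  · exact Or.inr (Or.inl h)
  · exact Or.inr (Or.inr (Or.inl h))
  · exact Or.inr (Or.inr (Or.inr h))

/-- Centralizers of non-trivial elements are commutative. -/
theorem comm_transitive : ∀ a b c : G, a ≠ 1 → b ≠ 1 → c ≠ 1 → Commute a b → Commute b c → Commute a c := by
  classical
  haveI := Fintype.ofFinite G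
  haveI : Fact (Nat.Prime 17) := ⟨by norm_num⟩
  intro a b c _ hb _ hab hbc
  have hacomm : a ∈ Subgroup.centralizer ({b} : Set G) := Subgroup.mem_centralizer_singleton_iff.2 hab.eq
  have hccomm : c ∈ Subgroup.centralizer ({b} : Set G) := Subgroup.mem_centralizer_singleton_iff.2 hbc.eq.symm
  suffices h : ∀ x ∈ Subgroup.centralizer ({b} : Set G), ∀ y ∈ Subgroup.centralizer ({b} : Set G),
      Commute x y from h a hacomm c hccomm
  rcases order_cases hg b with h | h | h | ⟨q, hq, hbq, hb15⟩
  · exact absurd h hb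
  · -- an elementary abelian group of order sixteen
    intro x hx y hy
    have hsq : ∀ z ∈ Subgroup.centralizer ({b} : Set G), z * z = 1 := by
      intro z hz
      have hd := Subgroup.orderOf_dvd_natCard _ hz
      rw [card_centralizer_involution hg h] at hd
      have h2 : z ^ 2 = 1 := by
        rcases order_cases hg z with e | e | e | ⟨_, _, _, e⟩
        · rw [e, one_pow]
        · exact e ▸ pow_orderOf_eq_one z
        · rw [e] at hd; norm_num at hd
        · have h1 := Nat.dvd_gcd hd (orderOf_dvd_of_pow_eq_one e)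
          norm_num at h1
          rw [h1, one_pow]
      rwa [sq] at h2
    show x * y = y * x
    calc x * y = (y * y) * (x * y) * ((x * x)) := by rw [hsq x hx, hsq y hy, one_mul, mul_one]
      _ = y * ((y * x) * (y * x)) * x := by group
      _ = y * x := by rw [hsq _ (mul_mem hy hx), mul_one]
  · -- a subgroup of order seventeen
    intro x hx y hy
    obtain ⟨P, -, hP, hC, -⟩ := data_seventeen hg
    obtain ⟨R, hR⟩ := (IsPGroup.of_card (p := 17) (n := 1) (G := Subgroup.zpowers b)
      (by rw [Nat.card_zpowers, h, pow_one])).exists_le_sylow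
    have hRc : Nat.card (R : Subgroup G) = 17 := R.card_eq_multiplicity.trans (P.card_eq_multiplicity.symm.trans hP)
    have hRC := (card_centralizer_sylow R P).trans hC
    have hbR := hR (Subgroup.mem_zpowers b)
    have e1 := mem_of_commute_gen hRc hRC hbR hb (Subgroup.mem_centralizer_singleton_iff.1 hx : Commute x b).symm
    have e2 := mem_of_commute_gen hRc hRC hbR hb (Subgroup.mem_centralizer_singleton_iff.1 hy : Commute y b).symm
    haveI : IsMulCommutative (R : Subgroup G) := (isCyclic_of_prime_card hRc).isMulCommutative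
    exact congrArg Subtype.val (IsMulCommutative.is_comm.comm (⟨x, e1⟩ : (R : Subgroup G)) ⟨y, e2⟩)
  · intro x hx y hy
    obtain ⟨q', hq', hle⟩ : ∃ q' : G, orderOf q' = 5 ∧
        Subgroup.centralizer ({b} : Set G) ≤ Subgroup.centralizer ({q'} : Set G) := by
      by_cases h3 : b ^ 3 = 1
      · haveI : Fact (Nat.Prime 3) := ⟨by norm_num⟩
        have hbo : orderOf b = 3 := orderOf_eq_prime h3 hb
        have h15 := three_data hg hbo hq hbq
        refine ⟨q, hq, le_of_eq ?_⟩
        -- the centralizer of `q` lies in that of `b`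
        haveI := comm_centralizer_five hg hq
        refine (Subgroup.eq_of_le_of_card_ge (fun z hz => ?_) (by rw [h15, (five_data hg q hq).1])).symm
        rw [Subgroup.mem_centralizer_singleton_iff]
        exact congrArg Subtype.val (IsMulCommutative.is_comm.comm (⟨z, hz⟩ : Subgroup.centralizer ({q} : Set G))
          ⟨b, Subgroup.mem_centralizer_singleton_iff.2 hbq.eq⟩)
      · haveI : Fact (Nat.Prime 5) := ⟨by norm_num⟩
        refine ⟨b ^ 3, orderOf_eq_prime (by rw [← pow_mul]; exact hb15) h3, fun z hz => ?_⟩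
        rw [Subgroup.mem_centralizer_singleton_iff]
        have h' : Commute z b := Subgroup.mem_centralizer_singleton_iff.1 hz
        exact (h'.pow_right 3).eq
    haveI := comm_centralizer_five hg hq'
    exact congrArg Subtype.val (IsMulCommutative.is_comm.comm
      (⟨x, hle hx⟩ : Subgroup.centralizer ({q'} : Set G)) ⟨y, hle hy⟩)

end CfsgLib.Perm.Card4080
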