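import Mathlib
import Cfsg.Agent.Lib.Perm.Small.Card168
import Cfsg.Agent.Lib.Fusion.Transfer

/-!
# Simple groups of order 504: commuting is transitive
-/

set_option autoImplicit false
set_option linter.all false

namespace CfsgLib.Perm.Small

open Subgroup

/-- a simple group with a proper subgroup embeds in the symmetric group on the cosets -/
theorem card_le_factorial_of_proper {A : Type*} [Group A] [Finite A] [IsSimpleGroup A] (R : Subgroup A) (hR : R ≠ ⊤) :
    Nat.card A ≤ R.index.factorial := by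
  classical
  rcases IsSimpleGroup.eq_bot_or_eq_top_of_normal R.normalCore (Subgroup.normalCore_normal R) with h | h
  · rw [Subgroup.normalCore_eq_ker] at h
    haveI : Finite (A ⧸ R) := inferInstance
    haveI := Fintype.ofFinite (A ⧸ R)
    refine (Nat.card_le_card_of_injective _ ((MonoidHom.ker_eq_bot_iff _).1 h)).trans (le_of_eq ?_)
    rw [Nat.card_perm]
    rfl
  · exact absurd (top_le_iff.1 (h ▸ Subgroup.normalCore_le R)) hR

variable {G : Type*} [Group G] [Finite G] [IsSimpleGroup G] (h : Nat.card G = 504)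
include h

theorem s504_noncomm : ¬ IsMulCommutative G := by
  intro hc
  haveI := hc
  letI : CommGroup G := { (inferInstance : Group G) with mul_comm := fun a b => IsMulCommutative.is_comm.comm a b }
  have hp : (Nat.card G).Prime := IsSimpleGroup.prime_card
  rw [h] at hp
  norm_num at hp

theorem s504_not_pgroup {p : ℕ} [Fact p.Prime] : ¬ IsPGroup p G :=
  fun hp => CfsgLib.Invol.not_isPGroup_of_simple (s504_noncomm h) hp

theorem s504_no_transfer {p : ℕ} [Fact p.Prime] (P : Sylow p G) (hp : p ∣ Nat.card G)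
    (hle : normalizer ((P : Subgroup G) : Set G) ≤ centralizer ((P : Subgroup G) : Set G)) : False := by
  have hidx := (MonoidHom.ker_transferSylow_isComplement' P hle).symm.index_eq_card
  rcases IsSimpleGroup.eq_bot_or_eq_top_of_normal (MonoidHom.transferSylow P hle).ker (MonoidHom.normal_ker _) with h' | h'
  · rw [h', Subgroup.index_bot] at hidx
    apply s504_not_pgroup h (p := p)
    have : (P : Subgroup G) = ⊤ := Subgroup.eq_top_of_card_eq _ hidx.symm
    intro g
    obtain ⟨k, hk⟩ := P.2 ⟨g, this ▸ Subgroup.mem_top g⟩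
    exact ⟨k, congrArg Subtype.val hk⟩
  · rw [h', Subgroup.index_top] at hidx
    exact P.ne_bot_of_dvd_card hp (Subgroup.card_eq_one.1 hidx.symm)

/-- there is no subgroup of index seven -/
theorem s504_index_seven (H : Subgroup G) : H.index ≠ 7 := by
  classical
  intro hi
  have hH : H ≠ ⊤ := fun e => by rw [e, Subgroup.index_top] at hi; norm_num at hi
  haveI := Fintype.ofFinite (G ⧸ H)
  haveI := Fintype.ofFinite G
  obtain ⟨φ, hφ⟩ : ∃ φ : G →* Equiv.Perm (G ⧸ H), φ = MulAction.toPermHom G (G ⧸ H) := ⟨_, rfl⟩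
  have hφinj : Function.Injective φ := by
    rcases IsSimpleGroup.eq_bot_or_eq_top_of_normal H.normalCore (Subgroup.normalCore_normal H) with e | e
    · rw [Subgroup.normalCore_eq_ker] at e
      rw [hφ]
      exact (MonoidHom.ker_eq_bot_iff _).1 e
    · exact absurd (top_le_iff.1 (e ▸ Subgroup.normalCore_le H)) hH
  have hsign : ∀ g, φ g ∈ alternatingGroup (G ⧸ H) := by
    intro g
    rw [Equiv.Perm.mem_alternatingGroup]
    rcases IsSimpleGroup.eq_bot_or_eq_top_of_normal (Equiv.Perm.sign.comp φ).ker (MonoidHom.normal_ker _) with e | e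
    · exfalso
      have h1 := Nat.card_le_card_of_injective _ ((MonoidHom.ker_eq_bot_iff _).1 e)
      rw [h, Nat.card_eq_fintype_card, Fintype.card_units_int] at h1
      omega
    · exact MonoidHom.mem_ker.1 (e.ge (Subgroup.mem_top g) : g ∈ (Equiv.Perm.sign.comp φ).ker)
  have hcard : Fintype.card (G ⧸ H) = 7 := by
    rw [← Nat.card_eq_fintype_card]; exact hi
  haveI : Nontrivial (G ⧸ H) := Fintype.one_lt_card_iff_nontrivial.1 (by omega)
  haveI : IsSimpleGroup (alternatingGroup (G ⧸ H)) :=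
    alternatingGroup.isSimpleGroup (by rw [Nat.card_eq_fintype_card, hcard]; norm_num)
  have hA : Nat.card (alternatingGroup (G ⧸ H)) = 2520 := by
    have h2 := two_mul_nat_card_alternatingGroup (α := G ⧸ H)
    have h7 : Nat.card (G ⧸ H) = 7 := hi
    rw [Nat.card_perm, h7, show Nat.factorial 7 = 5040 from rfl] at h2
    omega
  obtain ⟨R, hR⟩ : ∃ R, R = (φ.codRestrict _ hsign).range := ⟨_, rfl⟩
  have hRc : Nat.card R = 504 := by
    rw [hR, ← h]
    exact (Nat.card_congr (MonoidHom.ofInjective (fun a b e => hφinj (congrArg Subtype.val e))).toEquiv).symm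
  have hRi := R.card_mul_index
  rw [hRc, hA] at hRi
  have hle := card_le_factorial_of_proper R (fun e => by
    rw [e, Subgroup.card_top, hA] at hRc
    norm_num at hRc)
  rw [hA, show R.index = 5 by omega] at hle
  norm_num [Nat.factorial] at hle

theorem s504_sylow_seven [Fact (Nat.Prime 7)] (P : Sylow 7 G) : Nat.card (P : Subgroup G) = 7 :=
  card_sylow_prime (m := 72) (by rw [h]) (by norm_num) P

theorem s504_sylow_three [Fact (Nat.Prime 3)] (Q : Sylow 3 G) : Nat.card (Q : Subgroup G) = 9 := by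
  rw [Q.card_eq_multiplicity, h, show (504 : ℕ) = 3 ^ 2 * 56 by norm_num,
    Nat.factorization_mul (by norm_num) (by norm_num), Finsupp.add_apply, Nat.prime_three.factorization_pow,
    Finsupp.single_eq_same, Nat.factorization_eq_zero_of_not_dvd (by norm_num)]
  rfl

theorem s504_sylow_two [Fact (Nat.Prime 2)] (T : Sylow 2 G) : Nat.card (T : Subgroup G) = 8 := by
  rw [T.card_eq_multiplicity, h, show (504 : ℕ) = 2 ^ 3 * 63 by norm_num,
    Nat.factorization_mul (by norm_num) (by norm_num), Finsupp.add_apply, Nat.prime_two.factorization_pow,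
    Finsupp.single_eq_same, Nat.factorization_eq_zero_of_not_dvd (by norm_num)]
  rfl

open scoped Pointwise in
theorem s504_norm_seven [Fact (Nat.Prime 7)] (P : Sylow 7 G) :
    Nat.card (normalizer ((P : Subgroup G) : Set G)) = 14 ∧ Nat.card (Sylow 7 G) = 36 := by
  classical
  have hP := s504_sylow_seven h P
  have hN := card_sylow_mul_card_normalizer P
  rw [h] at hN
  have hm : Nat.card (Sylow 7 G) % 7 = 1 := card_sylow_modEq_one 7 G
  have h1 := CfsgLib.Invol.one_lt_card_sylow (s504_noncomm h) (p := 7) (by rw [h]; norm_num)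
  have hidx := P.card_dvd_index
  have h2 := (P : Subgroup G).card_mul_index
  rw [hP, h] at h2
  rw [show (P : Subgroup G).index = 72 by omega] at hidx
  have hall : ∀ c ∈ Nat.divisors 72, c % 7 = 1 → 1 < c → c = 8 ∨ c = 36 := by decide +kernel
  rcases hall _ (Nat.mem_divisors.2 ⟨hidx, by norm_num⟩) hm h1 with e | e
  swap
  · exact ⟨by rw [e] at hN; omega, e⟩
  exfalso
  rw [e] at hN
  obtain ⟨N, hNdef⟩ : ∃ N : Subgroup G, N = normalizer ((P : Subgroup G) : Set G) := ⟨_, rfl⟩
  rw [← hNdef] at hN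
  have hNP : ∀ g, g ∈ N ↔ g • P = P := fun g => by
    rw [hNdef]; exact Sylow.smul_eq_iff_mem_normalizer.symm
  -- `P` fixes only itself
  haveI hcyc : IsCyclic (P : Subgroup G) := isCyclic_of_prime_card hP
  obtain ⟨x, hxP, hx⟩ : ∃ x ∈ (P : Subgroup G), orderOf x = 7 := by
    obtain ⟨x, hx⟩ := exists_prime_orderOf_dvd_card' (G := (P : Subgroup G)) 7 (by rw [hP])
    exact ⟨x, x.2, by rw [orderOf_coe, hx]⟩
  have hx1 : x ≠ 1 := fun e' => by rw [e', orderOf_one] at hx; norm_num at hx
  have hgen := zpowers_eq_of_mem hP hxP hx1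
  have hfix : ∀ R : Sylow 7 G, x • R = R → R = P := by
    intro R hR
    have h' : (P : Subgroup G) ≤ normalizer ((R : Subgroup G) : Set G) := by
      rw [← hgen, zpowers_le]
      exact Sylow.smul_eq_iff_mem_normalizer.1 hR
    have h'' : (P : Subgroup G) ⊓ normalizer ((R : Subgroup G) : Set G) = (P : Subgroup G) ⊓ (R : Subgroup G) :=
      IsPGroup.inf_normalizer_sylow P.isPGroup' R
    rw [inf_eq_left.2 h'] at h''
    exact (Sylow.ext (Subgroup.eq_of_le_of_card_ge (inf_eq_left.1 h''.symm)
      (by rw [s504_sylow_seven h R, hP]))).symm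
  -- the centralizer of `x`
  obtain ⟨C, hC⟩ : ∃ C : Subgroup G, C = centralizer ({x} : Set G) := ⟨_, rfl⟩
  have hCN : C ≤ N := by
    rw [hC, hNdef, ← hgen, ← centralizer_closure, ← zpowers_eq_closure]
    exact centralizer_le_normalizer _
  obtain ⟨P₁, hP₁⟩ : ∃ P₁ : Sylow 7 G, P₁ ≠ P := by
    haveI : Nontrivial (Sylow 7 G) := Finite.one_lt_card_iff_nontrivial.1 h1
    exact exists_ne P
  have hCcard : Nat.card C ≤ 7 := by
    have hne : ∀ c : C, (c : G) • P₁ ≠ P := fun c hc => hP₁ (MulAction.injective (c : G) (by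
      show (c : G) • P₁ = (c : G) • P
      rw [hc]; exact ((hNP _).1 (hCN c.2)).symm))
    refine le_trans (Nat.card_le_card_of_injective (fun c : C => (⟨(c : G) • P₁, hne c⟩ : {R : Sylow 7 G // R ≠ P})) ?_) ?_
    · intro a b hab
      have hab' : (a : G) • P₁ = (b : G) • P₁ := congrArg Subtype.val hab
      have hd : ((b : G)⁻¹ * a) • P₁ = P₁ := by rw [mul_smul, hab', inv_smul_smul]
      have hdC : (b : G)⁻¹ * a ∈ C := C.mul_mem (C.inv_mem b.2) a.2
      have hcomm : ∀ k : ℕ, Commute ((b : G)⁻¹ * a) (x ^ k) := fun k => by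
        have hd2 : (b : G)⁻¹ * a ∈ centralizer ({x} : Set G) := by rw [← hC]; exact hdC
        exact (show Commute ((b : G)⁻¹ * a) x from mem_centralizer_singleton_iff.1 hd2).pow_right k
      -- the orbit of `P₁` under `x` and `P` exhaust all Sylow subgroups
      have horb : ∀ R : Sylow 7 G, R ≠ P → ∃ k : ℕ, x ^ k • P₁ = R := by
        have hinj : Function.Injective (fun k : Fin 7 => (⟨x ^ (k : ℕ) • P₁, fun hk => hP₁ (by
            have : (x ^ (k : ℕ)) • P = P := (hNP _).1 (hNdef ▸ le_normalizer (pow_mem hxP _))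
            exact MulAction.injective _ (hk.trans this.symm))⟩ : {R : Sylow 7 G // R ≠ P})) := by
          intro i j hij
          have hij' : x ^ (i : ℕ) • P₁ = x ^ (j : ℕ) • P₁ := congrArg Subtype.val hij
          by_contra hne'
          wlog hlt : (i : ℕ) < j generalizing i j
          · exact this hij.symm hij'.symm (Ne.symm hne') (lt_of_le_of_ne (not_lt.1 hlt) (fun e' => hne' (Fin.ext e'.symm)))
          have hd' : x ^ ((j : ℕ) - i) • P₁ = P₁ := MulAction.injective (x ^ (i : ℕ)) (by
            show x ^ (i : ℕ) • x ^ ((j : ℕ) - i) • P₁ = x ^ (i : ℕ) • P₁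
            rw [← mul_smul, ← pow_add, Nat.add_sub_cancel' hlt.le, hij'])
          have hmem : x ∈ MulAction.stabilizer G P₁ := by
            have hgen' : zpowers (x ^ ((j : ℕ) - i)) = (P : Subgroup G) := zpowers_eq_of_mem hP (pow_mem hxP _) (fun e' => by
              have := Nat.le_of_dvd (by omega) (hx ▸ orderOf_dvd_of_pow_eq_one e')
              omega)
            have hle : zpowers (x ^ ((j : ℕ) - i)) ≤ MulAction.stabilizer G P₁ := zpowers_le.2 hd'
            exact hle (hgen'.symm ▸ hxP)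
          exact hP₁ (hfix P₁ hmem)
        have hbij := (Nat.bijective_iff_injective_and_card _).2 ⟨hinj, by
          haveI := Fintype.ofFinite (Sylow 7 G)
          rw [Nat.card_eq_fintype_card, Fintype.card_fin, Nat.card_eq_fintype_card, Fintype.card_subtype_compl,
            Fintype.card_subtype_eq, ← Nat.card_eq_fintype_card, e]⟩
        intro R hR
        obtain ⟨k, hk⟩ := hbij.2 ⟨R, hR⟩
        exact ⟨k, congrArg Subtype.val hk⟩
      obtain ⟨K, hK⟩ : ∃ K : Subgroup G, K = (MulAction.toPermHom G (Sylow 7 G)).ker := ⟨_, rfl⟩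
      have hker : (b : G)⁻¹ * a ∈ K := by
        rw [hK, MonoidHom.mem_ker]
        refine Equiv.ext fun R => ?_
        show ((b : G)⁻¹ * a) • R = R
        by_cases hR : R = P
        · rw [hR]; exact (hNP _).1 (hCN hdC)
        · obtain ⟨k, rfl⟩ := horb R hR
          rw [← mul_smul, (hcomm k).eq, mul_smul, hd]
      rcases IsSimpleGroup.eq_bot_or_eq_top_of_normal K (hK ▸ MonoidHom.normal_ker _) with e' | e'
      · rw [e', mem_bot, inv_mul_eq_one] at hker
        exact Subtype.ext hker.symm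
      · have hxK : x ∈ K := e' ▸ mem_top x
        rw [hK, MonoidHom.mem_ker] at hxK
        exact absurd (hfix P₁ (Equiv.ext_iff.1 hxK P₁)) hP₁
    · haveI := Fintype.ofFinite (Sylow 7 G)
      rw [Nat.card_eq_fintype_card, Fintype.card_subtype_compl, Fintype.card_subtype_eq, ← Nat.card_eq_fintype_card, e]
  haveI : ((P : Subgroup G).subgroupOf N).Normal := by rw [hNdef]; exact normal_in_normalizer
  obtain ⟨ψ, hψ⟩ : ∃ ψ : N →* MulAut ((P : Subgroup G).subgroupOf N), ψ = MulAut.conjNormal := ⟨_, rfl⟩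
  have hψker : ψ.ker ≤ C.subgroupOf N := by
    intro n hn
    rw [MonoidHom.mem_ker, hψ] at hn
    have := congrArg (fun σ : MulAut ((P : Subgroup G).subgroupOf N) =>
      (((σ ⟨⟨x, hNdef ▸ le_normalizer hxP⟩, hxP⟩ : (P : Subgroup G).subgroupOf N) : N) : G)) hn
    simp only [MulAut.conjNormal_apply, MulAut.one_apply, Subgroup.coe_mul, Subgroup.coe_inv] at this
    rw [mem_subgroupOf, hC, mem_centralizer_singleton_iff]
    exact mul_inv_eq_iff_eq_mul.1 this
  have hker7 : Nat.card ψ.ker ≤ 7 := (Nat.card_le_card_of_injective _ (Subgroup.inclusion_injective hψker)).trans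
    (le_trans (le_of_eq (Nat.card_congr (Subgroup.subgroupOfEquivOfLe hCN).toEquiv)) hCcard)
  haveI hcyc' : IsCyclic ((P : Subgroup G).subgroupOf N) :=
    isCyclic_of_surjective (Subgroup.subgroupOfEquivOfLe (hNdef ▸ le_normalizer)).symm.toMonoidHom
      (Subgroup.subgroupOfEquivOfLe (hNdef ▸ le_normalizer)).symm.surjective
  have hr6 : Nat.card ψ.range ≤ 6 := by
    refine (Nat.card_le_card_of_injective _ ψ.range.subtype_injective).trans (le_of_eq ?_)
    rw [IsCyclic.card_mulAut, Nat.card_congr (Subgroup.subgroupOfEquivOfLe (hNdef ▸ le_normalizer)).toEquiv, hP,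
      Nat.totient_prime (by norm_num)]
  have hprod := Subgroup.card_mul_index ψ.ker
  rw [Subgroup.index_ker] at hprod
  have := Nat.mul_le_mul hker7 hr6
  omega

/-- centralizers of elements of order seven -/
theorem s504_cent_seven [Fact (Nat.Prime 7)] {x : G} (hx : orderOf x = 7) :
    centralizer ({x} : Set G) = zpowers x := by
  obtain ⟨P, hP⟩ := (IsPGroup.of_card (p := 7) (n := 1) (G := zpowers x)
    (by rw [Nat.card_zpowers, hx, pow_one])).exists_le_sylow
  have hN := (s504_norm_seven h P).1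
  have hPc := s504_sylow_seven h P
  have hxP : x ∈ (P : Subgroup G) := hP (mem_zpowers x)
  have hx1 : x ≠ 1 := fun hh => by rw [hh, orderOf_one] at hx; norm_num at hx
  have hgen := zpowers_eq_of_mem hPc hxP hx1
  have hPle : (P : Subgroup G) ≤ centralizer ({x} : Set G) := by
    rw [← hgen]
    exact zpowers_le.2 (mem_centralizer_singleton_iff.2 rfl)
  have hCN : centralizer ({x} : Set G) ≤ normalizer ((P : Subgroup G) : Set G) := by
    rw [← hgen, ← centralizer_closure, ← zpowers_eq_closure]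
    exact centralizer_le_normalizer _
  have hd := card_dvd_of_le hCN
  have hd' := card_dvd_of_le hPle
  rw [hN] at hd
  rw [hPc] at hd'
  have hle := Nat.le_of_dvd (by norm_num) hd
  obtain ⟨c, hc⟩ := hd'
  have : c = 1 ∨ c = 2 := by
    have : 0 < Nat.card (centralizer ({x} : Set G)) := Nat.card_pos
    omega
  rcases this with rfl | rfl
  · rw [hgen]
    exact (eq_of_le_of_card_ge hPle (by rw [hPc, hc])).symm
  · exfalso
    refine s504_no_transfer h P (by rw [h]; norm_num) ?_
    rw [← eq_of_le_of_card_ge hCN (by rw [hN, hc])]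
    intro g hg
    rw [← centralizer_closure, ← zpowers_eq_closure, hgen] at hg
    exact hg

theorem s504_norm_three [Fact (Nat.Prime 3)] (Q : Sylow 3 G) :
    Nat.card (normalizer ((Q : Subgroup G) : Set G)) = 18 ∧ Nat.card (Sylow 3 G) = 28 := by
  have hQ := s504_sylow_three h Q
  have hN := card_sylow_mul_card_normalizer Q
  rw [h] at hN
  have hm : Nat.card (Sylow 3 G) % 3 = 1 := card_sylow_modEq_one 3 G
  have h1 := CfsgLib.Invol.one_lt_card_sylow (s504_noncomm h) (p := 3) (by rw [h]; norm_num)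
  have hfac := CfsgLib.Invol.sylow_dvd_factorial (s504_noncomm h) (p := 3) (by rw [h]; norm_num)
  rw [h] at hfac
  have hidx := Q.card_dvd_index
  have h2 := (Q : Subgroup G).card_mul_index
  rw [hQ, h] at h2
  rw [show (Q : Subgroup G).index = 56 by omega] at hidx
  have hall : ∀ c ∈ Nat.divisors 56, c % 3 = 1 → 1 < c → c = 4 ∨ c = 7 ∨ c = 28 := by decide +kernel
  rcases hall _ (Nat.mem_divisors.2 ⟨hidx, by norm_num⟩) hm h1 with e | e | e
  · rw [e] at hfac; norm_num [Nat.factorial] at hfac
  · exfalso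
    refine s504_index_seven h (normalizer ((Q : Subgroup G) : Set G)) ?_
    exact Q.card_eq_index_normalizer.symm.trans e
  · exact ⟨by rw [e] at hN; omega, e⟩

theorem s504_three_comm [Fact (Nat.Prime 3)] (Q : Sylow 3 G) :
    ∀ a ∈ (Q : Subgroup G), ∀ b ∈ (Q : Subgroup G), a * b = b * a := by
  intro a ha b hb
  letI := IsPGroup.commGroupOfCardEqPrimeSq (p := 3) (show Nat.card (Q : Subgroup G) = 3 ^ 2 by rw [s504_sylow_three h Q]; norm_num)
  exact congrArg Subtype.val (mul_comm (⟨a, ha⟩ : (Q : Subgroup G)) ⟨b, hb⟩)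

/-- centralizers of elements of order three -/
theorem s504_cent_three [Fact (Nat.Prime 3)] {y : G} (hy : orderOf y = 3) (Q : Sylow 3 G)
    (hyQ : y ∈ (Q : Subgroup G)) : centralizer ({y} : Set G) = (Q : Subgroup G) := by
  classical
  haveI : Fact (Nat.Prime 7) := ⟨by norm_num⟩
  haveI : Fact (Nat.Prime 2) := ⟨Nat.prime_two⟩
  obtain ⟨C, hC⟩ : ∃ C : Subgroup G, C = centralizer ({y} : Set G) := ⟨_, rfl⟩
  obtain ⟨N, hNdef⟩ : ∃ N : Subgroup G, N = normalizer ((Q : Subgroup G) : Set G) := ⟨_, rfl⟩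
  rw [← hC]
  have hQc := s504_sylow_three h Q
  have hN : Nat.card N = 18 := hNdef ▸ (s504_norm_three h Q).1
  have hQN : (Q : Subgroup G) ≤ N := hNdef ▸ le_normalizer
  have hQC : (Q : Subgroup G) ≤ C := fun q hq => by
    rw [hC, mem_centralizer_singleton_iff]
    exact s504_three_comm h Q q hq y hyQ
  have hd := card_dvd_of_le hQC
  rw [hQc] at hd
  obtain ⟨a, ha⟩ := hd
  have hdG : Nat.card C ∣ 504 := h ▸ card_subgroup_dvd_card C
  have h7 : ¬ 7 ∣ Nat.card C := by
    intro h7
    obtain ⟨x, hx⟩ := exists_prime_orderOf_dvd_card' (G := C) 7 h7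
    have hxC : (x : G) ∈ centralizer ({y} : Set G) := by rw [← hC]; exact x.2
    rw [mem_centralizer_singleton_iff] at hxC
    have hy7 : y ∈ centralizer ({(x : G)} : Set G) := mem_centralizer_singleton_iff.2 hxC.symm
    rw [s504_cent_seven h (by rw [orderOf_coe, hx])] at hy7
    have := Subgroup.orderOf_dvd_natCard _ hy7
    rw [hy, Nat.card_zpowers, orderOf_coe, hx] at this
    norm_num at this
  have ha' : a = 1 ∨ a = 2 ∨ a = 4 ∨ a = 8 := by
    rw [ha] at hdG h7
    have hd56 : a ∣ 56 := Nat.dvd_of_mul_dvd_mul_left (by norm_num : 0 < 9) hdG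
    have hall : ∀ c ∈ Nat.divisors 56, c = 1 ∨ c = 2 ∨ c = 4 ∨ c = 8 ∨ 7 ∣ c := by decide +kernel
    rcases hall a (Nat.mem_divisors.2 ⟨hd56, by norm_num⟩) with e | e | e | e | e
    · omega
    · omega
    · omega
    · omega
    · exact absurd (e.mul_left 9) h7
  rcases ha' with rfl | rfl | rfl | rfl
  · exact (eq_of_le_of_card_ge hQC (by rw [ha, hQc])).symm
  · -- centralizer of order 18
    exfalso
    haveI hQn : ((Q : Subgroup G).subgroupOf C).Normal := by
      refine Subgroup.normal_of_index_eq_two ?_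
      have h1 := ((Q : Subgroup G).subgroupOf C).card_mul_index
      rw [Nat.card_congr (Subgroup.subgroupOfEquivOfLe hQC).toEquiv, ha, hQc] at h1
      omega
    have hCN : C = N := by
      refine eq_of_le_of_card_ge ?_ (by rw [hN, ha])
      rw [hNdef]
      exact le_normalizer_of_normal_subgroupOf hQC
    have hQi : ((Q : Subgroup G).subgroupOf N).index = 2 := by
      have h1 := ((Q : Subgroup G).subgroupOf N).card_mul_index
      rw [Nat.card_congr (Subgroup.subgroupOfEquivOfLe hQN).toEquiv, hN, hQc] at h1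
      omega
    obtain ⟨t, htN, htQ⟩ : ∃ t ∈ N, t ∉ (Q : Subgroup G) := by
      by_contra hall
      push Not at hall
      have := card_le_of_le (show N ≤ (Q : Subgroup G) from hall)
      rw [hN, hQc] at this
      omega
    have hconj : ∀ n ∈ N, ∀ q ∈ (Q : Subgroup G), n * q * n⁻¹ ∈ (Q : Subgroup G) := fun n hn q hq => by
      rw [hNdef] at hn
      exact (mem_normalizer_iff.1 hn q).1 hq
    obtain ⟨f, hf⟩ : ∃ f : (Q : Subgroup G) →* G, ∀ q, f q = (q : G) * (t * (q : G)⁻¹ * t⁻¹) :=
      ⟨MonoidHom.mk' (fun q => (q : G) * (t * (q : G)⁻¹ * t⁻¹)) (fun q r => by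
        have hc := s504_three_comm h Q
        have h1 : t * (q : G)⁻¹ * t⁻¹ ∈ (Q : Subgroup G) := hconj t htN _ (inv_mem q.2)
        have h2 : t * (r : G)⁻¹ * t⁻¹ ∈ (Q : Subgroup G) := hconj t htN _ (inv_mem r.2)
        simp only [Subgroup.coe_mul, mul_inv_rev]
        rw [show t * ((r : G)⁻¹ * (q : G)⁻¹) * t⁻¹ = (t * (r : G)⁻¹ * t⁻¹) * (t * (q : G)⁻¹ * t⁻¹) by group,
          hc _ h2 _ h1]
        calc (q : G) * r * (t * (q : G)⁻¹ * t⁻¹ * (t * (r : G)⁻¹ * t⁻¹))
            = (q : G) * ((r : G) * (t * (q : G)⁻¹ * t⁻¹)) * (t * (r : G)⁻¹ * t⁻¹) := by group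
          _ = (q : G) * ((t * (q : G)⁻¹ * t⁻¹) * r) * (t * (r : G)⁻¹ * t⁻¹) := by rw [hc _ r.2 _ h1]
          _ = (q : G) * (t * (q : G)⁻¹ * t⁻¹) * ((r : G) * (t * (r : G)⁻¹ * t⁻¹)) := by group), fun q => rfl⟩
    have hle : ⁅(Q : Subgroup G), N⁆ ≤ f.range := by
      rw [Subgroup.commutator_le]
      intro q hq n hn
      have hc := s504_three_comm h Q
      by_cases hnQ : n ∈ (Q : Subgroup G)
      · rw [commutatorElement_def, hc q hq n hnQ, mul_inv_cancel_right, mul_inv_cancel]
        exact one_mem _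
      · obtain ⟨m, hm, rfl⟩ : ∃ m ∈ (Q : Subgroup G), n = m * t := by
          refine ⟨n * t⁻¹, ?_, by rw [inv_mul_cancel_right]⟩
          have h2 := (Subgroup.mul_mem_iff_of_index_two hQi (a := (⟨n, hn⟩ : N)) (b := (⟨t, htN⟩ : N)⁻¹)).2 (by
            simp [mem_subgroupOf, hnQ, htQ])
          simpa [mem_subgroupOf] using h2
        refine ⟨⟨q, hq⟩, ?_⟩
        rw [hf, commutatorElement_def]
        have hin : q * (t * q⁻¹ * t⁻¹) ∈ (Q : Subgroup G) := mul_mem hq (hconj t htN _ (inv_mem hq))
        calc q * (t * q⁻¹ * t⁻¹) = m * (q * (t * q⁻¹ * t⁻¹)) * m⁻¹ := by rw [hc m hm _ hin, mul_inv_cancel_right]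
          _ = (m * q) * (t * q⁻¹ * t⁻¹) * m⁻¹ := by group
          _ = (q * m) * (t * q⁻¹ * t⁻¹) * m⁻¹ := by rw [hc m hm q hq]
          _ = q * (m * t) * q⁻¹ * (m * t)⁻¹ := by group
    have hres : Cfsg.pResidual 3 G = ⊤ := by
      haveI := CfsgLib.Fusion.pResidual_normal (G := G) (p := 3)
      rcases IsSimpleGroup.eq_bot_or_eq_top_of_normal (Cfsg.pResidual 3 G) inferInstance with e | e
      · exfalso
        have := CfsgLib.Fusion.pResidual_sup_sylow Q
        rw [e, bot_sup_eq] at this
        have hh := congrArg (fun K : Subgroup G => Nat.card K) this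
        simp only [Subgroup.card_top, h, hQc] at hh
        omega
      · exact e
    have hfoc := CfsgLib.Fusion.inf_pResidual_abelian_sylow Q
      ⟨⟨fun a b => Subtype.ext (s504_three_comm h Q a a.2 b b.2)⟩⟩
    rw [hres, inf_top_eq, ← hNdef] at hfoc
    have hker : (⟨y, hyQ⟩ : (Q : Subgroup G)) ∈ f.ker := by
      rw [MonoidHom.mem_ker, hf]
      have htC : t ∈ C := hCN ▸ htN
      rw [hC, mem_centralizer_singleton_iff] at htC
      have : t * y⁻¹ * t⁻¹ = y⁻¹ := by
        rw [mul_inv_eq_iff_eq_mul]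
        exact (show Commute t y from htC).inv_right
      show y * (t * y⁻¹ * t⁻¹) = 1
      rw [this, mul_inv_cancel]
    have hk3 : 3 ≤ Nat.card f.ker := by
      have hd3 := Subgroup.orderOf_dvd_natCard _ hker
      rw [Subgroup.orderOf_mk, hy] at hd3
      exact Nat.le_of_dvd Nat.card_pos hd3
    have hprod := Subgroup.card_mul_index f.ker
    rw [Subgroup.index_ker, hQc] at hprod
    have hQle := card_le_of_le (hfoc.le.trans hle)
    rw [hQc] at hQle
    nlinarith
  · -- centralizer of order 36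
    exfalso
    have hC36 : Nat.card C = 36 := by rw [ha]
    have hn3 : Nat.card (Sylow 3 C) = 4 := by
      obtain ⟨R⟩ : Nonempty (Sylow 3 C) := inferInstance
      have hR : Nat.card (R : Subgroup C) = 9 := by
        rw [R.card_eq_multiplicity, hC36, show (36 : ℕ) = 3 ^ 2 * 4 by norm_num,
          Nat.factorization_mul (by norm_num) (by norm_num), Finsupp.add_apply, Nat.prime_three.factorization_pow,
          Finsupp.single_eq_same, Nat.factorization_eq_zero_of_not_dvd (by norm_num)]
        rfl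
      have h1 := R.card_dvd_index
      have h2 := (R : Subgroup C).card_mul_index
      rw [hR, hC36] at h2
      rw [show (R : Subgroup C).index = 4 by omega] at h1
      have hm : Nat.card (Sylow 3 C) % 3 = 1 := card_sylow_modEq_one 3 C
      have hne : Nat.card (Sylow 3 C) ≠ 1 := by
        intro e1
        haveI : Subsingleton (Sylow 3 C) := Finite.card_le_one_iff_subsingleton.1 e1.le
        obtain ⟨Q', hQ'⟩ : ∃ Q' : Sylow 3 C, (Q' : Subgroup C) = (Q : Subgroup G).subgroupOf C :=
          ⟨Q.subtype hQC, rfl⟩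
        haveI : ((Q : Subgroup G).subgroupOf C).Normal := hQ' ▸ Q'.normal_of_subsingleton
        have := card_le_of_le (show C ≤ N from hNdef ▸ le_normalizer_of_normal_subgroupOf hQC)
        rw [hC36, hN] at this
        omega
      have hle := Nat.le_of_dvd (by norm_num) h1
      interval_cases hc : Nat.card (Sylow 3 C) <;> omega
    obtain ⟨ε⟩ : Nonempty (Sylow 3 C ≃ Fin 4) := ⟨Finite.equivFinOfCardEq hn3⟩
    obtain ⟨φ, hφ⟩ : ∃ φ : C →* Equiv.Perm (Fin 4), φ = ε.permCongrHom.toMonoidHom.comp (MulAction.toPermHom C (Sylow 3 C)) :=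
      ⟨_, rfl⟩
    have hker : ∀ c ∈ φ.ker, ∀ R : Sylow 3 C, c • R = R := by
      intro c hc R
      rw [hφ, MonoidHom.mem_ker, MonoidHom.comp_apply, MulEquiv.coe_toMonoidHom, MulEquiv.map_eq_one_iff] at hc
      exact Equiv.ext_iff.1 hc R
    have hyC : y ∈ C := hQC hyQ
    have hycen : ∀ c : C, Commute (⟨y, hyC⟩ : C) c := fun c => by
      have hc : (c : G) ∈ centralizer ({y} : Set G) := by rw [← hC]; exact c.2
      rw [mem_centralizer_singleton_iff] at hc
      exact Subtype.ext hc.symm
    obtain ⟨R₀, hR₀⟩ : ∃ Q' : Sylow 3 C, (Q' : Subgroup C) = (Q : Subgroup G).subgroupOf C :=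
      ⟨Q.subtype hQC, rfl⟩
    have hR9 : Nat.card (R₀ : Subgroup C) = 9 := by
      rw [hR₀, Nat.card_congr (Subgroup.subgroupOfEquivOfLe hQC).toEquiv, hQc]
    have hkerle : φ.ker ≤ (R₀ : Subgroup C) := by
      have h1 : φ.ker ≤ normalizer ((R₀ : Subgroup C) : Set C) := fun c hc => Sylow.smul_eq_iff_mem_normalizer.1 (hker c hc R₀)
      have h2 := card_sylow_mul_card_normalizer R₀
      rw [hn3, hC36] at h2
      rwa [← eq_of_le_of_card_ge (le_normalizer : (R₀ : Subgroup C) ≤ _) (by rw [hR9]; omega)] at h1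
    have hykermem : (⟨y, hyC⟩ : C) ∈ φ.ker := by
      rw [hφ, MonoidHom.mem_ker, MonoidHom.comp_apply, MulEquiv.coe_toMonoidHom, MulEquiv.map_eq_one_iff]
      refine Equiv.ext fun R => ?_
      show (⟨y, hyC⟩ : C) • R = R
      refine Sylow.smul_eq_iff_mem_normalizer.2 (mem_normalizer_iff.2 fun r => ?_)
      rw [(hycen r).eq, mul_inv_cancel_right]
    have hkc : Nat.card φ.ker = 3 := by
      have hd1 := card_dvd_of_le hkerle
      rw [hR9] at hd1
      have hd2 := Subgroup.orderOf_dvd_natCard _ hykermem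
      rw [Subgroup.orderOf_mk, hy] at hd2
      have hne9 : Nat.card φ.ker ≠ 9 := by
        intro e9
        have heq : φ.ker = (R₀ : Subgroup C) := eq_of_le_of_card_ge hkerle (by rw [e9, hR9])
        haveI : (R₀ : Subgroup C).Normal := heq ▸ φ.normal_ker
        have h2 := card_sylow_mul_card_normalizer R₀
        rw [hn3, hC36, normalizer_eq_top, card_top, hC36] at h2
        omega
      have hle := Nat.le_of_dvd (by norm_num) hd1
      have := Nat.le_of_dvd Nat.card_pos hd2
      interval_cases hc : Nat.card φ.ker <;> omega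
    have hrange : φ.range = alternatingGroup (Fin 4) := by
      refine Equiv.Perm.eq_alternatingGroup_of_index_eq_two ?_
      have h1 := φ.range.card_mul_index
      have h2 := Subgroup.card_mul_index φ.ker
      rw [Subgroup.index_ker, hkc, hC36] at h2
      rw [Nat.card_perm, Nat.card_eq_fintype_card (α := Fin 4), Fintype.card_fin, show Nat.factorial 4 = 24 from rfl,
        show Nat.card φ.range = 12 by omega] at h1
      omega
    -- two-elements
    obtain ⟨T₀⟩ : Nonempty (Sylow 2 C) := inferInstance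
    have hT₀ : Nat.card (T₀ : Subgroup C) = 4 := by
      rw [T₀.card_eq_multiplicity, hC36, show (36 : ℕ) = 2 ^ 2 * 9 by norm_num,
        Nat.factorization_mul (by norm_num) (by norm_num), Finsupp.add_apply, Nat.prime_two.factorization_pow,
        Finsupp.single_eq_same, Nat.factorization_eq_zero_of_not_dvd (by norm_num)]
      rfl
    have hS4 : Nat.card {g : Equiv.Perm (Fin 4) // g ^ 4 = 1 ∧ Equiv.Perm.sign g = 1} = 4 := by
      rw [Nat.card_eq_fintype_card]; decide +kernel
    have hsub : Nat.card {c : C // c ^ 4 = 1} ≤ 4 := by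
      refine le_trans (Nat.card_le_card_of_injective (β := {g : Equiv.Perm (Fin 4) // g ^ 4 = 1 ∧ Equiv.Perm.sign g = 1})
        (fun c => ⟨φ c.1, by rw [← map_pow, c.2, map_one], ?_⟩) ?_) hS4.le
      · exact Equiv.Perm.mem_alternatingGroup.1 (hrange ▸ ⟨c.1, rfl⟩)
      · intro c d hcd
        have hcd' : φ c.1 = φ d.1 := congrArg Subtype.val hcd
        have hk : d.1⁻¹ * c.1 ∈ φ.ker := by rw [MonoidHom.mem_ker, map_mul, map_inv, hcd', inv_mul_cancel]
        have hkz : d.1⁻¹ * c.1 ∈ zpowers (⟨y, hyC⟩ : C) := by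
          have heq : zpowers (⟨y, hyC⟩ : C) = φ.ker := eq_of_le_of_card_ge (zpowers_le.2 hykermem)
            (by rw [hkc, Nat.card_zpowers, Subgroup.orderOf_mk, hy])
          rwa [heq]
        obtain ⟨k, hk'⟩ := hkz
        have hcomm : Commute d.1 (d.1⁻¹ * c.1) := by
          rw [← hk']
          exact ((hycen d.1).zpow_left k).symm
        have h4 : (d.1⁻¹ * c.1) ^ 4 = 1 := by
          have h1 := hcomm.mul_pow 4
          rw [mul_inv_cancel_left, c.2, d.2, one_mul] at h1
          exact h1.symm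
        have h3 : (d.1⁻¹ * c.1) ^ 3 = 1 := by
          rw [← hkc]
          exact congrArg Subtype.val (pow_card_eq_one' (G := φ.ker) (x := ⟨_, hk⟩))
        have : d.1⁻¹ * c.1 = 1 := by
          rw [show d.1⁻¹ * c.1 = (d.1⁻¹ * c.1) ^ 4 * ((d.1⁻¹ * c.1) ^ 3)⁻¹ by group, h4, h3, inv_one, one_mul]
        exact Subtype.ext (inv_mul_eq_one.1 this).symm
    haveI hTn : (T₀ : Subgroup C).Normal := by
      obtain ⟨ι, hι⟩ : ∃ ι : ↥(T₀ : Subgroup C) → {c : C // c ^ 4 = 1}, ∀ t, (ι t : C) = t :=
        ⟨fun t => ⟨t, by rw [← hT₀]; exact congrArg Subtype.val (pow_card_eq_one' (x := t))⟩, fun t => rfl⟩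
      have hιinj : Function.Injective ι := fun a b e => Subtype.ext (by rw [← hι, ← hι, e])
      have hsurj := ((Nat.bijective_iff_injective_and_card ι).2 ⟨hιinj, le_antisymm
        (Nat.card_le_card_of_injective ι hιinj) (by rw [hT₀]; exact hsub)⟩).2
      refine ⟨fun t ht g => ?_⟩
      obtain ⟨t', ht'⟩ := hsurj ⟨g * t * g⁻¹, by
        rw [conj_pow, show t ^ 4 = 1 by rw [← hT₀]; exact congrArg Subtype.val (pow_card_eq_one' (x := (⟨t, ht⟩ : (T₀ : Subgroup C)))),
          mul_one, mul_inv_cancel]⟩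
      have := congrArg Subtype.val ht'
      rw [hι] at this
      have e : (t' : C) = g * t * g⁻¹ := this
      rw [← e]; exact t'.2
    obtain ⟨V, hV⟩ : ∃ V : Subgroup G, V = (T₀ : Subgroup C).map C.subtype := ⟨_, rfl⟩
    have hVc : Nat.card V = 4 := by rw [hV, Subgroup.card_map_of_injective C.subtype_injective, hT₀]
    obtain ⟨T, hT⟩ := (IsPGroup.of_card (p := 2) (n := 2) (G := V) (by rw [hVc]; norm_num)).exists_le_sylow
    have hCle : C ≤ normalizer (V : Set G) := by
      intro c hc
      rw [mem_normalizer_iff, hV]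
      intro v
      constructor
      · rintro ⟨v', hv', rfl⟩
        exact ⟨_, hTn.conj_mem v' hv' ⟨c, hc⟩, by simp⟩
      · rintro ⟨v', hv', hv''⟩
        refine ⟨_, hTn.conj_mem v' hv' (⟨c, hc⟩ : C)⁻¹, ?_⟩
        simp only [Subgroup.coe_subtype, Subgroup.coe_mul, Subgroup.coe_inv, inv_inv] at hv'' ⊢
        rw [hv'']; group
    have hTle : (T : Subgroup G) ≤ normalizer (V : Set G) := by
      haveI : (V.subgroupOf (T : Subgroup G)).Normal := by
        refine Subgroup.normal_of_index_eq_two ?_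
        have h1 := (V.subgroupOf (T : Subgroup G)).card_mul_index
        rw [Nat.card_congr (Subgroup.subgroupOfEquivOfLe hT).toEquiv, hVc, s504_sylow_two h T] at h1
        omega
      exact le_normalizer_of_normal_subgroupOf hT
    have h36 := card_dvd_of_le hCle
    have h8 := card_dvd_of_le hTle
    rw [hC36] at h36
    rw [s504_sylow_two h T] at h8
    have h72 : 72 ∣ Nat.card (normalizer (V : Set G)) := by omega
    obtain ⟨j, hj⟩ := h72
    have hi := (normalizer (V : Set G)).card_mul_index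
    rw [hj, h] at hi
    have hij : j * (normalizer (V : Set G)).index = 7 := by rw [mul_assoc] at hi; omega
    rcases (Nat.dvd_prime (by norm_num : Nat.Prime 7)).1 (Dvd.intro_left j hij) with e | e
    · rw [Subgroup.index_eq_one, normalizer_eq_top_iff] at e
      rcases IsSimpleGroup.eq_bot_or_eq_top_of_normal V e with e' | e'
      · rw [e', card_bot] at hVc; omega
      · rw [e', card_top, h] at hVc; omega
    · exact s504_index_seven h _ e
  · exfalso
    refine s504_index_seven h C ?_
    have := C.card_mul_index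
    rw [ha, h] at this
    omega

/-- the elements whose order divides eight -/
theorem s504_card_two_part [Fact (Nat.Prime 3)] [Fact (Nat.Prime 7)] :
    (∀ g : G, orderOf g ∣ 8 ∨ orderOf g = 7 ∨ ∃ Q : Sylow 3 G, g ∈ (Q : Subgroup G) ∧ g ≠ 1) ∧
    Nat.card {g : G // orderOf g ∣ 8 ∧ g ≠ 1} = 63 := by
  classical
  have htri : ∀ g : G, orderOf g ∣ 8 ∨ orderOf g = 7 ∨ ∃ Q : Sylow 3 G, g ∈ (Q : Subgroup G) ∧ g ≠ 1 := by
    intro g
    have hd : orderOf g ∣ 504 := h ▸ orderOf_dvd_natCard g
    by_cases h7 : 7 ∣ orderOf g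
    · refine Or.inr (Or.inl ?_)
      have ho : orderOf (g ^ (orderOf g / 7)) = 7 := orderOf_pow_orderOf_div (orderOf_pos g).ne' h7
      have hmem : g ∈ centralizer ({g ^ (orderOf g / 7)} : Set G) :=
        mem_centralizer_singleton_iff.2 ((Commute.refl g).pow_right _).eq
      rw [s504_cent_seven h ho] at hmem
      have hd' := Subgroup.orderOf_dvd_natCard _ hmem
      rw [Nat.card_zpowers, ho] at hd'
      exact Nat.dvd_antisymm hd' h7
    by_cases h3 : 3 ∣ orderOf g
    · refine Or.inr (Or.inr ?_)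
      have ho : orderOf (g ^ (orderOf g / 3)) = 3 := orderOf_pow_orderOf_div (orderOf_pos g).ne' h3
      obtain ⟨Q, hQ⟩ := (IsPGroup.of_card (p := 3) (n := 1) (G := zpowers (g ^ (orderOf g / 3)))
        (by rw [Nat.card_zpowers, ho, pow_one])).exists_le_sylow
      refine ⟨Q, ?_, fun e => by rw [e, orderOf_one] at h3; norm_num at h3⟩
      rw [← s504_cent_three h ho Q (hQ (mem_zpowers _))]
      exact mem_centralizer_singleton_iff.2 ((Commute.refl g).pow_right _).eq
    left
    have hcop : (orderOf g).Coprime 63 := by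
      rw [show (63 : ℕ) = 3 * 3 * 7 by norm_num, Nat.coprime_mul_iff_right, Nat.coprime_mul_iff_right]
      exact ⟨⟨((Nat.prime_three).coprime_iff_not_dvd.2 h3).symm, ((Nat.prime_three).coprime_iff_not_dvd.2 h3).symm⟩,
        (((by norm_num : Nat.Prime 7)).coprime_iff_not_dvd.2 h7).symm⟩
    exact hcop.dvd_of_dvd_mul_right (by rw [show 8 * 63 = 504 by norm_num]; exact hd)
  refine ⟨htri, ?_⟩
  haveI := Fintype.ofFinite G
  haveI := Fintype.ofFinite (Sylow 3 G)
  obtain ⟨Q₁⟩ : Nonempty (Sylow 3 G) := inferInstance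
  obtain ⟨P₁⟩ : Nonempty (Sylow 7 G) := inferInstance
  have h7c := card_orderOf_eq_prime (G := G) (p := 7) (fun R => s504_sylow_seven h R)
  rw [(s504_norm_seven h P₁).2, Nat.card_eq_fintype_card, Fintype.card_subtype] at h7c
  rw [Nat.card_eq_fintype_card, Fintype.card_subtype]
  obtain ⟨U, hU⟩ : ∃ U : Finset G, U = Finset.univ.biUnion fun Q : Sylow 3 G =>
      (Finset.univ.filter fun g => g ∈ (Q : Subgroup G)).erase 1 := ⟨_, rfl⟩
  have hmemU : ∀ g, g ∈ U ↔ ∃ Q : Sylow 3 G, g ∈ (Q : Subgroup G) ∧ g ≠ 1 := fun g => by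
    simp [hU, and_comm]
  have hord : ∀ Q : Sylow 3 G, ∀ g ∈ (Q : Subgroup G), g ≠ 1 → orderOf g ∣ 9 ∧ 3 ∣ orderOf g := by
    intro Q g hg hg1
    have hd : orderOf g ∣ 9 := s504_sylow_three h Q ▸ Subgroup.orderOf_dvd_natCard _ hg
    refine ⟨hd, ?_⟩
    obtain ⟨k, -, hk⟩ := (Nat.dvd_prime_pow Nat.prime_three).1 (show orderOf g ∣ 3 ^ 2 by norm_num; exact hd)
    rcases k with _ | k
    · exact absurd (orderOf_eq_one_iff.1 hk) hg1
    · exact hk ▸ dvd_pow_self 3 k.succ_ne_zero
  have hUc : U.card = 224 := by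
    rw [hU, Finset.card_biUnion, Finset.sum_congr rfl (g := fun _ => 8) fun Q _ => ?_, Finset.sum_const,
      Finset.card_univ, smul_eq_mul, ← Nat.card_eq_fintype_card, (s504_norm_three h Q₁).2]
    · rw [Finset.card_erase_of_mem (by simp), ← Fintype.card_subtype, ← Nat.card_eq_fintype_card]
      have := s504_sylow_three h Q
      omega
    · intro Q _ R _ hQR
      rw [Function.onFun, Finset.disjoint_left]
      intro g hg hg'
      simp only [Finset.mem_erase, Finset.mem_filter, Finset.mem_univ, true_and] at hg hg'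
      refine hQR (Sylow.ext ?_)
      obtain ⟨-, h3⟩ := hord Q g hg.2 hg.1
      have ho : orderOf (g ^ (orderOf g / 3)) = 3 := orderOf_pow_orderOf_div (orderOf_pos g).ne' h3
      rw [← s504_cent_three h ho Q (pow_mem hg.2 _), s504_cent_three h ho R (pow_mem hg'.2 _)]
  have hu : (Finset.univ : Finset G) = insert 1 ((Finset.univ.filter fun g => orderOf g ∣ 8 ∧ g ≠ 1) ∪
      ((Finset.univ.filter fun g => orderOf g = 7) ∪ U)) := by
    ext g
    simp only [Finset.mem_univ, Finset.mem_insert, Finset.mem_union, Finset.mem_filter, true_and, true_iff, hmemU]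
    by_cases hg : g = 1
    · exact Or.inl hg
    rcases htri g with h' | h' | h'
    · exact Or.inr (Or.inl ⟨h', hg⟩)
    · exact Or.inr (Or.inr (Or.inl h'))
    · exact Or.inr (Or.inr (Or.inr h'))
  have hc := congrArg Finset.card hu
  rw [Finset.card_univ, ← Nat.card_eq_fintype_card, h, Finset.card_insert_of_notMem (by simp [hmemU]),
    Finset.card_union_of_disjoint, Finset.card_union_of_disjoint, h7c, hUc] at hc
  · omega
  · rw [Finset.disjoint_left]
    intro g hg hg'
    obtain ⟨Q, hgQ, hg1⟩ := (hmemU g).1 hg'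
    have := (hord Q g hgQ hg1).1
    rw [(Finset.mem_filter.1 hg).2] at this
    norm_num at this
  · rw [Finset.disjoint_union_right]
    constructor <;> rw [Finset.disjoint_left] <;> intro g hg hg'
    · have := (Finset.mem_filter.1 hg).2.1
      rw [(Finset.mem_filter.1 hg').2] at this
      norm_num at this
    · obtain ⟨Q, hgQ, hg1⟩ := (hmemU g).1 hg'
      have h3 := ((hord Q g hgQ hg1).2).trans (Finset.mem_filter.1 hg).2.1
      norm_num at h3

/-- centralizers of non-identity elements are abelian -/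
theorem s504_comm_transitive : ∀ a b c : G, a ≠ 1 → b ≠ 1 → c ≠ 1 → Commute a b → Commute b c → Commute a c := by
  classical
  haveI : Fact (Nat.Prime 3) := ⟨by norm_num⟩
  haveI : Fact (Nat.Prime 7) := ⟨by norm_num⟩
  haveI : Fact (Nat.Prime 2) := ⟨Nat.prime_two⟩
  obtain ⟨htri, h63⟩ := s504_card_two_part h
  obtain ⟨T⟩ : Nonempty (Sylow 2 G) := inferInstance
  have hT := s504_sylow_two h T
  haveI : Nontrivial (T : Subgroup G) := Finite.one_lt_card_iff_nontrivial.1 (by rw [hT]; norm_num)
  haveI := T.isPGroup'.center_nontrivial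
  obtain ⟨k, hk⟩ := IsPGroup.iff_card.1 (T.isPGroup'.to_subgroup (center (T : Subgroup G)))
  have hk0 : k ≠ 0 := fun e => absurd (Finite.one_lt_card (α := center (T : Subgroup G)))
    (by rw [hk, e, pow_zero]; exact lt_irrefl 1)
  obtain ⟨⟨⟨z, hzT⟩, hzc⟩, hz⟩ := exists_prime_orderOf_dvd_card' (G := center (T : Subgroup G)) 2 (hk ▸ dvd_pow_self 2 hk0)
  rw [Subgroup.orderOf_mk, Subgroup.orderOf_mk] at hz
  have hTle : (T : Subgroup G) ≤ centralizer ({z} : Set G) := fun t ht =>
    mem_centralizer_singleton_iff.2 (congrArg Subtype.val (mem_center_iff.1 hzc ⟨t, ht⟩))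
  have hcard8 : Nat.card (centralizer ({z} : Set G)) = 8 := by
    obtain ⟨m, hm⟩ := hT ▸ card_dvd_of_le hTle
    have hdG : Nat.card (centralizer ({z} : Set G)) ∣ 504 := h ▸ card_subgroup_dvd_card _
    have h3 : ¬ 3 ∣ Nat.card (centralizer ({z} : Set G)) := by
      intro h3
      obtain ⟨y, hy⟩ := exists_prime_orderOf_dvd_card' (G := centralizer ({z} : Set G)) 3 h3
      obtain ⟨Q, hQ⟩ := (IsPGroup.of_card (p := 3) (n := 1) (G := zpowers (y : G))
        (by rw [Nat.card_zpowers, orderOf_coe, hy, pow_one])).exists_le_sylow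
      have hzC : z ∈ centralizer ({(y : G)} : Set G) :=
        mem_centralizer_singleton_iff.2 (mem_centralizer_singleton_iff.1 y.2).symm
      rw [s504_cent_three h (by rw [orderOf_coe, hy]) Q (hQ (mem_zpowers _))] at hzC
      have := Subgroup.orderOf_dvd_natCard _ hzC
      rw [hz, s504_sylow_three h Q] at this
      norm_num at this
    have h7 : ¬ 7 ∣ Nat.card (centralizer ({z} : Set G)) := by
      intro h7
      obtain ⟨x, hx⟩ := exists_prime_orderOf_dvd_card' (G := centralizer ({z} : Set G)) 7 h7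
      have hzC : z ∈ centralizer ({(x : G)} : Set G) :=
        mem_centralizer_singleton_iff.2 (mem_centralizer_singleton_iff.1 x.2).symm
      rw [s504_cent_seven h (by rw [orderOf_coe, hx])] at hzC
      have := Subgroup.orderOf_dvd_natCard _ hzC
      rw [hz, Nat.card_zpowers, orderOf_coe, hx] at this
      norm_num at this
    rw [hm] at hdG h3 h7
    have hd63 : m ∣ 63 := Nat.dvd_of_mul_dvd_mul_left (by norm_num : 0 < 8) hdG
    have hall : ∀ c ∈ Nat.divisors 63, c = 1 ∨ 3 ∣ c ∨ 7 ∣ c := by decide +kernel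
    rcases hall m (Nat.mem_divisors.2 ⟨hd63, by norm_num⟩) with e | e | e
    · omega
    · exact absurd (e.mul_left 8) h3
    · exact absurd (e.mul_left 8) h7
  have hCz : centralizer ({z} : Set G) = (T : Subgroup G) := (eq_of_le_of_card_ge hTle (by rw [hcard8, hT])).symm
  have hclass : ∀ g : G, orderOf g ∣ 8 → g ≠ 1 → IsConj z g := by
    have h1 := card_class_mul_card_centralizer z
    rw [hcard8, h] at h1
    obtain ⟨ι, hι⟩ : ∃ ι : {g : G // IsConj z g} → {g : G // orderOf g ∣ 8 ∧ g ≠ 1}, ∀ g, (ι g : G) = g := by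
      refine ⟨fun g => ⟨g.1, ?_⟩, fun g => rfl⟩
      obtain ⟨u, hu⟩ := isConj_iff.1 g.2
      have ho : orderOf g.1 = 2 := by rw [← hu, orderOf_conj', hz]
      exact ⟨by rw [ho]; norm_num, fun e => by rw [e, orderOf_one] at ho; norm_num at ho⟩
    have hinj : Function.Injective ι := fun a b e => Subtype.ext (by rw [← hι, ← hι, e])
    have hs := ((Nat.bijective_iff_injective_and_card ι).2 ⟨hinj, by rw [h63]; omega⟩).2
    intro g hg hg1
    obtain ⟨a, ha⟩ := hs ⟨g, hg, hg1⟩
    have e : (a : G) = g := by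
      have := congrArg Subtype.val ha
      rwa [hι] at this
    rw [← e]; exact a.2
  have hTsq : ∀ t ∈ (T : Subgroup G), t * t = 1 := by
    intro t ht
    by_cases ht1 : t = 1
    · rw [ht1, mul_one]
    obtain ⟨u, hu⟩ := isConj_iff.1 (hclass t (hT ▸ Subgroup.orderOf_dvd_natCard _ ht) ht1)
    rw [← pow_two, ← orderOf_dvd_iff_pow_eq_one, ← hu, orderOf_conj', hz]
  have hTcomm : ∀ s ∈ (T : Subgroup G), ∀ t ∈ (T : Subgroup G), s * t = t * s := by
    intro s hs t ht
    have e1 := hTsq _ (mul_mem hs ht)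
    calc s * t = s * ((s * t) * (s * t)) * t := by rw [e1, mul_one]
      _ = (s * s) * (t * s) * (t * t) := by group
      _ = t * s := by rw [hTsq s hs, hTsq t ht, one_mul, mul_one]
  intro a b c ha hb hc hab hbc
  have ha' : a ∈ centralizer ({b} : Set G) := mem_centralizer_singleton_iff.2 hab.eq
  have hc' : c ∈ centralizer ({b} : Set G) := mem_centralizer_singleton_iff.2 hbc.symm.eq
  rcases htri b with hb8 | hb7 | ⟨Q, hbQ, -⟩
  · obtain ⟨u, hu⟩ := isConj_iff.1 (hclass b hb8 hb)
    have key : ∀ w, Commute w b → u⁻¹ * w * u ∈ (T : Subgroup G) := by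
      intro w hw
      rw [← hCz, mem_centralizer_singleton_iff]
      have hz' : z = u⁻¹ * b * u := by rw [← hu]; group
      rw [hz']
      calc u⁻¹ * w * u * (u⁻¹ * b * u) = u⁻¹ * (w * b) * u := by group
        _ = u⁻¹ * (b * w) * u := by rw [hw.eq]
        _ = u⁻¹ * b * u * (u⁻¹ * w * u) := by group
    have e := hTcomm _ (key a hab) _ (key c hbc.symm)
    calc a * c = u * ((u⁻¹ * a * u) * (u⁻¹ * c * u)) * u⁻¹ := by group
      _ = u * ((u⁻¹ * c * u) * (u⁻¹ * a * u)) * u⁻¹ := by rw [e]
      _ = c * a := by group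
  · rw [s504_cent_seven h hb7] at ha' hc'
    obtain ⟨i, rfl⟩ := ha'
    obtain ⟨j, rfl⟩ := hc'
    exact ((Commute.refl b).zpow_left i).zpow_right j
  · have h3 : 3 ∣ orderOf b := by
      have hd : orderOf b ∣ 3 ^ 2 := by
        have := s504_sylow_three h Q ▸ Subgroup.orderOf_dvd_natCard _ hbQ
        norm_num; exact this
      obtain ⟨e, -, he⟩ := (Nat.dvd_prime_pow Nat.prime_three).1 hd
      rcases e with _ | e
      · exact absurd (orderOf_eq_one_iff.1 he) hb
      · exact he ▸ dvd_pow_self 3 e.succ_ne_zero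
    have ho : orderOf (b ^ (orderOf b / 3)) = 3 := orderOf_pow_orderOf_div (orderOf_pos b).ne' h3
    have hmem : ∀ w, Commute w b → w ∈ (Q : Subgroup G) := fun w hw => by
      rw [← s504_cent_three h ho Q (pow_mem hbQ _)]
      exact mem_centralizer_singleton_iff.2 (hw.pow_right _).eq
    exact s504_three_comm h Q a (hmem a hab) c (hmem c hbc.symm)

end CfsgLib.Perm.Small
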