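import Mathlib

/-!
# Brodkey's theorem
-/

set_option autoImplicit false

namespace CfsgLib.Perm.Small

open Pointwise

variable {G : Type*} [Group G] {p : ℕ} [Fact p.Prime]

theorem mem_smul_sylow (g x : G) (P : Sylow p G) : x ∈ g • P ↔ g⁻¹ * x * g ∈ P := by
  show x ∈ (g • P : Sylow p G).toSubgroup ↔ _
  rw [Sylow.smul_def, Sylow.pointwise_smul_def, Subgroup.mem_pointwise_smul_iff_inv_smul_mem]
  simp [MulAut.smul_def, mul_assoc]
  rfl

theorem brodkey [Finite G] (hab : ∀ P : Sylow p G, IsMulCommutative ↥(P : Subgroup G)) :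
    ∃ P Q : Sylow p G, (P : Subgroup G) ⊓ (Q : Subgroup G) = ⨅ R : Sylow p G, (R : Subgroup G) := by
  classical
  obtain ⟨⟨P, Q⟩, hmin⟩ := Finite.exists_min
    (fun PQ : Sylow p G × Sylow p G => Nat.card ↥((PQ.1 : Subgroup G) ⊓ PQ.2))
  refine ⟨P, Q, le_antisymm (le_iInf fun R => ?_) (le_inf (iInf_le _ P) (iInf_le _ Q))⟩
  set D := (P : Subgroup G) ⊓ (Q : Subgroup G) with hD
  set C := Subgroup.centralizer (D : Set G)
  have hcomm : ∀ (S : Sylow p G) (a b : G), a ∈ S → b ∈ S → a * b = b * a := fun S a b ha hb =>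
    congrArg Subtype.val ((hab S).is_comm.comm ⟨a, ha⟩ ⟨b, hb⟩)
  have hPC : (P : Subgroup G) ≤ C := fun a ha =>
    Subgroup.mem_centralizer_iff.2 fun d hd => (hcomm P a d ha hd.1).symm
  have hQC : (Q : Subgroup G) ≤ C := fun a ha =>
    Subgroup.mem_centralizer_iff.2 fun d hd => (hcomm Q a d ha hd.2).symm
  let RC : Subgroup C := ((R : Subgroup G) ⊓ C).subgroupOf C
  have hRC : IsPGroup p RC :=
    ((R.isPGroup'.to_le (inf_le_left : (R : Subgroup G) ⊓ C ≤ R)).comap_of_injective C.subtype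
      C.subtype_injective)
  obtain ⟨T, hT⟩ := hRC.exists_le_sylow
  obtain ⟨h, hh⟩ := MulAction.exists_smul_eq C (P.subtype hPC) T
  have hconj : ∀ x : G, x ∈ R → x ∈ C → (h : G)⁻¹ * x * (h : G) ∈ P := by
    intro x hxR hxC
    have h1 : (⟨x, hxC⟩ : C) ∈ h • P.subtype hPC := hh ▸ hT (Subgroup.mem_subgroupOf.2 ⟨hxR, hxC⟩)
    rw [mem_smul_sylow] at h1
    exact h1
  set R' := (h : G)⁻¹ • R with hR'
  have hle : (R' : Subgroup G) ⊓ Q ≤ D := by
    rintro x ⟨hxR, hxQ⟩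
    have h1 : (h : G) * x * (h : G)⁻¹ ∈ R := by
      have := (mem_smul_sylow (h : G)⁻¹ x R).1 hxR
      rwa [inv_inv] at this
    have h2 := hconj _ h1 (C.mul_mem (C.mul_mem h.2 (hQC hxQ)) (C.inv_mem h.2))
    refine ⟨?_, hxQ⟩
    simpa [mul_assoc] using h2
  have heq : (R' : Subgroup G) ⊓ Q = D := Subgroup.eq_of_le_of_card_ge hle (hmin (R', Q))
  intro d hd
  have h1 : d ∈ R' := ((heq.symm ▸ hd : d ∈ (R' : Subgroup G) ⊓ Q)).1
  rw [mem_smul_sylow, inv_inv] at h1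
  have h2 : (h : G) * d * (h : G)⁻¹ = d := by
    rw [← Subgroup.mem_centralizer_iff.1 h.2 d hd]
    group
  rwa [h2] at h1

end CfsgLib.Perm.Small
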