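import Mathlib

/-!
# SL(2) over the integers modulo a power of five
-/

set_option autoImplicit false
set_option linter.all false

namespace CfsgLib.Perm.Small.CongruenceSL

open Matrix
open scoped commutatorElement

variable {R : Type} [CommRing R]

/-- upper unitriangular -/
def up (x : R) : SpecialLinearGroup (Fin 2) R := ⟨!![1, x; 0, 1], by simp [det_fin_two]⟩

/-- lower unitriangular -/
def low (x : R) : SpecialLinearGroup (Fin 2) R := ⟨!![1, 0; x, 1], by simp [det_fin_two]⟩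

/-- diagonal -/
def diag (u : Rˣ) : SpecialLinearGroup (Fin 2) R := ⟨!![(u : R), 0; 0, ((u⁻¹ : Rˣ) : R)], by simp [det_fin_two]⟩

theorem up_coe (x : R) : (up x).1 = !![1, x; 0, 1] := rfl

theorem low_coe (x : R) : (low x).1 = !![1, 0; x, 1] := rfl

theorem diag_coe (u : Rˣ) : (diag u).1 = !![(u : R), 0; 0, ((u⁻¹ : Rˣ) : R)] := rfl

theorem up_mul (x y : R) : up x * up y = up (x + y) := by
  ext i j; fin_cases i <;> fin_cases j <;> simp [up_coe, add_comm]

theorem low_mul (x y : R) : low x * low y = low (x + y) := by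
  ext i j; fin_cases i <;> fin_cases j <;> simp [low_coe, add_comm]

theorem up_zero : up (0 : R) = 1 := by
  ext i j; fin_cases i <;> fin_cases j <;> simp [up_coe]

theorem low_zero : low (0 : R) = 1 := by
  ext i j; fin_cases i <;> fin_cases j <;> simp [low_coe]

theorem up_inv (x : R) : (up x)⁻¹ = up (-x) := inv_eq_of_mul_eq_one_right (by rw [up_mul, add_neg_cancel, up_zero])

theorem low_inv (x : R) : (low x)⁻¹ = low (-x) :=
  inv_eq_of_mul_eq_one_right (by rw [low_mul, add_neg_cancel, low_zero])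

theorem diag_mul (u v : Rˣ) : diag u * diag v = diag (u * v) := by
  ext i j; fin_cases i <;> fin_cases j <;> simp [diag_coe, mul_comm]

theorem diag_one : diag (1 : Rˣ) = 1 := by
  ext i j; fin_cases i <;> fin_cases j <;> simp [diag_coe]

theorem diag_inv (u : Rˣ) : (diag u)⁻¹ = diag u⁻¹ :=
  inv_eq_of_mul_eq_one_right (by rw [diag_mul, mul_inv_cancel, diag_one])

theorem comm_up (u : Rˣ) (x : R) : diag u * up x * (diag u)⁻¹ * (up x)⁻¹ = up (((u : R) ^ 2 - 1) * x) := by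
  rw [diag_inv, up_inv]
  ext i j; fin_cases i <;> fin_cases j <;> simp [diag_coe, up_coe] <;> ring

theorem comm_low (u : Rˣ) (x : R) :
    (diag u)⁻¹ * low x * diag u * (low x)⁻¹ = low (((u : R) ^ 2 - 1) * x) := by
  rw [diag_inv, low_inv]
  ext i j; fin_cases i <;> fin_cases j <;> simp [diag_coe, low_coe] <;> ring

theorem eq_conj_of {G : Type*} [Group G] (g A L B : G) (h : g = A * L * B) : L = A⁻¹ * g * B⁻¹ := by
  subst h
  group

/-- LDU -/
theorem decomp (g : SpecialLinearGroup (Fin 2) R) (a : Rˣ) (ha : g.1 0 0 = a) :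
    g = low (g.1 1 0 * ((a⁻¹ : Rˣ) : R)) * diag a * up (g.1 0 1 * ((a⁻¹ : Rˣ) : R)) := by
  have hd := g.2
  rw [det_fin_two, ha] at hd
  have h := a.mul_inv
  ext i j
  fin_cases i <;> fin_cases j <;> simp [low_coe, diag_coe, up_coe, ha]
  · linear_combination (-(g.1 0 1)) * h
  · linear_combination (((a⁻¹ : Rˣ) : R)) * hd - (g.1 1 1) * h

/-- ULU -/
theorem decomp_lower (g : SpecialLinearGroup (Fin 2) R) (c : Rˣ) (hc : g.1 1 0 = c) :
    g = up ((g.1 0 0 - 1) * ((c⁻¹ : Rˣ) : R)) * low (c : R) * up ((g.1 1 1 - 1) * ((c⁻¹ : Rˣ) : R)) := by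
  have hd := g.2
  rw [det_fin_two, hc] at hd
  have h := c.mul_inv
  ext i j
  fin_cases i <;> fin_cases j <;> simp [low_coe, up_coe, hc]
  · linear_combination -((c⁻¹ : Rˣ) : R) * hd - g.1 0 1 * h
  · linear_combination -(g.1 1 1 - 1) * h

theorem diag_eq (u : Rˣ) :
    diag u = up (u : R) * low (-((u⁻¹ : Rˣ) : R)) * up (u : R) * (up (-1) * low 1 * up (-1)) := by
  have h := u.mul_inv
  ext i j
  fin_cases i <;> fin_cases j <;> simp [diag_coe, low_coe, up_coe] <;> ring_nf <;> simp [h]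

variable (k : ℕ)

/-- reduction modulo five -/
noncomputable def red : ZMod (5 ^ (k + 1)) →+* ZMod 5 := ZMod.castHom (dvd_pow_self 5 k.succ_ne_zero) (ZMod 5)

theorem isUnit_of_red {x : ZMod (5 ^ (k + 1))} (h : red k x ≠ 0) : IsUnit x := by
  rw [← ZMod.natCast_zmod_val x] at h ⊢
  rw [map_natCast, Ne, ZMod.natCast_eq_zero_iff] at h
  rw [ZMod.isUnit_iff_coprime]
  exact Nat.Coprime.pow_right _ ((Nat.prime_five.coprime_iff_not_dvd.2 h).symm)

theorem exists_of_red {x : ZMod (5 ^ (k + 1))} (h : red k x = 0) : ∃ y, x = 5 * y := by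
  rw [← ZMod.natCast_zmod_val x] at h ⊢
  rw [map_natCast, ZMod.natCast_eq_zero_iff] at h
  obtain ⟨m, hm⟩ := h
  exact ⟨(m : ZMod (5 ^ (k + 1))), by rw [hm]; push_cast; rfl⟩

theorem red_five : red k 5 = 0 := by
  rw [map_ofNat]; rfl

theorem closure_step {S : Subgroup (SpecialLinearGroup (Fin 2) (ZMod (5 ^ (k + 1))))}
    (hup : ∀ x, up x ∈ S) (hlow : ∀ x, low x ∈ S) (g : SpecialLinearGroup (Fin 2) (ZMod (5 ^ (k + 1)))) : g ∈ S := by
  have hdiag : ∀ u, diag u ∈ S := fun u => by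
    rw [diag_eq]
    exact S.mul_mem (S.mul_mem (S.mul_mem (hup _) (hlow _)) (hup _)) (S.mul_mem (S.mul_mem (hup _) (hlow _)) (hup _))
  by_cases ha : red k (g.1 0 0) = 0
  · have hc : red k (g.1 1 0) ≠ 0 := fun hc => by
      have := congrArg (red k) g.2
      rw [det_fin_two, map_sub, map_mul, map_mul, ha, hc, map_one, zero_mul, mul_zero, sub_zero] at this
      exact absurd this (by decide)
    obtain ⟨c, hc⟩ := isUnit_of_red k hc
    rw [decomp_lower g c hc.symm]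
    exact S.mul_mem (S.mul_mem (hup _) (hlow _)) (hup _)
  · obtain ⟨a, ha⟩ := isUnit_of_red k ha
    rw [decomp g a ha.symm]
    exact S.mul_mem (S.mul_mem (hlow _) (hdiag _)) (hup _)

theorem perfect : commutator (SpecialLinearGroup (Fin 2) (ZMod (5 ^ (k + 1)))) = ⊤ := by
  have h2 : IsUnit (2 : ZMod (5 ^ (k + 1))) := isUnit_of_red k (by rw [map_ofNat]; decide)
  have h3 : IsUnit (3 : ZMod (5 ^ (k + 1))) := isUnit_of_red k (by rw [map_ofNat]; decide)
  obtain ⟨u, hu⟩ := h2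
  obtain ⟨w, hw⟩ := h3
  have hw' : (u : ZMod (5 ^ (k + 1))) ^ 2 - 1 = w := by rw [hu, hw]; norm_num
  refine eq_top_iff.2 fun g _ => closure_step k (fun x => ?_) (fun x => ?_) g
  · rw [show x = ((u : ZMod (5 ^ (k + 1))) ^ 2 - 1) * (((w⁻¹ : (ZMod (5 ^ (k + 1)))ˣ) : ZMod (5 ^ (k + 1))) * x) by
      rw [hw', ← mul_assoc, Units.mul_inv, one_mul], ← comm_up]
    exact Subgroup.commutator_mem_commutator (Subgroup.mem_top _) (Subgroup.mem_top _)
  · rw [show x = ((u : ZMod (5 ^ (k + 1))) ^ 2 - 1) * (((w⁻¹ : (ZMod (5 ^ (k + 1)))ˣ) : ZMod (5 ^ (k + 1))) * x) by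
      rw [hw', ← mul_assoc, Units.mul_inv, one_mul], ← comm_low]
    have := Subgroup.commutator_mem_commutator (H₁ := ⊤) (H₂ := ⊤) (Subgroup.mem_top (diag u)⁻¹)
      (Subgroup.mem_top (low (((w⁻¹ : (ZMod (5 ^ (k + 1)))ˣ) : ZMod (5 ^ (k + 1))) * x)))
    rw [commutatorElement_def, inv_inv] at this
    exact this

/-- matrices upper triangular modulo five -/
def borel : Subgroup (SpecialLinearGroup (Fin 2) (ZMod (5 ^ (k + 1)))) where
  carrier := {g | red k (g.1 1 0) = 0}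
  one_mem' := by simp
  mul_mem' := fun {a b} ha hb => by
    show red k ((a.1 * b.1) 1 0) = 0
    have ha' : red k (a.1 1 0) = 0 := ha
    have hb' : red k (b.1 1 0) = 0 := hb
    rw [mul_apply, Fin.sum_univ_two, map_add, map_mul, map_mul, ha', hb', zero_mul, mul_zero, add_zero]
  inv_mem' := fun {a} ha => by
    have ha' : red k (a.1 1 0) = 0 := ha
    show red k (a⁻¹.1 1 0) = 0
    rw [show a⁻¹.1 = a.1.adjugate from rfl, adjugate_fin_two]
    simp [ha']

theorem mem_borel {g : SpecialLinearGroup (Fin 2) (ZMod (5 ^ (k + 1)))} : g ∈ borel k ↔ red k (g.1 1 0) = 0 := Iff.rfl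

theorem borel_coatom : IsCoatom (borel k) := by
  refine ⟨fun h => ?_, fun X hX => eq_top_iff.2 fun g _ => ?_⟩
  · have h1 : low (1 : ZMod (5 ^ (k + 1))) ∈ borel k := h ▸ Subgroup.mem_top _
    rw [mem_borel, low_coe] at h1
    simp at h1
    exact absurd h1 (by decide)
  have hup : ∀ x, up x ∈ X := fun x => hX.le (by simp [mem_borel, up_coe])
  obtain ⟨g₀, hgX, hgB⟩ := SetLike.exists_of_lt hX
  obtain ⟨c, hc⟩ := isUnit_of_red k (x := g₀.1 1 0) hgB
  have hlc : low (c : ZMod (5 ^ (k + 1))) ∈ X := by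
    rw [eq_conj_of _ _ _ _ (decomp_lower g₀ c hc.symm)]
    exact X.mul_mem (X.mul_mem (X.inv_mem (hup _)) hgX) (X.inv_mem (hup _))
  have hnat : ∀ m : ℕ, low ((m : ZMod (5 ^ (k + 1))) * c) ∈ X := by
    intro m
    induction m with
    | zero => rw [Nat.cast_zero, zero_mul, low_zero]; exact X.one_mem
    | succ m ih => rw [Nat.cast_succ, add_mul, one_mul, ← low_mul]; exact X.mul_mem ih hlc
  refine closure_step k hup (fun x => ?_) g
  have := hnat (x * ((c⁻¹ : (ZMod (5 ^ (k + 1)))ˣ) : ZMod (5 ^ (k + 1)))).val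
  rwa [ZMod.natCast_zmod_val, mul_assoc, Units.inv_mul, mul_one] at this

/-- congruent to one modulo `c` -/
def CongrOne (c : ZMod (5 ^ (k + 1))) (g : SpecialLinearGroup (Fin 2) (ZMod (5 ^ (k + 1)))) : Prop :=
  ∃ X : Matrix (Fin 2) (Fin 2) (ZMod (5 ^ (k + 1))), g.1 = 1 + c • X

theorem congrOne_pow {c : ZMod (5 ^ (k + 1))} (h5 : ∃ y, c = 5 * y)
    {g : SpecialLinearGroup (Fin 2) (ZMod (5 ^ (k + 1)))} (h : CongrOne k c g) : CongrOne k (5 * c) (g ^ 5) := by
  obtain ⟨y, hy⟩ := h5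
  obtain ⟨X, hX⟩ := h
  refine ⟨X + y • (X * X * (10 • (1 : Matrix (Fin 2) (Fin 2) (ZMod (5 ^ (k + 1)))) + 10 • (c • X) + 5 • (c • X * (c • X)) +
    c • X * (c • X) * (c • X))), ?_⟩
  rw [show (g ^ 5).1 = g.1 ^ 5 from rfl, hX]
  generalize hY : c • X = Y
  have e : (1 + Y) ^ 5 = 1 + 5 • Y + Y * Y * (10 • (1 : Matrix (Fin 2) (Fin 2) (ZMod (5 ^ (k + 1)))) + 10 • Y +
      5 • (Y * Y) + Y * Y * Y) := by
    simp only [pow_succ, pow_zero, one_mul]
    noncomm_ring
  rw [e, smul_add, add_assoc]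
  congr 2
  · rw [← hY, ← Nat.cast_smul_eq_nsmul (ZMod (5 ^ (k + 1))), smul_smul]; norm_num
  · rw [← hY, smul_smul, Matrix.smul_mul, Matrix.mul_smul, smul_smul, Matrix.smul_mul]
    congr 1
    rw [hy]; ring

theorem ker_isPGroup {g : SpecialLinearGroup (Fin 2) (ZMod (5 ^ (k + 1)))} (h : ∀ i j, red k (g.1 i j) = (1 : Matrix (Fin 2) (Fin 2) (ZMod 5)) i j) :
    g ^ 5 ^ k = 1 := by
  have hj : ∀ j, CongrOne k (5 ^ (j + 1)) (g ^ 5 ^ j) := by
    intro j
    induction j with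
    | zero =>
      have : ∀ i j, ∃ y, g.1 i j - (1 : Matrix (Fin 2) (Fin 2) (ZMod (5 ^ (k + 1)))) i j = 5 * y := fun i j => by
        refine exists_of_red k ?_
        rw [map_sub, h, sub_eq_zero]
        rcases eq_or_ne i j with rfl | hij
        · simp
        · simp [one_apply_ne hij]
      choose X hX using this
      refine ⟨Matrix.of X, ?_⟩
      ext i j
      rw [pow_zero, pow_one, pow_one, Matrix.add_apply, Matrix.smul_apply, of_apply, smul_eq_mul, ← hX, add_sub_cancel]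
    | succ j ih =>
      have := congrOne_pow k ⟨5 ^ j, by ring⟩ ih
      rwa [← pow_mul, ← pow_succ, ← pow_succ'] at this
  obtain ⟨X, hX⟩ := hj k
  refine Subtype.ext ?_
  rw [hX, show (5 : ZMod (5 ^ (k + 1))) ^ (k + 1) = ((5 ^ (k + 1) : ℕ) : ZMod (5 ^ (k + 1))) by push_cast; rfl,
    ZMod.natCast_self, zero_smul, add_zero]
  rfl

theorem borel_solvable : Group.IsSolvable (borel k) := by
  let f : borel k →* SpecialLinearGroup (Fin 2) (ZMod 5) := (SpecialLinearGroup.map (red k)).comp (borel k).subtype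
  let ψ₀ : borel k →* ZMod 5 :=
    { toFun := fun g => red k (g.1.1 0 0)
      map_one' := by simp
      map_mul' := fun a b => by
        have hb := b.2
        rw [mem_borel] at hb
        simp [mul_apply, Fin.sum_univ_two, hb] }
  let ψ : borel k →* (ZMod 5)ˣ := ψ₀.toHomUnits
  let ρ : ψ.ker →* Multiplicative (ZMod 5) :=
    { toFun := fun g => Multiplicative.ofAdd (red k (g.1.1.1 0 1))
      map_one' := by simp
      map_mul' := fun a b => by
        have ha : red k (a.1.1.1 0 0) = 1 := congrArg Units.val a.2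
        have hb : red k (b.1.1.1 0 0) = 1 := congrArg Units.val b.2
        have hdet := congrArg (red k) b.1.1.2
        have hc := b.1.2
        rw [mem_borel] at hc
        rw [det_fin_two, map_sub, map_mul, map_mul, hb, hc, mul_zero, sub_zero, one_mul, map_one] at hdet
        simp [mul_apply, Fin.sum_univ_two, ha, hdet, ← ofAdd_add, add_comm] }
  haveI : Fact (Nat.Prime 5) := ⟨Nat.prime_five⟩
  have hker : IsPGroup 5 ρ.ker := by
    intro g
    refine ⟨k, Subtype.ext (Subtype.ext (Subtype.ext ?_))⟩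
    simp only [SubmonoidClass.coe_pow, OneMemClass.coe_one]
    refine ker_isPGroup k fun i j => ?_
    have h00 : red k (g.1.1.1.1 0 0) = 1 := congrArg Units.val g.1.2
    have h01 : red k (g.1.1.1.1 0 1) = 0 := by
      have := congrArg Multiplicative.toAdd g.2
      exact this
    have h10 : red k (g.1.1.1.1 1 0) = 0 := g.1.1.2
    have h11 := congrArg (red k) g.1.1.1.2
    rw [det_fin_two, map_sub, map_mul, map_mul, h00, h01, zero_mul, sub_zero, one_mul, map_one] at h11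
    fin_cases i <;> fin_cases j <;> simp [h00, h01, h10, h11]
  haveI : Finite ρ.ker := inferInstance
  haveI := hker.isNilpotent
  haveI : Group.IsSolvable ρ.ker := inferInstance
  haveI : Group.IsSolvable ψ.ker := solvable_of_ker_le_range ρ.ker.subtype ρ (by rw [Subgroup.range_subtype])
  exact solvable_of_ker_le_range ψ.ker.subtype ψ (by rw [Subgroup.range_subtype])

theorem derived_ne_bot {d : ℕ} (hd : 2 ^ d ≤ k) : derivedSeries (borel k) d ≠ ⊥ := by
  have inv : ∀ n, ∃ c : ZMod (5 ^ (k + 1)), c = 5 ^ 2 ^ n ∧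
      (∀ x, up (c * x) ∈ (derivedSeries (borel k) n).map (borel k).subtype) ∧
      (∀ x, low (c * x) ∈ (derivedSeries (borel k) n).map (borel k).subtype) ∧
      ∃ u w : (ZMod (5 ^ (k + 1)))ˣ, (u : ZMod (5 ^ (k + 1))) ^ 2 - 1 = c * w ∧
        diag u ∈ (derivedSeries (borel k) n).map (borel k).subtype := by
    intro n
    induction n with
    | zero =>
      refine ⟨5, by norm_num, fun x => ?_, fun x => ?_, ?_⟩
      · exact ⟨⟨up (5 * x), by simp [mem_borel, up_coe]⟩, Subgroup.mem_top _, rfl⟩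
      · exact ⟨⟨low (5 * x), by simp [mem_borel, low_coe, red_five]⟩, Subgroup.mem_top _, rfl⟩
      · obtain ⟨u, hu⟩ := isUnit_of_red k (x := 6) (by rw [map_ofNat]; decide)
        obtain ⟨w, hw⟩ := isUnit_of_red k (x := 7) (by rw [map_ofNat]; decide)
        exact ⟨u, w, by rw [hu, hw]; norm_num, ⟨diag u, by simp [mem_borel, diag_coe]⟩, Subgroup.mem_top _, rfl⟩
    | succ n ih =>
      obtain ⟨c, hc, hup, hlow, u, w, huw, hu⟩ := ih
      rw [derivedSeries_succ, Subgroup.map_commutator]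
      generalize (derivedSeries (borel k) n).map (borel k).subtype = S at hup hlow hu
      have hU : ∀ x, up (c ^ 2 * x) ∈ ⁅S, S⁆ := fun x => by
        rw [show c ^ 2 * x = ((u : ZMod (5 ^ (k + 1))) ^ 2 - 1) * (c * (((w⁻¹ : (ZMod (5 ^ (k + 1)))ˣ) : ZMod (5 ^ (k + 1))) * x)) by
          rw [huw, show c * (w : ZMod (5 ^ (k + 1))) * (c * (((w⁻¹ : (ZMod (5 ^ (k + 1)))ˣ) : ZMod (5 ^ (k + 1))) * x)) =
            c ^ 2 * x * ((w : ZMod (5 ^ (k + 1))) * ((w⁻¹ : (ZMod (5 ^ (k + 1)))ˣ) : ZMod (5 ^ (k + 1)))) by ring,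
            Units.mul_inv, mul_one], ← comm_up]
        exact Subgroup.commutator_mem_commutator hu (hup _)
      have hL : ∀ x, low (c ^ 2 * x) ∈ ⁅S, S⁆ := fun x => by
        rw [show c ^ 2 * x = ((u : ZMod (5 ^ (k + 1))) ^ 2 - 1) * (c * (((w⁻¹ : (ZMod (5 ^ (k + 1)))ˣ) : ZMod (5 ^ (k + 1))) * x)) by
          rw [huw, show c * (w : ZMod (5 ^ (k + 1))) * (c * (((w⁻¹ : (ZMod (5 ^ (k + 1)))ˣ) : ZMod (5 ^ (k + 1))) * x)) =
            c ^ 2 * x * ((w : ZMod (5 ^ (k + 1))) * ((w⁻¹ : (ZMod (5 ^ (k + 1)))ˣ) : ZMod (5 ^ (k + 1)))) by ring,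
            Units.mul_inv, mul_one], ← comm_low]
        have := Subgroup.commutator_mem_commutator (S.inv_mem hu) (hlow (((w⁻¹ : (ZMod (5 ^ (k + 1)))ˣ) : ZMod (5 ^ (k + 1))) * x))
        rwa [commutatorElement_def, inv_inv] at this
      have hred : red k c = 0 := by rw [hc, map_pow, red_five, zero_pow (pow_ne_zero n two_ne_zero)]
      obtain ⟨g, hgdef⟩ : ∃ g, g = ⁅up c, low c⁆ := ⟨_, rfl⟩
      have hgS : g ∈ ⁅S, S⁆ := hgdef ▸ Subgroup.commutator_mem_commutator (by simpa using hup 1) (by simpa using hlow 1)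
      have hg : g.1 0 0 = 1 + c ^ 2 + c ^ 4 ∧ g.1 0 1 = -c ^ 3 ∧ g.1 1 0 = c ^ 3 := by
        rw [hgdef, commutatorElement_def, up_inv, low_inv]
        simp [up_coe, low_coe]
        refine ⟨?_, ?_, ?_⟩ <;> ring
      obtain ⟨a, ha⟩ := isUnit_of_red k (x := 1 + c ^ 2 + c ^ 4) (by simp [hred]; decide)
      obtain ⟨w', hw'⟩ := isUnit_of_red k (x := (1 + c ^ 2) * (2 + c ^ 2 + c ^ 4)) (by
        simp [hred, map_ofNat]; decide)
      have hg00 : g.1 0 0 = (a : ZMod (5 ^ (k + 1))) := hg.1.trans ha.symm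
      refine ⟨c ^ 2, by rw [hc, ← pow_mul, ← pow_succ], hU, hL, a, w', by rw [ha, hw']; ring, ?_⟩
      have h2 := eq_conj_of _ _ _ _ (decomp g a hg00)
      rw [h2, hg.2.1, hg.2.2, show c ^ 3 * ((a⁻¹ : (ZMod (5 ^ (k + 1)))ˣ) : ZMod (5 ^ (k + 1))) =
          c ^ 2 * (c * ((a⁻¹ : (ZMod (5 ^ (k + 1)))ˣ) : ZMod (5 ^ (k + 1)))) by ring,
        show -c ^ 3 * ((a⁻¹ : (ZMod (5 ^ (k + 1)))ˣ) : ZMod (5 ^ (k + 1))) =
          c ^ 2 * (-c * ((a⁻¹ : (ZMod (5 ^ (k + 1)))ˣ) : ZMod (5 ^ (k + 1)))) by ring]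
      exact Subgroup.mul_mem _ (Subgroup.mul_mem _ (Subgroup.inv_mem _ (hL _)) hgS) (Subgroup.inv_mem _ (hU _))
  intro h
  obtain ⟨c, hc, hup, -, -⟩ := inv d
  have h1 := hup 1
  rw [h, Subgroup.map_bot, Subgroup.mem_bot, mul_one] at h1
  have h2 := congrArg (fun g : SpecialLinearGroup (Fin 2) (ZMod (5 ^ (k + 1))) => g.1 0 1) h1
  simp only [up_coe, hc, of_apply, cons_val', cons_val_one, cons_val_zero, empty_val'] at h2
  replace h2 : (5 : ZMod (5 ^ (k + 1))) ^ 2 ^ d = 0 := h2.trans (one_apply_ne (by decide))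
  rw [show (5 : ZMod (5 ^ (k + 1))) = ((5 : ℕ) : ZMod (5 ^ (k + 1))) by norm_num,
    ← Nat.cast_pow, ZMod.natCast_eq_zero_iff] at h2
  have := Nat.le_of_dvd (pow_pos (by norm_num) _) h2
  have h3 := (Nat.pow_le_pow_iff_right (by norm_num : 1 < 5)).1 this
  omega

end CfsgLib.Perm.Small.CongruenceSL
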