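import Cfsg.Agent.Lib.Perm.Small.Brodkey

/-!
# No group has twenty-one Sylow 5-subgroups
-/

set_option autoImplicit false
set_option linter.all false

namespace CfsgLib.Perm.Small

open Subgroup MulAction
open scoped commutatorElement

section Parts

variable {G : Type*} [Group G] [Finite G]

theorem card_sylow_index {p : ℕ} [Fact p.Prime] (P : Sylow p G) :
    Nat.card (Sylow p G) = (normalizer ((P : Subgroup G) : Set G)).index := P.card_eq_index_normalizer

theorem inf_norm_sylow {p : ℕ} (P Q : Sylow p G) :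
    (P : Subgroup G) ⊓ normalizer ((Q : Subgroup G) : Set G) = (P : Subgroup G) ⊓ Q :=
  P.isPGroup'.inf_normalizer_sylow Q

theorem relIndex_normal_of_sup {A N : Subgroup G} [N.Normal] (h : A ⊔ N = ⊤) : N.relIndex A = N.index := by
  rw [← Subgroup.relIndex_top_right N, ← h, sup_comm, Subgroup.relIndex_sup_left]

theorem relIndex_of_sup {A N : Subgroup G} [N.Normal] (h : A ⊔ N = ⊤) : A.relIndex N = A.index := by
  have h4 : (A ⊓ N).relIndex N * N.index = (A ⊓ N).index := Subgroup.relIndex_mul_index inf_le_right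
  have h5 : (A ⊓ N).relIndex A * A.index = (A ⊓ N).index := Subgroup.relIndex_mul_index inf_le_left
  rw [Subgroup.inf_relIndex_right] at h4
  rw [inf_comm, Subgroup.inf_relIndex_right, relIndex_normal_of_sup h, inf_comm N A, ← h4, mul_comm] at h5
  exact (Nat.eq_of_mul_eq_mul_right (Nat.pos_of_ne_zero Subgroup.index_ne_zero_of_finite) h5).symm

theorem five_one_or_twentyone [Fact (Nat.Prime 5)] (h : Nat.card (Sylow 5 G) ∣ 21) :
    Nat.card (Sylow 5 G) = 1 ∨ Nat.card (Sylow 5 G) = 21 := by
  have hmod := card_sylow_modEq_one 5 G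
  have hle : Nat.card (Sylow 5 G) ≤ 21 := Nat.le_of_dvd (by norm_num) h
  generalize Nat.card (Sylow 5 G) = n at *
  interval_cases n <;> first | omega | (norm_num at h; done) | (norm_num [Nat.ModEq] at hmod; done)

theorem normal_of_card_sylow_eq_one {p : ℕ} [Fact p.Prime] (h : Nat.card (Sylow p G) = 1) (P : Sylow p G) :
    (P : Subgroup G).Normal := by
  have hidx := card_sylow_index P
  rw [h] at hidx
  exact Subgroup.normalizer_eq_top_iff.1 (Subgroup.index_eq_one.1 hidx.symm)

theorem card_sylow_of_normal {p : ℕ} [Fact p.Prime] (P : Sylow p G) (h : (P : Subgroup G).Normal) :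
    Nat.card (Sylow p G) = 1 := by
  rw [card_sylow_index P, Subgroup.normalizer_eq_top_iff.2 h, Subgroup.index_top]

/-- every even involution centralising an element of order five with a unique fixed point fixes one point -/
theorem five_fixed_point [Fact (Nat.Prime 5)] {Ω : Type*} [Fintype Ω] [DecidableEq Ω] [MulAction G Ω]
    (hΩ : Fintype.card Ω = 21) (P : Subgroup G) (hP : IsPGroup 5 P) (p₀ : Ω) (hP0 : ∀ y ∈ P, y • p₀ = p₀)
    (hPfix : ∀ q : Ω, (∀ y ∈ P, y • q = q) → q = p₀)
    (hsign : ∀ g : G, Equiv.Perm.sign (MulAction.toPermHom G Ω g) = 1)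
    {t : G} (ht2 : t * t = 1) (htne : ∃ q : Ω, t • q ≠ q) (htP : ∀ y ∈ P, t * y = y * t) (ht0 : t • p₀ = p₀) :
    ∀ q : Ω, t • q = q → q = p₀ := by
  classical
  letI : MulAction P {q : Ω // t • q = q} :=
    { smul := fun y q => ⟨(y : G) • (q : Ω), by rw [← mul_smul, htP _ y.2, mul_smul, q.2]⟩
      one_smul := fun q => Subtype.ext (one_smul G (q : Ω))
      mul_smul := fun y z q => Subtype.ext (mul_smul (y : G) (z : G) (q : Ω)) }
  have h1 := hP.card_modEq_card_fixedPoints {q : Ω // t • q = q}
  have hfix : Nat.card (fixedPoints P {q : Ω // t • q = q}) = 1 := by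
    rw [Nat.card_eq_one_iff_unique]
    refine ⟨⟨fun a b => Subtype.ext (Subtype.ext ?_)⟩, ⟨⟨⟨p₀, ht0⟩, fun y => Subtype.ext (hP0 y y.2)⟩⟩⟩
    rw [hPfix (a.1 : Ω) fun y hy => congrArg Subtype.val (a.2 ⟨y, hy⟩),
      hPfix (b.1 : Ω) fun y hy => congrArg Subtype.val (b.2 ⟨y, hy⟩)]
  rw [hfix] at h1
  set τ := MulAction.toPermHom G Ω t with hτ
  have hτ2 : τ ^ 2 = 1 := by rw [pow_two, hτ, ← map_mul, ht2, map_one]
  have hcyc := Equiv.Perm.cycleType_of_pow_prime_eq_one (p := 2) hτ2
  have hsum := τ.sum_cycleType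
  have hs := hsign t
  rw [← hτ, Equiv.Perm.sign_of_cycleType, hcyc, Multiset.sum_replicate, Multiset.card_replicate, smul_eq_mul] at hs
  rw [hcyc, Multiset.sum_replicate, smul_eq_mul] at hsum
  set r := Multiset.card τ.cycleType
  have hr : Even r := by
    rcases Nat.even_or_odd r with h | h
    · exact h
    · rw [Odd.neg_one_pow ((Nat.even_add'.not.2 fun hh => by
        rcases Nat.odd_mul.1 (hh.2 h) with ⟨-, h2⟩
        exact absurd h2 (by decide)) |> Nat.not_even_iff_odd.1)] at hs
      exact absurd hs (by decide)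
  have hF : Nat.card {q : Ω // t • q = q} + τ.support.card = 21 := by
    rw [Nat.card_eq_fintype_card, Fintype.card_subtype, ← hΩ, ← Finset.card_compl_add_card τ.support]
    congr 1
    apply congrArg
    ext q
    simp [hτ, MulAction.toPermHom_apply]
  have hFle : Nat.card {q : Ω // t • q = q} ≠ 21 := fun h21 => by
    obtain ⟨q, hq⟩ := htne
    have hmem : q ∈ τ.support := by simp [hτ, MulAction.toPermHom_apply, hq]
    have := Finset.card_pos.2 ⟨q, hmem⟩
    omega
  have hF1 : Nat.card {q : Ω // t • q = q} = 1 := by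
    obtain ⟨j, hj⟩ := hr
    unfold Nat.ModEq at h1
    omega
  intro q hq
  have := (Nat.card_eq_one_iff_unique.1 hF1).1
  exact congrArg Subtype.val (Subsingleton.elim (⟨q, hq⟩ : {q : Ω // t • q = q}) ⟨p₀, ht0⟩)

end Parts

theorem perm_four : ∀ σ : Equiv.Perm (Fin 4), σ 0 = 0 → Equiv.Perm.sign σ = 1 → σ ^ 8 = 1 → σ = 1 := by
  decide +kernel

/-- an even permutation of a four element set, of two-power order, with a fixed point is trivial -/
theorem perm_four' {V : Type*} [Fintype V] [DecidableEq V] (hV : Fintype.card V = 4) {v₀ : V} {σ : Equiv.Perm V}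
    (h0 : σ v₀ = v₀) (hs : Equiv.Perm.sign σ = 1) {k : ℕ} (hk : σ ^ (2 ^ k) = 1) : σ = 1 := by
  obtain ⟨e⟩ : Nonempty (V ≃ Fin 4) := ⟨Fintype.equivFinOfCardEq hV⟩
  set e' := e.trans (Equiv.swap (e v₀) 0)
  set τ := e'.permCongrHom σ with hτ
  have hk' : τ ^ (2 ^ k) = 1 := by rw [hτ, ← map_pow, hk, map_one]
  have h24 : τ ^ 24 = 1 := by
    have := pow_card_eq_one (x := τ)
    rwa [Fintype.card_perm, Fintype.card_fin] at this
  have h8 : τ ^ 8 = 1 := by
    obtain ⟨i, -, hi⟩ := (Nat.dvd_prime_pow Nat.prime_two).1 (orderOf_dvd_of_pow_eq_one hk')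
    have h := orderOf_dvd_of_pow_eq_one h24
    refine orderOf_dvd_iff_pow_eq_one.1 ?_
    rw [hi] at h ⊢
    have : i ≤ 3 := by
      by_contra hlt
      exact absurd (dvd_trans (pow_dvd_pow 2 (show 4 ≤ i by omega)) h) (by norm_num)
    exact pow_dvd_pow 2 this
  have h1 : τ = 1 := perm_four τ (by
      show e' (σ (e'.symm 0)) = 0
      have : e'.symm 0 = v₀ := by rw [Equiv.symm_apply_eq]; simp [e']
      rw [this, h0]; simp [e'])
    (by rw [hτ]; exact (Equiv.Perm.sign_permCongr e' σ).trans hs) h8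
  exact e'.permCongrHom.injective (h1.trans (map_one _).symm)

section Simple

variable {G : Type*} [Group G] [Finite G]

theorem five_no_simple [IsSimpleGroup G] [Fact (Nat.Prime 5)] (h21 : Nat.card (Sylow 5 G) = 21) : False := by
  classical
  haveI : Fact (Nat.Prime 2) := ⟨Nat.prime_two⟩
  haveI : Fintype (Sylow 5 G) := Fintype.ofFinite _
  have hne : ∀ P : Sylow 5 G, ¬ (P : Subgroup G).Normal := fun P h => by
    rw [card_sylow_of_normal P h] at h21; omega
  have hnidx : ∀ P : Sylow 5 G, (normalizer ((P : Subgroup G) : Set G)).index = 21 := fun P => by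
    rw [← card_sylow_index P, h21]
  have hindex5 : ∀ P Q : Sylow 5 G, P ≠ Q → (Q : Subgroup G).relIndex P = 5 := by
    intro P Q hPQ
    have h1 : (normalizer ((Q : Subgroup G) : Set G)).relIndex P = (Q : Subgroup G).relIndex P := by
      rw [← Subgroup.inf_relIndex_right, inf_comm, inf_norm_sylow P Q, inf_comm,
        Subgroup.inf_relIndex_right]
    have hle : (normalizer ((Q : Subgroup G) : Set G)).relIndex P ≤ 21 := by
      calc _ ≤ (normalizer ((Q : Subgroup G) : Set G)).relIndex ⊤ :=
            Subgroup.relIndex_le_of_le_right le_top (by rw [Subgroup.relIndex_top_right, hnidx Q]; norm_num)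
        _ = 21 := by rw [Subgroup.relIndex_top_right, hnidx Q]
    rw [h1] at hle
    obtain ⟨a, ha⟩ := P.isPGroup'.exists_card_eq
    have hd : (Q : Subgroup G).relIndex P ∣ 5 ^ a := ha ▸ Subgroup.relIndex_dvd_card _ _
    obtain ⟨i, -, hi⟩ := (Nat.dvd_prime_pow (Fact.out : Nat.Prime 5)).1 hd
    rw [hi] at hle ⊢
    rcases i with _ | _ | i
    · exfalso
      rw [pow_zero, Subgroup.relIndex_eq_one] at hi
      exact hPQ (Sylow.ext (P.is_maximal' Q.isPGroup' hi).symm)
    · rfl
    · have h25 : 5 ^ 2 ≤ 5 ^ (i + 1 + 1) := Nat.pow_le_pow_right (by norm_num) (by omega)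
      omega
  -- the intersection of all
  have hD : (⨅ R : Sylow 5 G, (R : Subgroup G)) = ⊥ := by
    haveI : (⨅ R : Sylow 5 G, (R : Subgroup G)).Normal := ⟨fun a ha g => by
      rw [Subgroup.mem_iInf] at ha ⊢
      intro R
      have := (mem_smul_sylow g⁻¹ a R).1 (ha (g⁻¹ • R))
      rwa [inv_inv] at this⟩
    refine ((inferInstance : (⨅ R : Sylow 5 G, (R : Subgroup G)).Normal).eq_bot_or_eq_top).resolve_right fun h => ?_
    obtain ⟨P⟩ : Nonempty (Sylow 5 G) := inferInstance
    have : (P : Subgroup G) = ⊤ := top_le_iff.1 (h ▸ iInf_le _ P)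
    exact hne P (this ▸ inferInstance)
  have hcomm : ∀ P : Sylow 5 G, IsMulCommutative ↥(P : Subgroup G) := by
    refine fun P => ⟨⟨fun a b => ?_⟩⟩
    have hmem : ∀ R : Sylow 5 G, ((a * b * a⁻¹ * b⁻¹ : P) : G) ∈ R := by
      intro R
      by_cases hPR : P = R
      · subst hPR; exact (a * b * a⁻¹ * b⁻¹).2
      let R' := ((R : Subgroup G)).subgroupOf (P : Subgroup G)
      have hidx : R'.index = 5 := hindex5 P R hPR
      haveI : R'.Normal := Subgroup.normal_of_index_eq_minFac_card (by
        rw [hidx]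
        obtain ⟨i, hi⟩ := P.isPGroup'.exists_card_eq
        rcases i with _ | i
        · exfalso
          have h2 : R'.index ∣ Nat.card P := R'.index_dvd_card
          rw [hidx, hi] at h2
          norm_num at h2
        · rw [hi, Nat.pow_minFac (by omega), Nat.Prime.minFac_eq (Fact.out : Nat.Prime 5)])
      haveI : IsCyclic (P ⧸ R') := isCyclic_of_prime_card (p := 5) (by rw [← Subgroup.index_eq_card, hidx])
      letI : CommGroup (P ⧸ R') := IsCyclic.commGroup
      have h0 : QuotientGroup.mk' R' (a * b * a⁻¹ * b⁻¹) = 1 := by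
        simp only [map_mul, map_inv]
        rw [mul_comm (QuotientGroup.mk' R' a) (QuotientGroup.mk' R' b)]
        group
      exact Subgroup.mem_subgroupOf.1 ((QuotientGroup.eq_one_iff _).1 h0)
    have h1 : ((a * b * a⁻¹ * b⁻¹ : P) : G) = 1 := Subgroup.mem_bot.1 (hD ▸ Subgroup.mem_iInf.2 hmem)
    have h2 : a * b * a⁻¹ * b⁻¹ = 1 := Subtype.ext h1
    calc a * b = (a * b * a⁻¹ * b⁻¹) * (b * a) := by group
      _ = b * a := by rw [h2, one_mul]
  obtain ⟨P, Q₀, hPQ⟩ := brodkey hcomm
  rw [hD] at hPQ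
  have hPne : P ≠ Q₀ := fun h => by
    subst h
    rw [inf_idem] at hPQ
    exact hne P (hPQ ▸ inferInstance)
  have hcard : Nat.card P = 5 := by
    have h1 := hindex5 P Q₀ hPne
    rwa [← Subgroup.inf_relIndex_right, inf_comm, hPQ, Subgroup.relIndex_bot_left] at h1
  -- the action on the Sylow subgroups
  haveI : IsCyclic P := isCyclic_of_prime_card hcard
  have hPfix : ∀ R : Sylow 5 G, (∀ y ∈ (P : Subgroup G), y • R = R) → R = P := fun R hR => by
    by_contra hne'
    have h1 := hindex5 P R (Ne.symm hne')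
    rw [Subgroup.relIndex_eq_one.2 fun y hy =>
      (inf_norm_sylow P R ▸ ⟨hy, Sylow.smul_eq_iff_mem_normalizer.1 (hR y hy)⟩ :
        y ∈ (P : Subgroup G) ⊓ R).2] at h1
    omega
  have hP0 : ∀ y ∈ (P : Subgroup G), y • P = P := fun y hy =>
    Sylow.smul_eq_iff_mem_normalizer.2 (Subgroup.le_normalizer hy)
  set N : Subgroup G := normalizer ((P : Subgroup G) : Set G) with hNdef
  have hnonab : ∀ {A : Type} [CommGroup A] (f : G →* A) (g : G), f g = 1 := by
    intro A _ f g
    rcases (MonoidHom.normal_ker f).eq_bot_or_eq_top with h | h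
    · exfalso
      refine hne P ⟨fun x hx y => ?_⟩
      have : y * x = x * y := (f.ker_eq_bot_iff.1 h) (by rw [map_mul, map_mul, mul_comm])
      rw [this, mul_inv_cancel_right]
      exact hx
    · exact MonoidHom.mem_ker.1 (h ▸ Subgroup.mem_top g)
  have hsign : ∀ g : G, Equiv.Perm.sign (MulAction.toPermHom G (Sylow 5 G) g) = 1 :=
    hnonab (Equiv.Perm.sign.comp (MulAction.toPermHom G (Sylow 5 G)))
  have hfaith : ∀ g : G, (∀ R : Sylow 5 G, g • R = R) → g = 1 := by
    intro g hg
    have hk : g ∈ (MulAction.toPermHom G (Sylow 5 G)).ker := MonoidHom.mem_ker.2 (Equiv.ext hg)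
    rcases (MonoidHom.normal_ker (MulAction.toPermHom G (Sylow 5 G))).eq_bot_or_eq_top with h | h
    · exact Subgroup.mem_bot.1 (h ▸ hk)
    · exfalso
      have hall : ∀ y : G, ∀ R : Sylow 5 G, y • R = R := fun y R =>
        congrArg (fun π : Equiv.Perm (Sylow 5 G) => π R) (MonoidHom.mem_ker.1 (h ▸ Subgroup.mem_top y))
      refine hne P (Subgroup.normalizer_eq_top_iff.1 ((Subgroup.eq_top_iff' _).2 fun y =>
        Sylow.smul_eq_iff_mem_normalizer.1 (hall y P)))
  have hΩ : Fintype.card (Sylow 5 G) = 21 := by rw [← Nat.card_eq_fintype_card]; exact h21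
  -- a Sylow two subgroup in the normaliser
  obtain ⟨T⟩ : Nonempty (Sylow 2 N) := inferInstance
  set S0 : Subgroup G := (T : Subgroup N).map N.subtype with hS0
  have hSN : S0 ≤ N := Subgroup.map_subtype_le _
  have hSp : IsPGroup 2 S0 := T.isPGroup'.map N.subtype
  have hSidx : ¬ 2 ∣ S0.index := by
    rw [hS0, Subgroup.index_map_subtype, hnidx P]
    exact Nat.Prime.not_dvd_mul Nat.prime_two T.not_dvd_index (by norm_num)
  set S : Sylow 2 G := hSp.toSylow hSidx with hSdef
  have hSN' : (S : Subgroup G) ≤ N := hSN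
  -- the action on the Sylow five subgroup
  let Φ : N →* (ZMod (Nat.card P))ˣ :=
    (IsCyclic.mulAutMulEquiv (G := P)).toMonoidHom.comp (Subgroup.normalizerMonoidHom (H := (P : Subgroup G)))
  have hΦ : ∀ n : N, Φ n = 1 ↔ ∀ y ∈ (P : Subgroup G), (n : G) * y = y * (n : G) := by
    intro n
    rw [show Φ n = IsCyclic.mulAutMulEquiv (G := P) (Subgroup.normalizerMonoidHom (H := (P : Subgroup G)) n) from rfl,
      MulEquiv.map_eq_one_iff, ← MonoidHom.mem_ker, Subgroup.normalizerMonoidHom_ker, Subgroup.mem_subgroupOf,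
      Subgroup.mem_centralizer_iff]
    exact ⟨fun h y hy => (h y hy).symm, fun h y hy => (h y hy).symm⟩
  let φ : S →* (ZMod (Nat.card P))ˣ := Φ.comp (Subgroup.inclusion hSN')
  have hφ : ∀ s : S, φ s = 1 ↔ ∀ y ∈ (P : Subgroup G), (s : G) * y = y * (s : G) := fun s => hΦ _
  have hSfix : ∀ s : S, (s : G) • P = P := fun s => Sylow.smul_eq_iff_mem_normalizer.2 (hSN' s.2)
  -- centralising involutions
  have hinv : ∀ k : S, φ k = 1 → k ≠ 1 → ∀ R : Sylow 5 G, (k : G) • R = R → R = P := by
    intro k hk hk1 R hR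
    obtain ⟨a, ha⟩ := S.isPGroup' k
    -- an involution among the powers
    have hex : ∃ i : ℕ, k ^ i ≠ 1 ∧ (k ^ i) * (k ^ i) = 1 := by
      obtain ⟨i, hi⟩ : ∃ i, orderOf k = 2 ^ (i + 1) := by
        obtain ⟨i, -, hi⟩ := (Nat.dvd_prime_pow Nat.prime_two).1 (orderOf_dvd_of_pow_eq_one ha)
        rcases i with _ | i
        · exact absurd (orderOf_eq_one_iff.1 (by simpa using hi)) hk1
        · exact ⟨i, hi⟩
      refine ⟨2 ^ i, fun h => ?_, ?_⟩
      · have := Nat.le_of_dvd (by positivity) (orderOf_dvd_of_pow_eq_one h)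
        rw [hi, pow_succ] at this
        have := Nat.pow_pos (n := i) (show 0 < 2 by norm_num)
        omega
      · rw [← pow_add, ← two_mul, ← pow_succ', ← hi, pow_orderOf_eq_one]
    obtain ⟨i, hi1, hi2⟩ := hex
    have hfix : ∀ R' : Sylow 5 G, (k : G) • R' = R' → ((k ^ i : S) : G) • R' = R' := fun R' h' => by
      rw [SubgroupClass.coe_pow]
      induction i with
      | zero => rw [pow_zero, one_smul]
      | succ j ih => rw [pow_succ, mul_smul, h']; exact (show (k : G) ^ j • R' = R' from by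
          clear ih hi1 hi2
          induction j with
          | zero => rw [pow_zero, one_smul]
          | succ l ih => rw [pow_succ, mul_smul, h', ih])
    refine five_fixed_point hΩ (P : Subgroup G) P.isPGroup' P hP0 hPfix hsign
      (t := ((k ^ i : S) : G)) ?_ ?_ ?_ (hfix P (hSfix k)) R (hfix R hR)
    · rw [← Subgroup.coe_mul, hi2, Subgroup.coe_one]
    · by_contra hcon
      push Not at hcon
      exact hi1 (Subtype.ext (hfaith _ hcon))
    · exact (hφ (k ^ i)).1 (by rw [map_pow, hk, one_pow])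
  obtain ⟨R₀, hR₀⟩ : ∃ R : Sylow 5 G, R ≠ P := ⟨Q₀, Ne.symm hPne⟩
  -- the centralising part is small and acts semiregularly
  set V := φ.ker with hV
  let ψ : V × P → {R : Sylow 5 G // R ≠ P} := fun z => ⟨(((z.1 : S) : G) * (z.2 : G)) • R₀, fun h => hR₀ (by
    have hz : (((z.1 : S) : G) * (z.2 : G)) • P = P := by rw [mul_smul, hP0 _ z.2.2, hSfix]
    exact smul_left_cancel _ (h.trans hz.symm))⟩
  have hψ : Function.Injective ψ := by
    rintro ⟨v, y⟩ ⟨v', y'⟩ h
    have hv' : ∀ z ∈ (P : Subgroup G), ((v' : S) : G) * z = z * ((v' : S) : G) := (hφ _).1 v'.2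
    have hvv : ∀ z ∈ (P : Subgroup G), ((v'⁻¹ * v : V) : S).1 * z = z * ((v'⁻¹ * v : V) : S).1 :=
      (hφ _).1 (v'⁻¹ * v).2
    have h1 : (((v : S) : G) * (y : G)) • R₀ = (((v' : S) : G) * (y' : G)) • R₀ := congrArg Subtype.val h
    have h2 : ((((v'⁻¹ * v : V) : S) : G) * ((y'⁻¹ * y : P) : G)) • R₀ = R₀ := by
      have e : (((v'⁻¹ * v : V) : S) : G) * ((y'⁻¹ * y : P) : G) =
          (((v' : S) : G) * (y' : G))⁻¹ * (((v : S) : G) * (y : G)) := by
        rw [Subgroup.coe_mul, Subgroup.coe_mul, Subgroup.coe_mul, Subgroup.coe_inv, Subgroup.coe_inv, Subgroup.coe_inv]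
        have hc := hvv _ (inv_mem y'.2)
        rw [Subgroup.coe_mul, Subgroup.coe_mul, Subgroup.coe_inv, Subgroup.coe_inv] at hc
        calc ((v' : S) : G)⁻¹ * ((v : S) : G) * ((y' : G)⁻¹ * (y : G))
            = (((v' : S) : G)⁻¹ * ((v : S) : G) * (y' : G)⁻¹) * (y : G) := by group
          _ = ((y' : G)⁻¹ * (((v' : S) : G)⁻¹ * ((v : S) : G))) * (y : G) := by rw [hc]
          _ = _ := by group
      rw [e, mul_smul, h1, inv_smul_smul]
    set d : V := v'⁻¹ * v
    set z : P := y'⁻¹ * y
    have hcomm' : Commute ((d : S) : G) (z : G) := hvv _ z.2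
    have hz5 : z ^ 5 = 1 := (congrArg (z ^ ·) hcard).symm.trans pow_card_eq_one'
    have h5 : (((d : S) : G) ^ 5) • R₀ = R₀ := by
      have hp : ∀ j : ℕ, ((((d : S) : G) * (z : G)) ^ j) • R₀ = R₀ := fun j => by
        induction j with
        | zero => rw [pow_zero, one_smul]
        | succ j ih => rw [pow_succ, mul_smul, h2, ih]
      have := hp 5
      rwa [hcomm'.mul_pow, ← SubgroupClass.coe_pow z, hz5, Subgroup.coe_one, mul_one] at this
    have hd5 : (d : S) ^ 5 = 1 := by
      by_contra hne'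
      exact hR₀ (hinv _ (by rw [map_pow, (show φ (d : S) = 1 from d.2), one_pow]) hne' R₀ (by
        rw [SubgroupClass.coe_pow]; exact h5))
    have hd1 : (d : S) = 1 := by
      obtain ⟨a, ha⟩ := S.isPGroup' (d : S)
      have := pow_gcd_eq_one.2 ⟨hd5, ha⟩
      rwa [((Nat.coprime_primes (Fact.out : Nat.Prime 5) Nat.prime_two).2 (by norm_num)).pow_right a, pow_one] at this
    have hd : d = 1 := Subtype.ext hd1
    have hz : z = 1 := by
      have h3 : (z : G) • R₀ = R₀ := by
        rw [hd] at h2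
        simpa using h2
      refine Subtype.ext (Subgroup.mem_bot.1 ?_)
      by_contra hne'
      have hzt : Subgroup.zpowers z = ⊤ := zpowers_eq_top_of_prime_card hcard (fun hh => hne' (by rw [hh]; simp))
      refine hR₀ (hPfix R₀ fun w hw => ?_)
      have hw' : (⟨w, hw⟩ : P) ∈ Subgroup.zpowers z := hzt ▸ Subgroup.mem_top _
      obtain ⟨j, hj⟩ := Subgroup.mem_zpowers_iff.1 hw'
      have hst : (z : G) ∈ MulAction.stabilizer G R₀ := h3
      have := (MulAction.stabilizer G R₀).zpow_mem hst j
      rw [← SubgroupClass.coe_zpow, hj] at this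
      exact this
    rw [inv_mul_eq_one] at hd hz
    rw [hd, hz]
  haveI : Fintype V := Fintype.ofFinite _
  haveI : Fintype P := Fintype.ofFinite _
  have hP5 : Fintype.card P = 5 := by rw [← Nat.card_eq_fintype_card]; exact hcard
  have hΩ' : Fintype.card {R : Sylow 5 G // R ≠ P} = 20 := by
    rw [Fintype.card_subtype_compl, hΩ, Fintype.card_subtype_eq]
  have hVle : Fintype.card V ≤ 4 := by
    have := Fintype.card_le_of_injective ψ hψ
    rw [Fintype.card_prod, hP5, hΩ'] at this
    omega
  obtain ⟨a, ha⟩ := (S.isPGroup'.to_subgroup V).exists_card_eq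
  rw [Nat.card_eq_fintype_card] at ha
  have ha2 : a ≤ 2 := by
    by_contra hlt
    have := Nat.pow_le_pow_right (show 1 ≤ 2 by norm_num) (show 3 ≤ a by omega)
    omega
  -- the centralising part is central
  have hcentral : φ.ker ≤ Subgroup.center S := by
    intro v hv
    rw [Subgroup.mem_center_iff]
    intro s
    have hVn : φ.ker.Normal := MonoidHom.normal_ker φ
    rcases (show a ≤ 1 ∨ a = 2 by omega) with ha1 | rfl
    · -- order at most two
      have hcases : ∀ w : V, w = 1 ∨ (v : S) = 1 ∨ (w : S) = v := by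
        intro w
        by_contra hcon
        push Not at hcon
        have h3 : ({1, w, ⟨v, hv⟩} : Finset V).card = 3 := Finset.card_eq_three.2
          ⟨1, w, ⟨v, hv⟩, hcon.1.symm, fun h => hcon.2.1 (congrArg Subtype.val h).symm,
            fun h => hcon.2.2 (congrArg Subtype.val h), rfl⟩
        have := Finset.card_le_univ ({1, w, ⟨v, hv⟩} : Finset V)
        have := Nat.pow_le_pow_right (show 1 ≤ 2 by norm_num) ha1
        omega
      rcases hcases ⟨s * v * s⁻¹, hVn.conj_mem v hv s⟩ with h | h | h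
      · have h' : s * v * s⁻¹ = 1 := congrArg Subtype.val h
        have : v = 1 := by simpa using h'
        simp [this]
      · simp [h]
      · exact mul_inv_eq_iff_eq_mul.1 h
    · -- order four
      have hVcomm : ∀ x y : V, x * y = y * x :=
        IsPGroup.commutative_of_card_eq_prime_sq (p := 2) (by rw [Nat.card_eq_fintype_card, ha])
      have hbij : Function.Bijective ψ :=
        (Fintype.bijective_iff_injective_and_card ψ).2 ⟨hψ, by rw [Fintype.card_prod, hP5, hΩ', ha]; norm_num⟩
      obtain ⟨⟨v₀, y₀⟩, hsR⟩ := hbij.2 ⟨(s : G) • R₀, fun h => hR₀ (smul_left_cancel _ (h.trans (hSfix s).symm))⟩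
      have hsR' : (((v₀ : S) : G) * (y₀ : G)) • R₀ = (s : G) • R₀ := congrArg Subtype.val hsR
      set n : G := (((v₀ : S) : G) * (y₀ : G))⁻¹ * (s : G)
      have hnR : n • R₀ = R₀ := by rw [mul_smul, ← hsR', inv_smul_smul]
      have hnN : n ∈ N := N.mul_mem (N.inv_mem (N.mul_mem (hSN' (v₀ : S).2) (Subgroup.le_normalizer y₀.2))) (hSN' s.2)
      let cV : Equiv.Perm V :=
        { toFun := fun w => ⟨s * w * s⁻¹, hVn.conj_mem _ w.2 s⟩
          invFun := fun w => ⟨s⁻¹ * w * s, hVn.conj_mem' _ w.2 s⟩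
          left_inv := fun w => Subtype.ext (by show s⁻¹ * (s * (w : S) * s⁻¹) * s = _; group)
          right_inv := fun w => Subtype.ext (by show s * (s⁻¹ * (w : S) * s) * s⁻¹ = _; group) }
      let cP : Equiv.Perm P :=
        { toFun := fun y => ⟨n * y * n⁻¹, (Subgroup.mem_normalizer_iff.1 hnN y).1 y.2⟩
          invFun := fun y => ⟨n⁻¹ * y * n, by
            have := (Subgroup.mem_normalizer_iff.1 (N.inv_mem hnN) y).1 y.2
            rwa [inv_inv] at this⟩
          left_inv := fun y => Subtype.ext (by show n⁻¹ * (n * (y : G) * n⁻¹) * n = _; group)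
          right_inv := fun y => Subtype.ext (by show n * (n⁻¹ * (y : G) * n) * n⁻¹ = _; group) }
      let e : Option (V × P) ≃ Sylow 5 G :=
        (Equiv.optionCongr (Equiv.ofBijective ψ hbij)).trans (Equiv.optionSubtypeNe P)
      have he : ∀ z : V × P, e (some z) = (((z.1 : S) : G) * (z.2 : G)) • R₀ := fun z => rfl
      let π : Equiv.Perm (V × P) :=
        Equiv.prodCongrLeft (fun _ : P => cV) * Equiv.prodCongrRight (fun _ : V => cP)
      have hπ : ∀ w y, π (w, y) = (cV w, cP y) := fun w y => rfl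
      have hperm : MulAction.toPermHom G (Sylow 5 G) n = e.permCongr (Equiv.optionCongr π) := by
        refine Equiv.ext fun R => ?_
        obtain ⟨z, rfl⟩ := e.surjective R
        rw [Equiv.permCongr_apply, Equiv.symm_apply_apply, MulAction.toPermHom_apply, MulAction.toPerm_apply]
        rcases z with _ | ⟨w, y⟩
        · show n • P = P
          exact Sylow.smul_eq_iff_mem_normalizer.2 hnN
        · rw [Equiv.optionCongr_apply, Option.map_some, hπ, he, he]
          show n • ((((w : S) : G) * (y : G)) • R₀) =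
            (((s * (w : S) * s⁻¹ : S) : G) * (n * (y : G) * n⁻¹)) • R₀
          have key : n * ((w : S) : G) * n⁻¹ = ((s * (w : S) * s⁻¹ : S) : G) := by
            set w' : V := ⟨s * (w : S) * s⁻¹, hVn.conj_mem _ w.2 s⟩
            have e1 : (((v₀ : S) : G)) * ((w' : S) : G) = ((w' : S) : G) * ((v₀ : S) : G) := by
              rw [← Subgroup.coe_mul, ← Subgroup.coe_mul, ← Subgroup.coe_mul, ← Subgroup.coe_mul, hVcomm]
            have e2 : ((w' : S) : G) * (y₀ : G) = (y₀ : G) * ((w' : S) : G) := (hφ _).1 w'.2 _ y₀.2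
            have e3 : (s : G) * ((w : S) : G) * (s : G)⁻¹ = ((w' : S) : G) := by
              show _ = ((s * (w : S) * s⁻¹ : S) : G)
              simp
            calc n * ((w : S) : G) * n⁻¹
                = (((v₀ : S) : G) * (y₀ : G))⁻¹ * ((s : G) * ((w : S) : G) * (s : G)⁻¹) *
                    (((v₀ : S) : G) * (y₀ : G)) := by simp only [n]; group
              _ = (((v₀ : S) : G) * (y₀ : G))⁻¹ * (((w' : S) : G) * ((v₀ : S) : G) * (y₀ : G)) := by
                    rw [e3]; group
              _ = (((v₀ : S) : G) * (y₀ : G))⁻¹ * (((v₀ : S) : G) * (((w' : S) : G) * (y₀ : G))) := by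
                    rw [← e1, mul_assoc]
              _ = _ := by rw [e2]; simp [w', mul_assoc]
          rw [← key, show n * ((w : S) : G) * n⁻¹ * (n * (y : G) * n⁻¹) = n * (((w : S) : G) * (y : G)) * n⁻¹ by group,
            mul_smul (n * (((w : S) : G) * (y : G))) n⁻¹ R₀, inv_smul_eq_iff.2 hnR.symm, ← mul_smul n]
      have hs1 := hsign n
      rw [hperm, Equiv.Perm.sign_permCongr, Equiv.optionCongr_sign, map_mul, Equiv.Perm.sign_prodCongrLeft,
        Equiv.Perm.sign_prodCongrRight, Finset.prod_const, Finset.prod_const, Finset.card_univ, Finset.card_univ,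
        hP5, ha] at hs1
      have hsV : Equiv.Perm.sign cV = 1 := by
        rcases Int.units_eq_one_or (Equiv.Perm.sign cV) with h | h
        · exact h
        · rcases Int.units_eq_one_or (Equiv.Perm.sign cP) with h' | h' <;> rw [h, h'] at hs1 <;>
            exact absurd hs1 (by decide)
      have hpow : ∀ j : ℕ, ∀ w : V, (((cV ^ j) w : V) : S) = s ^ j * (w : S) * (s ^ j)⁻¹ := by
        intro j
        induction j with
        | zero => intro w; simp
        | succ j ih =>
          intro w
          rw [pow_succ', Equiv.Perm.mul_apply]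
          show s * (((cV ^ j) w : V) : S) * s⁻¹ = _
          rw [ih, pow_succ']
          group
      obtain ⟨b, hb⟩ := S.isPGroup' s
      have hc1 : cV = 1 := perm_four' (by rw [ha]; norm_num) (v₀ := (1 : V))
        (Subtype.ext (show s * 1 * s⁻¹ = 1 by group)) hsV (k := b)
        (Equiv.ext fun w => Subtype.ext (by rw [hpow, hb]; simp))
      have := congrArg Subtype.val (Equiv.ext_iff.1 hc1 ⟨v, hv⟩)
      exact mul_inv_eq_iff_eq_mul.1 this
  haveI : IsCyclic (ZMod (Nat.card P))ˣ := ZMod.isCyclic_units_prime (by rw [hcard]; norm_num)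
  haveI : IsCyclic φ.range := by infer_instance
  have hSab : ∀ x y : S, x * y = y * x :=
    commutative_of_cyclic_center_quotient φ.rangeRestrict (by rw [MonoidHom.ker_rangeRestrict]; exact hcentral)
  haveI : IsMulCommutative (S : Subgroup G) := ⟨⟨hSab⟩⟩
  -- fusion preserves the action on the five group
  have hfus : ∀ (x : S) (g : G), g⁻¹ * (x : G) * g ∈ S → ∀ hg : g⁻¹ * (x : G) * g ∈ S,
      φ ⟨_, hg⟩ = φ x := by
    intro x g hxg hg
    obtain ⟨n, hn, hne'⟩ := S.conj_eq_normalizer_conj_of_mem (x : G) g x.2 hxg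
    by_cases hnN : n ∈ N
    · have hmem : n⁻¹ * (x : G) * n ∈ N := N.mul_mem (N.mul_mem (N.inv_mem hnN) (hSN' x.2)) hnN
      show Φ ⟨g⁻¹ * (x : G) * g, _⟩ = Φ ⟨(x : G), _⟩
      have : (⟨g⁻¹ * (x : G) * g, hSN' hg⟩ : N) = (⟨n, hnN⟩ : N)⁻¹ * ⟨(x : G), hSN' x.2⟩ * ⟨n, hnN⟩ :=
        Subtype.ext hne'
      rw [this, map_mul, map_mul, map_inv, mul_comm _ (Φ ⟨(x : G), _⟩), mul_assoc, inv_mul_cancel, mul_one]
    · -- the centralising part is trivial
      have hbot : φ.ker = ⊥ := by
        rw [Subgroup.eq_bot_iff_forall]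
        intro t ht
        by_contra ht1
        apply hnN
        have hmem : n⁻¹ * (t : G) * n ∈ (S : Subgroup G) := by
          have := (Subgroup.mem_normalizer_iff.1 (inv_mem hn) (t : G)).1 t.2
          rwa [inv_inv] at this
        refine Sylow.smul_eq_iff_mem_normalizer.1 (hinv t ht ht1 (n • P) ?_)
        have h1 : ((⟨_, hmem⟩ : S) : G) • P = P := hSfix _
        calc (t : G) • (n • P) = n • ((n⁻¹ * (t : G) * n) • P) := by rw [← mul_smul, ← mul_smul]; group
          _ = n • P := by rw [h1]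
      haveI : IsCyclic S := isCyclic_of_injective φ ((MonoidHom.ker_eq_bot_iff φ).1 hbot)
      by_cases htriv : Nat.card S = 1
      · have := (Nat.card_eq_one_iff_unique.1 htriv).1
        exact congrArg φ (Subsingleton.elim _ _)
      have hmin : (Nat.card G).minFac = 2 := by
        obtain ⟨j, hj⟩ := S.isPGroup'.exists_card_eq
        have h2 : 2 ∣ Nat.card G := by
          refine dvd_trans ?_ (Subgroup.card_subgroup_dvd_card (S : Subgroup G))
          rcases j with _ | j
          · exact absurd (by rw [hj, pow_zero]) htriv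
          · rw [hj]; exact dvd_pow_self 2 (by omega)
        exact Nat.minFac_eq_two_iff _ |>.2 h2
      have hc := IsCyclic.normalizer_le_centralizer hmin (P := S) inferInstance hn
      congr 1
      refine Subtype.ext ?_
      show g⁻¹ * (x : G) * g = _
      rw [hne', mul_assoc, Subgroup.mem_centralizer_iff.1 hc (x : G) x.2, inv_mul_cancel_left]
  -- focal subgroup
  have hperfect : _root_.commutator G = ⊤ := by
    rcases (inferInstance : (_root_.commutator G).Normal).eq_bot_or_eq_top with h | h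
    · exfalso
      refine hne P ⟨fun x hx y => ?_⟩
      have h1 : ⁅y, x⁆ = 1 := by
        have hm : ⁅y, x⁆ ∈ _root_.commutator G :=
          Subgroup.commutator_mem_commutator (Subgroup.mem_top y) (Subgroup.mem_top x)
        rw [h] at hm
        exact Subgroup.mem_bot.1 hm
      rw [commutatorElement_eq_one_iff_mul_comm] at h1
      rw [h1, mul_inv_cancel_right]
      exact hx
    · exact h
  have hfoc := Subgroup.commutator_inf_eq_focalSubgroup S
  rw [hperfect, top_inf_eq] at hfoc
  have hφtriv : ∀ x : S, φ x = 1 := by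
    intro x
    have hle : (S : Subgroup G).focalSubgroup ≤ φ.ker.map (S : Subgroup G).subtype := by
      rw [Subgroup.focalSubgroup_def, Subgroup.closure_le]
      rintro _ ⟨hmem, z, hz, u, rfl⟩
      refine ⟨⟨_, hmem⟩, ?_, rfl⟩
      have hconj : u * z⁻¹ * u⁻¹ ∈ (S : Subgroup G) := by
        have := (S : Subgroup G).mul_mem ((S : Subgroup G).inv_mem hz) hmem
        simpa [commutatorElement_def, mul_assoc] using this
      have h1 := hfus ⟨z⁻¹, (S : Subgroup G).inv_mem hz⟩ u⁻¹ (by rw [inv_inv]; exact hconj)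
        (by rw [inv_inv]; exact hconj)
      have heq : (⟨⁅z, u⁆, hmem⟩ : S) = ⟨z, hz⟩ * ⟨u⁻¹⁻¹ * z⁻¹ * u⁻¹, by rw [inv_inv]; exact hconj⟩ :=
        Subtype.ext (by simp [commutatorElement_def, mul_assoc])
      rw [SetLike.mem_coe, MonoidHom.mem_ker, heq, map_mul, h1, ← map_mul]
      exact (congrArg φ (Subtype.ext (mul_inv_cancel z))).trans (map_one φ)
    obtain ⟨x', hx', he⟩ := hle ((SetLike.ext_iff.1 hfoc (x : G)).1 x.2)
    exact (Subtype.ext he : x' = x) ▸ hx'
  -- the normaliser centralises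
  have hNC : ∀ n : N, Φ n = 1 := by
    have h1 : Nat.card Φ.range ∣ 4 := by
      refine dvd_trans (Subgroup.card_subgroup_dvd_card _) ?_
      rw [Nat.card_eq_fintype_card, ZMod.card_units_eq_totient, hcard]
      rw [Nat.totient_prime (by norm_num : Nat.Prime 5)]
    have h2 : Nat.card Φ.range ∣ (T : Subgroup N).index := by
      rw [← Subgroup.index_ker]
      refine Subgroup.index_dvd_of_le fun t ht => ?_
      exact hφtriv ⟨(t : G), ⟨t, ht, rfl⟩⟩
    have h3 : Nat.card Φ.range = 1 := by
      obtain ⟨i, hi4, hi⟩ := (Nat.dvd_prime_pow (i := Nat.card Φ.range) (m := 2) Nat.prime_two).1 (by simpa using h1)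
      rcases i with _ | i
      · simpa using hi
      · exfalso
        exact T.not_dvd_index (dvd_trans (hi ▸ dvd_pow_self 2 (by omega)) h2)
    intro n
    have := (Nat.card_eq_one_iff_unique.1 h3).1
    exact congrArg Subtype.val (Subsingleton.elim (⟨Φ n, ⟨n, rfl⟩⟩ : Φ.range) 1)
  have hNle : N ≤ Subgroup.centralizer ((P : Subgroup G) : Set G) := fun n hn =>
    Subgroup.mem_centralizer_iff.2 fun y hy => ((hΦ ⟨n, hn⟩).1 (hNC _) y hy).symm
  have hcompl := MonoidHom.ker_transferSylow_isComplement' P hNle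
  rcases (MonoidHom.normal_ker (MonoidHom.transferSylow P hNle)).eq_bot_or_eq_top with h | h
  · rw [h, Subgroup.isComplement'_bot_left] at hcompl
    exact hne P (hcompl ▸ inferInstance)
  · rw [h, Subgroup.isComplement'_top_left] at hcompl
    exact hne P (hcompl ▸ inferInstance)

end Simple

section Reduction

variable {G : Type*} [Group G] [Finite G] [Fact (Nat.Prime 5)]

theorem five_quotient_dvd (N : Subgroup G) [N.Normal] (P : Sylow 5 G) :
    Nat.card (Sylow 5 (G ⧸ N)) ∣ Nat.card (Sylow 5 G) := by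
  rw [card_sylow_index (P.mapSurjective (QuotientGroup.mk'_surjective N)), card_sylow_index P]
  refine dvd_trans ?_ (Subgroup.index_map_dvd _ (QuotientGroup.mk'_surjective N))
  refine Subgroup.index_dvd_of_le ?_
  rw [Sylow.coe_mapSurjective]
  exact Subgroup.le_normalizer_map _

theorem five_sub_card {M : Subgroup G} (P : Sylow 5 G) (hPM : (P : Subgroup G) ≤ M) [M.Normal] :
    Nat.card (Sylow 5 M) = Nat.card (Sylow 5 G) := by
  have hall : ∀ R : Sylow 5 G, (R : Subgroup G) ≤ M := by
    intro R x hx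
    obtain ⟨g, rfl⟩ := MulAction.exists_smul_eq G P R
    have h1 := hPM ((mem_smul_sylow g x P).1 hx)
    have h2 := (inferInstance : M.Normal).conj_mem _ h1 g
    simpa [mul_assoc] using h2
  refine (Nat.card_congr (Equiv.ofBijective (fun R : Sylow 5 G => R.subtype (hall R)) ⟨fun R R' h => ?_, fun T => ?_⟩)).symm
  · exact Sylow.subtype_injective h
  · obtain ⟨m, hm⟩ := MulAction.exists_smul_eq M (P.subtype hPM) T
    refine ⟨m • P, ?_⟩
    rw [← hm, Sylow.smul_subtype]

theorem five_normal_sub (N : Subgroup G) [N.Normal] (P : Sylow 5 G) (hsup : (P : Subgroup G) ⊔ N = ⊤) :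
    ∃ T : Sylow 5 N, (T : Subgroup N) = (P : Subgroup G).subgroupOf N ∧
      Nat.card (Sylow 5 N) ∣ Nat.card (Sylow 5 G) := by
  set D := (P : Subgroup G).subgroupOf N with hD
  have hDp : IsPGroup 5 D := P.isPGroup'.comap_of_injective N.subtype N.subtype_injective
  have hidx : ¬ 5 ∣ D.index := by
    show ¬ 5 ∣ (P : Subgroup G).relIndex N
    rw [relIndex_of_sup hsup]
    exact P.not_dvd_index
  refine ⟨hDp.toSylow hidx, rfl, ?_⟩
  rw [card_sylow_index (hDp.toSylow hidx), card_sylow_index P]
  set M := normalizer ((((P : Subgroup G) ⊓ N : Subgroup G)) : Set G)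
  have hPM : normalizer ((P : Subgroup G) : Set G) ≤ M := fun g hg => by
    rw [Subgroup.mem_normalizer_iff] at hg ⊢
    intro x
    refine ⟨fun hx => ⟨(hg x).1 hx.1, (inferInstance : N.Normal).conj_mem _ hx.2 g⟩, fun hx => ⟨(hg x).2 hx.1, ?_⟩⟩
    have := (inferInstance : N.Normal).conj_mem' _ hx.2 g
    simpa [mul_assoc] using this
  refine dvd_trans ?_ (Subgroup.index_dvd_of_le hPM)
  have hsub : normalizer ((D : Subgroup N) : Set N) = M.subgroupOf N := by
    rw [hD, ← Subgroup.inf_subgroupOf_right, Subgroup.subgroupOf_normalizer_eq inf_le_right]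
  show (normalizer ((D : Subgroup N) : Set N)).index ∣ _
  rw [hsub]
  show M.relIndex N ∣ M.index
  have hMN : M ⊔ N = ⊤ := top_le_iff.1 (hsup ▸ sup_le_sup_right (le_trans Subgroup.le_normalizer hPM) N)
  rw [relIndex_of_sup hMN]

theorem five_not_psolvable (N : Subgroup G) [N.Normal] (P : Sylow 5 G) (hsup : (P : Subgroup G) ⊔ N = ⊤)
    (hN5 : ¬ 5 ∣ Nat.card N) (h21 : Nat.card (Sylow 5 G) = 21) : False := by
  haveI : Fact (Nat.Prime 7) := ⟨by norm_num⟩
  obtain ⟨R0⟩ : Nonempty (Sylow 7 N) := inferInstance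
  set R : Subgroup G := (R0 : Subgroup N).map N.subtype with hR
  set H : Subgroup G := normalizer (R : Set G)
  have hHN : H ⊔ N = ⊤ := Sylow.normalizer_sup_eq_top R0
  have hH5 : ¬ 5 ∣ H.index := by
    intro hd
    apply hN5
    have h1 : H.index ∣ Nat.card N := by
      rw [← relIndex_of_sup hHN]
      exact Subgroup.relIndex_dvd_card _ _
    exact hd.trans h1
  obtain ⟨T⟩ : Nonempty (Sylow 5 H) := inferInstance
  set P1 : Sylow 5 G := (T.isPGroup'.map H.subtype).toSylow (by
    rw [Subgroup.index_map_subtype]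
    exact Nat.Prime.not_dvd_mul (by norm_num) T.not_dvd_index hH5)
  have hP1H : (P1 : Subgroup G) ≤ H := Subgroup.map_subtype_le _
  set K := R ⊔ (P1 : Subgroup G)
  haveI hRK : (R.subgroupOf K).Normal :=
    Subgroup.normal_subgroupOf_of_le_normalizer (sup_le Subgroup.le_normalizer hP1H)
  have hP1K : (P1 : Subgroup G) ≤ K := le_sup_right
  have htop : (P1 : Subgroup G).subgroupOf K ⊔ R.subgroupOf K = ⊤ := by
    rw [← Subgroup.subgroupOf_sup hP1K le_sup_left, sup_comm]
    exact Subgroup.subgroupOf_self K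
  set TK : Sylow 5 K := P1.subtype hP1K
  have hdvd : Nat.card (Sylow 5 K) ∣ Nat.card R := by
    refine dvd_trans TK.card_dvd_index ?_
    show ((P1 : Subgroup G).subgroupOf K).index ∣ _
    rw [← relIndex_of_sup htop, ← Nat.card_congr (Subgroup.subgroupOfEquivOfLe
      (show R ≤ K from le_sup_left)).toEquiv]
    exact Subgroup.relIndex_dvd_card _ _
  have hle : Nat.card (Sylow 5 K) ≤ 21 := by
    rw [card_sylow_index TK]
    show (normalizer (((P1 : Subgroup G).subgroupOf K : Subgroup K) : Set K)).index ≤ 21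
    rw [← Subgroup.subgroupOf_normalizer_eq hP1K]
    show (normalizer ((P1 : Subgroup G) : Set G)).relIndex K ≤ 21
    have hidx : (normalizer ((P1 : Subgroup G) : Set G)).index = 21 := by
      rw [← card_sylow_index P1, h21]
    calc _ ≤ (normalizer ((P1 : Subgroup G) : Set G)).relIndex ⊤ :=
          Subgroup.relIndex_le_of_le_right le_top (by rw [Subgroup.relIndex_top_right, hidx]; norm_num)
      _ = 21 := by rw [Subgroup.relIndex_top_right, hidx]
  have hone : Nat.card (Sylow 5 K) = 1 := by
    obtain ⟨a, ha⟩ := (R0.isPGroup'.map N.subtype).exists_card_eq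
    rw [← hR] at ha
    rw [ha] at hdvd
    obtain ⟨i, -, hi⟩ := (Nat.dvd_prime_pow (by norm_num : Nat.Prime 7)).1 hdvd
    have hmod := card_sylow_modEq_one 5 K
    rw [hi] at hmod hle ⊢
    rcases i with _ | _ | i
    · rfl
    · norm_num [Nat.ModEq] at hmod
    · have : 7 ^ 2 ≤ 7 ^ (i + 1 + 1) := Nat.pow_le_pow_right (by norm_num) (by omega)
      omega
  have hnorm := normal_of_card_sylow_eq_one hone TK
  have hKle : K ≤ normalizer ((P1 : Subgroup G) : Set G) :=
    (Subgroup.normal_subgroupOf_iff_le_normalizer hP1K).1 hnorm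
  have h1 : (normalizer ((P1 : Subgroup G) : Set G)).index ∣ R.index :=
    Subgroup.index_dvd_of_le (le_sup_left.trans hKle)
  rw [← card_sylow_index P1, h21, hR, Subgroup.index_map_subtype] at h1
  have h7 : ¬ 7 ∣ N.index := by
    intro h
    have hNi : N.index ∣ Nat.card P := by
      rw [← Subgroup.relIndex_top_right N, ← hsup, sup_comm, Subgroup.relIndex_sup_left]
      exact Subgroup.relIndex_dvd_card _ _
    obtain ⟨a, ha⟩ := P.isPGroup'.exists_card_eq
    have := (by norm_num : Nat.Prime 7).dvd_of_dvd_pow (ha ▸ h.trans hNi : 7 ∣ 5 ^ a)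
    norm_num at this
  exact Nat.Prime.not_dvd_mul (by norm_num) R0.not_dvd_index h7 ((by norm_num : 7 ∣ 21).trans h1)

end Reduction

theorem five_ne_twentyone.{u} : ∀ (n : ℕ) (G : Type u) [Group G] [Finite G], Nat.card G = n →
    Nat.card (Sylow 5 G) ≠ 21 := by
  haveI : Fact (Nat.Prime 5) := ⟨by norm_num⟩
  intro n
  induction n using Nat.strong_induction_on with
  | _ n ih =>
    intro G _ _ hn h21
    obtain ⟨P⟩ : Nonempty (Sylow 5 G) := inferInstance
    have hPn : ¬ (P : Subgroup G).Normal := fun h => by rw [card_sylow_of_normal P h] at h21; omega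
    have hA : ∀ N : Subgroup G, N.Normal → N ≠ ⊥ → (P : Subgroup G) ⊔ N = ⊤ := by
      intro N hN hN0
      by_contra htop
      haveI := hN
      have hlt : Nat.card (G ⧸ N) < n := by
        rw [← hn, Subgroup.card_eq_card_quotient_mul_card_subgroup N]
        exact lt_mul_of_one_lt_right Nat.card_pos ((Subgroup.one_lt_card_iff_ne_bot N).2 hN0)
      have h1 : Nat.card (Sylow 5 (G ⧸ N)) = 1 :=
        (five_one_or_twentyone (h21 ▸ five_quotient_dvd N P)).resolve_right (ih _ hlt (G ⧸ N) rfl)
      haveI : ((P : Subgroup G) ⊔ N).Normal := by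
        have h2 : ((P : Subgroup G).map (QuotientGroup.mk' N)).Normal :=
          normal_of_card_sylow_eq_one h1 (P.mapSurjective (QuotientGroup.mk'_surjective N))
        have h3 := h2.comap (QuotientGroup.mk' N)
        rwa [Subgroup.comap_map_eq, QuotientGroup.ker_mk'] at h3
      refine ih _ (hn ▸ ?_) ↥((P : Subgroup G) ⊔ N) rfl (by rw [five_sub_card P le_sup_left, h21])
      rcases (Subgroup.card_le_card_group ((P : Subgroup G) ⊔ N)).lt_or_eq with h | h
      · exact h
      · exact absurd (Subgroup.card_eq_iff_eq_top _ |>.1 h) htop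
    haveI : Nontrivial G := by
      by_contra h
      haveI : Subsingleton G := not_nontrivial_iff_subsingleton.1 h
      exact hPn ⟨fun x hx g => by rw [Subsingleton.elim (g * x * g⁻¹) x]; exact hx⟩
    haveI : IsSimpleGroup G := ⟨fun N hN => by
      by_contra hcon
      push Not at hcon
      haveI := hN
      have hsup := hA N hN hcon.1
      obtain ⟨T, hT, hdvd⟩ := five_normal_sub N P hsup
      have hlt : Nat.card N < n := by
        rcases (Subgroup.card_le_card_group N).lt_or_eq with h | h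
        · exact hn ▸ h
        · exact absurd (Subgroup.card_eq_iff_eq_top _ |>.1 h) hcon.2
      have h1 : Nat.card (Sylow 5 N) = 1 :=
        (five_one_or_twentyone (h21 ▸ hdvd)).resolve_right (ih _ hlt N rfl)
      have h2 := normal_of_card_sylow_eq_one h1 T
      rw [hT, ← Subgroup.inf_subgroupOf_right, Subgroup.normal_subgroupOf_iff_le_normalizer inf_le_right] at h2
      have hPle : (P : Subgroup G) ≤ normalizer ((((P : Subgroup G) ⊓ N : Subgroup G)) : Set G) := fun g hg => by
        rw [Subgroup.mem_normalizer_iff]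
        intro x
        refine ⟨fun hx => ⟨(P : Subgroup G).mul_mem ((P : Subgroup G).mul_mem hg hx.1) ((P : Subgroup G).inv_mem hg), hN.conj_mem _ hx.2 g⟩, fun hx => ⟨?_, ?_⟩⟩
        · have := (P : Subgroup G).mul_mem ((P : Subgroup G).mul_mem ((P : Subgroup G).inv_mem hg) hx.1) hg
          show x ∈ (P : Subgroup G)
          simpa [mul_assoc] using this
        · have := hN.conj_mem' _ hx.2 g
          simpa [mul_assoc] using this
      have hDn : ((P : Subgroup G) ⊓ N).Normal :=
        Subgroup.normalizer_eq_top_iff.1 (top_le_iff.1 (hsup ▸ sup_le hPle h2))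
      by_cases hD : (P : Subgroup G) ⊓ N = ⊥
      · refine five_not_psolvable N P hsup (fun h5 => ?_) h21
        have hbot : (T : Subgroup N) = ⊥ := by
          rw [hT, ← Subgroup.inf_subgroupOf_right, hD, Subgroup.bot_subgroupOf]
        have := T.not_dvd_index
        rw [hbot, Subgroup.index_bot] at this
        exact this h5
      · have := hA _ hDn hD
        rw [sup_inf_self] at this
        exact hPn (this ▸ inferInstance)⟩
    exact five_no_simple h21

end CfsgLib.Perm.Small
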