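import Cfsg.Agent.Lib.Perm.Small.LineElevenThirteen

/-!
# The simple groups of order 2448, 3420 and 6072 are unique
-/

set_option autoImplicit false

namespace CfsgLib.Perm.SylowLine

/-- The model of the simple group of order `2448`. -/
def modelSeventeen : Subgroup (Equiv.Perm (Option (ZMod 17))) :=
  Subgroup.closure {
    Equiv.optionCongr (Equiv.addRight (1 : ZMod 17)),
    Equiv.optionCongr ⟨fun x : ZMod 17 => 9 * x, fun x => 2 * x, by decide +kernel, by decide +kernel⟩,
    Function.Involutive.toPerm
      (fun o : Option (ZMod 17) => o.elim (some 0) fun x => if x = 0 then none else some (x ^ 15))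
      (by unfold Function.Involutive; decide +kernel)}

instance factSeventeen : Fact (Nat.Prime 17) := ⟨by norm_num⟩

/-- The model of the simple group of order `3420`. -/
def modelNineteen : Subgroup (Equiv.Perm (Option (ZMod 19))) :=
  Subgroup.closure {
    Equiv.optionCongr (Equiv.addRight (1 : ZMod 19)),
    Equiv.optionCongr ⟨fun x : ZMod 19 => 4 * x, fun x => 5 * x, by decide +kernel, by decide +kernel⟩,
    Function.Involutive.toPerm
      (fun o : Option (ZMod 19) => o.elim (some 0) fun x => if x = 0 then none else some (18 * x ^ 17))
      (by unfold Function.Involutive; decide +kernel)}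

instance factNineteen : Fact (Nat.Prime 19) := ⟨by norm_num⟩

/-- The model of the simple group of order `6072`. -/
def modelTwentyThree : Subgroup (Equiv.Perm (Option (ZMod 23))) :=
  Subgroup.closure {
    Equiv.optionCongr (Equiv.addRight (1 : ZMod 23)),
    Equiv.optionCongr ⟨fun x : ZMod 23 => 4 * x, fun x => 6 * x, by decide +kernel, by decide +kernel⟩,
    Function.Involutive.toPerm
      (fun o : Option (ZMod 23) => o.elim (some 0) fun x => if x = 0 then none else some (22 * x ^ 21))
      (by unfold Function.Involutive; decide +kernel)}

instance factTwentyThree : Fact (Nat.Prime 23) := ⟨by norm_num⟩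

variable {G : Type*} [Group G] [Finite G] [IsSimpleGroup G]

theorem equiv_modelSeventeen (hna : ¬ IsMulCommutative G) (h : Nat.card G = 2448) :
    Nonempty (G ≃* modelSeventeen) := by
  refine equiv_closure 8 9 3 7 1 6 (by norm_num)
    (card_sylow_eq_succ hna (m := 144) (by omega) (by norm_num) (by decide +kernel)) (by omega)
    (by decide +kernel) (by decide +kernel) (by decide +kernel) (by decide +kernel) (by decide +kernel)
    (by decide +kernel) _ _ _ (by decide +kernel) (by decide +kernel) (by decide +kernel)

theorem equiv_modelNineteen (hna : ¬ IsMulCommutative G) (h : Nat.card G = 3420) :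
    Nonempty (G ≃* modelNineteen) := by
  refine equiv_closure 9 4 18 8 18 1 (by norm_num)
    (card_sylow_eq_succ hna (m := 180) (by omega) (by norm_num) (by decide +kernel)) (by omega)
    (by decide +kernel) (by decide +kernel) (by decide +kernel) (by decide +kernel) (by decide +kernel)
    (by decide +kernel) _ _ _ (by decide +kernel) (by decide +kernel) (by decide +kernel)

theorem equiv_modelTwentyThree (hna : ¬ IsMulCommutative G) (h : Nat.card G = 6072) :
    Nonempty (G ≃* modelTwentyThree) := by
  refine equiv_closure 11 4 22 10 22 1 (by norm_num)
    (card_sylow_eq_succ hna (m := 264) (by omega) (by norm_num) (by decide +kernel)) (by omega)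
    (by decide +kernel) (by decide +kernel) (by decide +kernel) (by decide +kernel) (by decide +kernel)
    (by decide +kernel) _ _ _ (by decide +kernel) (by decide +kernel) (by decide +kernel)

end CfsgLib.Perm.SylowLine
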