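import Mathlib
import Cfsg.Agent.Lib.Perm.Small.OrderTools
import Cfsg.Agent.Lib.Perm.Small.SylowPrime

/-!
# Groups of order `19 d`, `d` a divisor of 9240, have a normal Sylow 19-subgroup unless simple
-/

set_option autoImplicit false
set_option linter.all false

namespace CfsgLib.Perm.Nineteen

open Cfsg CfsgLib.Perm.PrimeBlock CfsgLib.Perm.SylowPrime
open scoped Pointwise

variable {G : Type*} [Group G] [Finite G]

/-- Divisors of 9240 of size at least 19 have two prime divisors. -/
theorem two_primes : ∀ x ∈ List.range 9241, 9240 % x = 0 → 19 ≤ x →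
    2 ≤ ([2, 3, 5, 7, 11].filter fun q => x % q == 0).length := by
  have h : ∀ a ∈ List.range 97, ∀ b ∈ List.range 97, 9240 % (97 * a + b) = 0 → 19 ≤ 97 * a + b →
      2 ≤ ([2, 3, 5, 7, 11].filter fun q => (97 * a + b) % q == 0).length := by decide +kernel
  intro x hx
  rw [List.mem_range] at hx
  have := h (x / 97) (List.mem_range.2 (by omega)) (x % 97) (List.mem_range.2 (by omega))
  rwa [Nat.div_add_mod] at this

theorem prime_pow_lt {q a : ℕ} (hq : q.Prime) (h : q ^ a ∣ 9240) : q ^ a < 19 := by
  by_contra hlt
  have h2 := two_primes (q ^ a) (List.mem_range.2 (Nat.lt_succ_of_le (Nat.le_of_dvd (by norm_num) h)))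
    (Nat.mod_eq_zero_of_dvd h) (by omega)
  have hsub : ∀ r ∈ [2, 3, 5, 7, 11].filter (fun r => q ^ a % r == 0), r = q := by
    intro r hr
    rw [List.mem_filter, beq_iff_eq] at hr
    have hrp : r.Prime := by
      have := hr.1
      fin_cases this <;> norm_num
    exact (Nat.prime_dvd_prime_iff_eq hrp hq).1 (hrp.dvd_of_dvd_pow (Nat.dvd_of_mod_eq_zero hr.2))
  have hnd : ([2, 3, 5, 7, 11].filter (fun r => q ^ a % r == 0)).Nodup :=
    List.Nodup.filter _ (by decide)
  generalize hl : [2, 3, 5, 7, 11].filter (fun r => q ^ a % r == 0) = l at h2 hsub hnd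
  match l, h2, hsub, hnd with
  | r :: s :: _, _, hsub, hnd =>
    have h1 := hsub r (List.mem_cons_self)
    have h3 := hsub s (List.mem_cons_of_mem _ List.mem_cons_self)
    rw [List.nodup_cons] at hnd
    exact hnd.1 (by rw [h1, ← h3]; exact List.mem_cons_self)

/-- The proper divisors that could give a simple group. -/
theorem divisors_split : ∀ d ∈ List.range 9240, 9240 % d = 0 →
    (d % 2 = 1) ∨ (19 * d % 4 = 2) ∨ ([20, 77, 210, 1540].all fun n => d % n != 0) ∨
      d ∈ [20, 40, 60, 120, 140, 220, 280, 308, 420, 440, 616, 660, 840, 924, 1320, 1540, 1848, 3080, 4620] := by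
  have h : ∀ a ∈ List.range 97, ∀ b ∈ List.range 97, 97 * a + b < 9240 → 9240 % (97 * a + b) = 0 →
      ((97 * a + b) % 2 = 1) ∨ (19 * (97 * a + b) % 4 = 2) ∨
        ([20, 77, 210, 1540].all fun n => (97 * a + b) % n != 0) ∨
      (97 * a + b) ∈ [20, 40, 60, 120, 140, 220, 280, 308, 420, 440, 616, 660, 840, 924, 1320, 1540, 1848, 3080, 4620] := by
    decide +kernel
  intro x hx
  rw [List.mem_range] at hx
  have := h (x / 97) (List.mem_range.2 (by omega)) (x % 97) (List.mem_range.2 (by omega))
  rw [Nat.div_add_mod] at this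
  exact this hx

theorem sylow_options : ∀ n ∈ List.range 9241, 9240 % n = 0 → n % 19 = 1 →
    n = 1 ∨ n ∈ [20, 77, 210, 1540] := by
  have h : ∀ a ∈ List.range 97, ∀ b ∈ List.range 97, 9240 % (97 * a + b) = 0 → (97 * a + b) % 19 = 1 →
      97 * a + b = 1 ∨ (97 * a + b) ∈ [20, 77, 210, 1540] := by decide +kernel
  intro x hx
  rw [List.mem_range] at hx
  have := h (x / 97) (List.mem_range.2 (by omega)) (x % 97) (List.mem_range.2 (by omega))
  rwa [Nat.div_add_mod] at this

theorem card_prime_of_not_dvd [hp : Fact (Nat.Prime 19)] (P : Sylow 19 G) {d : ℕ}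
    (hG : Nat.card G = 19 * d) (hd : ¬ 19 ∣ d) : Nat.card (P : Subgroup G) = 19 := by
  rw [P.card_eq_multiplicity, hG, Nat.factorization_mul (by norm_num) (fun h : d = 0 => hd (h ▸ dvd_zero 19))]
  simp [Nat.Prime.factorization hp.out, Nat.factorization_eq_zero_of_not_dvd hd]

section simple

variable [IsSimpleGroup G]

theorem false_7980 (hG : ¬ IsMulCommutative G) (hg : Nat.card G = 7980) : False := by
  classical
  haveI := Fintype.ofFinite G
  haveI : Fact (Nat.Prime 19) := ⟨by norm_num⟩
  haveI : Fact (Nat.Prime 5) := ⟨by norm_num⟩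
  obtain ⟨P, n, e, c, hmem, hP, hnec, hnS, hC, -, -⟩ :=
    data_of_refutedTwo (G := G) 7980 19 420 90 4 [(210, 2)] hg hG (by norm_num)
      (by norm_num) (by norm_num) (by norm_num) (by norm_num) ⟨2, rfl⟩ (by norm_num) (by decide +kernel)
  simp only [List.mem_singleton, Prod.mk.injEq] at hmem
  obtain ⟨rfl, rfl⟩ := hmem
  obtain rfl : c = 1 := by omega
  obtain ⟨Q, n, e, c, hmem, hQ, hnec, -, hCQ, -, -⟩ :=
    data_of_refutedTwo (G := G) 7980 5 1596 90 4 [(21, 4)] hg hG (by norm_num)
      (by norm_num) (by norm_num) (by norm_num) (by norm_num) ⟨2, rfl⟩ (by norm_num) (by decide +kernel)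
  simp only [List.mem_singleton, Prod.mk.injEq] at hmem
  obtain ⟨rfl, rfl⟩ := hmem
  obtain rfl : c = 19 := by omega
  obtain ⟨x, hx⟩ := exists_prime_orderOf_dvd_card'
    (G := Subgroup.centralizer ((Q : Subgroup G) : Set G)) 19 (by rw [hCQ]; norm_num)
  have hxc : Nat.card (Subgroup.zpowers (x : G)) = 19 := by rw [Nat.card_zpowers, Subgroup.orderOf_coe, hx]
  obtain ⟨R, hR⟩ := (IsPGroup.of_card (n := 1) (hxc.trans (pow_one _).symm)).exists_le_sylow
  have hRe : (R : Subgroup G) = Subgroup.zpowers (x : G) :=
    (Subgroup.eq_of_le_of_card_ge hR (le_of_eq (by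
      rw [hxc]; exact card_prime_of_not_dvd R (d := 420) hg (by norm_num)))).symm
  have hle : (Q : Subgroup G) ≤ Subgroup.centralizer ((R : Subgroup G) : Set G) := by
    intro y hy
    rw [hRe, Subgroup.mem_centralizer_iff]
    rintro _ ⟨i, rfl⟩
    have h1 : Commute (x : G) y := ((Subgroup.mem_centralizer_iff.1 x.2) y hy).symm
    exact (h1.zpow_left i).eq
  have := Subgroup.card_dvd_of_le hle
  rw [hQ, card_centralizer_sylow R P, hC] at this
  norm_num at this

theorem false_58520 (hG : ¬ IsMulCommutative G) (hg : Nat.card G = 58520) : False := by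
  classical
  haveI := Fintype.ofFinite G
  haveI : Fact (Nat.Prime 19) := ⟨by norm_num⟩
  haveI : Fact (Nat.Prime 11) := ⟨by norm_num⟩
  haveI : Fact (Nat.Prime 7) := ⟨by norm_num⟩
  obtain ⟨S, n, e, c, hmem, hS, hnec, -, hCS, -, -⟩ :=
    data_of_refutedTwo (G := G) 58520 7 8360 242 4 [(22, 2), (190, 2)] hg hG (by norm_num)
      (by norm_num) (by norm_num) (by norm_num) (by norm_num) ⟨2, rfl⟩ (by norm_num) (by decide +kernel)
  -- an element centralizing `S` of prime order `r` puts seven into the centralizer of a Sylow `r`-subgroup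
  have key : ∀ (r : ℕ) [Fact r.Prime] (R₀ : Sylow r G), Nat.card (R₀ : Subgroup G) = r →
      r ∣ Nat.card (Subgroup.centralizer ((S : Subgroup G) : Set G)) →
      7 ∣ Nat.card (Subgroup.centralizer ((R₀ : Subgroup G) : Set G)) := by
    intro r hr R₀ hR₀ hdvd
    obtain ⟨x, hx⟩ := exists_prime_orderOf_dvd_card'
      (G := Subgroup.centralizer ((S : Subgroup G) : Set G)) r hdvd
    have hxc : Nat.card (Subgroup.zpowers (x : G)) = r := by rw [Nat.card_zpowers, Subgroup.orderOf_coe, hx]
    obtain ⟨R, hR⟩ := (IsPGroup.of_card (n := 1) (hxc.trans (pow_one _).symm)).exists_le_sylow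
    have hRe : (R : Subgroup G) = Subgroup.zpowers (x : G) :=
      (Subgroup.eq_of_le_of_card_ge hR (le_of_eq (by
        rw [hxc, R.card_eq_multiplicity, ← R₀.card_eq_multiplicity, hR₀]))).symm
    have hle : (S : Subgroup G) ≤ Subgroup.centralizer ((R : Subgroup G) : Set G) := by
      intro y hy
      rw [hRe, Subgroup.mem_centralizer_iff]
      rintro _ ⟨i, rfl⟩
      have h1 : Commute (x : G) y := ((Subgroup.mem_centralizer_iff.1 x.2) y hy).symm
      exact (h1.zpow_left i).eq
    have h := Subgroup.card_dvd_of_le hle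
    rwa [hS, card_centralizer_sylow R R₀] at h
  simp only [List.mem_cons, List.not_mem_nil, or_false, Prod.mk.injEq] at hmem
  rcases hmem with ⟨rfl, rfl⟩ | ⟨rfl, rfl⟩
  · obtain rfl : c = 190 := by omega
    obtain ⟨P, n, e, c, hmem, hP, hnec, hnS, hC, -, -⟩ :=
      data_of_refutedTwo (G := G) 58520 19 3080 242 4 [(20, 2), (77, 2), (1540, 2)] hg hG (by norm_num)
        (by norm_num) (by norm_num) (by norm_num) (by norm_num) ⟨2, rfl⟩ (by norm_num) (by decide +kernel)
    have h7 : 7 ∣ Nat.card (Subgroup.centralizer ((P : Subgroup G) : Set G)) :=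
      key 19 P hP (by rw [hCS]; norm_num)
    simp only [List.mem_cons, List.not_mem_nil, or_false, Prod.mk.injEq] at hmem
    rcases hmem with ⟨rfl, rfl⟩ | ⟨rfl, rfl⟩ | ⟨rfl, rfl⟩
    · obtain ⟨y', hy'⟩ := exists_prime_orderOf_dvd_card'
        (G := Subgroup.centralizer ((P : Subgroup G) : Set G)) 7 h7
      have hyC : (y' : G) ∈ Subgroup.centralizer ((P : Subgroup G) : Set G) := y'.2
      obtain ⟨y, hy⟩ : ∃ y : G, y = (y' : G) := ⟨_, rfl⟩
      rw [← hy] at hyC
      have hyo : orderOf y = 7 := by rw [hy, Subgroup.orderOf_coe, hy']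
      obtain ⟨Y, hY⟩ : ∃ Y, Y = Subgroup.zpowers y := ⟨_, rfl⟩
      have hYp : IsPGroup 7 Y := IsPGroup.of_card (n := 1) (by rw [hY, Nat.card_zpowers, hyo, pow_one])
      obtain ⟨F, hF⟩ : ∃ F : Set (Sylow 19 G), F = MulAction.fixedPoints Y (Sylow 19 G) := ⟨_, rfl⟩
      have hmemF : ∀ R, R ∈ F ↔ y • R = R := by
        intro R
        rw [hF, MulAction.mem_fixedPoints]
        constructor
        · exact fun h => h ⟨y, hY ▸ Subgroup.mem_zpowers y⟩
        · rintro h ⟨v, hv⟩
          show v • R = R
          rw [hY] at hv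
          exact (Subgroup.zpowers_le.2 (MulAction.mem_stabilizer_iff.2 h) hv : v ∈ MulAction.stabilizer G R)
      let Fs : SubMulAction ↥(P : Subgroup G) (Sylow 19 G) :=
        { carrier := F
          smul_mem' := fun a R hR => by
            rw [hmemF] at hR ⊢
            show y • (a : G) • R = (a : G) • R
            rw [← mul_smul, ← Subgroup.mem_centralizer_iff.1 hyC a a.2, mul_smul, hR] }
      have hPF : P ∈ F :=
        (hmemF P).2 (Sylow.smul_eq_iff_mem_normalizer.2 (Subgroup.centralizer_le_normalizer _ hyC))
      have hfix : MulAction.fixedPoints ↥(P : Subgroup G) Fs = {(⟨P, hPF⟩ : Fs)} := by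
        ext ⟨R, hR⟩
        rw [MulAction.mem_fixedPoints, Set.mem_singleton_iff]
        obtain ⟨x', hx'⟩ := exists_prime_orderOf_dvd_card' (G := (P : Subgroup G)) 19 (by rw [hP])
        constructor
        · intro h
          refine Subtype.ext (eq_of_fix hP x'.2 (fun e => ?_) (congrArg Subtype.val (h x')))
          rw [← Subgroup.orderOf_coe, e, orderOf_one] at hx'
          norm_num at hx'
        · rintro h a
          refine Subtype.ext ?_
          show (a : G) • R = R
          rw [Subtype.mk.injEq] at h
          rw [h, Sylow.smul_eq_iff_mem_normalizer]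
          exact Subgroup.le_normalizer a.2
      have h19 := P.isPGroup'.card_modEq_card_fixedPoints Fs
      rw [hfix, show Nat.card ({(⟨P, hPF⟩ : Fs)} : Set Fs) = 1 by simp] at h19
      have h7' := hYp.card_modEq_card_fixedPoints (Sylow 19 G)
      rw [← hF, ← hnS] at h7'
      have hle : Nat.card F ≤ 20 := hnS ▸ Nat.card_le_card_of_injective _ Subtype.val_injective
      have hFs : Nat.card Fs = Nat.card F := rfl
      rw [hFs] at h19
      have h20 : Nat.card F = 20 := by
        simp only [Nat.ModEq] at h7' h19
        generalize Nat.card F = f at h7' h19 hle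
        omega
      have hall : ∀ R : Sylow 19 G, R ∈ F := by
        haveI : Fintype (Sylow 19 G) := Fintype.ofFinite _
        intro R
        have hsurj := ((Nat.bijective_iff_injective_and_card (fun r : F => (r : Sylow 19 G))).2
          ⟨Subtype.val_injective, by rw [h20, ← hnS]⟩).2 R
        obtain ⟨r, rfl⟩ := hsurj
        exact r.2
      have := eq_one_of_fix_all (p := 19) (by rw [← hnS]; norm_num) fun R => (hmemF R).1 (hall R)
      rw [this, orderOf_one] at hyo
      norm_num at hyo
    · obtain rfl : c = 20 := by omega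
      rw [hC] at h7; norm_num at h7
    · obtain rfl : c = 1 := by omega
      rw [hC] at h7; norm_num at h7
  · obtain rfl : c = 22 := by omega
    obtain ⟨P, n, e, c, hmem, hP, hnec, -, hC, -, -⟩ :=
      data_of_refutedTwo (G := G) 58520 11 5320 242 4 [(56, 5), (133, 5), (133, 10)] hg hG (by norm_num)
        (by norm_num) (by norm_num) (by norm_num) (by norm_num) ⟨2, rfl⟩ (by norm_num) (by decide +kernel)
    have h7 : 7 ∣ Nat.card (Subgroup.centralizer ((P : Subgroup G) : Set G)) :=
      key 11 P hP (by rw [hCS]; norm_num)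
    simp only [List.mem_cons, List.not_mem_nil, or_false, Prod.mk.injEq] at hmem
    rcases hmem with ⟨rfl, rfl⟩ | ⟨rfl, rfl⟩ | ⟨rfl, rfl⟩
    · obtain rfl : c = 19 := by omega
      rw [hC] at h7; norm_num at h7
    · obtain rfl : c = 8 := by omega
      rw [hC] at h7; norm_num at h7
    · obtain rfl : c = 4 := by omega
      rw [hC] at h7; norm_num at h7

theorem card_ne_refuted {g : ℕ} (p m B : ℕ) [Fact p.Prime] (hG : ¬ IsMulCommutative G) (hodd : p ≠ 2)
    (hg : g = m * p) (hm : ¬ p ∣ m) (hB : g ≤ B * B) (h2 : 2 ∣ g) (h4 : 4 ∣ g)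
    (h : refutedTwo g m p B 4 [] = true) : Nat.card G ≠ g := fun hc => by
  haveI := Fintype.ofFinite G
  obtain ⟨P, n, e, c, hmem, -⟩ := data_of_refutedTwo (G := G) g p m B 4 [] hc hG hodd hg hm hB h2 ⟨2, rfl⟩ h4 h
  simp at hmem

end simple

/-- no simple group has order `19 d` with several Sylow 19-subgroups -/
theorem card_sylow_eq_one [IsSimpleGroup G] {d : ℕ} (hd : d ∣ 9240) (hlt : d < 9240)
    (hg : Nat.card G = 19 * d) [Fact (Nat.Prime 19)] : Nat.card (Sylow 19 G) = 1 := by
  classical
  have h19 : ¬ 19 ∣ d := fun h => absurd (h.trans hd) (by norm_num)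
  obtain ⟨P⟩ : Nonempty (Sylow 19 G) := inferInstance
  have hP := card_prime_of_not_dvd P hg h19
  have hidx : (P : Subgroup G).index = d := by
    have h := (P : Subgroup G).card_mul_index
    rw [hP, hg] at h
    omega
  have hnd : Nat.card (Sylow 19 G) ∣ d := hidx ▸ P.card_dvd_index
  have hn19 : Nat.card (Sylow 19 G) % 19 = 1 := by
    have := card_sylow_modEq_one 19 G
    simpa [Nat.ModEq] using this
  rcases sylow_options _ (List.mem_range.2 (Nat.lt_succ_of_le (Nat.le_of_dvd (by norm_num) (hnd.trans hd))))
    (Nat.mod_eq_zero_of_dvd (hnd.trans hd)) hn19 with h | hn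
  · exact h
  exfalso
  have hG : ¬ IsMulCommutative G := fun hc => by
    haveI := hc
    haveI := Sylow.unique_of_normal P ⟨fun a ha g => by
      rw [IsMulCommutative.is_comm.comm g a, mul_inv_cancel_right]; exact ha⟩
    rw [Nat.card_unique] at hn
    simp at hn
  rcases divisors_split d (List.mem_range.2 hlt) (Nat.mod_eq_zero_of_dvd hd) with h | h | h | h
  · have hsq : Squarefree (Nat.card G) := by
      have hd' : d ∣ 1155 := by
        have hco : Nat.Coprime d 8 := (Nat.prime_two.coprime_iff_not_dvd.2 (by omega)).symm.pow_right 3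
        exact hco.dvd_of_dvd_mul_right (m := 1155) (by norm_num; exact hd)
      rw [hg]
      refine Squarefree.squarefree_of_dvd (mul_dvd_mul_left 19 hd') ?_
      rw [Nat.squarefree_iff_prime_squarefree]
      intro x hx hxx
      have hle : x ≤ 150 := by
        have := Nat.le_of_dvd (by norm_num) hxx
        nlinarith
      have hall : ∀ y ∈ List.range 151, 2 ≤ y → 19 * 1155 % (y * y) ≠ 0 := by decide +kernel
      exact hall x (List.mem_range.2 (by omega)) hx.two_le (Nat.mod_eq_zero_of_dvd hxx)
    haveI := IsZGroup.of_squarefree hsq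
    exact hG ⟨⟨fun a b => IsSimpleGroup.comm_iff_isSolvable.2 inferInstance a b⟩⟩
  · exact CfsgLib.Invol.card_mod_four_ne_two hG (by rw [hg]; exact h)
  · rw [List.all_eq_true] at h
    exact absurd (Nat.mod_eq_zero_of_dvd hnd) (by simpa using h _ hn)
  · haveI : Fact (Nat.Prime 7) := ⟨by norm_num⟩
    simp only [List.mem_cons, List.not_mem_nil, or_false] at h
    rcases h with rfl | rfl | rfl | rfl | rfl | rfl | rfl | rfl | rfl | rfl | rfl | rfl | rfl | rfl | rfl | rfl |
      rfl | rfl | rfl
    · exact card_ne_refuted 19 20 20 hG (by norm_num) rfl (by norm_num) (by norm_num) (by norm_num) (by norm_num) (by decide +kernel) hg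
    · exact card_ne_refuted 19 40 28 hG (by norm_num) rfl (by norm_num) (by norm_num) (by norm_num) (by norm_num) (by decide +kernel) hg
    · exact card_ne_refuted 19 60 34 hG (by norm_num) rfl (by norm_num) (by norm_num) (by norm_num) (by norm_num) (by decide +kernel) hg
    · exact card_ne_refuted 19 120 48 hG (by norm_num) rfl (by norm_num) (by norm_num) (by norm_num) (by norm_num) (by decide +kernel) hg
    · exact card_ne_refuted 19 140 52 hG (by norm_num) rfl (by norm_num) (by norm_num) (by norm_num) (by norm_num) (by decide +kernel) hg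
    · exact card_ne_refuted 19 220 65 hG (by norm_num) rfl (by norm_num) (by norm_num) (by norm_num) (by norm_num) (by decide +kernel) hg
    · exact card_ne_refuted 19 280 73 hG (by norm_num) rfl (by norm_num) (by norm_num) (by norm_num) (by norm_num) (by decide +kernel) hg
    · exact card_ne_refuted 19 308 77 hG (by norm_num) rfl (by norm_num) (by norm_num) (by norm_num) (by norm_num) (by decide +kernel) hg
    · exact false_7980 hG hg
    · exact card_ne_refuted 19 440 92 hG (by norm_num) rfl (by norm_num) (by norm_num) (by norm_num) (by norm_num) (by decide +kernel) hg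
    · exact card_ne_refuted 19 616 109 hG (by norm_num) rfl (by norm_num) (by norm_num) (by norm_num) (by norm_num) (by decide +kernel) hg
    · exact card_ne_refuted 19 660 112 hG (by norm_num) rfl (by norm_num) (by norm_num) (by norm_num) (by norm_num) (by decide +kernel) hg
    · exact card_ne_refuted 19 840 127 hG (by norm_num) rfl (by norm_num) (by norm_num) (by norm_num) (by norm_num) (by decide +kernel) hg
    · exact card_ne_refuted 19 924 133 hG (by norm_num) rfl (by norm_num) (by norm_num) (by norm_num) (by norm_num) (by decide +kernel) hg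
    · exact card_ne_refuted 19 1320 159 hG (by norm_num) rfl (by norm_num) (by norm_num) (by norm_num) (by norm_num) (by decide +kernel) hg
    · exact card_ne_refuted 19 1540 172 hG (by norm_num) rfl (by norm_num) (by norm_num) (by norm_num) (by norm_num) (by decide +kernel) hg
    · exact card_ne_refuted (g := 19 * 1848) 7 5016 188 hG (by norm_num) (by norm_num) (by norm_num) (by norm_num) (by norm_num) (by norm_num) (by decide +kernel) hg
    · exact false_58520 hG hg
    · exact card_ne_refuted 19 4620 297 hG (by norm_num) rfl (by norm_num) (by norm_num) (by norm_num) (by norm_num) (by decide +kernel) hg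

/-- A normal subgroup containing a normal Sylow subgroup of prime order passes it to the group. -/
theorem normal_of_le {p : ℕ} [Fact p.Prime] (P : Sylow p G) (M : Subgroup G) [M.Normal] (hP : (P : Subgroup G) ≤ M)
    (h : ∀ Q : Sylow p M, (Q : Subgroup M).Normal) : (P : Subgroup G).Normal := by
  refine ⟨fun a ha g => ?_⟩
  have hle : ((g • P : Sylow p G) : Subgroup G) ≤ M := by
    rintro _ ⟨b, hb, rfl⟩
    exact Subgroup.Normal.conj_mem inferInstance b (hP hb) g
  haveI := Sylow.unique_of_normal (P.subtype hP) (h _)
  have he : (g • P).subtype hle = P.subtype hP := Subsingleton.elim _ _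
  have hmem : g * a * g⁻¹ ∈ ((g • P : Sylow p G) : Subgroup G) := ⟨a, ha, rfl⟩
  have : (⟨g * a * g⁻¹, hle hmem⟩ : M) ∈ ((g • P).subtype hle : Subgroup M) := hmem
  rw [he] at this
  exact this

universe u

theorem normal_or_simple (d : ℕ) : ∀ (G : Type u) [Group G] [Finite G], d ∣ 9240 → Nat.card G = 19 * d →
    (d = 9240 ∧ IsSimpleGroup G) ∨ ∀ P : Sylow 19 G, (P : Subgroup G).Normal := by
  classical
  induction d using Nat.strong_induction_on with
  | _ d ih =>
  intro G _ _ hd hg
  haveI h19p : Fact (Nat.Prime 19) := ⟨by norm_num⟩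
  have h19 : ¬ 19 ∣ d := fun h => absurd (h.trans hd) (by norm_num)
  have hd0 : 0 < d := Nat.pos_of_dvd_of_pos hd (by norm_num)
  have hsub : ∀ d', d' ∣ d → d' < d → ∀ (H : Type u) [Group H] [Finite H], Nat.card H = 19 * d' →
      ∀ P : Sylow 19 H, (P : Subgroup H).Normal := by
    intro d' hd' hlt H _ _ hH
    rcases ih d' hlt H (hd'.trans hd) hH with h | h
    · have := Nat.le_of_dvd (by norm_num) hd
      omega
    · exact h
  haveI : Nontrivial G := Finite.one_lt_card_iff_nontrivial.1 (by omega)
  by_cases hs : IsSimpleGroup G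
  · rcases eq_or_ne d 9240 with h | h
    · exact Or.inl ⟨h, hs⟩
    · refine Or.inr fun P => ?_
      have h1 := card_sylow_eq_one (G := G) hd (lt_of_le_of_ne (Nat.le_of_dvd (by norm_num) hd) h) hg
      haveI := (Nat.card_eq_one_iff_unique.1 h1).1
      exact P.normal_of_subsingleton
  · refine Or.inr fun P => ?_
    have hP := card_prime_of_not_dvd P hg h19
    obtain ⟨N, hN, hNb, hNt⟩ : ∃ N : Subgroup G, N.Normal ∧ N ≠ ⊥ ∧ N ≠ ⊤ := by
      by_contra h
      push Not at h
      exact hs ⟨fun N hN => or_iff_not_imp_left.2 (h N hN)⟩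
    haveI := hN
    have hN1 : 1 < Nat.card N := Subgroup.one_lt_card_iff_ne_bot N |>.2 hNb
    have hNlt : Nat.card N < 19 * d := by
      rw [← hg]
      refine lt_of_le_of_ne (Subgroup.card_le_card_group N) fun h => hNt (Subgroup.eq_top_of_card_eq N h)
    have hNd : Nat.card N ∣ 19 * d := hg ▸ N.card_subgroup_dvd_card
    by_cases h19N : 19 ∣ Nat.card N
    · obtain ⟨d', hd'⟩ := h19N
      have hd'd : d' ∣ d := Nat.dvd_of_mul_dvd_mul_left (by norm_num) (hd' ▸ hNd)
      have hle : (P : Subgroup G) ≤ N := by
        intro x hx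
        rw [← QuotientGroup.eq_one_iff, ← orderOf_eq_one_iff]
        have h1 : orderOf (QuotientGroup.mk' N x) ∣ 19 :=
          (orderOf_map_dvd _ x).trans (hP ▸ Subgroup.orderOf_dvd_natCard _ hx)
        have h2 : orderOf (QuotientGroup.mk' N x) ∣ Nat.card (G ⧸ N) := orderOf_dvd_natCard _
        have h3 := N.card_eq_card_quotient_mul_card_subgroup
        rw [hg, hd'] at h3
        rcases (Nat.dvd_prime h19p.out).1 h1 with h | h
        · exact h
        · exfalso
          refine h19 ((h ▸ h2).trans ⟨d', ?_⟩)
          refine Nat.eq_of_mul_eq_mul_left (by norm_num : 0 < 19) ?_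
          rw [h3]; ring
      exact normal_of_le P N hle (hsub d' hd'd (by rw [hd'] at hNlt; omega) ↥N hd')
    · have hcop : Nat.Coprime (Nat.card N) 19 := (h19p.out.coprime_iff_not_dvd.2 h19N).symm
      have hNd' : Nat.card N ∣ d := hcop.dvd_of_dvd_mul_left hNd
      obtain ⟨e, he⟩ := hNd'
      have hQc : Nat.card (G ⧸ N) = 19 * e := by
        have h3 := N.card_eq_card_quotient_mul_card_subgroup
        rw [hg, he] at h3
        refine Nat.eq_of_mul_eq_mul_right (Nat.zero_lt_of_lt hN1) ?_
        rw [← h3]; ring
      have helt : e < d := by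
        rw [he]
        rcases Nat.eq_zero_or_pos e with rfl | h0
        · simp at he; omega
        · nlinarith
      obtain ⟨M, hM⟩ : ∃ M : Subgroup G, M = (P : Subgroup G) ⊔ N := ⟨_, rfl⟩
      haveI hMn : M.Normal := by
        haveI := hsub e ⟨Nat.card N, by rw [he, mul_comm]⟩ helt (G ⧸ N) hQc
          (P.mapSurjective (QuotientGroup.mk'_surjective N))
        have e1 : M = ((P.mapSurjective (QuotientGroup.mk'_surjective N) : Sylow 19 (G ⧸ N)) :
            Subgroup (G ⧸ N)).comap (QuotientGroup.mk' N) := by
          rw [Sylow.coe_mapSurjective, Subgroup.comap_map_eq, QuotientGroup.ker_mk', hM]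
        rw [e1]
        exact Subgroup.Normal.comap this _
      have hPN : Disjoint (P : Subgroup G) N := by
        rw [disjoint_iff, ← Subgroup.card_eq_one]
        exact Nat.eq_one_of_dvd_coprimes hcop (Subgroup.card_dvd_of_le inf_le_right)
          ((Subgroup.card_dvd_of_le inf_le_left).trans hP.dvd)
      have hMc : Nat.card M = 19 * Nat.card N := by
        have h : N.relIndex M = 19 := by
          rw [hM, Subgroup.relIndex_sup_right, ← Subgroup.inf_relIndex_right N, inf_comm, hPN.eq_bot,
            Subgroup.relIndex_bot_left, hP]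
        have h2 := Subgroup.relIndex_mul_relIndex ⊥ N M bot_le (hM ▸ le_sup_right)
        rw [Subgroup.relIndex_bot_left, Subgroup.relIndex_bot_left, h] at h2
        rw [← h2]; ring
      by_cases hNe : Nat.card N = d
      · -- the group is `P N`: every Sylow subgroup of `N` is centralized by a Sylow 19-subgroup
        have hcent : Subgroup.centralizer ((P : Subgroup G) : Set G) = ⊤ := by
          refine Subgroup.eq_top_of_card_eq _ (Nat.dvd_antisymm (Subgroup.card_subgroup_dvd_card _) ?_)
          rw [hg]
          refine Nat.Coprime.mul_dvd_of_dvd_of_dvd (h19p.out.coprime_iff_not_dvd.2 h19) ?_ ?_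
          · refine hP.symm.dvd.trans (Subgroup.card_dvd_of_le fun x hx => Subgroup.mem_centralizer_iff.2 fun y hy => ?_)
            haveI : IsCyclic ↥(P : Subgroup G) := isCyclic_of_prime_card hP
            exact congrArg Subtype.val
              (@mul_comm _ IsCyclic.commGroup.toCommMonoid.toCommMagma ⟨y, hy⟩ ⟨x, hx⟩)
          · rw [Nat.dvd_iff_prime_pow_dvd_dvd]
            intro r k hr hk
            rcases Nat.eq_zero_or_pos k with rfl | hk0
            · simp
            haveI : Fact r.Prime := ⟨hr⟩
            obtain ⟨R₀⟩ : Nonempty (Sylow r N) := inferInstance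
            obtain ⟨R, hR⟩ : ∃ R : Subgroup G, R = (R₀ : Subgroup N).map N.subtype := ⟨_, rfl⟩
            have hRc : r ^ k ∣ Nat.card R := by
              rw [hR, Subgroup.card_map_of_injective N.subtype_injective]
              exact R₀.pow_dvd_card_of_pow_dvd_card (hNe ▸ hk)
            have hRN : Nat.card R ∣ 9240 := by
              refine Nat.dvd_trans ?_ hd
              rw [← hNe, hR, Subgroup.card_map_of_injective N.subtype_injective]
              exact Subgroup.card_subgroup_dvd_card _
            obtain ⟨a, ha⟩ := R₀.isPGroup'.exists_card_eq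
            have hRlt : Nat.card R < 19 := by
              rw [hR, Subgroup.card_map_of_injective N.subtype_injective, ha] at hRN ⊢
              exact prime_pow_lt hr hRN
            have hfr := Sylow.normalizer_sup_eq_top R₀
            rw [← hR] at hfr
            have h19R : 19 ∣ Nat.card (Subgroup.normalizer (R : Set G)) := by
              have h := Subgroup.relIndex_sup_right (H := Subgroup.normalizer (R : Set G)) (K := N)
              rw [hfr, Subgroup.relIndex_top_right] at h
              refine Dvd.dvd.trans ?_ (Subgroup.relIndex_dvd_card N _)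
              rw [← h]
              rw [show N.index = Nat.card (G ⧸ N) from rfl, hQc]
              exact dvd_mul_right _ _
            obtain ⟨x, hx⟩ := exists_prime_orderOf_dvd_card' (G := Subgroup.normalizer (R : Set G)) 19 h19R
            obtain ⟨X, hX⟩ : ∃ X, X = Subgroup.zpowers (x : G) := ⟨_, rfl⟩
            have hXc : Nat.card X = 19 := by rw [hX, Nat.card_zpowers, Subgroup.orderOf_coe, hx]
            obtain ⟨Q, hQ⟩ := (IsPGroup.of_card (n := 1) (hXc.trans (pow_one _).symm)).exists_le_sylow
            have hQe : (Q : Subgroup G) = X := (Subgroup.eq_of_le_of_card_ge hQ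
              (le_of_eq (by rw [hXc]; exact card_prime_of_not_dvd Q hg h19))).symm
            have hRC : R ≤ Subgroup.centralizer ((Q : Subgroup G) : Set G) := by
              intro b hb
              rw [hQe, Subgroup.mem_centralizer_iff]
              have hxb : Commute (x : G) b := by
                by_contra hne
                have hinj : Function.Injective fun i : Fin 19 =>
                    (⟨((x : G) ^ (i : ℕ)) * b * ((x : G) ^ (i : ℕ))⁻¹,
                      (Subgroup.mem_set_normalizer_iff.1 (pow_mem x.2 _) b).1 hb⟩ : R) := by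
                  intro i j hij
                  have hij' := congrArg Subtype.val hij
                  dsimp only at hij'
                  by_contra hne'
                  obtain ⟨u, hu1, hu⟩ : ∃ u : ℕ, ¬ 19 ∣ u ∧ Commute ((x : G) ^ u) b := by
                    rcases lt_or_gt_of_ne (fun h => hne' (Fin.ext h)) with h | h
                    · refine ⟨j - i, fun hdv => ?_, ?_⟩
                      · have := Nat.le_of_dvd (by omega) hdv; omega
                      · have e : (x : G) ^ (j : ℕ) = (x : G) ^ (i : ℕ) * (x : G) ^ ((j : ℕ) - i) := by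
                          rw [← pow_add]; congr 1; omega
                        rw [e] at hij'
                        show _ = _
                        calc (x : G) ^ ((j : ℕ) - i) * b
                            = ((x : G) ^ (i : ℕ))⁻¹ * ((x : G) ^ (i : ℕ) * (x : G) ^ ((j : ℕ) - i) * b *
                              ((x : G) ^ (i : ℕ) * (x : G) ^ ((j : ℕ) - i))⁻¹) * (x : G) ^ (i : ℕ) *
                                (x : G) ^ ((j : ℕ) - i) := by group
                          _ = b * (x : G) ^ ((j : ℕ) - i) := by rw [← hij']; group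
                    · refine ⟨i - j, fun hdv => ?_, ?_⟩
                      · have := Nat.le_of_dvd (by omega) hdv; omega
                      · have e : (x : G) ^ (i : ℕ) = (x : G) ^ (j : ℕ) * (x : G) ^ ((i : ℕ) - j) := by
                          rw [← pow_add]; congr 1; omega
                        rw [e] at hij'
                        show _ = _
                        calc (x : G) ^ ((i : ℕ) - j) * b
                            = ((x : G) ^ (j : ℕ))⁻¹ * ((x : G) ^ (j : ℕ) * (x : G) ^ ((i : ℕ) - j) * b *
                              ((x : G) ^ (j : ℕ) * (x : G) ^ ((i : ℕ) - j))⁻¹) * (x : G) ^ (j : ℕ) *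
                                (x : G) ^ ((i : ℕ) - j) := by group
                          _ = b * (x : G) ^ ((i : ℕ) - j) := by rw [hij']; group
                  refine hne ?_
                  have hxo : orderOf (x : G) = 19 := by rw [Subgroup.orderOf_coe, hx]
                  obtain ⟨v, hv⟩ := exists_pow_eq_self_of_coprime (n := u) (x := (x : G))
                    (hxo ▸ (h19p.out.coprime_iff_not_dvd.2 hu1).symm)
                  exact hv ▸ hu.pow_left v
                have := Nat.card_le_card_of_injective _ hinj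
                rw [Nat.card_eq_fintype_card, Fintype.card_fin] at this
                omega
              rintro _ hy
              rw [hX] at hy
              obtain ⟨i, rfl⟩ := hy
              exact (hxb.zpow_left i).eq
            exact hRc.trans (card_centralizer_sylow P Q ▸ Subgroup.card_dvd_of_le hRC)
        refine ⟨fun a ha g => ?_⟩
        have hgC : g ∈ Subgroup.centralizer ((P : Subgroup G) : Set G) := hcent ▸ Subgroup.mem_top g
        rw [← Subgroup.mem_centralizer_iff.1 hgC a ha, mul_inv_cancel_right]
        exact ha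
      · have hlt : Nat.card N < d :=
          lt_of_le_of_ne (Nat.le_of_dvd hd0 (Dvd.intro e he.symm)) hNe
        exact normal_of_le P M (hM ▸ le_sup_left) (hsub _ (Dvd.intro e he.symm) hlt ↥M hMc)

end CfsgLib.Perm.Nineteen
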