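import Mathlib
import Cfsg.Agent.Lib.Perm.Small.CentralizerTest
import Cfsg.Agent.Lib.Perm.Small.OrbitCentralizer
import Cfsg.Agent.Lib.Perm.Small.Count
import Cfsg.Agent.Lib.Invol.SmallSimple

/-!
# No simple group of order 459648
-/

set_option autoImplicit false
set_option linter.style.haveILetI false

namespace CfsgLib.Perm.PrimeBlock.Order459648

open Cfsg CfsgLib.Block CfsgLib.Perm.PrimeBlock

attribute [-simp] Nat.card_eq_fintype_card

theorem sylow_numbers : ((List.range 24193).all fun n =>
    !(n % 19 == 1 && 24192 % n == 0) || [1, 96, 1008].contains n) = true := by decide +kernel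

theorem parameters : ([96, 1008].all fun n => (List.range 19).all fun e =>
    !(decide (2 ≤ e) && 18 % e == 0 && (24192 / n) % e == 0) ||
      !possible 459648 24192 19 e (24192 / n / e) 678 ||
        (n == 96 && (24192 / n / e) % 7 == 0) || (n == 1008 && e == 6)) = true := by decide +kernel

theorem no_small_centralizer : centPossible 459648 24192 19 6 678 8777 = false := by decide +kernel

theorem centralizer_orders : ((List.range 6049).all fun n => [76, 152, 228, 456].all fun r =>
    !(n % 19 == 1 && decide (8778 ≤ n * r) && 459648 % (n * r) == 0) ||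
      [1, 2, 3, 6, 21].contains (459648 / (n * r))) = true := by decide +kernel

variable {G : Type*} [Group G] [Finite G] [IsSimpleGroup G]

/-- A subgroup of index 21 containing `P`. -/
theorem index_ne_twentyOne {P : Subgroup G} (hG : ¬ IsMulCommutative G) (hP : Nat.card P = 19)
    (hC : Nat.card (Subgroup.centralizer (P : Set G)) = 19 * 4) (H : Subgroup G) : H.index ≠ 21 := by
  intro hi
  haveI : Fact (Nat.Prime 19) := ⟨by norm_num⟩
  have hne : H ≠ ⊤ := fun h => by rw [h, Subgroup.index_top] at hi; norm_num at hi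
  haveI : FaithfulSMul G (G ⧸ H) := by
    refine faithful_of_nontrivial ?_
    obtain ⟨g, hg⟩ := SetLike.exists_not_mem_of_ne_top H hne rfl
    refine ⟨g, ((1 : G) : G ⧸ H), fun h => hg ?_⟩
    have h' : ((g * 1 : G) : G ⧸ H) = ((1 : G) : G ⧸ H) := h
    simpa [QuotientGroup.eq] using h'
  have hd := dvd_factorial_orbits (α := G ⧸ H) hP hC (by norm_num)
  have ho := card_orbits (α := G ⧸ H) (P := P) hP rfl
  have hcard : Nat.card (G ⧸ H) = 21 := hi
  have hle : Nat.card (MulAction.fixedPoints P (G ⧸ H)) ≤ 21 :=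
    hcard ▸ Finite.card_subtype_le _
  have hlt : Nat.card (MulAction.fixedPoints P (G ⧸ H)) ≠ 21 := by
    intro h
    haveI : Nontrivial P := Finite.one_lt_card_iff_nontrivial.1 (by rw [hP]; norm_num)
    obtain ⟨x, hx⟩ := exists_ne (1 : P)
    refine hx (Subtype.ext (FaithfulSMul.eq_of_smul_eq_smul (α := G ⧸ H) fun a => ?_))
    have ha : a ∈ MulAction.fixedPoints P (G ⧸ H) := by
      rw [Set.eq_univ_of_forall (s := MulAction.fixedPoints P (G ⧸ H)) fun b => ?_]
      · trivial
      · by_contra hb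
        have := Finite.card_subtype_lt (p := fun b => b ∈ MulAction.fixedPoints P (G ⧸ H)) hb
        rw [hcard] at this
        exact absurd h this.ne
    rw [Subgroup.coe_one, one_smul]
    exact ha x
  have aux : ∀ k f : ℕ, 19 * k = 21 + (19 - 1) * f → f ≤ 21 → f ≠ 21 → k ≤ 3 := by
    intro k f h1 h2 h3
    interval_cases f <;> omega
  have h3 := aux _ _ (hcard ▸ ho) hle hlt
  exact absurd (hd.trans (Nat.factorial_dvd_factorial h3)) (by decide)

theorem card_ne : Nat.card G ≠ 459648 := by
  intro hcard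
  classical
  haveI : Fact (Nat.Prime 19) := ⟨by norm_num⟩
  haveI : Fact (Nat.Prime 2) := ⟨Nat.prime_two⟩
  haveI := Fintype.ofFinite G
  have hG : ¬ IsMulCommutative G := fun hc => by
    haveI := hc
    letI : CommGroup G :=
      { (inferInstance : Group G) with mul_comm := fun a b => IsMulCommutative.is_comm.comm a b }
    exact (by norm_num : ¬ Nat.Prime 459648) (hcard ▸ (IsSimpleGroup.prime_card (α := G)))
  obtain ⟨P, n, e, c, hP, hn, hn1, hn1', -, he2, hep, hC, hN, hnS, ⟨S⟩⟩ :=
    exists_data hG 19 24192 (by norm_num) (by rw [hcard]) (by norm_num)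
  have hc7 : ¬ 19 ∣ c := fun h => by
    have h' : 19 ∣ 24192 := hn ▸ h.trans ((dvd_mul_left c e).trans (dvd_mul_left _ n))
    norm_num at h'
  have hposs := S.possible_eq hG hP (by rw [hcard] : Nat.card G = 24192 * 19) hep he2 hC hc7
    (B := 678) (by rw [hcard]; norm_num)
  rw [hcard] at hposs
  have hnd : n ∣ 24192 := ⟨_, hn.symm⟩
  have hmn : 24192 / n / e = c := by
    rw [← hn, Nat.mul_div_cancel_left _ (by omega), Nat.mul_div_cancel_left _ (by omega)]
  have hmn' : 24192 / n % e = 0 := by
    rw [← hn, Nat.mul_div_cancel_left _ (by omega), Nat.mul_mod_right]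
  have he18 := Nat.le_of_dvd (by norm_num) hep
  have hn3 : n = 96 ∨ n = 1008 := by
    have h := List.all_eq_true.1 sylow_numbers n
      (List.mem_range.2 (Nat.lt_succ_of_le (Nat.le_of_dvd (by norm_num) hnd)))
    simp [hn1, Nat.mod_eq_zero_of_dvd hnd] at h
    omega
  have hpar := List.all_eq_true.1 (List.all_eq_true.1 parameters n (by simpa using hn3)) e
    (List.mem_range.2 (by omega))
  rw [hmn, hposs] at hpar
  simp [he2, Nat.mod_eq_zero_of_dvd hep, hmn'] at hpar
  rcases hpar with ⟨rfl, hc⟩ | ⟨rfl, rfl⟩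
  · haveI : FaithfulSMul G (Sylow 19 G) := by
      refine faithful_of_nontrivial ?_
      haveI : Nontrivial (Sylow 19 G) := Finite.one_lt_card_iff_nontrivial.1 (hnS ▸ hn1')
      obtain ⟨Q, hQ⟩ := exists_ne P
      obtain ⟨g, hg⟩ := MulAction.exists_smul_eq G P Q
      exact ⟨g, P, fun h => hQ (hg.symm.trans h)⟩
    have hd := dvd_factorial_orbits (α := Sylow 19 G) hP hC hc7
    have ho := card_orbits (α := Sylow 19 G) hP (fixedPoints_sylow P)
    rw [← hnS] at ho
    rw [show Nat.card (MulAction.orbitRel.Quotient (P : Subgroup G) (Sylow 19 G)) = 6 by omega] at hd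
    exact absurd ((Nat.dvd_of_mod_eq_zero (by omega : c % 7 = 0)).trans hd) (by decide)
  obtain rfl : c = 4 := by omega
  -- a central involution of a Sylow 2-subgroup of the centralizer
  obtain ⟨C, hCdef⟩ : ∃ C, C = Subgroup.centralizer ((P : Subgroup G) : Set G) := ⟨_, rfl⟩
  rw [← hCdef] at hC
  obtain ⟨Y⟩ : Nonempty (Sylow 2 C) := inferInstance
  have hY : Nat.card (Y : Subgroup C) = 2 ^ 2 := by
    obtain ⟨k, hk⟩ := Y.2.exists_card_eq
    have h1 : 2 ^ 2 ∣ Nat.card (Y : Subgroup C) := Y.pow_dvd_card_of_pow_dvd_card (by rw [hC]; norm_num)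
    have h2 := Subgroup.card_subgroup_dvd_card (Y : Subgroup C)
    rw [hk] at h1 h2 ⊢
    rw [hC] at h2
    rcases Nat.lt_trichotomy k 2 with h | rfl | h
    · exact absurd ((Nat.pow_dvd_pow_iff_le_right (by norm_num)).1 h1) (by omega)
    · rfl
    · exact absurd ((pow_dvd_pow 2 (h : 3 ≤ k)).trans h2) (by norm_num)
  obtain ⟨⟨⟨y, hyC⟩, hyY⟩, hy⟩ := exists_prime_orderOf_dvd_card' (G := (Y : Subgroup C)) 2 (by rw [hY]; norm_num)
  rw [Subgroup.orderOf_mk, Subgroup.orderOf_mk] at hy
  have hcomm := IsPGroup.commutative_of_card_eq_prime_sq (p := 2) hY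
  obtain ⟨H, hH⟩ : ∃ H, H = Subgroup.centralizer ({y} : Set G) := ⟨_, rfl⟩
  have hPH : (P : Subgroup G) ≤ H := fun w hw => by
    rw [hH, Subgroup.mem_centralizer_singleton_iff]
    exact Subgroup.mem_centralizer_iff.1 (hCdef.le hyC) w hw
  have hYH : (Y : Subgroup C).map C.subtype ≤ H := by
    rintro _ ⟨⟨w, hwC⟩, hw, rfl⟩
    rw [hH, Subgroup.mem_centralizer_singleton_iff]
    exact congrArg (fun a : (Y : Subgroup C) => ((a : C) : G)) (hcomm ⟨⟨w, hwC⟩, hw⟩ ⟨⟨y, hyC⟩, hyY⟩)
  have hlarge : 8778 ≤ Nat.card H := by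
    by_contra hlt
    have h := S.centPossible_eq (d := 8777) (B := 678) hG (by norm_num) hP
      (by rw [hcard] : Nat.card G = 24192 * 19) hep he2 (by rw [hcard]; norm_num) (hCdef ▸ hyC) hy
      (hH ▸ by omega)
    rw [hcard, no_small_centralizer] at h
    exact absurd h (by decide)
  have hPC : (P : Subgroup G) ≤ C := by
    haveI : IsMulCommutative (P : Subgroup G) := (isCyclic_of_prime_card hP).isMulCommutative
    exact hCdef ▸ Subgroup.le_centralizer _
  obtain ⟨K, hK⟩ : ∃ K, K = Subgroup.normalizer ((P : Subgroup G) : Set G) ⊓ H := ⟨_, rfl⟩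
  have hCN : C ≤ Subgroup.normalizer ((P : Subgroup G) : Set G) :=
    hCdef ▸ Subgroup.centralizer_le_normalizer _
  have hr1 : 19 ∣ Nat.card K := hP ▸ Subgroup.card_dvd_of_le (hK ▸ le_inf Subgroup.le_normalizer hPH)
  have hr2 : 4 ∣ Nat.card K := by
    have h := Subgroup.card_dvd_of_le (hK ▸ le_inf ((Subgroup.map_subtype_le _).trans hCN) hYH :
      (Y : Subgroup C).map C.subtype ≤ K)
    rw [Subgroup.card_map_of_injective C.subtype_injective, hY] at h
    norm_num only at h
    exact h
  have hr3 : Nat.card K ∣ 456 := by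
    have h := Subgroup.card_dvd_of_le (show K ≤ Subgroup.normalizer ((P : Subgroup G) : Set G) from
      hK ▸ inf_le_left)
    rw [hN] at h
    exact h
  have hr : Nat.card K ∈ [76, 152, 228, 456] := by
    obtain ⟨j, hj⟩ := Nat.Coprime.mul_dvd_of_dvd_of_dvd (by norm_num : Nat.Coprime 19 4) hr1 hr2
    rw [hj, show (456 : ℕ) = 19 * 4 * 6 by norm_num] at hr3
    have hj6 : j ∣ 6 := Nat.dvd_of_mul_dvd_mul_left (by norm_num) hr3
    have := Nat.le_of_dvd (by norm_num) hj6
    interval_cases j <;> norm_num at hj6 <;> simp [hj]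
  have hprod : Nat.card (Sylow 19 H) * Nat.card K = Nat.card H := by
    have h := CfsgLib.Perm.Small.card_sylow_mul_card_normalizer (P.subtype hPH)
    rw [Sylow.coe_subtype, ← Subgroup.subgroupOf_normalizer_eq hPH] at h
    rw [← h, hK, ← Subgroup.inf_subgroupOf_right _ H,
      Nat.card_congr (Subgroup.subgroupOfEquivOfLe inf_le_right).toEquiv]
  have hmod : Nat.card (Sylow 19 H) % 19 = 1 := by
    have h := card_sylow_modEq_one 19 H
    rwa [Nat.ModEq, Nat.one_mod_eq_one.2 (by norm_num)] at h
  have hdiv : Nat.card (Sylow 19 H) * Nat.card K ∣ 459648 := by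
    rw [hprod, ← hcard]; exact Subgroup.card_subgroup_dvd_card H
  have hbound : Nat.card (Sylow 19 H) < 6049 := by
    have h1 := Nat.le_of_dvd (by norm_num) hdiv
    simp only [List.mem_cons, List.not_mem_nil, or_false] at hr
    rcases hr with h | h | h | h <;> rw [h] at h1 <;> omega
  have hidx := List.all_eq_true.1 (List.all_eq_true.1 centralizer_orders _ (List.mem_range.2 hbound))
    _ hr
  have hi : H.index = 459648 / Nat.card H := by
    rw [← hcard, ← Subgroup.card_mul_index H, Nat.mul_div_cancel_left _ Nat.card_pos]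
  rw [hprod] at hdiv hidx
  rw [← hi] at hidx
  simp [hmod, hlarge, Nat.mod_eq_zero_of_dvd hdiv] at hidx
  rcases hidx with h | h | h | h | h
  · -- `y` would be central
    rw [hH] at h
    refine orderOf_eq_prime_iff.1 hy |>.2 (center_trivial hG fun a => ?_)
    have ha := Subgroup.mem_centralizer_singleton_iff.1 (h ▸ Subgroup.mem_top a :
      a ∈ Subgroup.centralizer ({y} : Set G))
    exact ha.symm
  all_goals first
    | exact index_ne_twentyOne hG hP (hCdef ▸ hC) H h
    | (have hne : ∃ (g : G) (a : G ⧸ H), g • a ≠ a := by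
         obtain ⟨g, hg⟩ := SetLike.exists_not_mem_of_ne_top H (fun ht => by
           rw [ht, Subgroup.index_top] at h; norm_num at h) rfl
         refine ⟨g, ((1 : G) : G ⧸ H), fun h' => hg ?_⟩
         have h'' : ((g * 1 : G) : G ⧸ H) = ((1 : G) : G ⧸ H) := h'
         simpa [QuotientGroup.eq] using h''
       have hd := CfsgLib.Invol.two_mul_card_dvd_factorial hG hne
       rw [show Nat.card (G ⧸ H) = H.index from rfl, h, hcard] at hd
       norm_num [Nat.factorial] at hd)

end CfsgLib.Perm.PrimeBlock.Order459648
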