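import Mathlib
import Cfsg.Agent.Lib.Perm.Small.PrimeTest
import Cfsg.Agent.Lib.Char.ClassMul

/-!
# There is no simple group of order 4032

The remaining case has principal block degrees `1, 8, 9, 9, 9`; counting the pairs of conjugate
involutions whose product is a given element of order seven then demands a non-square to be a square.
-/

set_option autoImplicit false
set_option linter.style.haveILetI false

namespace CfsgLib.Perm.PrimeBlock

open Cfsg CfsgLib.Block

variable {G : Type*} [Group G]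

/-- The degree table. -/
theorem degree_table : ((List.range 64).all fun d => (List.range 64).all fun D =>
    [(1 : ℤ), -1].all fun a => [(1 : ℤ), -1].all fun b =>
      !(decide (3 ≤ d) && decide (3 ≤ D) && (576 % d == 0) && (576 % D == 0) &&
        ((d : ℤ) % 7 == a % 7) && ((D : ℤ) % 7 == (b * 2) % 7) && (b * (D : ℤ) == 1 + a * (d : ℤ))) ||
      ((a == 1) && (b == 1) && (d == 8) && (D == 9))) = true := by decide +kernel

theorem degrees_four_thousand (d : ℕ) (hd : d < 64) (D : ℕ) (hD : D < 64) (a : ℤ)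
    (ha : a ∈ [(1 : ℤ), -1]) (b : ℤ) (hb : b ∈ [(1 : ℤ), -1]) (h1 : 3 ≤ d) (h2 : 3 ≤ D)
    (h3 : 576 % d = 0) (h4 : 576 % D = 0) (h5 : (d : ℤ) % 7 = a % 7)
    (h6 : (D : ℤ) % 7 = (b * 2) % 7) (h7 : b * (D : ℤ) = 1 + a * (d : ℤ)) :
    a = 1 ∧ b = 1 ∧ d = 8 ∧ D = 9 := by
  have key := degree_table
  rw [List.all_eq_true] at key
  have key := key d (List.mem_range.2 hd)
  rw [List.all_eq_true] at key
  have key := key D (List.mem_range.2 hD)
  rw [List.all_eq_true] at key
  have key := key a ha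
  rw [List.all_eq_true] at key
  have key := key b hb
  simpa [h1, h2, h3, h4, h5, h6, h7, and_assoc] using key

/-- The parameters surviving the degree test. -/
theorem surviving_parameters : ((List.range 577).all fun n => (List.range 7).all fun e =>
    !(decide (1 < n) && (n % 7 == 1) && (576 % n == 0) && decide (2 ≤ e) && (6 % e == 0) &&
      ((576 / n) % e == 0) && (decide (12 ≤ n) || (n.factorial % 8064 == 0)) &&
      possible 4032 576 7 e (576 / n / e) 64) || ((e == 2) && (576 / n / e == 1))) = true := by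
  decide +kernel

/-- The value of a character at an involution is an integer. -/
theorem exists_int_value [Finite G] (χ : IrrCharacter G) {u : G} (hu : orderOf u = 2) :
    ∃ s : ℤ, (χ : G → ℂ) u = s := by
  classical
  obtain ⟨n, ρ, hρ, he⟩ := χ.2
  obtain ⟨b, μ, hμ, hb, hsum⟩ := CfsgLib.Char.exists_eigen_data ρ u
  have h := hsum 1
  rw [pow_one, he] at h
  have hμ1 : ∀ i, μ i = 1 ∨ μ i = -1 := fun i => sq_eq_one_iff.1 (hu ▸ hμ i)
  refine ⟨∑ i, (if μ i = 1 then 1 else -1), h.trans ?_⟩
  push_cast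
  refine Finset.sum_congr rfl fun i _ => ?_
  rcases hμ1 i with hi | hi <;> rw [pow_one, hi]
  · simp
  · norm_num

theorem not_isSquare_table : ∀ N ∈ Finset.Icc 1 7, ¬ IsSquare (4032 * 72 * N) := by
  intro N hN h
  have h' := (Nat.exists_mul_self _).1 (h.imp fun r hr => hr.symm)
  rw [Finset.mem_Icc] at hN
  obtain ⟨h1, h7⟩ := hN
  interval_cases N <;> norm_num at h'

theorem card_ne_4032 [Finite G] [IsSimpleGroup G] : Nat.card G ≠ 4032 := by
  classical
  intro hcard
  haveI : Fact (Nat.Prime 7) := ⟨by norm_num⟩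
  haveI := Fintype.ofFinite G
  haveI := Fintype.ofFinite (IrrCharacter G)
  have hG : ¬ IsMulCommutative G := fun hc => by
    haveI := hc
    letI : CommGroup G :=
      { (inferInstance : Group G) with mul_comm := fun a b => IsMulCommutative.is_comm.comm a b }
    have h2 := IsSimpleGroup.prime_card (α := G)
    rw [hcard] at h2; norm_num at h2
  obtain ⟨P, n, e, c, hP, hn, hn1, hn2, hfac, he2, hep, hC, hN, -, ⟨S⟩⟩ :=
    exists_data hG 7 576 (by norm_num) hcard (by norm_num)
  have hposs := S.possible_eq (m := 576) (B := 64) hG hP hcard hep he2 hC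
    (fun h => absurd (hn ▸ h.trans ((dvd_mul_left c e).trans (dvd_mul_left _ n))) (by norm_num))
    (by omega)
  -- only `e = 2` and `c = 1` survive
  obtain ⟨rfl, rfl⟩ : e = 2 ∧ c = 1 := by
    have hepos : e < 7 := by have := Nat.le_of_dvd (by norm_num) hep; omega
    have hnd : n ∣ 576 := ⟨e * c, hn.symm⟩
    have hmn : 576 / n = e * c := by rw [← hn, Nat.mul_div_cancel_left _ (by omega)]
    have hc : c = 576 / n / e := by rw [hmn, Nat.mul_div_cancel_left _ (by omega)]
    rw [hcard] at hposs hfac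
    have key := surviving_parameters
    simp only [List.all_eq_true, List.mem_range, Bool.or_eq_true, Bool.and_eq_true, Bool.not_eq_true',
      Bool.and_eq_false_iff, decide_eq_false_iff_not, beq_iff_eq, beq_eq_false_iff_ne, ne_eq] at key
    obtain ⟨h1, h2⟩ : e = 2 ∧ 576 / n / e = 1 := by
      rcases key n (Nat.lt_succ_of_le (Nat.le_of_dvd (by norm_num) hnd)) e hepos with h | h
      · exfalso
        rw [hc] at hposs
        rw [hposs] at h
        simp only [hn2, hn1, Nat.mod_eq_zero_of_dvd hnd, he2, Nat.mod_eq_zero_of_dvd hep, hmn,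
          Nat.mul_mod_right, Bool.or_eq_false_iff, decide_eq_false_iff_not, beq_eq_false_iff_ne,
          Nat.mod_eq_zero_of_dvd hfac, not_true_eq_false, or_false, and_false, false_or,
          ne_eq, Bool.true_eq_false] at h
      · exact h
    exact ⟨h1, hc.trans h2⟩
  rw [mul_one] at hC hN
  obtain ⟨χ, hχX⟩ : ∃ χ, S.X = {χ} := Finset.card_eq_one.1 (by have := S.card_X; omega)
  have hχm : χ ∈ S.X := by rw [hχX]; exact Finset.mem_singleton_self χ
  obtain ⟨θ₀, hθ₀⟩ : S.Y.Nonempty := Finset.card_pos.1 (by rw [S.card_Y]; norm_num)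
  have hdeg : ∀ χ : IrrCharacter G, (χ : G → ℂ) 1 = (charDegree (χ : G → ℂ) : ℂ) :=
    fun χ => (charDegree_eq χ).1
  have h1o : ¬ (7 : ℕ) ∣ orderOf (1 : G) := by rw [orderOf_one]; norm_num
  have hrel : ∀ g : G, ¬ 7 ∣ orderOf g →
      (S.ε : ℂ) * (θ₀ : G → ℂ) g = 1 + (S.εX χ : ℂ) * (χ : G → ℂ) g := fun g hg => by
    have h := S.relation θ₀ hθ₀ g hg
    rwa [hχX, Finset.sum_singleton] at h
  have hne : ∀ ψ : IrrCharacter G, ψ ≠ oneChar G → (ψ : G → ℂ) ≠ fun _ => 1 := fun ψ h h' =>
    h (Subtype.ext h')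
  have hbound : ∀ ψ : IrrCharacter G, ψ ≠ oneChar G → ¬ 7 ∣ charDegree (ψ : G → ℂ) →
      3 ≤ charDegree (ψ : G → ℂ) ∧ charDegree (ψ : G → ℂ) < 64 ∧ 576 % charDegree (ψ : G → ℂ) = 0 := by
    intro ψ hψ hpd
    have hdvd := CfsgLib.Char.degree_dvd_card ψ (hdeg ψ)
    rw [hcard, show (4032 : ℕ) = 576 * 7 from rfl] at hdvd
    refine ⟨degree_ge_three hG ψ (hne ψ hψ) (hdeg ψ), ?_, Nat.mod_eq_zero_of_dvd
      ((((Fact.out : Nat.Prime 7).coprime_iff_not_dvd.2 hpd).symm).dvd_of_dvd_mul_right hdvd)⟩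
    by_contra hge
    have h := CfsgLib.Char.sum_degree_sq (G := G)
    simp only [hdeg, hcard] at h
    have h' : ∑ φ : IrrCharacter G, charDegree (φ : G → ℂ) ^ 2 = 4032 := by exact_mod_cast h
    have h2 := Finset.single_le_sum (f := fun φ : IrrCharacter G => charDegree (φ : G → ℂ) ^ 2)
      (fun φ _ => Nat.zero_le _) (Finset.mem_univ ψ)
    rw [h'] at h2
    have h3 : 64 * 64 ≤ charDegree (ψ : G → ℂ) ^ 2 := by rw [sq]; exact Nat.mul_le_mul (by omega) (by omega)
    omega
  have hθne : θ₀ ≠ oneChar G := fun h => S.one_notMem_Y (h ▸ hθ₀)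
  have hχne : χ ≠ oneChar G := fun h => S.one_notMem_X (h ▸ hχm)
  have hmodX := S.degree_X χ hχm
  have hmodY := S.congr_Y
  have hsX := S.sign_X χ hχm
  have hpd1 : ¬ 7 ∣ charDegree (χ : G → ℂ) := by
    intro h; rw [Int.ModEq] at hmodX; rcases hsX with h' | h' <;> rw [h'] at hmodX <;> omega
  have hpd2 : ¬ 7 ∣ charDegree (θ₀ : G → ℂ) := by
    intro h; rw [S.degree_Y θ₀ hθ₀] at h; rw [Int.ModEq] at hmodY
    rcases S.sign with h' | h' <;> rw [h'] at hmodY <;> omega
  obtain ⟨hd3, hd64, hdd⟩ := hbound χ hχne hpd1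
  obtain ⟨hD3, hD64, hDd⟩ := hbound θ₀ hθne hpd2
  rw [S.degree_Y θ₀ hθ₀] at hD3 hD64 hDd
  have h0 := hrel 1 h1o
  simp only [hdeg, S.degree_Y θ₀ hθ₀] at h0
  obtain ⟨hεX, hε, hd, hD⟩ := degrees_four_thousand _ hd64 _ hD64 (S.εX χ)
    (by rcases hsX with h | h <;> simp [h]) S.ε (by rcases S.sign with h | h <;> simp [h]) hd3 hD3 hdd
    hDd hmodX hmodY (by exact_mod_cast h0)
  -- an involution inverting an element of order seven
  obtain ⟨x', hx'⟩ := exists_prime_orderOf_dvd_card' (G := (P : Subgroup G)) 7 (by rw [hP])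
  obtain ⟨x, hx, hxo⟩ : ∃ x ∈ (P : Subgroup G), orderOf x = 7 := ⟨x', x'.2, by rw [Subgroup.orderOf_coe, hx']⟩
  have hx1 : x ≠ 1 := fun h => by rw [h, orderOf_one] at hxo; norm_num at hxo
  obtain ⟨C, hCdef⟩ : ∃ C, C = Subgroup.centralizer ((P : Subgroup G) : Set G) := ⟨_, rfl⟩
  obtain ⟨N, hNdef⟩ : ∃ N, N = Subgroup.normalizer ((P : Subgroup G) : Set G) := ⟨_, rfl⟩
  rw [← hCdef] at hC
  rw [← hNdef] at hN
  obtain ⟨u', hu'⟩ := exists_prime_orderOf_dvd_card' (G := N) 2 (by rw [hN]; exact dvd_mul_right 2 7)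
  obtain ⟨u, huN, huo⟩ : ∃ u ∈ N, orderOf u = 2 := ⟨u', u'.2, by rw [Subgroup.orderOf_coe, hu']⟩
  have hu2 : u * u = 1 := by rw [← sq, ← huo, pow_orderOf_eq_one]
  have hPC : (P : Subgroup G) ≤ C := by
    haveI : IsMulCommutative (P : Subgroup G) := (isCyclic_of_prime_card hP).isMulCommutative
    rw [hCdef]; exact Subgroup.le_centralizer _
  have hCP : C = (P : Subgroup G) := (Subgroup.eq_of_le_of_card_ge hPC (by rw [hC, hP])).symm
  have hCN : C ≤ N := by rw [hCdef, hNdef]; exact Subgroup.centralizer_le_normalizer _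
  have hidx : (C.subgroupOf N).index = 2 := by
    have h := (C.subgroupOf N).card_mul_index
    rw [Nat.card_congr (Subgroup.subgroupOfEquivOfLe hCN).toEquiv, hC, hN] at h
    omega
  have huC : ∀ w ∈ N, orderOf w = 2 → w ∉ C := fun w _ hw h => by
    have h1 := Subgroup.orderOf_dvd_natCard _ h
    rw [hC, hw] at h1; norm_num at h1
  have hNC : ∀ v ∈ N, v ∉ C → v * v = 1 := by
    intro v hv hvC
    have hmul : v * u ∈ C := by
      have h := (Subgroup.mul_mem_iff_of_index_two hidx (a := (⟨v, hv⟩ : N)) (b := ⟨u, huN⟩)).2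
      simp only [Subgroup.mem_subgroupOf] at h
      exact h (iff_of_false hvC (huC u huN huo))
    have hv2 : v * v ∈ C := by
      have h := Subgroup.mul_self_mem_of_index_two hidx (⟨v, hv⟩ : N)
      simpa [Subgroup.mem_subgroupOf] using h
    -- `v` has order two, else it generates a cyclic group of order fourteen centralizing `P`
    by_contra hne2
    apply hvC
    rw [hCdef, Subgroup.mem_centralizer_iff]
    intro w hw
    have hvvP : v * v ∈ (P : Subgroup G) := hCP ▸ hv2
    have hgen : Subgroup.zpowers (v * v) = (P : Subgroup G) := by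
      refine Subgroup.eq_of_le_of_card_ge (Subgroup.zpowers_le.2 hvvP) ?_
      have h1 := Subgroup.orderOf_dvd_natCard _ hvvP
      rw [hP] at h1
      rw [hP, Nat.card_zpowers]
      rcases (Nat.dvd_prime (Fact.out : Nat.Prime 7)).1 h1 with h | h
      · exact absurd (orderOf_eq_one_iff.1 h) hne2
      · omega
    obtain ⟨k, rfl⟩ : w ∈ Subgroup.zpowers (v * v) := hgen.symm ▸ hw
    exact (((Commute.refl v).mul_right (Commute.refl v)).zpow_right k).eq.symm
  have huxN : u * x ∈ N := mul_mem huN (hNdef ▸ Subgroup.le_normalizer hx)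
  have huxC : u * x ∉ C := fun h => huC u huN huo (by
    have h' := mul_mem h (inv_mem (hPC hx)); rwa [mul_inv_cancel_right] at h')
  have hux : (u * x) * (u * x) = 1 := hNC _ huxN huxC
  have hinv : u * x * u = x⁻¹ := eq_inv_of_mul_eq_one_left (by
    calc u * x * u * x = u * x * (u * x) := by group
      _ = 1 := hux)
  -- the pairs
  have hconj : IsConj u (u * x) := by
    refine isConj_iff.2 ⟨x ^ 3, ?_⟩
    have hxu : ∀ j : ℕ, x ^ j * u = u * (x⁻¹) ^ j := by
      intro j
      induction j with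
      | zero => simp
      | succ j ih =>
        have h1 : x * u = u * x⁻¹ := by rw [← hinv, ← mul_assoc, ← mul_assoc, hu2, one_mul]
        calc x ^ (j + 1) * u = x ^ j * (x * u) := by rw [pow_succ]; group
          _ = (x ^ j * u) * x⁻¹ := by rw [h1]; group
          _ = _ := by rw [ih, pow_succ]; group
    rw [hxu 3, mul_assoc, inv_pow, ← mul_inv_rev, ← pow_add]
    congr 1
    exact inv_eq_of_mul_eq_one_right (by rw [← pow_succ, show 3 + 3 + 1 = orderOf x from hxo.symm, pow_orderOf_eq_one])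
  have hcc : ∃ N', N' ∈ Finset.Icc 1 7 ∧ CfsgLib.Char.classConst u u x = N' := by
    refine ⟨_, Finset.mem_Icc.2 ⟨?_, ?_⟩, rfl⟩
    · refine Nat.one_le_iff_ne_zero.2 fun h0 => ?_
      rcases Nat.card_eq_zero.1 h0 with h | h
      · exact h.elim ⟨(u, u * x), IsConj.refl u, hconj, by rw [← mul_assoc, hu2, one_mul]⟩
      · exact not_finite {p : G × G // IsConj u p.1 ∧ IsConj u p.2 ∧ p.1 * p.2 = x}
    · -- the first entries normalize `P` without centralizing it
      have hsq : ∀ a : G, IsConj u a → a * a = 1 := fun a ha => by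
        obtain ⟨g, rfl⟩ := isConj_iff.1 ha
        calc g * u * g⁻¹ * (g * u * g⁻¹) = g * (u * u) * g⁻¹ := by group
          _ = 1 := by rw [hu2]; group
      let f : {p : G × G // IsConj u p.1 ∧ IsConj u p.2 ∧ p.1 * p.2 = x} → {a : G // a ∈ (N : Set G) \ (C : Set G)} :=
        fun p => ⟨p.1.1, by
          obtain ⟨⟨a, b⟩, ha, hb, hab⟩ := p
          simp only at ha hb hab ⊢
          have haa := hsq a ha
          have hbb := hsq b hb
          have hax : a * x * a⁻¹ = x⁻¹ := by
            rw [← hab, inv_eq_of_mul_eq_one_right haa]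
            symm
            refine inv_eq_of_mul_eq_one_right ?_
            calc a * b * (a * (a * b) * a) = a * b * ((a * a) * (b * a)) := by group
              _ = a * (b * b) * a := by rw [haa]; group
              _ = 1 := by rw [hbb, mul_one, haa]
          have hgen : Subgroup.zpowers x = (P : Subgroup G) :=
            Subgroup.eq_of_le_of_card_ge (Subgroup.zpowers_le.2 hx) (by rw [hP, Nat.card_zpowers, hxo])
          refine ⟨?_, fun hmem => ?_⟩
          · rw [SetLike.mem_coe, hNdef, Subgroup.mem_normalizer_iff]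
            intro w
            rw [← hgen]
            constructor
            · rintro ⟨k, rfl⟩
              exact ⟨-k, by show x ^ (-k) = a * x ^ k * a⁻¹; rw [← conj_zpow, hax, inv_zpow, zpow_neg]⟩
            · rintro ⟨k, hk⟩
              have hk' : x ^ k = a * w * a⁻¹ := hk
              refine ⟨-k, ?_⟩
              show x ^ (-k) = w
              have h1 : a * x ^ k * a⁻¹ = x ^ (-k) := by rw [← conj_zpow, hax, inv_zpow, zpow_neg]
              rw [← h1, hk']
              calc a * (a * w * a⁻¹) * a⁻¹ = (a * a) * w * (a * a)⁻¹ := by group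
                _ = w := by rw [haa]; group
          · have hx2 : x * x = 1 := by
              rw [hCdef] at hmem
              have hc' : x * a = a * x := Subgroup.mem_centralizer_iff.1 hmem x hx
              rw [← hc', mul_inv_cancel_right] at hax
              nth_rewrite 1 [hax]
              exact inv_mul_cancel x
            have h2 := orderOf_dvd_of_pow_eq_one (show x ^ 2 = 1 by rw [sq]; exact hx2)
            rw [hxo] at h2; norm_num at h2⟩
      have hf : Function.Injective f := by
        rintro ⟨⟨a, b⟩, ha, hb, hab⟩ ⟨⟨a', b'⟩, ha', hb', hab'⟩ h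
        have h1 : a = a' := congrArg Subtype.val h
        subst h1
        simp only at hab hab'
        exact Subtype.ext (Prod.ext rfl (mul_left_cancel (hab.trans hab'.symm)))
      refine (Nat.card_le_card_of_injective f hf).trans ?_
      have hsub : (C : Set G) ⊆ (N : Set G) := hCN
      show Nat.card ↥((N : Set G) \ (C : Set G)) ≤ 7
      rw [Nat.card_coe_set_eq, Set.ncard_sdiff hsub, ← Nat.card_coe_set_eq, ← Nat.card_coe_set_eq,
        show Nat.card ↥(N : Set G) = Nat.card N from rfl, show Nat.card ↥(C : Set G) = Nat.card C from rfl,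
        hN, hC]
  -- the character sum
  obtain ⟨N', hN', hcc⟩ := hcc
  obtain ⟨s, hs⟩ := exists_int_value χ huo
  have hform := CfsgLib.Char.classConst_formula u u x
  have hxr : (7 : ℕ) ∣ orderOf x := by rw [hxo]
  have hur : ¬ 7 ∣ orderOf u := by rw [huo]; norm_num
  have hsum : ∑ᶠ ψ : IrrCharacter G,
      (ψ : G → ℂ) u * (ψ : G → ℂ) u * (starRingEnd ℂ) ((ψ : G → ℂ) x) / (ψ : G → ℂ) 1 =
        1 + (s : ℂ) ^ 2 / 8 - (1 + (s : ℂ)) ^ 2 / 9 := by
    rw [finsum_eq_sum_of_fintype, ← Finset.sum_subset (Finset.subset_univ ({oneChar G} ∪ S.X ∪ S.Y))]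
    · rw [Finset.sum_union, Finset.sum_union, Finset.sum_singleton, hχX, Finset.sum_singleton]
      · have hxc : (χ : G → ℂ) x = 1 := by
          have h := S.value_X χ hχm x hx hx1 1 (one_mem _) h1o
          rwa [mul_one, hεX, Int.cast_one] at h
        have hθu : ∀ θ ∈ S.Y, (θ : G → ℂ) u = 1 + (s : ℂ) := by
          intro θ hθ
          rw [S.regular_Y θ hθ θ₀ hθ₀ u hur]
          have h := hrel u hur
          rw [hε, hεX, Int.cast_one, one_mul, one_mul, hs] at h
          exact h
        have hY : ∑ θ ∈ S.Y, (θ : G → ℂ) u * (θ : G → ℂ) u * (starRingEnd ℂ) ((θ : G → ℂ) x) /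
            (θ : G → ℂ) 1 = -((1 + (s : ℂ)) ^ 2 / 9) := by
          have hv := S.value_Y x hx hx1 1 (one_mem _) h1o
          simp only [mul_one, hε, Int.cast_one] at hv
          calc ∑ θ ∈ S.Y, (θ : G → ℂ) u * (θ : G → ℂ) u * (starRingEnd ℂ) ((θ : G → ℂ) x) / (θ : G → ℂ) 1
              = ∑ θ ∈ S.Y, (1 + (s : ℂ)) ^ 2 / 9 * (starRingEnd ℂ) ((θ : G → ℂ) x) := by
                refine Finset.sum_congr rfl fun θ hθ => ?_
                rw [hθu θ hθ, hdeg, S.degree_Y θ hθ, hD]
                push_cast; ring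
            _ = _ := by rw [← Finset.mul_sum, ← map_sum, hv, map_neg, map_one]; ring
        rw [hY, hxc, hs, hdeg χ, hd]
        simp [oneChar]
        ring
      · exact Finset.disjoint_singleton_left.2 S.one_notMem_X
      · exact Finset.disjoint_union_left.2 ⟨Finset.disjoint_singleton_left.2 S.one_notMem_Y, S.disjoint⟩
    · intro ψ _ hψ
      simp only [Finset.mem_union, Finset.mem_singleton, not_or] at hψ
      rw [S.outside (by rw [← hCdef, hC]) ψ hψ.1.1 hψ.1.2 hψ.2 x hx hx1, map_zero, mul_zero, zero_div]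
  rw [hsum, hcc, hcard] at hform
  have hint : ((4032 * 72 * N' : ℕ) : ℤ) = ((Nat.card {g : G // IsConj u g} : ℤ) * (8 - s)) ^ 2 := by
    have : ((4032 * 72 * N' : ℕ) : ℂ) = (((Nat.card {g : G // IsConj u g} : ℤ) * (8 - s)) ^ 2 : ℤ) := by
      push_cast
      rw [hform]
      push_cast
      ring
    exact_mod_cast this
  refine not_isSquare_table N' hN' ⟨((Nat.card {g : G // IsConj u g} : ℤ) * (8 - s)).natAbs, ?_⟩
  rw [← Int.natAbs_natCast (4032 * 72 * N'), hint, Int.natAbs_pow, sq]

end CfsgLib.Perm.PrimeBlock
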