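import Cfsg.Agent.Lib.Perm.Small.OrdersRangeData
import Cfsg.Agent.Lib.Invol.OrdersThousand

/-!
# Checking the certificates for the orders from 3641 to 6232
-/

set_option autoImplicit false
set_option linter.all false

namespace CfsgLib.Perm.OrdersRange

open CfsgLib.Invol.Thousand CfsgLib.Perm.PrimeBlock

/-- Orders treated separately. -/
def separate : List ℕ := [4080, 5616, 6048, 6072, 4500, 4620, 5040, 5292, 5400]

/-- A primality test by trial division below eighty. -/
def primeSmall (p : ℕ) : Bool :=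
  decide (2 ≤ p) && (decide (p < 6400) &&
    (List.range 80).all fun d => decide (d < 2) || (decide (p ≤ d) || !(p % d == 0)))

theorem primeSmall_spec {p : ℕ} (h : primeSmall p = true) : p.Prime := by
  simp only [primeSmall, Bool.and_eq_true, decide_eq_true_eq, List.all_eq_true, List.mem_range,
    Bool.or_eq_true, Bool.not_eq_true', beq_eq_false_iff_ne] at h
  obtain ⟨h2, hlt, hall⟩ := h
  by_contra hp
  have hm := Nat.minFac_sq_le_self (by omega) hp
  have hm2 := (Nat.minFac_prime (by omega : p ≠ 1)).two_le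
  have h80 : p.minFac < 80 := by nlinarith
  rcases hall _ h80 with e | e | e
  · omega
  · nlinarith
  · exact e (Nat.mod_eq_zero_of_dvd (Nat.minFac_dvd p))

/-- Check of one certificate. -/
def okRange (g : ℕ) (c : Cert) : Bool :=
  match c.kind with
  | 1 => primeSmall c.p && (primeSmall c.q && (g == c.p ^ c.a * c.q ^ c.b))
  | 2 => separate.contains g
  | 3 => g % 4 == 2
  | 4 => primeSmall c.p && (decide (0 < c.a) && ((g % c.p ^ c.a == 0) && (!(g % c.p ^ (c.a + 1) == 0) &&
      (List.range (g / c.p ^ c.a / c.p + 1)).all fun j =>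
        !(g / c.p ^ c.a % (c.p * j + 1) == 0) || ((j == 0) ||
          (decide (c.p * j + 1 < 14) && !((c.p * j + 1).factorial % (2 * g) == 0))))))
  | 5 => primeSmall c.p && (decide (c.p ≠ 2) && (!primeSmall g && ((g % c.p == 0) && (!((g / c.p) % c.p == 0) &&
      (decide (g ≤ c.a * c.a) && refutedAll g (g / c.p) c.p c.a [])))))
  | 6 => primeSmall c.p && (decide (c.p ≠ 2) && (!primeSmall g && ((g % c.p == 0) && (!((g / c.p) % c.p == 0) &&
      (decide (g ≤ c.a * c.a) && (decide ((List.range 11).any fun k => c.q == 2 ^ k) && ((g % c.q == 0) &&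
        ((g % 2 == 0) && refutedTwo g (g / c.p) c.p c.a c.q []))))))))
  | 7 => decide (2 ≤ c.p) && ((g % c.p == 0) && (!(g % c.p ^ 3 == 0) && (!(g % 12 == 0) &&
      (List.range c.p).all fun d => decide (d < 2) || !(g % d == 0))))
  | _ => false

/-- All certificates check. -/
def okFrom : List Cert → ℕ → Bool
  | [], _ => true
  | c :: l, g => okRange g c && okFrom l (g + 1)

theorem exists_okFrom : ∀ (l : List Cert) (s : ℕ), okFrom l s = true → ∀ g, s ≤ g → g < s + l.length →
    ∃ c, okRange g c = true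
  | [], s, _, g, h1, h2 => by
      simp only [List.length_nil] at h2
      omega
  | c :: l, s, h, g, h1, h2 => by
      simp only [okFrom, Bool.and_eq_true] at h
      rcases eq_or_lt_of_le h1 with rfl | hlt
      · exact ⟨c, h.1⟩
      · exact exists_okFrom l (s + 1) h.2 g hlt (by simp only [List.length_cons] at h2; omega)

theorem okFrom_chunk0 : (okFrom chunk0 3641 && (chunk0.length == 160)) = true := by decide +kernel

theorem okFrom_chunk1 : (okFrom chunk1 3801 && (chunk1.length == 200)) = true := by decide +kernel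

theorem okFrom_chunk2 : (okFrom chunk2 4001 && (chunk2.length == 200)) = true := by decide +kernel

theorem okFrom_chunk3 : (okFrom chunk3 4201 && (chunk3.length == 168)) = true := by decide +kernel

theorem okFrom_chunk4 : (okFrom chunk4 4369 && (chunk4.length == 168)) = true := by decide +kernel

theorem okFrom_chunk5 : (okFrom chunk5 4537 && (chunk5.length == 200)) = true := by decide +kernel

theorem okFrom_chunk6 : (okFrom chunk6 4737 && (chunk6.length == 192)) = true := by decide +kernel

theorem okFrom_chunk7 : (okFrom chunk7 4929 && (chunk7.length == 200)) = true := by decide +kernel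

theorem okFrom_chunk8 : (okFrom chunk8 5129 && (chunk8.length == 192)) = true := by decide +kernel

theorem okFrom_chunk9 : (okFrom chunk9 5321 && (chunk9.length == 200)) = true := by decide +kernel

theorem okFrom_chunk10 : (okFrom chunk10 5521 && (chunk10.length == 200)) = true := by decide +kernel

theorem okFrom_chunk11 : (okFrom chunk11 5721 && (chunk11.length == 200)) = true := by decide +kernel

theorem okFrom_chunk12 : (okFrom chunk12 5921 && (chunk12.length == 200)) = true := by decide +kernel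

theorem okFrom_chunk13 : (okFrom chunk13 6121 && (chunk13.length == 112)) = true := by decide +kernel

theorem exists_okRange (g : ℕ) (h1 : 3640 < g) (h2 : g ≤ 6232) : ∃ c, okRange g c = true := by
  by_cases hg0 : g ≤ 3800
  · obtain ⟨hk, hl⟩ := Bool.and_eq_true_iff.1 okFrom_chunk0
    exact exists_okFrom _ _ hk g (by omega) (by rw [beq_iff_eq.1 hl]; omega)
  by_cases hg1 : g ≤ 4000
  · obtain ⟨hk, hl⟩ := Bool.and_eq_true_iff.1 okFrom_chunk1
    exact exists_okFrom _ _ hk g (by omega) (by rw [beq_iff_eq.1 hl]; omega)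
  by_cases hg2 : g ≤ 4200
  · obtain ⟨hk, hl⟩ := Bool.and_eq_true_iff.1 okFrom_chunk2
    exact exists_okFrom _ _ hk g (by omega) (by rw [beq_iff_eq.1 hl]; omega)
  by_cases hg3 : g ≤ 4368
  · obtain ⟨hk, hl⟩ := Bool.and_eq_true_iff.1 okFrom_chunk3
    exact exists_okFrom _ _ hk g (by omega) (by rw [beq_iff_eq.1 hl]; omega)
  by_cases hg4 : g ≤ 4536
  · obtain ⟨hk, hl⟩ := Bool.and_eq_true_iff.1 okFrom_chunk4
    exact exists_okFrom _ _ hk g (by omega) (by rw [beq_iff_eq.1 hl]; omega)
  by_cases hg5 : g ≤ 4736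
  · obtain ⟨hk, hl⟩ := Bool.and_eq_true_iff.1 okFrom_chunk5
    exact exists_okFrom _ _ hk g (by omega) (by rw [beq_iff_eq.1 hl]; omega)
  by_cases hg6 : g ≤ 4928
  · obtain ⟨hk, hl⟩ := Bool.and_eq_true_iff.1 okFrom_chunk6
    exact exists_okFrom _ _ hk g (by omega) (by rw [beq_iff_eq.1 hl]; omega)
  by_cases hg7 : g ≤ 5128
  · obtain ⟨hk, hl⟩ := Bool.and_eq_true_iff.1 okFrom_chunk7
    exact exists_okFrom _ _ hk g (by omega) (by rw [beq_iff_eq.1 hl]; omega)
  by_cases hg8 : g ≤ 5320
  · obtain ⟨hk, hl⟩ := Bool.and_eq_true_iff.1 okFrom_chunk8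
    exact exists_okFrom _ _ hk g (by omega) (by rw [beq_iff_eq.1 hl]; omega)
  by_cases hg9 : g ≤ 5520
  · obtain ⟨hk, hl⟩ := Bool.and_eq_true_iff.1 okFrom_chunk9
    exact exists_okFrom _ _ hk g (by omega) (by rw [beq_iff_eq.1 hl]; omega)
  by_cases hg10 : g ≤ 5720
  · obtain ⟨hk, hl⟩ := Bool.and_eq_true_iff.1 okFrom_chunk10
    exact exists_okFrom _ _ hk g (by omega) (by rw [beq_iff_eq.1 hl]; omega)
  by_cases hg11 : g ≤ 5920
  · obtain ⟨hk, hl⟩ := Bool.and_eq_true_iff.1 okFrom_chunk11
    exact exists_okFrom _ _ hk g (by omega) (by rw [beq_iff_eq.1 hl]; omega)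
  by_cases hg12 : g ≤ 6120
  · obtain ⟨hk, hl⟩ := Bool.and_eq_true_iff.1 okFrom_chunk12
    exact exists_okFrom _ _ hk g (by omega) (by rw [beq_iff_eq.1 hl]; omega)
  by_cases hg13 : g ≤ 6232
  · obtain ⟨hk, hl⟩ := Bool.and_eq_true_iff.1 okFrom_chunk13
    exact exists_okFrom _ _ hk g (by omega) (by rw [beq_iff_eq.1 hl]; omega)
  omega

end CfsgLib.Perm.OrdersRange
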