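import Cfsg.Agent.Lib.Perm.Small.OrdersMidData
import Cfsg.Agent.Lib.Perm.Small.OrdersRangeCheck

/-!
# Checking the certificates for the orders from 1093 to 3640
-/

set_option autoImplicit false
set_option linter.all false

namespace CfsgLib.Perm.OrdersMid

open CfsgLib.Invol.Thousand CfsgLib.Perm.PrimeBlock CfsgLib.Perm.OrdersRange

/-- Orders treated separately. -/
def separateMid : List ℕ := [1344, 1512, 1680, 1764, 1800, 2448, 2520, 2700, 3360, 3420, 3528, 3600]

/-- Check of one certificate. -/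
def okMid (g : ℕ) (c : Cert) : Bool := bif c.kind == 2 then separateMid.contains g else okRange g c

/-- All certificates check. -/
def okFrom : List Cert → ℕ → Bool
  | [], _ => true
  | c :: l, g => okMid g c && okFrom l (g + 1)

theorem exists_okFrom : ∀ (l : List Cert) (s : ℕ), okFrom l s = true → ∀ g, s ≤ g → g < s + l.length →
    ∃ c, okMid g c = true
  | [], s, _, g, h1, h2 => by
      simp only [List.length_nil] at h2
      omega
  | c :: l, s, h, g, h1, h2 => by
      simp only [okFrom, Bool.and_eq_true] at h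
      rcases eq_or_lt_of_le h1 with rfl | hlt
      · exact ⟨c, h.1⟩
      · exact exists_okFrom l (s + 1) h.2 g hlt (by simp only [List.length_cons] at h2; omega)

theorem okFrom_chunk0 : (okFrom chunk0 1093 && (chunk0.length == 200)) = true := by decide +kernel

theorem okFrom_chunk1 : (okFrom chunk1 1293 && (chunk1.length == 200)) = true := by decide +kernel

theorem okFrom_chunk2 : (okFrom chunk2 1493 && (chunk2.length == 200)) = true := by decide +kernel

theorem okFrom_chunk3 : (okFrom chunk3 1693 && (chunk3.length == 200)) = true := by decide +kernel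

theorem okFrom_chunk4 : (okFrom chunk4 1893 && (chunk4.length == 200)) = true := by decide +kernel

theorem okFrom_chunk5 : (okFrom chunk5 2093 && (chunk5.length == 200)) = true := by decide +kernel

theorem okFrom_chunk6 : (okFrom chunk6 2293 && (chunk6.length == 200)) = true := by decide +kernel

theorem okFrom_chunk7 : (okFrom chunk7 2493 && (chunk7.length == 200)) = true := by decide +kernel

theorem okFrom_chunk8 : (okFrom chunk8 2693 && (chunk8.length == 200)) = true := by decide +kernel

theorem okFrom_chunk9 : (okFrom chunk9 2893 && (chunk9.length == 200)) = true := by decide +kernel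

theorem okFrom_chunk10 : (okFrom chunk10 3093 && (chunk10.length == 200)) = true := by decide +kernel

theorem okFrom_chunk11 : (okFrom chunk11 3293 && (chunk11.length == 200)) = true := by decide +kernel

theorem okFrom_chunk12 : (okFrom chunk12 3493 && (chunk12.length == 148)) = true := by decide +kernel

theorem exists_okMid (g : ℕ) (h1 : 1092 < g) (h2 : g ≤ 3640) : ∃ c, okMid g c = true := by
  by_cases hg0 : g ≤ 1292
  · obtain ⟨hk, hl⟩ := Bool.and_eq_true_iff.1 okFrom_chunk0
    exact exists_okFrom _ _ hk g (by omega) (by rw [beq_iff_eq.1 hl]; omega)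
  by_cases hg1 : g ≤ 1492
  · obtain ⟨hk, hl⟩ := Bool.and_eq_true_iff.1 okFrom_chunk1
    exact exists_okFrom _ _ hk g (by omega) (by rw [beq_iff_eq.1 hl]; omega)
  by_cases hg2 : g ≤ 1692
  · obtain ⟨hk, hl⟩ := Bool.and_eq_true_iff.1 okFrom_chunk2
    exact exists_okFrom _ _ hk g (by omega) (by rw [beq_iff_eq.1 hl]; omega)
  by_cases hg3 : g ≤ 1892
  · obtain ⟨hk, hl⟩ := Bool.and_eq_true_iff.1 okFrom_chunk3
    exact exists_okFrom _ _ hk g (by omega) (by rw [beq_iff_eq.1 hl]; omega)
  by_cases hg4 : g ≤ 2092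
  · obtain ⟨hk, hl⟩ := Bool.and_eq_true_iff.1 okFrom_chunk4
    exact exists_okFrom _ _ hk g (by omega) (by rw [beq_iff_eq.1 hl]; omega)
  by_cases hg5 : g ≤ 2292
  · obtain ⟨hk, hl⟩ := Bool.and_eq_true_iff.1 okFrom_chunk5
    exact exists_okFrom _ _ hk g (by omega) (by rw [beq_iff_eq.1 hl]; omega)
  by_cases hg6 : g ≤ 2492
  · obtain ⟨hk, hl⟩ := Bool.and_eq_true_iff.1 okFrom_chunk6
    exact exists_okFrom _ _ hk g (by omega) (by rw [beq_iff_eq.1 hl]; omega)
  by_cases hg7 : g ≤ 2692
  · obtain ⟨hk, hl⟩ := Bool.and_eq_true_iff.1 okFrom_chunk7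
    exact exists_okFrom _ _ hk g (by omega) (by rw [beq_iff_eq.1 hl]; omega)
  by_cases hg8 : g ≤ 2892
  · obtain ⟨hk, hl⟩ := Bool.and_eq_true_iff.1 okFrom_chunk8
    exact exists_okFrom _ _ hk g (by omega) (by rw [beq_iff_eq.1 hl]; omega)
  by_cases hg9 : g ≤ 3092
  · obtain ⟨hk, hl⟩ := Bool.and_eq_true_iff.1 okFrom_chunk9
    exact exists_okFrom _ _ hk g (by omega) (by rw [beq_iff_eq.1 hl]; omega)
  by_cases hg10 : g ≤ 3292
  · obtain ⟨hk, hl⟩ := Bool.and_eq_true_iff.1 okFrom_chunk10
    exact exists_okFrom _ _ hk g (by omega) (by rw [beq_iff_eq.1 hl]; omega)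
  by_cases hg11 : g ≤ 3492
  · obtain ⟨hk, hl⟩ := Bool.and_eq_true_iff.1 okFrom_chunk11
    exact exists_okFrom _ _ hk g (by omega) (by rw [beq_iff_eq.1 hl]; omega)
  by_cases hg12 : g ≤ 3640
  · obtain ⟨hk, hl⟩ := Bool.and_eq_true_iff.1 okFrom_chunk12
    exact exists_okFrom _ _ hk g (by omega) (by rw [beq_iff_eq.1 hl]; omega)
  omega

end CfsgLib.Perm.OrdersMid
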