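import Cfsg.Agent.Lib.Invol.OrdersThousandData

/-!
# Certificates for the orders from 1093 to 3640 (generated)
-/

set_option autoImplicit false
set_option linter.all false

namespace CfsgLib.Perm.OrdersMid

open CfsgLib.Invol.Thousand

set_option maxRecDepth 4000 in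
/-- Orders from 1093. -/
def chunk0 : List Cert := [
  ⟨1,1093,1,2,0⟩, ⟨1,2,1,547,1⟩, ⟨7,3,0,0,0⟩, ⟨1,2,3,137,1⟩, ⟨1,1097,1,2,0⟩, ⟨3,0,0,0,0⟩, ⟨1,7,1,157,1⟩, ⟨7,2,0,0,0⟩,
  ⟨1,3,1,367,1⟩, ⟨3,0,0,0,0⟩, ⟨1,1103,1,2,0⟩, ⟨5,23,34,0,0⟩, ⟨7,5,0,0,0⟩, ⟨3,0,0,0,0⟩, ⟨1,3,3,41,1⟩, ⟨1,2,2,277,1⟩,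
  ⟨1,1109,1,2,0⟩, ⟨3,0,0,0,0⟩, ⟨1,11,1,101,1⟩, ⟨1,2,3,139,1⟩, ⟨7,3,0,0,0⟩, ⟨1,2,1,557,1⟩, ⟨1,5,1,223,1⟩, ⟨4,31,1,0,0⟩,
  ⟨1,1117,1,2,0⟩, ⟨3,0,0,0,0⟩, ⟨1,3,1,373,1⟩, ⟨5,7,34,0,0⟩, ⟨1,19,1,59,1⟩, ⟨3,0,0,0,0⟩, ⟨1,1123,1,2,0⟩, ⟨1,2,2,281,1⟩,
  ⟨1,3,2,5,3⟩, ⟨1,2,1,563,1⟩, ⟨1,7,2,23,1⟩, ⟨4,47,1,0,0⟩, ⟨1,1129,1,2,0⟩, ⟨3,0,0,0,0⟩, ⟨7,3,0,0,0⟩, ⟨1,2,2,283,1⟩,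
  ⟨1,11,1,103,1⟩, ⟨3,0,0,0,0⟩, ⟨1,5,1,227,1⟩, ⟨1,2,4,71,1⟩, ⟨1,3,1,379,1⟩, ⟨1,2,1,569,1⟩, ⟨1,17,1,67,1⟩, ⟨5,19,34,0,0⟩,
  ⟨1,7,1,163,1⟩, ⟨1,2,1,571,1⟩, ⟨1,3,2,127,1⟩, ⟨4,13,1,0,0⟩, ⟨1,5,1,229,1⟩, ⟨3,0,0,0,0⟩, ⟨1,31,1,37,1⟩, ⟨7,2,0,0,0⟩,
  ⟨1,3,1,383,1⟩, ⟨3,0,0,0,0⟩, ⟨1,1151,1,2,0⟩, ⟨1,2,7,3,2⟩, ⟨1,1153,1,2,0⟩, ⟨1,2,1,577,1⟩, ⟨7,3,0,0,0⟩, ⟨1,2,2,17,2⟩,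
  ⟨1,13,1,89,1⟩, ⟨3,0,0,0,0⟩, ⟨1,19,1,61,1⟩, ⟨4,29,1,0,0⟩, ⟨1,3,3,43,1⟩, ⟨3,0,0,0,0⟩, ⟨1,1163,1,2,0⟩, ⟨4,97,1,0,0⟩,
  ⟨1,5,1,233,1⟩, ⟨3,0,0,0,0⟩, ⟨1,3,1,389,1⟩, ⟨1,2,4,73,1⟩, ⟨1,7,1,167,1⟩, ⟨3,0,0,0,0⟩, ⟨1,1171,1,2,0⟩, ⟨1,2,2,293,1⟩,
  ⟨7,3,0,0,0⟩, ⟨1,2,1,587,1⟩, ⟨1,5,2,47,1⟩, ⟨4,7,2,0,0⟩, ⟨1,11,1,107,1⟩, ⟨3,0,0,0,0⟩, ⟨1,3,2,131,1⟩, ⟨7,2,0,0,0⟩,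
  ⟨1,1181,1,2,0⟩, ⟨3,0,0,0,0⟩, ⟨1,7,1,13,2⟩, ⟨1,2,5,37,1⟩, ⟨7,3,0,0,0⟩, ⟨1,2,1,593,1⟩, ⟨1,1187,1,2,0⟩, ⟨5,11,35,0,0⟩,
  ⟨1,29,1,41,1⟩, ⟨3,0,0,0,0⟩, ⟨1,3,1,397,1⟩, ⟨1,2,3,149,1⟩, ⟨1,1193,1,2,0⟩, ⟨3,0,0,0,0⟩, ⟨1,5,1,239,1⟩, ⟨7,2,0,0,0⟩,
  ⟨7,3,0,0,0⟩, ⟨1,2,1,599,1⟩, ⟨1,11,1,109,1⟩, ⟨5,3,35,0,0⟩, ⟨1,1201,1,2,0⟩, ⟨1,2,1,601,1⟩, ⟨1,3,1,401,1⟩, ⟨7,2,0,0,0⟩,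
  ⟨1,5,1,241,1⟩, ⟨3,0,0,0,0⟩, ⟨1,17,1,71,1⟩, ⟨1,2,3,151,1⟩, ⟨7,3,0,0,0⟩, ⟨3,0,0,0,0⟩, ⟨1,7,1,173,1⟩, ⟨4,101,1,0,0⟩,
  ⟨1,1213,1,2,0⟩, ⟨1,2,1,607,1⟩, ⟨1,3,5,5,1⟩, ⟨1,2,6,19,1⟩, ⟨1,1217,1,2,0⟩, ⟨3,0,0,0,0⟩, ⟨1,23,1,53,1⟩, ⟨7,2,0,0,0⟩,
  ⟨7,3,0,0,0⟩, ⟨3,0,0,0,0⟩, ⟨1,1223,1,2,0⟩, ⟨5,17,35,0,0⟩, ⟨1,5,2,7,2⟩, ⟨1,2,1,613,1⟩, ⟨1,3,1,409,1⟩, ⟨1,2,2,307,1⟩,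
  ⟨1,1229,1,2,0⟩, ⟨3,0,0,0,0⟩, ⟨1,1231,1,2,0⟩, ⟨5,11,36,0,0⟩, ⟨1,3,2,137,1⟩, ⟨1,2,1,617,1⟩, ⟨7,5,0,0,0⟩, ⟨4,103,1,0,0⟩,
  ⟨1,1237,1,2,0⟩, ⟨1,2,1,619,1⟩, ⟨7,3,0,0,0⟩, ⟨4,31,1,0,0⟩, ⟨1,17,1,73,1⟩, ⟨3,0,0,0,0⟩, ⟨1,11,1,113,1⟩, ⟨1,2,2,311,1⟩,
  ⟨7,3,0,0,0⟩, ⟨3,0,0,0,0⟩, ⟨1,29,1,43,1⟩, ⟨4,13,1,0,0⟩, ⟨1,1249,1,2,0⟩, ⟨1,2,1,5,4⟩, ⟨1,3,2,139,1⟩, ⟨1,2,2,313,1⟩,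
  ⟨1,7,1,179,1⟩, ⟨3,0,0,0,0⟩, ⟨1,5,1,251,1⟩, ⟨1,2,3,157,1⟩, ⟨1,3,1,419,1⟩, ⟨3,0,0,0,0⟩, ⟨1,1259,1,2,0⟩, ⟨5,7,36,0,0⟩,
  ⟨1,13,1,97,1⟩, ⟨1,2,1,631,1⟩, ⟨1,3,1,421,1⟩, ⟨1,2,4,79,1⟩, ⟨7,5,0,0,0⟩, ⟨3,0,0,0,0⟩, ⟨1,7,1,181,1⟩, ⟨1,2,2,317,1⟩,
  ⟨1,3,3,47,1⟩, ⟨3,0,0,0,0⟩, ⟨1,31,1,41,1⟩, ⟨4,53,1,0,0⟩, ⟨1,19,1,67,1⟩, ⟨3,0,0,0,0⟩, ⟨7,3,0,0,0⟩, ⟨7,2,0,0,0⟩,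
  ⟨1,1277,1,2,0⟩, ⟨3,0,0,0,0⟩, ⟨1,1279,1,2,0⟩, ⟨1,2,8,5,1⟩, ⟨7,3,0,0,0⟩, ⟨1,2,1,641,1⟩, ⟨1,1283,1,2,0⟩, ⟨4,107,1,0,0⟩,
  ⟨1,5,1,257,1⟩, ⟨1,2,1,643,1⟩, ⟨7,3,0,0,0⟩, ⟨4,23,1,0,0⟩, ⟨1,1289,1,2,0⟩, ⟨3,0,0,0,0⟩, ⟨1,1291,1,2,0⟩, ⟨7,2,0,0,0⟩]

set_option maxRecDepth 4000 in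
/-- Orders from 1293. -/
def chunk1 : List Cert := [
  ⟨1,3,1,431,1⟩, ⟨1,2,1,647,1⟩, ⟨7,5,0,0,0⟩, ⟨1,2,4,3,4⟩, ⟨1,1297,1,2,0⟩, ⟨3,0,0,0,0⟩, ⟨1,3,1,433,1⟩, ⟨7,2,0,0,0⟩,
  ⟨1,1301,1,2,0⟩, ⟨3,0,0,0,0⟩, ⟨1,1303,1,2,0⟩, ⟨1,2,3,163,1⟩, ⟨7,3,0,0,0⟩, ⟨1,2,1,653,1⟩, ⟨1,1307,1,2,0⟩, ⟨4,109,1,0,0⟩,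
  ⟨7,7,0,0,0⟩, ⟨3,0,0,0,0⟩, ⟨7,3,0,0,0⟩, ⟨1,2,5,41,1⟩, ⟨1,13,1,101,1⟩, ⟨3,0,0,0,0⟩, ⟨1,5,1,263,1⟩, ⟨7,2,0,0,0⟩,
  ⟨1,3,1,439,1⟩, ⟨1,2,1,659,1⟩, ⟨1,1319,1,2,0⟩, ⟨5,11,37,0,0⟩, ⟨1,1321,1,2,0⟩, ⟨1,2,1,661,1⟩, ⟨1,3,3,7,2⟩, ⟨1,2,2,331,1⟩,
  ⟨1,5,2,53,1⟩, ⟨3,0,0,0,0⟩, ⟨1,1327,1,2,0⟩, ⟨1,2,4,83,1⟩, ⟨1,3,1,443,1⟩, ⟨3,0,0,0,0⟩, ⟨1,11,3,2,0⟩, ⟨4,37,1,0,0⟩,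
  ⟨1,31,1,43,1⟩, ⟨3,0,0,0,0⟩, ⟨7,3,0,0,0⟩, ⟨1,2,3,167,1⟩, ⟨1,7,1,191,1⟩, ⟨3,0,0,0,0⟩, ⟨1,13,1,103,1⟩, ⟨7,2,0,0,0⟩,
  ⟨1,3,2,149,1⟩, ⟨3,0,0,0,0⟩, ⟨1,17,1,79,1⟩, ⟨2,0,0,0,0⟩, ⟨1,5,1,269,1⟩, ⟨1,2,1,673,1⟩, ⟨1,3,1,449,1⟩, ⟨1,2,2,337,1⟩,
  ⟨1,19,1,71,1⟩, ⟨3,0,0,0,0⟩, ⟨1,7,1,193,1⟩, ⟨1,2,3,13,2⟩, ⟨7,3,0,0,0⟩, ⟨1,2,1,677,1⟩, ⟨1,5,1,271,1⟩, ⟨4,113,1,0,0⟩,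
  ⟨1,23,1,59,1⟩, ⟨3,0,0,0,0⟩, ⟨1,3,2,151,1⟩, ⟨4,17,1,0,0⟩, ⟨1,1361,1,2,0⟩, ⟨3,0,0,0,0⟩, ⟨1,29,1,47,1⟩, ⟨7,2,0,0,0⟩,
  ⟨7,3,0,0,0⟩, ⟨1,2,1,683,1⟩, ⟨1,1367,1,2,0⟩, ⟨4,19,1,0,0⟩, ⟨1,37,2,2,0⟩, ⟨3,0,0,0,0⟩, ⟨1,3,1,457,1⟩, ⟨1,2,2,7,3⟩,
  ⟨1,1373,1,2,0⟩, ⟨3,0,0,0,0⟩, ⟨1,5,3,11,1⟩, ⟨1,2,5,43,1⟩, ⟨1,3,4,17,1⟩, ⟨3,0,0,0,0⟩, ⟨1,7,1,197,1⟩, ⟨4,23,1,0,0⟩,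
  ⟨1,1381,1,2,0⟩, ⟨1,2,1,691,1⟩, ⟨1,3,1,461,1⟩, ⟨1,2,3,173,1⟩, ⟨1,5,1,277,1⟩, ⟨3,0,0,0,0⟩, ⟨1,19,1,73,1⟩, ⟨1,2,2,347,1⟩,
  ⟨1,3,1,463,1⟩, ⟨3,0,0,0,0⟩, ⟨1,13,1,107,1⟩, ⟨4,29,1,0,0⟩, ⟨1,7,1,199,1⟩, ⟨3,0,0,0,0⟩, ⟨7,3,0,0,0⟩, ⟨1,2,2,349,1⟩,
  ⟨1,11,1,127,1⟩, ⟨3,0,0,0,0⟩, ⟨1,1399,1,2,0⟩, ⟨5,7,38,0,0⟩, ⟨1,3,1,467,1⟩, ⟨1,2,1,701,1⟩, ⟨1,23,1,61,1⟩, ⟨6,13,38,4,0⟩,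
  ⟨1,5,1,281,1⟩, ⟨3,0,0,0,0⟩, ⟨7,3,0,0,0⟩, ⟨1,2,7,11,1⟩, ⟨1,1409,1,2,0⟩, ⟨3,0,0,0,0⟩, ⟨1,17,1,83,1⟩, ⟨1,2,2,353,1⟩,
  ⟨1,3,2,157,1⟩, ⟨3,0,0,0,0⟩, ⟨1,5,1,283,1⟩, ⟨4,59,1,0,0⟩, ⟨1,13,1,109,1⟩, ⟨1,2,1,709,1⟩, ⟨7,3,0,0,0⟩, ⟨7,2,0,0,0⟩,
  ⟨1,7,2,29,1⟩, ⟨3,0,0,0,0⟩, ⟨1,1423,1,2,0⟩, ⟨1,2,4,89,1⟩, ⟨7,3,0,0,0⟩, ⟨3,0,0,0,0⟩, ⟨1,1427,1,2,0⟩, ⟨4,17,1,0,0⟩,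
  ⟨1,1429,1,2,0⟩, ⟨3,0,0,0,0⟩, ⟨1,3,3,53,1⟩, ⟨1,2,3,179,1⟩, ⟨1,1433,1,2,0⟩, ⟨3,0,0,0,0⟩, ⟨7,5,0,0,0⟩, ⟨1,2,2,359,1⟩,
  ⟨1,3,1,479,1⟩, ⟨1,2,1,719,1⟩, ⟨1,1439,1,2,0⟩, ⟨5,5,38,0,0⟩, ⟨1,11,1,131,1⟩, ⟨3,0,0,0,0⟩, ⟨7,3,0,0,0⟩, ⟨1,2,2,19,2⟩,
  ⟨1,5,1,17,2⟩, ⟨3,0,0,0,0⟩, ⟨1,1447,1,2,0⟩, ⟨1,2,3,181,1⟩, ⟨7,3,0,0,0⟩, ⟨3,0,0,0,0⟩, ⟨1,1451,1,2,0⟩, ⟨4,11,2,0,0⟩,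
  ⟨1,1453,1,2,0⟩, ⟨1,2,1,727,1⟩, ⟨7,3,0,0,0⟩, ⟨4,7,1,0,0⟩, ⟨1,31,1,47,1⟩, ⟨1,2,1,3,6⟩, ⟨1,1459,1,2,0⟩, ⟨7,2,0,0,0⟩,
  ⟨1,3,1,487,1⟩, ⟨3,0,0,0,0⟩, ⟨7,7,0,0,0⟩, ⟨4,61,1,0,0⟩, ⟨1,5,1,293,1⟩, ⟨1,2,1,733,1⟩, ⟨1,3,2,163,1⟩, ⟨1,2,2,367,1⟩,
  ⟨1,13,1,113,1⟩, ⟨3,0,0,0,0⟩, ⟨1,1471,1,2,0⟩, ⟨1,2,6,23,1⟩, ⟨1,3,1,491,1⟩, ⟨3,0,0,0,0⟩, ⟨1,5,2,59,1⟩, ⟨4,41,1,0,0⟩,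
  ⟨1,7,1,211,1⟩, ⟨1,2,1,739,1⟩, ⟨7,3,0,0,0⟩, ⟨4,37,1,0,0⟩, ⟨1,1481,1,2,0⟩, ⟨3,0,0,0,0⟩, ⟨1,1483,1,2,0⟩, ⟨7,2,0,0,0⟩,
  ⟨5,11,39,0,0⟩, ⟨1,2,1,743,1⟩, ⟨1,1487,1,2,0⟩, ⟨4,31,1,0,0⟩, ⟨1,1489,1,2,0⟩, ⟨3,0,0,0,0⟩, ⟨7,3,0,0,0⟩, ⟨1,2,2,373,1⟩]

set_option maxRecDepth 4000 in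
/-- Orders from 1493. -/
def chunk2 : List Cert := [
  ⟨1,1493,1,2,0⟩, ⟨3,0,0,0,0⟩, ⟨7,5,0,0,0⟩, ⟨4,17,1,0,0⟩, ⟨1,3,1,499,1⟩, ⟨3,0,0,0,0⟩, ⟨1,1499,1,2,0⟩, ⟨4,5,3,0,0⟩,
  ⟨1,19,1,79,1⟩, ⟨1,2,1,751,1⟩, ⟨1,3,2,167,1⟩, ⟨1,2,5,47,1⟩, ⟨7,5,0,0,0⟩, ⟨3,0,0,0,0⟩, ⟨1,11,1,137,1⟩, ⟨7,2,0,0,0⟩,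
  ⟨1,3,1,503,1⟩, ⟨3,0,0,0,0⟩, ⟨1,1511,1,2,0⟩, ⟨2,0,0,0,0⟩, ⟨1,17,1,89,1⟩, ⟨1,2,1,757,1⟩, ⟨7,3,0,0,0⟩, ⟨1,2,2,379,1⟩,
  ⟨1,37,1,41,1⟩, ⟨3,0,0,0,0⟩, ⟨1,7,2,31,1⟩, ⟨5,19,39,0,0⟩, ⟨1,3,2,13,2⟩, ⟨1,2,1,761,1⟩, ⟨1,1523,1,2,0⟩, ⟨4,127,1,0,0⟩,
  ⟨1,5,2,61,1⟩, ⟨3,0,0,0,0⟩, ⟨1,3,1,509,1⟩, ⟨1,2,3,191,1⟩, ⟨1,11,1,139,1⟩, ⟨3,0,0,0,0⟩, ⟨1,1531,1,2,0⟩, ⟨1,2,2,383,1⟩,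
  ⟨7,3,0,0,0⟩, ⟨3,0,0,0,0⟩, ⟨1,5,1,307,1⟩, ⟨1,2,9,3,1⟩, ⟨1,29,1,53,1⟩, ⟨1,2,1,769,1⟩, ⟨1,3,4,19,1⟩, ⟨7,2,0,0,0⟩,
  ⟨1,23,1,67,1⟩, ⟨3,0,0,0,0⟩, ⟨1,1543,1,2,0⟩, ⟨1,2,3,193,1⟩, ⟨7,3,0,0,0⟩, ⟨1,2,1,773,1⟩, ⟨7,7,0,0,0⟩, ⟨4,43,1,0,0⟩,
  ⟨1,1549,1,2,0⟩, ⟨3,0,0,0,0⟩, ⟨7,3,0,0,0⟩, ⟨1,2,4,97,1⟩, ⟨1,1553,1,2,0⟩, ⟨3,0,0,0,0⟩, ⟨1,5,1,311,1⟩, ⟨1,2,2,389,1⟩,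
  ⟨1,3,2,173,1⟩, ⟨3,0,0,0,0⟩, ⟨1,1559,1,2,0⟩, ⟨5,13,40,0,0⟩, ⟨1,7,1,223,1⟩, ⟨3,0,0,0,0⟩, ⟨1,3,1,521,1⟩, ⟨7,2,0,0,0⟩,
  ⟨1,5,1,313,1⟩, ⟨3,0,0,0,0⟩, ⟨1,1567,1,2,0⟩, ⟨1,2,5,7,2⟩, ⟨1,3,1,523,1⟩, ⟨3,0,0,0,0⟩, ⟨1,1571,1,2,0⟩, ⟨4,131,1,0,0⟩,
  ⟨1,11,2,13,1⟩, ⟨1,2,1,787,1⟩, ⟨7,3,0,0,0⟩, ⟨1,2,3,197,1⟩, ⟨1,19,1,83,1⟩, ⟨3,0,0,0,0⟩, ⟨1,1579,1,2,0⟩, ⟨7,2,0,0,0⟩,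
  ⟨7,3,0,0,0⟩, ⟨3,0,0,0,0⟩, ⟨1,1583,1,2,0⟩, ⟨5,11,40,0,0⟩, ⟨1,5,1,317,1⟩, ⟨3,0,0,0,0⟩, ⟨1,3,1,23,2⟩, ⟨1,2,2,397,1⟩,
  ⟨1,7,1,227,1⟩, ⟨3,0,0,0,0⟩, ⟨1,37,1,43,1⟩, ⟨1,2,3,199,1⟩, ⟨1,3,3,59,1⟩, ⟨1,2,1,797,1⟩, ⟨7,5,0,0,0⟩, ⟨4,19,1,0,0⟩,
  ⟨1,1597,1,2,0⟩, ⟨3,0,0,0,0⟩, ⟨7,3,0,0,0⟩, ⟨1,2,6,5,2⟩, ⟨1,1601,1,2,0⟩, ⟨3,0,0,0,0⟩, ⟨1,7,1,229,1⟩, ⟨1,2,2,401,1⟩,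
  ⟨7,3,0,0,0⟩, ⟨3,0,0,0,0⟩, ⟨1,1607,1,2,0⟩, ⟨4,67,1,0,0⟩, ⟨1,1609,1,2,0⟩, ⟨3,0,0,0,0⟩, ⟨1,3,2,179,1⟩, ⟨7,2,0,0,0⟩,
  ⟨1,1613,1,2,0⟩, ⟨3,0,0,0,0⟩, ⟨7,5,0,0,0⟩, ⟨1,2,4,101,1⟩, ⟨7,3,0,0,0⟩, ⟨1,2,1,809,1⟩, ⟨1,1619,1,2,0⟩, ⟨6,5,41,4,0⟩,
  ⟨1,1621,1,2,0⟩, ⟨1,2,1,811,1⟩, ⟨1,3,1,541,1⟩, ⟨4,29,1,0,0⟩, ⟨1,5,3,13,1⟩, ⟨3,0,0,0,0⟩, ⟨1,1627,1,2,0⟩, ⟨7,2,0,0,0⟩,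
  ⟨1,3,2,181,1⟩, ⟨3,0,0,0,0⟩, ⟨1,7,1,233,1⟩, ⟨4,17,1,0,0⟩, ⟨1,23,1,71,1⟩, ⟨3,0,0,0,0⟩, ⟨7,3,0,0,0⟩, ⟨1,2,2,409,1⟩,
  ⟨1,1637,1,2,0⟩, ⟨3,0,0,0,0⟩, ⟨1,11,1,149,1⟩, ⟨4,41,1,0,0⟩, ⟨1,3,1,547,1⟩, ⟨1,2,1,821,1⟩, ⟨1,31,1,53,1⟩, ⟨4,137,1,0,0⟩,
  ⟨7,5,0,0,0⟩, ⟨1,2,1,823,1⟩, ⟨1,3,3,61,1⟩, ⟨1,2,4,103,1⟩, ⟨1,17,1,97,1⟩, ⟨3,0,0,0,0⟩, ⟨1,13,1,127,1⟩, ⟨7,2,0,0,0⟩,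
  ⟨7,3,0,0,0⟩, ⟨1,2,1,827,1⟩, ⟨1,5,1,331,1⟩, ⟨5,23,41,0,0⟩, ⟨1,1657,1,2,0⟩, ⟨1,2,1,829,1⟩, ⟨7,3,0,0,0⟩, ⟨7,2,0,0,0⟩,
  ⟨1,11,1,151,1⟩, ⟨3,0,0,0,0⟩, ⟨1,1663,1,2,0⟩, ⟨1,2,7,13,1⟩, ⟨7,3,0,0,0⟩, ⟨3,0,0,0,0⟩, ⟨1,1667,1,2,0⟩, ⟨4,139,1,0,0⟩,
  ⟨1,1669,1,2,0⟩, ⟨3,0,0,0,0⟩, ⟨1,3,1,557,1⟩, ⟨4,19,1,0,0⟩, ⟨1,7,1,239,1⟩, ⟨3,0,0,0,0⟩, ⟨1,5,2,67,1⟩, ⟨1,2,2,419,1⟩,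
  ⟨7,3,0,0,0⟩, ⟨1,2,1,839,1⟩, ⟨1,23,1,73,1⟩, ⟨2,0,0,0,0⟩, ⟨1,41,2,2,0⟩, ⟨1,2,1,29,2⟩, ⟨7,3,0,0,0⟩, ⟨1,2,2,421,1⟩,
  ⟨1,5,1,337,1⟩, ⟨3,0,0,0,0⟩, ⟨1,7,1,241,1⟩, ⟨1,2,3,211,1⟩, ⟨1,3,1,563,1⟩, ⟨3,0,0,0,0⟩, ⟨1,19,1,89,1⟩, ⟨4,47,1,0,0⟩]

set_option maxRecDepth 4000 in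
/-- Orders from 1693. -/
def chunk3 : List Cert := [
  ⟨1,1693,1,2,0⟩, ⟨3,0,0,0,0⟩, ⟨7,3,0,0,0⟩, ⟨1,2,5,53,1⟩, ⟨1,1697,1,2,0⟩, ⟨3,0,0,0,0⟩, ⟨1,1699,1,2,0⟩, ⟨7,2,0,0,0⟩,
  ⟨1,3,5,7,1⟩, ⟨3,0,0,0,0⟩, ⟨1,13,1,131,1⟩, ⟨4,71,1,0,0⟩, ⟨7,5,0,0,0⟩, ⟨1,2,1,853,1⟩, ⟨1,3,1,569,1⟩, ⟨7,2,0,0,0⟩,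
  ⟨1,1709,1,2,0⟩, ⟨3,0,0,0,0⟩, ⟨1,29,1,59,1⟩, ⟨1,2,4,107,1⟩, ⟨1,3,1,571,1⟩, ⟨1,2,1,857,1⟩, ⟨1,5,1,7,3⟩, ⟨5,3,42,0,0⟩,
  ⟨1,17,1,101,1⟩, ⟨1,2,1,859,1⟩, ⟨1,3,2,191,1⟩, ⟨4,43,1,0,0⟩, ⟨1,1721,1,2,0⟩, ⟨3,0,0,0,0⟩, ⟨1,1723,1,2,0⟩, ⟨1,2,2,431,1⟩,
  ⟨7,3,0,0,0⟩, ⟨1,2,1,863,1⟩, ⟨1,11,1,157,1⟩, ⟨1,2,6,3,3⟩, ⟨7,7,0,0,0⟩, ⟨3,0,0,0,0⟩, ⟨1,3,1,577,1⟩, ⟨1,2,2,433,1⟩,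
  ⟨1,1733,1,2,0⟩, ⟨3,0,0,0,0⟩, ⟨1,5,1,347,1⟩, ⟨4,31,1,0,0⟩, ⟨1,3,2,193,1⟩, ⟨3,0,0,0,0⟩, ⟨1,37,1,47,1⟩, ⟨5,29,42,0,0⟩,
  ⟨1,1741,1,2,0⟩, ⟨3,0,0,0,0⟩, ⟨7,3,0,0,0⟩, ⟨1,2,4,109,1⟩, ⟨1,5,1,349,1⟩, ⟨3,0,0,0,0⟩, ⟨1,1747,1,2,0⟩, ⟨7,2,0,0,0⟩,
  ⟨7,3,0,0,0⟩, ⟨3,0,0,0,0⟩, ⟨1,17,1,103,1⟩, ⟨4,73,1,0,0⟩, ⟨1,1753,1,2,0⟩, ⟨1,2,1,877,1⟩, ⟨5,13,42,0,0⟩, ⟨1,2,2,439,1⟩,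
  ⟨1,7,1,251,1⟩, ⟨3,0,0,0,0⟩, ⟨1,1759,1,2,0⟩, ⟨4,11,1,0,0⟩, ⟨1,3,1,587,1⟩, ⟨1,2,1,881,1⟩, ⟨1,41,1,43,1⟩, ⟨2,0,0,0,0⟩,
  ⟨1,5,1,353,1⟩, ⟨1,2,1,883,1⟩, ⟨7,3,0,0,0⟩, ⟨4,13,1,0,0⟩, ⟨1,29,1,61,1⟩, ⟨3,0,0,0,0⟩, ⟨7,7,0,0,0⟩, ⟨1,2,2,443,1⟩,
  ⟨1,3,2,197,1⟩, ⟨1,2,1,887,1⟩, ⟨1,5,2,71,1⟩, ⟨4,37,1,0,0⟩, ⟨1,1777,1,2,0⟩, ⟨3,0,0,0,0⟩, ⟨1,3,1,593,1⟩, ⟨7,2,0,0,0⟩,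
  ⟨1,13,1,137,1⟩, ⟨3,0,0,0,0⟩, ⟨1,1783,1,2,0⟩, ⟨1,2,3,223,1⟩, ⟨7,3,0,0,0⟩, ⟨3,0,0,0,0⟩, ⟨1,1787,1,2,0⟩, ⟨4,149,1,0,0⟩,
  ⟨1,1789,1,2,0⟩, ⟨3,0,0,0,0⟩, ⟨1,3,2,199,1⟩, ⟨1,2,8,7,1⟩, ⟨1,11,1,163,1⟩, ⟨3,0,0,0,0⟩, ⟨1,5,1,359,1⟩, ⟨1,2,2,449,1⟩,
  ⟨1,3,1,599,1⟩, ⟨3,0,0,0,0⟩, ⟨1,7,1,257,1⟩, ⟨2,0,0,0,0⟩, ⟨1,1801,1,2,0⟩, ⟨3,0,0,0,0⟩, ⟨1,3,1,601,1⟩, ⟨7,2,0,0,0⟩,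
  ⟨1,5,1,19,2⟩, ⟨3,0,0,0,0⟩, ⟨1,13,1,139,1⟩, ⟨1,2,4,113,1⟩, ⟨1,3,3,67,1⟩, ⟨3,0,0,0,0⟩, ⟨1,1811,1,2,0⟩, ⟨4,151,1,0,0⟩,
  ⟨1,7,2,37,1⟩, ⟨1,2,1,907,1⟩, ⟨7,3,0,0,0⟩, ⟨1,2,3,227,1⟩, ⟨1,23,1,79,1⟩, ⟨3,0,0,0,0⟩, ⟨1,17,1,107,1⟩, ⟨7,2,0,0,0⟩,
  ⟨1,3,1,607,1⟩, ⟨1,2,1,911,1⟩, ⟨1,1823,1,2,0⟩, ⟨5,19,43,0,0⟩, ⟨1,5,2,73,1⟩, ⟨3,0,0,0,0⟩, ⟨7,3,0,0,0⟩, ⟨1,2,2,457,1⟩,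
  ⟨1,31,1,59,1⟩, ⟨3,0,0,0,0⟩, ⟨1,1831,1,2,0⟩, ⟨1,2,3,229,1⟩, ⟨7,3,0,0,0⟩, ⟨3,0,0,0,0⟩, ⟨1,5,1,367,1⟩, ⟨5,17,43,0,0⟩,
  ⟨1,11,1,167,1⟩, ⟨1,2,1,919,1⟩, ⟨1,3,1,613,1⟩, ⟨4,23,1,0,0⟩, ⟨1,7,1,263,1⟩, ⟨3,0,0,0,0⟩, ⟨1,19,1,97,1⟩, ⟨1,2,2,461,1⟩,
  ⟨7,3,0,0,0⟩, ⟨3,0,0,0,0⟩, ⟨1,1847,1,2,0⟩, ⟨5,11,43,0,0⟩, ⟨1,43,2,2,0⟩, ⟨3,0,0,0,0⟩, ⟨1,3,1,617,1⟩, ⟨1,2,2,463,1⟩,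
  ⟨1,17,1,109,1⟩, ⟨3,0,0,0,0⟩, ⟨7,5,0,0,0⟩, ⟨1,2,6,29,1⟩, ⟨1,3,1,619,1⟩, ⟨1,2,1,929,1⟩, ⟨1,11,1,13,2⟩, ⟨4,31,1,0,0⟩,
  ⟨1,1861,1,2,0⟩, ⟨3,0,0,0,0⟩, ⟨1,3,4,23,1⟩, ⟨1,2,3,233,1⟩, ⟨1,5,1,373,1⟩, ⟨3,0,0,0,0⟩, ⟨1,1867,1,2,0⟩, ⟨1,2,2,467,1⟩,
  ⟨7,3,0,0,0⟩, ⟨3,0,0,0,0⟩, ⟨1,1871,1,2,0⟩, ⟨5,13,44,0,0⟩, ⟨1,1873,1,2,0⟩, ⟨1,2,1,937,1⟩, ⟨1,3,1,5,4⟩, ⟨7,2,0,0,0⟩,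
  ⟨1,1877,1,2,0⟩, ⟨3,0,0,0,0⟩, ⟨1,1879,1,2,0⟩, ⟨4,47,1,0,0⟩, ⟨7,3,0,0,0⟩, ⟨1,2,1,941,1⟩, ⟨1,7,1,269,1⟩, ⟨4,157,1,0,0⟩,
  ⟨7,5,0,0,0⟩, ⟨3,0,0,0,0⟩, ⟨7,3,0,0,0⟩, ⟨1,2,5,59,1⟩, ⟨1,1889,1,2,0⟩, ⟨3,0,0,0,0⟩, ⟨1,31,1,61,1⟩, ⟨7,2,0,0,0⟩]

set_option maxRecDepth 4000 in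
/-- Orders from 1893. -/
def chunk4 : List Cert := [
  ⟨1,3,1,631,1⟩, ⟨1,2,1,947,1⟩, ⟨1,5,1,379,1⟩, ⟨4,79,1,0,0⟩, ⟨1,7,1,271,1⟩, ⟨3,0,0,0,0⟩, ⟨1,3,2,211,1⟩, ⟨7,2,0,0,0⟩,
  ⟨1,1901,1,2,0⟩, ⟨3,0,0,0,0⟩, ⟨1,11,1,173,1⟩, ⟨4,17,1,0,0⟩, ⟨7,3,0,0,0⟩, ⟨1,2,1,953,1⟩, ⟨1,1907,1,2,0⟩, ⟨4,53,1,0,0⟩,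
  ⟨1,23,1,83,1⟩, ⟨3,0,0,0,0⟩, ⟨7,3,0,0,0⟩, ⟨1,2,3,239,1⟩, ⟨1,1913,1,2,0⟩, ⟨3,0,0,0,0⟩, ⟨1,5,1,383,1⟩, ⟨1,2,2,479,1⟩,
  ⟨1,3,3,71,1⟩, ⟨3,0,0,0,0⟩, ⟨1,19,1,101,1⟩, ⟨5,5,44,0,0⟩, ⟨1,17,1,113,1⟩, ⟨1,2,1,31,2⟩, ⟨1,3,1,641,1⟩, ⟨7,2,0,0,0⟩,
  ⟨7,5,0,0,0⟩, ⟨3,0,0,0,0⟩, ⟨1,41,1,47,1⟩, ⟨1,2,3,241,1⟩, ⟨1,3,1,643,1⟩, ⟨3,0,0,0,0⟩, ⟨1,1931,1,2,0⟩, ⟨4,23,1,0,0⟩,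
  ⟨1,1933,1,2,0⟩, ⟨1,2,1,967,1⟩, ⟨7,3,0,0,0⟩, ⟨1,2,4,11,2⟩, ⟨1,13,1,149,1⟩, ⟨3,0,0,0,0⟩, ⟨1,7,1,277,1⟩, ⟨7,2,0,0,0⟩,
  ⟨1,3,1,647,1⟩, ⟨1,2,1,971,1⟩, ⟨1,29,1,67,1⟩, ⟨1,2,3,3,5⟩, ⟨1,5,1,389,1⟩, ⟨3,0,0,0,0⟩, ⟨7,3,0,0,0⟩, ⟨1,2,2,487,1⟩,
  ⟨1,1949,1,2,0⟩, ⟨3,0,0,0,0⟩, ⟨1,1951,1,2,0⟩, ⟨1,2,5,61,1⟩, ⟨7,3,0,0,0⟩, ⟨1,2,1,977,1⟩, ⟨7,5,0,0,0⟩, ⟨4,163,1,0,0⟩,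
  ⟨1,19,1,103,1⟩, ⟨3,0,0,0,0⟩, ⟨1,3,1,653,1⟩, ⟨4,7,2,0,0⟩, ⟨1,37,1,53,1⟩, ⟨3,0,0,0,0⟩, ⟨1,13,1,151,1⟩, ⟨1,2,2,491,1⟩,
  ⟨7,3,0,0,0⟩, ⟨1,2,1,983,1⟩, ⟨1,7,1,281,1⟩, ⟨4,41,1,0,0⟩, ⟨1,11,1,179,1⟩, ⟨3,0,0,0,0⟩, ⟨1,3,3,73,1⟩, ⟨7,2,0,0,0⟩,
  ⟨1,1973,1,2,0⟩, ⟨3,0,0,0,0⟩, ⟨1,5,2,79,1⟩, ⟨4,19,1,0,0⟩, ⟨1,3,1,659,1⟩, ⟨3,0,0,0,0⟩, ⟨1,1979,1,2,0⟩, ⟨5,11,45,0,0⟩,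
  ⟨1,7,1,283,1⟩, ⟨1,2,1,991,1⟩, ⟨1,3,1,661,1⟩, ⟨1,2,6,31,1⟩, ⟨1,5,1,397,1⟩, ⟨3,0,0,0,0⟩, ⟨1,1987,1,2,0⟩, ⟨7,2,0,0,0⟩,
  ⟨7,3,0,0,0⟩, ⟨3,0,0,0,0⟩, ⟨1,11,1,181,1⟩, ⟨4,83,1,0,0⟩, ⟨1,1993,1,2,0⟩, ⟨1,2,1,997,1⟩, ⟨7,3,0,0,0⟩, ⟨1,2,2,499,1⟩,
  ⟨1,1997,1,2,0⟩, ⟨3,0,0,0,0⟩, ⟨1,1999,1,2,0⟩, ⟨1,2,4,5,3⟩, ⟨7,3,0,0,0⟩, ⟨3,0,0,0,0⟩, ⟨1,2003,1,2,0⟩, ⟨4,167,1,0,0⟩,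
  ⟨1,5,1,401,1⟩, ⟨3,0,0,0,0⟩, ⟨1,3,2,223,1⟩, ⟨1,2,3,251,1⟩, ⟨1,7,2,41,1⟩, ⟨3,0,0,0,0⟩, ⟨1,2011,1,2,0⟩, ⟨1,2,2,503,1⟩,
  ⟨7,3,0,0,0⟩, ⟨3,0,0,0,0⟩, ⟨7,5,0,0,0⟩, ⟨5,7,45,0,0⟩, ⟨1,2017,1,2,0⟩, ⟨1,2,1,1009,1⟩, ⟨1,3,1,673,1⟩, ⟨7,2,0,0,0⟩,
  ⟨1,43,1,47,1⟩, ⟨3,0,0,0,0⟩, ⟨1,7,1,17,2⟩, ⟨4,23,1,0,0⟩, ⟨1,3,4,5,2⟩, ⟨1,2,1,1013,1⟩, ⟨1,2027,1,2,0⟩, ⟨4,13,2,0,0⟩,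
  ⟨1,2029,1,2,0⟩, ⟨3,0,0,0,0⟩, ⟨1,3,1,677,1⟩, ⟨1,2,4,127,1⟩, ⟨1,19,1,107,1⟩, ⟨3,0,0,0,0⟩, ⟨7,5,0,0,0⟩, ⟨1,2,2,509,1⟩,
  ⟨7,3,0,0,0⟩, ⟨1,2,1,1019,1⟩, ⟨1,2039,1,2,0⟩, ⟨5,17,46,0,0⟩, ⟨1,13,1,157,1⟩, ⟨1,2,1,1021,1⟩, ⟨1,3,2,227,1⟩, ⟨7,2,0,0,0⟩,
  ⟨1,5,1,409,1⟩, ⟨3,0,0,0,0⟩, ⟨1,23,1,89,1⟩, ⟨1,2,11,3,0⟩, ⟨1,3,1,683,1⟩, ⟨3,0,0,0,0⟩, ⟨1,7,1,293,1⟩, ⟨4,19,1,0,0⟩,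
  ⟨1,2053,1,2,0⟩, ⟨3,0,0,0,0⟩, ⟨7,3,0,0,0⟩, ⟨1,2,3,257,1⟩, ⟨1,11,2,17,1⟩, ⟨3,0,0,0,0⟩, ⟨1,29,1,71,1⟩, ⟨7,2,0,0,0⟩,
  ⟨1,3,2,229,1⟩, ⟨1,2,1,1031,1⟩, ⟨1,2063,1,2,0⟩, ⟨4,43,1,0,0⟩, ⟨7,5,0,0,0⟩, ⟨1,2,1,1033,1⟩, ⟨7,3,0,0,0⟩, ⟨7,2,0,0,0⟩,
  ⟨1,2069,1,2,0⟩, ⟨3,0,0,0,0⟩, ⟨1,19,1,109,1⟩, ⟨4,37,1,0,0⟩, ⟨1,3,1,691,1⟩, ⟨3,0,0,0,0⟩, ⟨1,5,2,83,1⟩, ⟨4,173,1,0,0⟩,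
  ⟨1,31,1,67,1⟩, ⟨1,2,1,1039,1⟩, ⟨4,11,1,0,0⟩, ⟨5,13,46,0,0⟩, ⟨1,2081,1,2,0⟩, ⟨3,0,0,0,0⟩, ⟨1,2083,1,2,0⟩, ⟨1,2,2,521,1⟩,
  ⟨7,3,0,0,0⟩, ⟨3,0,0,0,0⟩, ⟨1,2087,1,2,0⟩, ⟨4,29,1,0,0⟩, ⟨1,2089,1,2,0⟩, ⟨3,0,0,0,0⟩, ⟨7,3,0,0,0⟩, ⟨1,2,2,523,1⟩]

set_option maxRecDepth 4000 in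
/-- Orders from 2093. -/
def chunk5 : List Cert := [
  ⟨7,7,0,0,0⟩, ⟨3,0,0,0,0⟩, ⟨1,5,1,419,1⟩, ⟨1,2,4,131,1⟩, ⟨1,3,2,233,1⟩, ⟨1,2,1,1049,1⟩, ⟨1,2099,1,2,0⟩, ⟨5,3,46,0,0⟩,
  ⟨1,11,1,191,1⟩, ⟨1,2,1,1051,1⟩, ⟨1,3,1,701,1⟩, ⟨1,2,3,263,1⟩, ⟨1,5,1,421,1⟩, ⟨3,0,0,0,0⟩, ⟨1,7,2,43,1⟩, ⟨7,2,0,0,0⟩,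
  ⟨7,3,0,0,0⟩, ⟨3,0,0,0,0⟩, ⟨1,2111,1,2,0⟩, ⟨5,11,46,0,0⟩, ⟨1,2113,1,2,0⟩, ⟨3,0,0,0,0⟩, ⟨7,3,0,0,0⟩, ⟨1,2,2,23,2⟩,
  ⟨1,29,1,73,1⟩, ⟨3,0,0,0,0⟩, ⟨1,13,1,163,1⟩, ⟨4,53,1,0,0⟩, ⟨7,3,0,0,0⟩, ⟨1,2,1,1061,1⟩, ⟨1,11,1,193,1⟩, ⟨4,59,1,0,0⟩,
  ⟨1,5,3,17,1⟩, ⟨1,2,1,1063,1⟩, ⟨1,3,1,709,1⟩, ⟨4,19,1,0,0⟩, ⟨1,2129,1,2,0⟩, ⟨3,0,0,0,0⟩, ⟨1,2131,1,2,0⟩, ⟨7,2,0,0,0⟩,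
  ⟨1,3,3,79,1⟩, ⟨3,0,0,0,0⟩, ⟨7,5,0,0,0⟩, ⟨4,89,1,0,0⟩, ⟨1,2137,1,2,0⟩, ⟨1,2,1,1069,1⟩, ⟨7,3,0,0,0⟩, ⟨7,2,0,0,0⟩,
  ⟨1,2141,1,2,0⟩, ⟨3,0,0,0,0⟩, ⟨1,2143,1,2,0⟩, ⟨1,2,5,67,1⟩, ⟨7,3,0,0,0⟩, ⟨3,0,0,0,0⟩, ⟨1,19,1,113,1⟩, ⟨4,179,1,0,0⟩,
  ⟨1,7,1,307,1⟩, ⟨3,0,0,0,0⟩, ⟨1,3,2,239,1⟩, ⟨1,2,3,269,1⟩, ⟨1,2153,1,2,0⟩, ⟨3,0,0,0,0⟩, ⟨1,5,1,431,1⟩, ⟨7,2,0,0,0⟩,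
  ⟨1,3,1,719,1⟩, ⟨3,0,0,0,0⟩, ⟨1,17,1,127,1⟩, ⟨6,5,47,16,0⟩, ⟨1,2161,1,2,0⟩, ⟨3,0,0,0,0⟩, ⟨7,3,0,0,0⟩, ⟨1,2,2,541,1⟩,
  ⟨1,5,1,433,1⟩, ⟨3,0,0,0,0⟩, ⟨1,11,1,197,1⟩, ⟨1,2,3,271,1⟩, ⟨1,3,2,241,1⟩, ⟨3,0,0,0,0⟩, ⟨1,13,1,167,1⟩, ⟨4,181,1,0,0⟩,
  ⟨1,41,1,53,1⟩, ⟨1,2,1,1087,1⟩, ⟨7,3,0,0,0⟩, ⟨1,2,7,17,1⟩, ⟨1,7,1,311,1⟩, ⟨3,0,0,0,0⟩, ⟨1,2179,1,2,0⟩, ⟨7,2,0,0,0⟩,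
  ⟨1,3,1,727,1⟩, ⟨1,2,1,1091,1⟩, ⟨1,37,1,59,1⟩, ⟨5,13,47,0,0⟩, ⟨7,5,0,0,0⟩, ⟨1,2,1,1093,1⟩, ⟨1,3,7,2,0⟩, ⟨1,2,2,547,1⟩,
  ⟨1,11,1,199,1⟩, ⟨3,0,0,0,0⟩, ⟨1,7,1,313,1⟩, ⟨1,2,4,137,1⟩, ⟨7,3,0,0,0⟩, ⟨1,2,1,1097,1⟩, ⟨1,5,1,439,1⟩, ⟨4,61,1,0,0⟩,
  ⟨1,13,3,2,0⟩, ⟨3,0,0,0,0⟩, ⟨1,3,1,733,1⟩, ⟨5,11,47,0,0⟩, ⟨1,31,1,71,1⟩, ⟨3,0,0,0,0⟩, ⟨1,2203,1,2,0⟩, ⟨7,2,0,0,0⟩,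
  ⟨7,3,0,0,0⟩, ⟨1,2,1,1103,1⟩, ⟨1,2207,1,2,0⟩, ⟨5,23,47,0,0⟩, ⟨1,47,2,2,0⟩, ⟨3,0,0,0,0⟩, ⟨7,3,0,0,0⟩, ⟨7,2,0,0,0⟩,
  ⟨1,2213,1,2,0⟩, ⟨3,0,0,0,0⟩, ⟨1,5,1,443,1⟩, ⟨1,2,3,277,1⟩, ⟨1,3,1,739,1⟩, ⟨1,2,1,1109,1⟩, ⟨1,7,1,317,1⟩, ⟨4,37,1,0,0⟩,
  ⟨1,2221,1,2,0⟩, ⟨3,0,0,0,0⟩, ⟨7,3,0,0,0⟩, ⟨1,2,4,139,1⟩, ⟨1,5,2,89,1⟩, ⟨3,0,0,0,0⟩, ⟨1,17,1,131,1⟩, ⟨1,2,2,557,1⟩,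
  ⟨1,3,1,743,1⟩, ⟨3,0,0,0,0⟩, ⟨1,23,1,97,1⟩, ⟨4,31,1,0,0⟩, ⟨7,7,0,0,0⟩, ⟨1,2,1,1117,1⟩, ⟨7,3,0,0,0⟩, ⟨7,2,0,0,0⟩,
  ⟨1,2237,1,2,0⟩, ⟨3,0,0,0,0⟩, ⟨1,2239,1,2,0⟩, ⟨5,7,48,0,0⟩, ⟨1,3,3,83,1⟩, ⟨3,0,0,0,0⟩, ⟨1,2243,1,2,0⟩, ⟨4,17,1,0,0⟩,
  ⟨1,5,1,449,1⟩, ⟨1,2,1,1123,1⟩, ⟨7,3,0,0,0⟩, ⟨1,2,3,281,1⟩, ⟨1,13,1,173,1⟩, ⟨3,0,0,0,0⟩, ⟨1,2251,1,2,0⟩, ⟨1,2,2,563,1⟩,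
  ⟨1,3,1,751,1⟩, ⟨3,0,0,0,0⟩, ⟨7,5,0,0,0⟩, ⟨5,47,48,0,0⟩, ⟨1,37,1,61,1⟩, ⟨1,2,1,1129,1⟩, ⟨1,3,2,251,1⟩, ⟨7,2,0,0,0⟩,
  ⟨7,7,0,0,0⟩, ⟨3,0,0,0,0⟩, ⟨1,31,1,73,1⟩, ⟨1,2,3,283,1⟩, ⟨7,3,0,0,0⟩, ⟨3,0,0,0,0⟩, ⟨1,2267,1,2,0⟩, ⟨5,7,48,0,0⟩,
  ⟨1,2269,1,2,0⟩, ⟨3,0,0,0,0⟩, ⟨1,3,1,757,1⟩, ⟨1,2,5,71,1⟩, ⟨1,2273,1,2,0⟩, ⟨3,0,0,0,0⟩, ⟨7,5,0,0,0⟩, ⟨1,2,2,569,1⟩,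
  ⟨7,3,0,0,0⟩, ⟨3,0,0,0,0⟩, ⟨1,43,1,53,1⟩, ⟨5,19,48,0,0⟩, ⟨1,2281,1,2,0⟩, ⟨3,0,0,0,0⟩, ⟨1,3,1,761,1⟩, ⟨1,2,2,571,1⟩,
  ⟨1,5,1,457,1⟩, ⟨3,0,0,0,0⟩, ⟨1,2287,1,2,0⟩, ⟨4,13,1,0,0⟩, ⟨7,3,0,0,0⟩, ⟨3,0,0,0,0⟩, ⟨1,29,1,79,1⟩, ⟨4,191,1,0,0⟩]

set_option maxRecDepth 4000 in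
/-- Orders from 2293. -/
def chunk6 : List Cert := [
  ⟨1,2293,1,2,0⟩, ⟨3,0,0,0,0⟩, ⟨4,17,1,0,0⟩, ⟨4,41,1,0,0⟩, ⟨1,2297,1,2,0⟩, ⟨3,0,0,0,0⟩, ⟨1,11,2,19,1⟩, ⟨7,2,0,0,0⟩,
  ⟨7,3,0,0,0⟩, ⟨1,2,1,1151,1⟩, ⟨1,7,2,47,1⟩, ⟨1,2,8,3,2⟩, ⟨1,5,1,461,1⟩, ⟨1,2,1,1153,1⟩, ⟨1,3,1,769,1⟩, ⟨1,2,2,577,1⟩,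
  ⟨1,2309,1,2,0⟩, ⟨3,0,0,0,0⟩, ⟨1,2311,1,2,0⟩, ⟨1,2,3,17,2⟩, ⟨1,3,2,257,1⟩, ⟨3,0,0,0,0⟩, ⟨1,5,1,463,1⟩, ⟨4,193,1,0,0⟩,
  ⟨1,7,1,331,1⟩, ⟨3,0,0,0,0⟩, ⟨1,3,1,773,1⟩, ⟨4,29,1,0,0⟩, ⟨1,11,1,211,1⟩, ⟨3,0,0,0,0⟩, ⟨1,23,1,101,1⟩, ⟨7,2,0,0,0⟩,
  ⟨7,3,0,0,0⟩, ⟨1,2,1,1163,1⟩, ⟨1,13,1,179,1⟩, ⟨4,97,1,0,0⟩, ⟨1,17,1,137,1⟩, ⟨3,0,0,0,0⟩, ⟨7,3,0,0,0⟩, ⟨7,2,0,0,0⟩,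
  ⟨1,2333,1,2,0⟩, ⟨3,0,0,0,0⟩, ⟨1,5,1,467,1⟩, ⟨1,2,5,73,1⟩, ⟨7,3,0,0,0⟩, ⟨3,0,0,0,0⟩, ⟨1,2339,1,2,0⟩, ⟨4,13,1,0,0⟩,
  ⟨1,2341,1,2,0⟩, ⟨1,2,1,1171,1⟩, ⟨7,3,0,0,0⟩, ⟨1,2,3,293,1⟩, ⟨7,5,0,0,0⟩, ⟨3,0,0,0,0⟩, ⟨1,2347,1,2,0⟩, ⟨1,2,2,587,1⟩,
  ⟨1,3,4,29,1⟩, ⟨3,0,0,0,0⟩, ⟨1,2351,1,2,0⟩, ⟨4,7,2,0,0⟩, ⟨1,13,1,181,1⟩, ⟨3,0,0,0,0⟩, ⟨7,3,0,0,0⟩, ⟨7,2,0,0,0⟩,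
  ⟨1,2357,1,2,0⟩, ⟨3,0,0,0,0⟩, ⟨1,7,1,337,1⟩, ⟨4,59,1,0,0⟩, ⟨1,3,1,787,1⟩, ⟨1,2,1,1181,1⟩, ⟨1,17,1,139,1⟩, ⟨4,197,1,0,0⟩,
  ⟨7,5,0,0,0⟩, ⟨3,0,0,0,0⟩, ⟨1,3,2,263,1⟩, ⟨1,2,6,37,1⟩, ⟨1,23,1,103,1⟩, ⟨3,0,0,0,0⟩, ⟨1,2371,1,2,0⟩, ⟨1,2,2,593,1⟩,
  ⟨7,3,0,0,0⟩, ⟨1,2,1,1187,1⟩, ⟨1,5,3,19,1⟩, ⟨5,11,49,0,0⟩, ⟨1,2377,1,2,0⟩, ⟨3,0,0,0,0⟩, ⟨7,3,0,0,0⟩, ⟨7,2,0,0,0⟩,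
  ⟨1,2381,1,2,0⟩, ⟨3,0,0,0,0⟩, ⟨1,2383,1,2,0⟩, ⟨1,2,4,149,1⟩, ⟨7,3,0,0,0⟩, ⟨1,2,1,1193,1⟩, ⟨7,7,0,0,0⟩, ⟨4,199,1,0,0⟩,
  ⟨1,2389,1,2,0⟩, ⟨3,0,0,0,0⟩, ⟨1,3,1,797,1⟩, ⟨4,23,1,0,0⟩, ⟨1,2393,1,2,0⟩, ⟨3,0,0,0,0⟩, ⟨1,5,1,479,1⟩, ⟨1,2,2,599,1⟩,
  ⟨7,3,0,0,0⟩, ⟨3,0,0,0,0⟩, ⟨1,2399,1,2,0⟩, ⟨6,3,49,32,0⟩, ⟨1,7,4,2,0⟩, ⟨1,2,1,1201,1⟩, ⟨1,3,3,89,1⟩, ⟨1,2,2,601,1⟩,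
  ⟨7,5,0,0,0⟩, ⟨3,0,0,0,0⟩, ⟨1,29,1,83,1⟩, ⟨4,43,1,0,0⟩, ⟨7,3,0,0,0⟩, ⟨3,0,0,0,0⟩, ⟨1,2411,1,2,0⟩, ⟨4,67,1,0,0⟩,
  ⟨1,19,1,127,1⟩, ⟨3,0,0,0,0⟩, ⟨7,3,0,0,0⟩, ⟨1,2,4,151,1⟩, ⟨1,2417,1,2,0⟩, ⟨3,0,0,0,0⟩, ⟨1,41,1,59,1⟩, ⟨7,2,0,0,0⟩,
  ⟨1,3,2,269,1⟩, ⟨3,0,0,0,0⟩, ⟨1,2423,1,2,0⟩, ⟨4,101,1,0,0⟩, ⟨1,5,2,97,1⟩, ⟨1,2,1,1213,1⟩, ⟨1,3,1,809,1⟩, ⟨1,2,2,607,1⟩,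
  ⟨1,7,1,347,1⟩, ⟨3,0,0,0,0⟩, ⟨7,11,0,0,0⟩, ⟨1,2,7,19,1⟩, ⟨1,3,1,811,1⟩, ⟨1,2,1,1217,1⟩, ⟨1,5,1,487,1⟩, ⟨4,29,1,0,0⟩,
  ⟨1,2437,1,2,0⟩, ⟨3,0,0,0,0⟩, ⟨1,3,2,271,1⟩, ⟨4,61,1,0,0⟩, ⟨1,2441,1,2,0⟩, ⟨3,0,0,0,0⟩, ⟨1,7,1,349,1⟩, ⟨7,2,0,0,0⟩,
  ⟨7,3,0,0,0⟩, ⟨1,2,1,1223,1⟩, ⟨1,2447,1,2,0⟩, ⟨2,0,0,0,0⟩, ⟨1,31,1,79,1⟩, ⟨3,0,0,0,0⟩, ⟨7,3,0,0,0⟩, ⟨1,2,2,613,1⟩,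
  ⟨1,11,1,223,1⟩, ⟨3,0,0,0,0⟩, ⟨1,5,1,491,1⟩, ⟨1,2,3,307,1⟩, ⟨5,13,50,0,0⟩, ⟨1,2,1,1229,1⟩, ⟨1,2459,1,2,0⟩, ⟨4,41,1,0,0⟩,
  ⟨1,23,1,107,1⟩, ⟨1,2,1,1231,1⟩, ⟨1,3,1,821,1⟩, ⟨5,11,50,0,0⟩, ⟨7,5,0,0,0⟩, ⟨3,0,0,0,0⟩, ⟨1,2467,1,2,0⟩, ⟨1,2,2,617,1⟩,
  ⟨1,3,1,823,1⟩, ⟨3,0,0,0,0⟩, ⟨1,7,1,353,1⟩, ⟨4,103,1,0,0⟩, ⟨1,2473,1,2,0⟩, ⟨1,2,1,1237,1⟩, ⟨7,3,0,0,0⟩, ⟨1,2,2,619,1⟩,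
  ⟨1,2477,1,2,0⟩, ⟨3,0,0,0,0⟩, ⟨1,37,1,67,1⟩, ⟨4,31,1,0,0⟩, ⟨1,3,1,827,1⟩, ⟨3,0,0,0,0⟩, ⟨1,13,1,191,1⟩, ⟨4,23,1,0,0⟩,
  ⟨7,5,0,0,0⟩, ⟨3,0,0,0,0⟩, ⟨1,3,1,829,1⟩, ⟨1,2,3,311,1⟩, ⟨1,19,1,131,1⟩, ⟨3,0,0,0,0⟩, ⟨1,47,1,53,1⟩, ⟨7,2,0,0,0⟩]

set_option maxRecDepth 4000 in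
/-- Orders from 2493. -/
def chunk7 : List Cert := [
  ⟨1,3,2,277,1⟩, ⟨3,0,0,0,0⟩, ⟨1,5,1,499,1⟩, ⟨4,13,1,0,0⟩, ⟨1,11,1,227,1⟩, ⟨1,2,1,1249,1⟩, ⟨7,3,0,0,0⟩, ⟨1,2,2,5,4⟩,
  ⟨1,41,1,61,1⟩, ⟨3,0,0,0,0⟩, ⟨1,2503,1,2,0⟩, ⟨1,2,3,313,1⟩, ⟨7,3,0,0,0⟩, ⟨3,0,0,0,0⟩, ⟨1,23,1,109,1⟩, ⟨4,19,1,0,0⟩,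
  ⟨1,13,1,193,1⟩, ⟨3,0,0,0,0⟩, ⟨1,3,4,31,1⟩, ⟨1,2,4,157,1⟩, ⟨1,7,1,359,1⟩, ⟨3,0,0,0,0⟩, ⟨1,5,1,503,1⟩, ⟨7,2,0,0,0⟩,
  ⟨1,3,1,839,1⟩, ⟨1,2,1,1259,1⟩, ⟨1,11,1,229,1⟩, ⟨2,0,0,0,0⟩, ⟨1,2521,1,2,0⟩, ⟨3,0,0,0,0⟩, ⟨1,3,1,29,2⟩, ⟨1,2,2,631,1⟩,
  ⟨1,5,2,101,1⟩, ⟨3,0,0,0,0⟩, ⟨1,7,1,19,2⟩, ⟨1,2,5,79,1⟩, ⟨1,3,2,281,1⟩, ⟨3,0,0,0,0⟩, ⟨1,2531,1,2,0⟩, ⟨4,211,1,0,0⟩,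
  ⟨1,17,1,149,1⟩, ⟨3,0,0,0,0⟩, ⟨7,3,0,0,0⟩, ⟨1,2,3,317,1⟩, ⟨1,43,1,59,1⟩, ⟨3,0,0,0,0⟩, ⟨1,2539,1,2,0⟩, ⟨7,2,0,0,0⟩,
  ⟨7,3,0,0,0⟩, ⟨3,0,0,0,0⟩, ⟨1,2543,1,2,0⟩, ⟨4,53,1,0,0⟩, ⟨1,5,1,509,1⟩, ⟨3,0,0,0,0⟩, ⟨1,3,2,283,1⟩, ⟨7,2,0,0,0⟩,
  ⟨1,2549,1,2,0⟩, ⟨3,0,0,0,0⟩, ⟨1,2551,1,2,0⟩, ⟨5,29,51,0,0⟩, ⟨7,3,0,0,0⟩, ⟨1,2,1,1277,1⟩, ⟨7,5,0,0,0⟩, ⟨4,71,1,0,0⟩,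
  ⟨1,2557,1,2,0⟩, ⟨1,2,1,1279,1⟩, ⟨1,3,1,853,1⟩, ⟨1,2,9,5,1⟩, ⟨1,13,1,197,1⟩, ⟨3,0,0,0,0⟩, ⟨1,11,1,233,1⟩, ⟨1,2,2,641,1⟩,
  ⟨4,19,1,0,0⟩, ⟨1,2,1,1283,1⟩, ⟨1,17,1,151,1⟩, ⟨4,107,1,0,0⟩, ⟨1,7,1,367,1⟩, ⟨3,0,0,0,0⟩, ⟨1,3,1,857,1⟩, ⟨1,2,2,643,1⟩,
  ⟨1,31,1,83,1⟩, ⟨3,0,0,0,0⟩, ⟨1,5,2,103,1⟩, ⟨4,23,1,0,0⟩, ⟨1,3,1,859,1⟩, ⟨1,2,1,1289,1⟩, ⟨1,2579,1,2,0⟩, ⟨4,43,1,0,0⟩,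
  ⟨1,29,1,89,1⟩, ⟨1,2,1,1291,1⟩, ⟨7,3,0,0,0⟩, ⟨4,19,1,0,0⟩, ⟨7,5,0,0,0⟩, ⟨3,0,0,0,0⟩, ⟨1,13,1,199,1⟩, ⟨1,2,2,647,1⟩,
  ⟨1,3,1,863,1⟩, ⟨3,0,0,0,0⟩, ⟨1,2591,1,2,0⟩, ⟨1,2,5,3,4⟩, ⟨1,2593,1,2,0⟩, ⟨1,2,1,1297,1⟩, ⟨7,3,0,0,0⟩, ⟨7,2,0,0,0⟩,
  ⟨1,7,2,53,1⟩, ⟨3,0,0,0,0⟩, ⟨1,23,1,113,1⟩, ⟨5,13,51,0,0⟩, ⟨1,3,2,17,2⟩, ⟨1,2,1,1301,1⟩, ⟨1,19,1,137,1⟩, ⟨4,31,1,0,0⟩,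
  ⟨1,5,1,521,1⟩, ⟨1,2,1,1303,1⟩, ⟨7,3,0,0,0⟩, ⟨1,2,4,163,1⟩, ⟨1,2609,1,2,0⟩, ⟨3,0,0,0,0⟩, ⟨1,7,1,373,1⟩, ⟨1,2,2,653,1⟩,
  ⟨7,3,0,0,0⟩, ⟨1,2,1,1307,1⟩, ⟨1,5,1,523,1⟩, ⟨4,109,1,0,0⟩, ⟨1,2617,1,2,0⟩, ⟨3,0,0,0,0⟩, ⟨1,3,3,97,1⟩, ⟨7,2,0,0,0⟩,
  ⟨1,2621,1,2,0⟩, ⟨3,0,0,0,0⟩, ⟨1,43,1,61,1⟩, ⟨1,2,6,41,1⟩, ⟨7,3,0,0,0⟩, ⟨3,0,0,0,0⟩, ⟨1,37,1,71,1⟩, ⟨4,73,1,0,0⟩,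
  ⟨1,11,1,239,1⟩, ⟨3,0,0,0,0⟩, ⟨1,3,1,877,1⟩, ⟨4,47,1,0,0⟩, ⟨1,2633,1,2,0⟩, ⟨3,0,0,0,0⟩, ⟨7,5,0,0,0⟩, ⟨1,2,2,659,1⟩,
  ⟨1,3,2,293,1⟩, ⟨1,2,1,1319,1⟩, ⟨7,7,0,0,0⟩, ⟨5,11,52,0,0⟩, ⟨1,19,1,139,1⟩, ⟨1,2,1,1321,1⟩, ⟨1,3,1,881,1⟩, ⟨1,2,2,661,1⟩,
  ⟨1,5,1,23,2⟩, ⟨3,0,0,0,0⟩, ⟨1,2647,1,2,0⟩, ⟨1,2,3,331,1⟩, ⟨1,3,1,883,1⟩, ⟨3,0,0,0,0⟩, ⟨1,11,1,241,1⟩, ⟨4,13,1,0,0⟩,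
  ⟨1,7,1,379,1⟩, ⟨1,2,1,1327,1⟩, ⟨7,3,0,0,0⟩, ⟨1,2,5,83,1⟩, ⟨1,2657,1,2,0⟩, ⟨3,0,0,0,0⟩, ⟨1,2659,1,2,0⟩, ⟨7,2,0,0,0⟩,
  ⟨1,3,1,887,1⟩, ⟨1,2,1,11,3⟩, ⟨1,2663,1,2,0⟩, ⟨4,37,1,0,0⟩, ⟨7,5,0,0,0⟩, ⟨3,0,0,0,0⟩, ⟨7,3,0,0,0⟩, ⟨7,2,0,0,0⟩,
  ⟨1,17,1,157,1⟩, ⟨3,0,0,0,0⟩, ⟨1,2671,1,2,0⟩, ⟨1,2,4,167,1⟩, ⟨1,3,5,11,1⟩, ⟨3,0,0,0,0⟩, ⟨1,5,2,107,1⟩, ⟨4,223,1,0,0⟩,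
  ⟨1,2677,1,2,0⟩, ⟨3,0,0,0,0⟩, ⟨7,3,0,0,0⟩, ⟨4,67,1,0,0⟩, ⟨1,7,1,383,1⟩, ⟨3,0,0,0,0⟩, ⟨1,2683,1,2,0⟩, ⟨7,2,0,0,0⟩,
  ⟨7,3,0,0,0⟩, ⟨3,0,0,0,0⟩, ⟨1,2687,1,2,0⟩, ⟨5,7,52,0,0⟩, ⟨1,2689,1,2,0⟩, ⟨3,0,0,0,0⟩, ⟨7,3,0,0,0⟩, ⟨1,2,2,673,1⟩]

set_option maxRecDepth 4000 in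
/-- Orders from 2693. -/
def chunk8 : List Cert := [
  ⟨1,2693,1,2,0⟩, ⟨3,0,0,0,0⟩, ⟨7,5,0,0,0⟩, ⟨1,2,3,337,1⟩, ⟨7,3,0,0,0⟩, ⟨3,0,0,0,0⟩, ⟨1,2699,1,2,0⟩, ⟨2,0,0,0,0⟩,
  ⟨1,37,1,73,1⟩, ⟨3,0,0,0,0⟩, ⟨7,3,0,0,0⟩, ⟨1,2,4,13,2⟩, ⟨1,5,1,541,1⟩, ⟨3,0,0,0,0⟩, ⟨1,2707,1,2,0⟩, ⟨1,2,2,677,1⟩,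
  ⟨7,3,0,0,0⟩, ⟨3,0,0,0,0⟩, ⟨1,2711,1,2,0⟩, ⟨4,113,1,0,0⟩, ⟨1,2713,1,2,0⟩, ⟨3,0,0,0,0⟩, ⟨7,3,0,0,0⟩, ⟨7,2,0,0,0⟩,
  ⟨7,11,0,0,0⟩, ⟨3,0,0,0,0⟩, ⟨1,2719,1,2,0⟩, ⟨4,17,1,0,0⟩, ⟨1,3,1,907,1⟩, ⟨1,2,1,1361,1⟩, ⟨1,7,1,389,1⟩, ⟨4,227,1,0,0⟩,
  ⟨1,5,2,109,1⟩, ⟨3,0,0,0,0⟩, ⟨1,3,3,101,1⟩, ⟨4,31,1,0,0⟩, ⟨1,2729,1,2,0⟩, ⟨3,0,0,0,0⟩, ⟨1,2731,1,2,0⟩, ⟨1,2,2,683,1⟩,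
  ⟨1,3,1,911,1⟩, ⟨1,2,1,1367,1⟩, ⟨1,5,1,547,1⟩, ⟨4,19,1,0,0⟩, ⟨7,7,0,0,0⟩, ⟨1,2,1,37,2⟩, ⟨7,3,0,0,0⟩, ⟨7,2,0,0,0⟩,
  ⟨1,2741,1,2,0⟩, ⟨3,0,0,0,0⟩, ⟨1,13,1,211,1⟩, ⟨1,2,3,7,3⟩, ⟨7,3,0,0,0⟩, ⟨1,2,1,1373,1⟩, ⟨1,41,1,67,1⟩, ⟨4,229,1,0,0⟩,
  ⟨1,2749,1,2,0⟩, ⟨3,0,0,0,0⟩, ⟨7,3,0,0,0⟩, ⟨1,2,6,43,1⟩, ⟨1,2753,1,2,0⟩, ⟨3,0,0,0,0⟩, ⟨7,5,0,0,0⟩, ⟨7,2,0,0,0⟩,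
  ⟨1,3,1,919,1⟩, ⟨3,0,0,0,0⟩, ⟨1,31,1,89,1⟩, ⟨5,23,53,0,0⟩, ⟨1,11,1,251,1⟩, ⟨1,2,1,1381,1⟩, ⟨1,3,2,307,1⟩, ⟨1,2,2,691,1⟩,
  ⟨7,5,0,0,0⟩, ⟨3,0,0,0,0⟩, ⟨1,2767,1,2,0⟩, ⟨1,2,4,173,1⟩, ⟨7,3,0,0,0⟩, ⟨3,0,0,0,0⟩, ⟨1,17,1,163,1⟩, ⟨5,11,53,0,0⟩,
  ⟨1,47,1,59,1⟩, ⟨3,0,0,0,0⟩, ⟨7,3,0,0,0⟩, ⟨1,2,3,347,1⟩, ⟨1,2777,1,2,0⟩, ⟨3,0,0,0,0⟩, ⟨1,7,1,397,1⟩, ⟨7,2,0,0,0⟩,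
  ⟨1,3,3,103,1⟩, ⟨3,0,0,0,0⟩, ⟨1,11,2,23,1⟩, ⟨4,29,1,0,0⟩, ⟨1,5,1,557,1⟩, ⟨3,0,0,0,0⟩, ⟨1,3,1,929,1⟩, ⟨7,2,0,0,0⟩,
  ⟨1,2789,1,2,0⟩, ⟨3,0,0,0,0⟩, ⟨1,2791,1,2,0⟩, ⟨1,2,3,349,1⟩, ⟨7,3,0,0,0⟩, ⟨3,0,0,0,0⟩, ⟨7,5,0,0,0⟩, ⟨4,233,1,0,0⟩,
  ⟨1,2797,1,2,0⟩, ⟨1,2,1,1399,1⟩, ⟨1,3,2,311,1⟩, ⟨5,7,53,0,0⟩, ⟨1,2801,1,2,0⟩, ⟨3,0,0,0,0⟩, ⟨1,2803,1,2,0⟩, ⟨1,2,2,701,1⟩,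
  ⟨7,3,0,0,0⟩, ⟨3,0,0,0,0⟩, ⟨1,7,1,401,1⟩, ⟨5,13,53,0,0⟩, ⟨1,53,2,2,0⟩, ⟨3,0,0,0,0⟩, ⟨1,3,1,937,1⟩, ⟨7,2,0,0,0⟩,
  ⟨1,29,1,97,1⟩, ⟨3,0,0,0,0⟩, ⟨1,5,1,563,1⟩, ⟨1,2,8,11,1⟩, ⟨1,3,2,313,1⟩, ⟨1,2,1,1409,1⟩, ⟨1,2819,1,2,0⟩, ⟨4,47,1,0,0⟩,
  ⟨7,7,0,0,0⟩, ⟨3,0,0,0,0⟩, ⟨1,3,1,941,1⟩, ⟨1,2,3,353,1⟩, ⟨1,5,2,113,1⟩, ⟨3,0,0,0,0⟩, ⟨1,11,1,257,1⟩, ⟨7,2,0,0,0⟩,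
  ⟨7,3,0,0,0⟩, ⟨3,0,0,0,0⟩, ⟨1,19,1,149,1⟩, ⟨4,59,1,0,0⟩, ⟨1,2833,1,2,0⟩, ⟨3,0,0,0,0⟩, ⟨4,3,4,0,0⟩, ⟨1,2,2,709,1⟩,
  ⟨1,2837,1,2,0⟩, ⟨3,0,0,0,0⟩, ⟨1,17,1,167,1⟩, ⟨4,71,1,0,0⟩, ⟨1,3,1,947,1⟩, ⟨3,0,0,0,0⟩, ⟨1,2843,1,2,0⟩, ⟨4,79,1,0,0⟩,
  ⟨1,5,1,569,1⟩, ⟨1,2,1,1423,1⟩, ⟨7,3,0,0,0⟩, ⟨1,2,5,89,1⟩, ⟨7,7,0,0,0⟩, ⟨3,0,0,0,0⟩, ⟨1,2851,1,2,0⟩, ⟨7,2,0,0,0⟩,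
  ⟨1,3,2,317,1⟩, ⟨1,2,1,1427,1⟩, ⟨1,5,1,571,1⟩, ⟨4,17,1,0,0⟩, ⟨1,2857,1,2,0⟩, ⟨1,2,1,1429,1⟩, ⟨1,3,1,953,1⟩, ⟨7,2,0,0,0⟩,
  ⟨1,2861,1,2,0⟩, ⟨3,0,0,0,0⟩, ⟨1,7,1,409,1⟩, ⟨1,2,4,179,1⟩, ⟨7,3,0,0,0⟩, ⟨1,2,1,1433,1⟩, ⟨1,47,1,61,1⟩, ⟨4,239,1,0,0⟩,
  ⟨1,19,1,151,1⟩, ⟨3,0,0,0,0⟩, ⟨7,3,0,0,0⟩, ⟨1,2,3,359,1⟩, ⟨1,13,2,17,1⟩, ⟨3,0,0,0,0⟩, ⟨1,5,3,23,1⟩, ⟨1,2,2,719,1⟩,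
  ⟨7,3,0,0,0⟩, ⟨1,2,1,1439,1⟩, ⟨1,2879,1,2,0⟩, ⟨5,5,54,0,0⟩, ⟨1,43,1,67,1⟩, ⟨3,0,0,0,0⟩, ⟨1,3,1,31,2⟩, ⟨7,2,0,0,0⟩,
  ⟨1,5,1,577,1⟩, ⟨3,0,0,0,0⟩, ⟨1,2887,1,2,0⟩, ⟨1,2,3,19,2⟩, ⟨1,3,3,107,1⟩, ⟨3,0,0,0,0⟩, ⟨1,7,2,59,1⟩, ⟨4,241,1,0,0⟩]

set_option maxRecDepth 4000 in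
/-- Orders from 2893. -/
def chunk9 : List Cert := [
  ⟨1,11,1,263,1⟩, ⟨1,2,1,1447,1⟩, ⟨7,3,0,0,0⟩, ⟨1,2,4,181,1⟩, ⟨1,2897,1,2,0⟩, ⟨3,0,0,0,0⟩, ⟨1,13,1,223,1⟩, ⟨7,2,0,0,0⟩,
  ⟨1,3,1,967,1⟩, ⟨1,2,1,1451,1⟩, ⟨1,2903,1,2,0⟩, ⟨4,11,2,0,0⟩, ⟨7,5,0,0,0⟩, ⟨1,2,1,1453,1⟩, ⟨7,3,0,0,0⟩, ⟨1,2,2,727,1⟩,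
  ⟨1,2909,1,2,0⟩, ⟨3,0,0,0,0⟩, ⟨1,41,1,71,1⟩, ⟨4,7,1,0,0⟩, ⟨1,3,1,971,1⟩, ⟨3,0,0,0,0⟩, ⟨7,5,0,0,0⟩, ⟨1,2,2,3,6⟩,
  ⟨1,2917,1,2,0⟩, ⟨1,2,1,1459,1⟩, ⟨7,3,0,0,0⟩, ⟨4,73,1,0,0⟩, ⟨1,23,1,127,1⟩, ⟨3,0,0,0,0⟩, ⟨1,37,1,79,1⟩, ⟨7,2,0,0,0⟩,
  ⟨7,3,0,0,0⟩, ⟨3,0,0,0,0⟩, ⟨1,2927,1,2,0⟩, ⟨4,61,1,0,0⟩, ⟨1,29,1,101,1⟩, ⟨3,0,0,0,0⟩, ⟨1,3,1,977,1⟩, ⟨1,2,2,733,1⟩,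
  ⟨1,7,1,419,1⟩, ⟨3,0,0,0,0⟩, ⟨1,5,1,587,1⟩, ⟨1,2,3,367,1⟩, ⟨7,3,0,0,0⟩, ⟨3,0,0,0,0⟩, ⟨1,2939,1,2,0⟩, ⟨5,5,55,0,0⟩,
  ⟨1,17,1,173,1⟩, ⟨1,2,1,1471,1⟩, ⟨1,3,3,109,1⟩, ⟨1,2,7,23,1⟩, ⟨7,5,0,0,0⟩, ⟨3,0,0,0,0⟩, ⟨1,7,1,421,1⟩, ⟨7,2,0,0,0⟩,
  ⟨1,3,1,983,1⟩, ⟨3,0,0,0,0⟩, ⟨1,13,1,227,1⟩, ⟨4,41,1,0,0⟩, ⟨1,2953,1,2,0⟩, ⟨3,0,0,0,0⟩, ⟨7,3,0,0,0⟩, ⟨1,2,2,739,1⟩,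
  ⟨1,2957,1,2,0⟩, ⟨3,0,0,0,0⟩, ⟨1,11,1,269,1⟩, ⟨4,37,1,0,0⟩, ⟨7,3,0,0,0⟩, ⟨1,2,1,1481,1⟩, ⟨1,2963,1,2,0⟩, ⟨4,13,1,0,0⟩,
  ⟨1,5,1,593,1⟩, ⟨1,2,1,1483,1⟩, ⟨7,3,0,0,0⟩, ⟨4,53,1,0,0⟩, ⟨1,2969,1,2,0⟩, ⟨3,0,0,0,0⟩, ⟨1,2971,1,2,0⟩, ⟨1,2,2,743,1⟩,
  ⟨1,3,1,991,1⟩, ⟨1,2,1,1487,1⟩, ⟨7,5,0,0,0⟩, ⟨5,31,55,0,0⟩, ⟨1,13,1,229,1⟩, ⟨1,2,1,1489,1⟩, ⟨1,3,2,331,1⟩, ⟨7,2,0,0,0⟩,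
  ⟨1,11,1,271,1⟩, ⟨3,0,0,0,0⟩, ⟨1,19,1,157,1⟩, ⟨1,2,3,373,1⟩, ⟨7,3,0,0,0⟩, ⟨1,2,1,1493,1⟩, ⟨1,29,1,103,1⟩, ⟨4,83,1,0,0⟩,
  ⟨1,7,2,61,1⟩, ⟨3,0,0,0,0⟩, ⟨1,3,1,997,1⟩, ⟨4,17,1,0,0⟩, ⟨1,41,1,73,1⟩, ⟨3,0,0,0,0⟩, ⟨1,5,1,599,1⟩, ⟨7,2,0,0,0⟩,
  ⟨1,3,4,37,1⟩, ⟨1,2,1,1499,1⟩, ⟨1,2999,1,2,0⟩, ⟨4,5,3,0,0⟩, ⟨1,3001,1,2,0⟩, ⟨3,0,0,0,0⟩, ⟨7,3,0,0,0⟩, ⟨1,2,2,751,1⟩,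
  ⟨1,5,1,601,1⟩, ⟨3,0,0,0,0⟩, ⟨1,31,1,97,1⟩, ⟨1,2,6,47,1⟩, ⟨7,3,0,0,0⟩, ⟨3,0,0,0,0⟩, ⟨1,3011,1,2,0⟩, ⟨4,251,1,0,0⟩,
  ⟨1,23,1,131,1⟩, ⟨3,0,0,0,0⟩, ⟨7,3,0,0,0⟩, ⟨4,29,1,0,0⟩, ⟨1,7,1,431,1⟩, ⟨3,0,0,0,0⟩, ⟨1,3019,1,2,0⟩, ⟨7,2,0,0,0⟩,
  ⟨7,3,0,0,0⟩, ⟨1,2,1,1511,1⟩, ⟨1,3023,1,2,0⟩, ⟨5,7,55,0,0⟩, ⟨1,5,2,11,2⟩, ⟨3,0,0,0,0⟩, ⟨1,3,1,1009,1⟩, ⟨1,2,2,757,1⟩,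
  ⟨1,13,1,233,1⟩, ⟨3,0,0,0,0⟩, ⟨1,7,1,433,1⟩, ⟨1,2,3,379,1⟩, ⟨1,3,2,337,1⟩, ⟨3,0,0,0,0⟩, ⟨1,5,1,607,1⟩, ⟨4,23,1,0,0⟩,
  ⟨1,3037,1,2,0⟩, ⟨3,0,0,0,0⟩, ⟨1,3,1,1013,1⟩, ⟨5,19,56,0,0⟩, ⟨1,3041,1,2,0⟩, ⟨3,0,0,0,0⟩, ⟨1,17,1,179,1⟩, ⟨1,2,2,761,1⟩,
  ⟨7,3,0,0,0⟩, ⟨1,2,1,1523,1⟩, ⟨1,11,1,277,1⟩, ⟨4,127,1,0,0⟩, ⟨1,3049,1,2,0⟩, ⟨3,0,0,0,0⟩, ⟨1,3,3,113,1⟩, ⟨7,2,0,0,0⟩,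
  ⟨1,43,1,71,1⟩, ⟨3,0,0,0,0⟩, ⟨7,5,0,0,0⟩, ⟨1,2,4,191,1⟩, ⟨1,3,1,1019,1⟩, ⟨3,0,0,0,0⟩, ⟨7,7,0,0,0⟩, ⟨5,17,56,0,0⟩,
  ⟨1,3061,1,2,0⟩, ⟨1,2,1,1531,1⟩, ⟨1,3,1,1021,1⟩, ⟨1,2,3,383,1⟩, ⟨1,5,1,613,1⟩, ⟨3,0,0,0,0⟩, ⟨1,3067,1,2,0⟩, ⟨7,2,0,0,0⟩,
  ⟨7,3,0,0,0⟩, ⟨3,0,0,0,0⟩, ⟨1,37,1,83,1⟩, ⟨1,2,10,3,1⟩, ⟨1,7,1,439,1⟩, ⟨3,0,0,0,0⟩, ⟨7,3,0,0,0⟩, ⟨1,2,2,769,1⟩,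
  ⟨1,17,1,181,1⟩, ⟨3,0,0,0,0⟩, ⟨1,3079,1,2,0⟩, ⟨5,11,56,0,0⟩, ⟨7,3,0,0,0⟩, ⟨3,0,0,0,0⟩, ⟨1,3083,1,2,0⟩, ⟨4,257,1,0,0⟩,
  ⟨1,5,1,617,1⟩, ⟨1,2,1,1543,1⟩, ⟨1,3,2,7,3⟩, ⟨1,2,4,193,1⟩, ⟨1,3089,1,2,0⟩, ⟨3,0,0,0,0⟩, ⟨1,11,1,281,1⟩, ⟨1,2,2,773,1⟩]

set_option maxRecDepth 4000 in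
/-- Orders from 3093. -/
def chunk10 : List Cert := [
  ⟨1,3,1,1031,1⟩, ⟨3,0,0,0,0⟩, ⟨1,5,1,619,1⟩, ⟨4,43,1,0,0⟩, ⟨1,19,1,163,1⟩, ⟨1,2,1,1549,1⟩, ⟨1,3,1,1033,1⟩, ⟨7,2,0,0,0⟩,
  ⟨1,7,1,443,1⟩, ⟨3,0,0,0,0⟩, ⟨1,29,1,107,1⟩, ⟨1,2,5,97,1⟩, ⟨4,23,1,0,0⟩, ⟨1,2,1,1553,1⟩, ⟨1,13,1,239,1⟩, ⟨4,37,1,0,0⟩,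
  ⟨1,3109,1,2,0⟩, ⟨3,0,0,0,0⟩, ⟨7,3,0,0,0⟩, ⟨1,2,3,389,1⟩, ⟨1,11,1,283,1⟩, ⟨3,0,0,0,0⟩, ⟨7,5,0,0,0⟩, ⟨7,2,0,0,0⟩,
  ⟨1,3,1,1039,1⟩, ⟨1,2,1,1559,1⟩, ⟨1,3119,1,2,0⟩, ⟨5,13,56,0,0⟩, ⟨1,3121,1,2,0⟩, ⟨3,0,0,0,0⟩, ⟨1,3,2,347,1⟩, ⟨7,2,0,0,0⟩,
  ⟨1,5,5,2,0⟩, ⟨3,0,0,0,0⟩, ⟨1,53,1,59,1⟩, ⟨4,23,1,0,0⟩, ⟨7,3,0,0,0⟩, ⟨3,0,0,0,0⟩, ⟨1,31,1,101,1⟩, ⟨4,29,1,0,0⟩,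
  ⟨1,13,1,241,1⟩, ⟨1,2,1,1567,1⟩, ⟨7,3,0,0,0⟩, ⟨1,2,6,7,2⟩, ⟨1,3137,1,2,0⟩, ⟨3,0,0,0,0⟩, ⟨1,43,1,73,1⟩, ⟨7,2,0,0,0⟩,
  ⟨1,3,2,349,1⟩, ⟨1,2,1,1571,1⟩, ⟨1,7,1,449,1⟩, ⟨4,131,1,0,0⟩, ⟨7,5,0,0,0⟩, ⟨3,0,0,0,0⟩, ⟨1,3,1,1049,1⟩, ⟨1,2,2,787,1⟩,
  ⟨1,47,1,67,1⟩, ⟨3,0,0,0,0⟩, ⟨1,23,1,137,1⟩, ⟨1,2,4,197,1⟩, ⟨1,3,1,1051,1⟩, ⟨3,0,0,0,0⟩, ⟨1,5,1,631,1⟩, ⟨4,263,1,0,0⟩,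
  ⟨7,7,0,0,0⟩, ⟨1,2,1,1579,1⟩, ⟨1,3,5,13,1⟩, ⟨4,79,1,0,0⟩, ⟨1,29,1,109,1⟩, ⟨3,0,0,0,0⟩, ⟨1,3163,1,2,0⟩, ⟨7,2,0,0,0⟩,
  ⟨7,3,0,0,0⟩, ⟨1,2,1,1583,1⟩, ⟨1,3167,1,2,0⟩, ⟨5,11,57,0,0⟩, ⟨1,3169,1,2,0⟩, ⟨3,0,0,0,0⟩, ⟨7,3,0,0,0⟩, ⟨7,2,0,0,0⟩,
  ⟨1,19,1,167,1⟩, ⟨3,0,0,0,0⟩, ⟨1,5,2,127,1⟩, ⟨1,2,3,397,1⟩, ⟨1,3,2,353,1⟩, ⟨3,0,0,0,0⟩, ⟨1,11,1,17,2⟩, ⟨4,53,1,0,0⟩,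
  ⟨1,3181,1,2,0⟩, ⟨3,0,0,0,0⟩, ⟨1,3,1,1061,1⟩, ⟨1,2,4,199,1⟩, ⟨7,5,0,0,0⟩, ⟨3,0,0,0,0⟩, ⟨1,3187,1,2,0⟩, ⟨1,2,2,797,1⟩,
  ⟨1,3,1,1063,1⟩, ⟨3,0,0,0,0⟩, ⟨1,3191,1,2,0⟩, ⟨4,19,1,0,0⟩, ⟨1,31,1,103,1⟩, ⟨1,2,1,1597,1⟩, ⟨7,3,0,0,0⟩, ⟨7,2,0,0,0⟩,
  ⟨1,23,1,139,1⟩, ⟨3,0,0,0,0⟩, ⟨1,7,1,457,1⟩, ⟨1,2,7,5,2⟩, ⟨7,3,0,0,0⟩, ⟨1,2,1,1601,1⟩, ⟨1,3203,1,2,0⟩, ⟨4,89,1,0,0⟩,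
  ⟨1,5,1,641,1⟩, ⟨3,0,0,0,0⟩, ⟨1,3,1,1069,1⟩, ⟨1,2,3,401,1⟩, ⟨1,3209,1,2,0⟩, ⟨3,0,0,0,0⟩, ⟨1,13,2,19,1⟩, ⟨7,2,0,0,0⟩,
  ⟨4,17,1,0,0⟩, ⟨1,2,1,1607,1⟩, ⟨1,5,1,643,1⟩, ⟨4,67,1,0,0⟩, ⟨1,3217,1,2,0⟩, ⟨1,2,1,1609,1⟩, ⟨7,3,0,0,0⟩, ⟨7,2,0,0,0⟩,
  ⟨1,3221,1,2,0⟩, ⟨3,0,0,0,0⟩, ⟨1,11,1,293,1⟩, ⟨4,31,1,0,0⟩, ⟨7,3,0,0,0⟩, ⟨1,2,1,1613,1⟩, ⟨1,7,1,461,1⟩, ⟨4,269,1,0,0⟩,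
  ⟨1,3229,1,2,0⟩, ⟨3,0,0,0,0⟩, ⟨1,3,2,359,1⟩, ⟨1,2,5,101,1⟩, ⟨1,53,1,61,1⟩, ⟨3,0,0,0,0⟩, ⟨1,5,1,647,1⟩, ⟨1,2,2,809,1⟩,
  ⟨7,3,0,0,0⟩, ⟨1,2,1,1619,1⟩, ⟨1,41,1,79,1⟩, ⟨5,5,57,0,0⟩, ⟨1,7,1,463,1⟩, ⟨1,2,1,1621,1⟩, ⟨7,3,0,0,0⟩, ⟨1,2,2,811,1⟩,
  ⟨7,5,0,0,0⟩, ⟨3,0,0,0,0⟩, ⟨1,17,1,191,1⟩, ⟨4,29,1,0,0⟩, ⟨1,3,2,19,2⟩, ⟨3,0,0,0,0⟩, ⟨1,3251,1,2,0⟩, ⟨4,271,1,0,0⟩,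
  ⟨1,3253,1,2,0⟩, ⟨1,2,1,1627,1⟩, ⟨7,3,0,0,0⟩, ⟨4,37,1,0,0⟩, ⟨1,3257,1,2,0⟩, ⟨3,0,0,0,0⟩, ⟨1,3259,1,2,0⟩, ⟨7,2,0,0,0⟩,
  ⟨1,3,1,1087,1⟩, ⟨3,0,0,0,0⟩, ⟨1,13,1,251,1⟩, ⟨4,17,1,0,0⟩, ⟨1,5,1,653,1⟩, ⟨3,0,0,0,0⟩, ⟨1,3,3,11,2⟩, ⟨7,2,0,0,0⟩,
  ⟨1,7,1,467,1⟩, ⟨3,0,0,0,0⟩, ⟨1,3271,1,2,0⟩, ⟨1,2,3,409,1⟩, ⟨1,3,1,1091,1⟩, ⟨1,2,1,1637,1⟩, ⟨1,5,2,131,1⟩, ⟨5,13,58,0,0⟩,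
  ⟨1,29,1,113,1⟩, ⟨3,0,0,0,0⟩, ⟨1,3,1,1093,1⟩, ⟨4,41,1,0,0⟩, ⟨1,17,1,193,1⟩, ⟨3,0,0,0,0⟩, ⟨1,7,2,67,1⟩, ⟨1,2,2,821,1⟩,
  ⟨7,3,0,0,0⟩, ⟨3,0,0,0,0⟩, ⟨1,19,1,173,1⟩, ⟨4,137,1,0,0⟩, ⟨7,11,0,0,0⟩, ⟨3,0,0,0,0⟩, ⟨1,3,1,1097,1⟩, ⟨1,2,2,823,1⟩]

set_option maxRecDepth 4000 in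
/-- Orders from 3293. -/
def chunk11 : List Cert := [
  ⟨1,37,1,89,1⟩, ⟨3,0,0,0,0⟩, ⟨1,5,1,659,1⟩, ⟨1,2,5,103,1⟩, ⟨7,3,0,0,0⟩, ⟨3,0,0,0,0⟩, ⟨1,3299,1,2,0⟩, ⟨5,11,58,0,0⟩,
  ⟨1,3301,1,2,0⟩, ⟨3,0,0,0,0⟩, ⟨1,3,2,367,1⟩, ⟨4,59,1,0,0⟩, ⟨1,5,1,661,1⟩, ⟨3,0,0,0,0⟩, ⟨1,3307,1,2,0⟩, ⟨1,2,2,827,1⟩,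
  ⟨1,3,1,1103,1⟩, ⟨3,0,0,0,0⟩, ⟨7,7,0,0,0⟩, ⟨5,23,58,0,0⟩, ⟨1,3313,1,2,0⟩, ⟨1,2,1,1657,1⟩, ⟨7,3,0,0,0⟩, ⟨1,2,2,829,1⟩,
  ⟨1,31,1,107,1⟩, ⟨3,0,0,0,0⟩, ⟨1,3319,1,2,0⟩, ⟨4,83,1,0,0⟩, ⟨1,3,4,41,1⟩, ⟨3,0,0,0,0⟩, ⟨1,3323,1,2,0⟩, ⟨4,277,1,0,0⟩,
  ⟨7,5,0,0,0⟩, ⟨1,2,1,1663,1⟩, ⟨1,3,1,1109,1⟩, ⟨1,2,8,13,1⟩, ⟨1,3329,1,2,0⟩, ⟨3,0,0,0,0⟩, ⟨1,3331,1,2,0⟩, ⟨7,2,0,0,0⟩,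
  ⟨7,3,0,0,0⟩, ⟨1,2,1,1667,1⟩, ⟨7,5,0,0,0⟩, ⟨4,139,1,0,0⟩, ⟨1,47,1,71,1⟩, ⟨1,2,1,1669,1⟩, ⟨7,3,0,0,0⟩, ⟨7,2,0,0,0⟩,
  ⟨1,13,1,257,1⟩, ⟨3,0,0,0,0⟩, ⟨1,3343,1,2,0⟩, ⟨4,19,1,0,0⟩, ⟨7,3,0,0,0⟩, ⟨3,0,0,0,0⟩, ⟨1,3347,1,2,0⟩, ⟨4,31,1,0,0⟩,
  ⟨1,17,1,197,1⟩, ⟨3,0,0,0,0⟩, ⟨1,3,1,1117,1⟩, ⟨1,2,3,419,1⟩, ⟨1,7,1,479,1⟩, ⟨3,0,0,0,0⟩, ⟨7,5,0,0,0⟩, ⟨1,2,2,839,1⟩,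
  ⟨1,3,2,373,1⟩, ⟨3,0,0,0,0⟩, ⟨1,3359,1,2,0⟩, ⟨2,0,0,0,0⟩, ⟨1,3361,1,2,0⟩, ⟨1,2,1,41,2⟩, ⟨7,3,0,0,0⟩, ⟨1,2,2,29,2⟩,
  ⟨1,5,1,673,1⟩, ⟨3,0,0,0,0⟩, ⟨7,7,0,0,0⟩, ⟨1,2,3,421,1⟩, ⟨1,3,1,1123,1⟩, ⟨3,0,0,0,0⟩, ⟨1,3371,1,2,0⟩, ⟨4,281,1,0,0⟩,
  ⟨1,3373,1,2,0⟩, ⟨3,0,0,0,0⟩, ⟨1,3,3,5,3⟩, ⟨1,2,4,211,1⟩, ⟨1,11,1,307,1⟩, ⟨3,0,0,0,0⟩, ⟨1,31,1,109,1⟩, ⟨7,2,0,0,0⟩,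
  ⟨7,3,0,0,0⟩, ⟨3,0,0,0,0⟩, ⟨1,17,1,199,1⟩, ⟨4,47,1,0,0⟩, ⟨1,5,1,677,1⟩, ⟨1,2,1,1693,1⟩, ⟨1,3,1,1129,1⟩, ⟨7,2,0,0,0⟩,
  ⟨1,3389,1,2,0⟩, ⟨3,0,0,0,0⟩, ⟨1,3391,1,2,0⟩, ⟨1,2,6,53,1⟩, ⟨7,3,0,0,0⟩, ⟨1,2,1,1697,1⟩, ⟨7,5,0,0,0⟩, ⟨4,283,1,0,0⟩,
  ⟨1,43,1,79,1⟩, ⟨1,2,1,1699,1⟩, ⟨7,3,0,0,0⟩, ⟨4,17,1,0,0⟩, ⟨1,19,1,179,1⟩, ⟨3,0,0,0,0⟩, ⟨1,41,1,83,1⟩, ⟨7,2,0,0,0⟩,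
  ⟨7,3,0,0,0⟩, ⟨3,0,0,0,0⟩, ⟨1,3407,1,2,0⟩, ⟨4,71,1,0,0⟩, ⟨1,7,1,487,1⟩, ⟨3,0,0,0,0⟩, ⟨1,3,2,379,1⟩, ⟨1,2,2,853,1⟩,
  ⟨1,3413,1,2,0⟩, ⟨3,0,0,0,0⟩, ⟨1,5,1,683,1⟩, ⟨4,61,1,0,0⟩, ⟨7,3,0,0,0⟩, ⟨1,2,1,1709,1⟩, ⟨1,13,1,263,1⟩, ⟨2,0,0,0,0⟩,
  ⟨1,11,1,311,1⟩, ⟨3,0,0,0,0⟩, ⟨7,3,0,0,0⟩, ⟨1,2,5,107,1⟩, ⟨1,5,2,137,1⟩, ⟨3,0,0,0,0⟩, ⟨1,23,1,149,1⟩, ⟨1,2,2,857,1⟩,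
  ⟨1,3,3,127,1⟩, ⟨3,0,0,0,0⟩, ⟨1,47,1,73,1⟩, ⟨5,13,59,0,0⟩, ⟨1,3433,1,2,0⟩, ⟨3,0,0,0,0⟩, ⟨7,3,0,0,0⟩, ⟨1,2,2,859,1⟩,
  ⟨1,7,1,491,1⟩, ⟨3,0,0,0,0⟩, ⟨1,19,1,181,1⟩, ⟨4,43,1,0,0⟩, ⟨7,3,0,0,0⟩, ⟨1,2,1,1721,1⟩, ⟨1,11,1,313,1⟩, ⟨5,41,59,0,0⟩,
  ⟨7,5,0,0,0⟩, ⟨1,2,1,1723,1⟩, ⟨1,3,2,383,1⟩, ⟨1,2,3,431,1⟩, ⟨1,3449,1,2,0⟩, ⟨3,0,0,0,0⟩, ⟨7,7,0,0,0⟩, ⟨1,2,2,863,1⟩,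
  ⟨1,3,1,1151,1⟩, ⟨3,0,0,0,0⟩, ⟨1,5,1,691,1⟩, ⟨1,2,7,3,3⟩, ⟨1,3457,1,2,0⟩, ⟨3,0,0,0,0⟩, ⟨1,3,1,1153,1⟩, ⟨7,2,0,0,0⟩,
  ⟨1,3461,1,2,0⟩, ⟨3,0,0,0,0⟩, ⟨1,3463,1,2,0⟩, ⟨1,2,3,433,1⟩, ⟨7,3,0,0,0⟩, ⟨1,2,1,1733,1⟩, ⟨1,3467,1,2,0⟩, ⟨4,17,2,0,0⟩,
  ⟨1,3469,1,2,0⟩, ⟨3,0,0,0,0⟩, ⟨7,3,0,0,0⟩, ⟨4,31,1,0,0⟩, ⟨1,23,1,151,1⟩, ⟨3,0,0,0,0⟩, ⟨1,5,2,139,1⟩, ⟨7,2,0,0,0⟩,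
  ⟨7,3,0,0,0⟩, ⟨3,0,0,0,0⟩, ⟨1,7,2,71,1⟩, ⟨5,29,59,0,0⟩, ⟨1,59,2,2,0⟩, ⟨1,2,1,1741,1⟩, ⟨1,3,4,43,1⟩, ⟨7,2,0,0,0⟩,
  ⟨7,5,0,0,0⟩, ⟨3,0,0,0,0⟩, ⟨1,11,1,317,1⟩, ⟨1,2,5,109,1⟩, ⟨1,3,1,1163,1⟩, ⟨3,0,0,0,0⟩, ⟨1,3491,1,2,0⟩, ⟨4,97,1,0,0⟩]

set_option maxRecDepth 4000 in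
/-- Orders from 3493. -/
def chunk12 : List Cert := [
  ⟨1,7,1,499,1⟩, ⟨1,2,1,1747,1⟩, ⟨7,3,0,0,0⟩, ⟨4,23,1,0,0⟩, ⟨1,13,1,269,1⟩, ⟨3,0,0,0,0⟩, ⟨1,3499,1,2,0⟩, ⟨7,2,0,0,0⟩,
  ⟨1,3,2,389,1⟩, ⟨3,0,0,0,0⟩, ⟨1,31,1,113,1⟩, ⟨4,73,1,0,0⟩, ⟨1,5,1,701,1⟩, ⟨1,2,1,1753,1⟩, ⟨7,3,0,0,0⟩, ⟨1,2,2,877,1⟩,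
  ⟨1,11,2,29,1⟩, ⟨3,0,0,0,0⟩, ⟨1,3511,1,2,0⟩, ⟨1,2,3,439,1⟩, ⟨1,3,1,1171,1⟩, ⟨3,0,0,0,0⟩, ⟨7,5,0,0,0⟩, ⟨4,293,1,0,0⟩,
  ⟨1,3517,1,2,0⟩, ⟨1,2,1,1759,1⟩, ⟨7,3,0,0,0⟩, ⟨5,11,60,0,0⟩, ⟨1,7,1,503,1⟩, ⟨3,0,0,0,0⟩, ⟨1,13,1,271,1⟩, ⟨1,2,2,881,1⟩,
  ⟨7,3,0,0,0⟩, ⟨3,0,0,0,0⟩, ⟨1,3527,1,2,0⟩, ⟨2,0,0,0,0⟩, ⟨1,3529,1,2,0⟩, ⟨3,0,0,0,0⟩, ⟨7,3,0,0,0⟩, ⟨1,2,2,883,1⟩,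
  ⟨1,3533,1,2,0⟩, ⟨3,0,0,0,0⟩, ⟨7,5,0,0,0⟩, ⟨4,13,1,0,0⟩, ⟨1,3,3,131,1⟩, ⟨3,0,0,0,0⟩, ⟨1,3539,1,2,0⟩, ⟨5,59,60,0,0⟩,
  ⟨1,3541,1,2,0⟩, ⟨3,0,0,0,0⟩, ⟨1,3,1,1181,1⟩, ⟨1,2,3,443,1⟩, ⟨1,5,1,709,1⟩, ⟨3,0,0,0,0⟩, ⟨1,3547,1,2,0⟩, ⟨1,2,2,887,1⟩,
  ⟨7,3,0,0,0⟩, ⟨3,0,0,0,0⟩, ⟨1,53,1,67,1⟩, ⟨4,37,1,0,0⟩, ⟨7,11,0,0,0⟩, ⟨1,2,1,1777,1⟩, ⟨7,3,0,0,0⟩, ⟨7,2,0,0,0⟩,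
  ⟨1,3557,1,2,0⟩, ⟨3,0,0,0,0⟩, ⟨1,3559,1,2,0⟩, ⟨4,89,1,0,0⟩, ⟨1,3,1,1187,1⟩, ⟨3,0,0,0,0⟩, ⟨1,7,1,509,1⟩, ⟨5,11,60,0,0⟩,
  ⟨7,5,0,0,0⟩, ⟨1,2,1,1783,1⟩, ⟨7,3,0,0,0⟩, ⟨1,2,4,223,1⟩, ⟨1,43,1,83,1⟩, ⟨3,0,0,0,0⟩, ⟨1,3571,1,2,0⟩, ⟨7,2,0,0,0⟩,
  ⟨1,3,2,397,1⟩, ⟨1,2,1,1787,1⟩, ⟨7,5,0,0,0⟩, ⟨4,149,1,0,0⟩, ⟨1,7,2,73,1⟩, ⟨1,2,1,1789,1⟩, ⟨1,3,1,1193,1⟩, ⟨7,2,0,0,0⟩,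
  ⟨1,3581,1,2,0⟩, ⟨3,0,0,0,0⟩, ⟨1,3583,1,2,0⟩, ⟨1,2,9,7,1⟩, ⟨7,3,0,0,0⟩, ⟨3,0,0,0,0⟩, ⟨1,17,1,211,1⟩, ⟨4,23,1,0,0⟩,
  ⟨1,37,1,97,1⟩, ⟨3,0,0,0,0⟩, ⟨4,19,1,0,0⟩, ⟨1,2,3,449,1⟩, ⟨1,3593,1,2,0⟩, ⟨3,0,0,0,0⟩, ⟨1,5,1,719,1⟩, ⟨7,2,0,0,0⟩,
  ⟨7,3,0,0,0⟩, ⟨3,0,0,0,0⟩, ⟨1,59,1,61,1⟩, ⟨2,0,0,0,0⟩, ⟨1,13,1,277,1⟩, ⟨1,2,1,1801,1⟩, ⟨1,3,1,1201,1⟩, ⟨7,2,0,0,0⟩,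
  ⟨7,5,0,0,0⟩, ⟨3,0,0,0,0⟩, ⟨1,3607,1,2,0⟩, ⟨4,41,1,0,0⟩, ⟨1,3,2,401,1⟩, ⟨3,0,0,0,0⟩, ⟨1,23,1,157,1⟩, ⟨4,43,1,0,0⟩,
  ⟨1,3613,1,2,0⟩, ⟨3,0,0,0,0⟩, ⟨7,3,0,0,0⟩, ⟨1,2,5,113,1⟩, ⟨1,3617,1,2,0⟩, ⟨3,0,0,0,0⟩, ⟨7,7,0,0,0⟩, ⟨7,2,0,0,0⟩,
  ⟨7,3,0,0,0⟩, ⟨1,2,1,1811,1⟩, ⟨1,3623,1,2,0⟩, ⟨4,151,1,0,0⟩, ⟨1,5,3,29,1⟩, ⟨3,0,0,0,0⟩, ⟨7,3,0,0,0⟩, ⟨1,2,2,907,1⟩,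
  ⟨1,19,1,191,1⟩, ⟨3,0,0,0,0⟩, ⟨1,3631,1,2,0⟩, ⟨1,2,4,227,1⟩, ⟨7,3,0,0,0⟩, ⟨3,0,0,0,0⟩, ⟨1,5,1,727,1⟩, ⟨4,101,1,0,0⟩,
  ⟨1,3637,1,2,0⟩, ⟨3,0,0,0,0⟩, ⟨1,3,1,1213,1⟩, ⟨5,13,61,0,0⟩]

end CfsgLib.Perm.OrdersMid
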