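import Cfsg.Agent.Lib.Invol.OrdersThousandData

/-!
# Certificates for the orders from 3641 to 6232 (generated)
-/

set_option autoImplicit false
set_option linter.all false

namespace CfsgLib.Perm.OrdersRange

open CfsgLib.Invol.Thousand

set_option maxRecDepth 4000 in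
/-- Orders from 3641. -/
def chunk0 : List Cert := [
  ⟨1,11,1,331,1⟩, ⟨3,0,0,0,0⟩, ⟨1,3643,1,2,0⟩, ⟨1,2,2,911,1⟩, ⟨1,3,6,5,1⟩, ⟨1,2,1,1823,1⟩, ⟨1,7,1,521,1⟩, ⟨5,19,61,0,0⟩,
  ⟨1,41,1,89,1⟩, ⟨3,0,0,0,0⟩, ⟨1,3,1,1217,1⟩, ⟨7,2,0,0,0⟩, ⟨1,13,1,281,1⟩, ⟨3,0,0,0,0⟩, ⟨7,5,0,0,0⟩, ⟨1,2,3,457,1⟩,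
  ⟨7,3,0,0,0⟩, ⟨3,0,0,0,0⟩, ⟨1,3659,1,2,0⟩, ⟨4,61,1,0,0⟩, ⟨1,7,1,523,1⟩, ⟨1,2,1,1831,1⟩, ⟨7,3,0,0,0⟩, ⟨1,2,4,229,1⟩,
  ⟨1,5,1,733,1⟩, ⟨3,0,0,0,0⟩, ⟨1,19,1,193,1⟩, ⟨7,2,0,0,0⟩, ⟨1,3,1,1223,1⟩, ⟨3,0,0,0,0⟩, ⟨1,3671,1,2,0⟩, ⟨5,17,61,0,0⟩,
  ⟨1,3673,1,2,0⟩, ⟨3,0,0,0,0⟩, ⟨7,3,0,0,0⟩, ⟨1,2,2,919,1⟩, ⟨1,3677,1,2,0⟩, ⟨3,0,0,0,0⟩, ⟨1,13,1,283,1⟩, ⟨4,23,1,0,0⟩,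
  ⟨1,3,2,409,1⟩, ⟨3,0,0,0,0⟩, ⟨1,29,1,127,1⟩, ⟨4,307,1,0,0⟩, ⟨7,5,0,0,0⟩, ⟨3,0,0,0,0⟩, ⟨1,3,1,1229,1⟩, ⟨1,2,3,461,1⟩,
  ⟨7,7,0,0,0⟩, ⟨3,0,0,0,0⟩, ⟨1,3691,1,2,0⟩, ⟨7,2,0,0,0⟩, ⟨1,3,1,1231,1⟩, ⟨1,2,1,1847,1⟩, ⟨1,5,1,739,1⟩, ⟨5,11,61,0,0⟩,
  ⟨1,3697,1,2,0⟩, ⟨1,2,1,43,2⟩, ⟨1,3,3,137,1⟩, ⟨7,2,0,0,0⟩, ⟨1,3701,1,2,0⟩, ⟨3,0,0,0,0⟩, ⟨1,7,1,23,2⟩, ⟨1,2,3,463,1⟩,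
  ⟨7,3,0,0,0⟩, ⟨3,0,0,0,0⟩, ⟨1,11,1,337,1⟩, ⟨4,103,1,0,0⟩, ⟨1,3709,1,2,0⟩, ⟨3,0,0,0,0⟩, ⟨1,3,1,1237,1⟩, ⟨1,2,7,29,1⟩,
  ⟨1,47,1,79,1⟩, ⟨3,0,0,0,0⟩, ⟨1,5,1,743,1⟩, ⟨1,2,2,929,1⟩, ⟨7,3,0,0,0⟩, ⟨3,0,0,0,0⟩, ⟨1,3719,1,2,0⟩, ⟨4,31,1,0,0⟩,
  ⟨1,61,2,2,0⟩, ⟨1,2,1,1861,1⟩, ⟨7,3,0,0,0⟩, ⟨7,2,0,0,0⟩, ⟨1,5,2,149,1⟩, ⟨3,0,0,0,0⟩, ⟨1,3727,1,2,0⟩, ⟨1,2,4,233,1⟩,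
  ⟨7,3,0,0,0⟩, ⟨3,0,0,0,0⟩, ⟨7,7,0,0,0⟩, ⟨4,311,1,0,0⟩, ⟨1,3733,1,2,0⟩, ⟨1,2,1,1867,1⟩, ⟨7,3,0,0,0⟩, ⟨1,2,3,467,1⟩,
  ⟨1,37,1,101,1⟩, ⟨3,0,0,0,0⟩, ⟨1,3739,1,2,0⟩, ⟨7,2,0,0,0⟩, ⟨7,3,0,0,0⟩, ⟨1,2,1,1871,1⟩, ⟨1,19,1,197,1⟩, ⟨5,13,62,0,0⟩,
  ⟨7,5,0,0,0⟩, ⟨1,2,1,1873,1⟩, ⟨1,3,1,1249,1⟩, ⟨1,2,2,937,1⟩, ⟨1,23,1,163,1⟩, ⟨3,0,0,0,0⟩, ⟨1,11,2,31,1⟩, ⟨4,67,1,0,0⟩,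
  ⟨1,3,3,139,1⟩, ⟨1,2,1,1877,1⟩, ⟨1,5,1,751,1⟩, ⟨4,313,1,0,0⟩, ⟨1,13,1,17,2⟩, ⟨1,2,1,1879,1⟩, ⟨7,3,0,0,0⟩, ⟨4,47,1,0,0⟩,
  ⟨1,3761,1,2,0⟩, ⟨3,0,0,0,0⟩, ⟨1,53,1,71,1⟩, ⟨1,2,2,941,1⟩, ⟨7,3,0,0,0⟩, ⟨3,0,0,0,0⟩, ⟨1,3767,1,2,0⟩, ⟨4,157,1,0,0⟩,
  ⟨1,3769,1,2,0⟩, ⟨3,0,0,0,0⟩, ⟨1,3,2,419,1⟩, ⟨7,2,0,0,0⟩, ⟨1,7,3,11,1⟩, ⟨3,0,0,0,0⟩, ⟨1,5,2,151,1⟩, ⟨1,2,6,59,1⟩,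
  ⟨1,3,1,1259,1⟩, ⟨1,2,1,1889,1⟩, ⟨1,3779,1,2,0⟩, ⟨5,5,62,0,0⟩, ⟨1,19,1,199,1⟩, ⟨3,0,0,0,0⟩, ⟨7,3,0,0,0⟩, ⟨4,11,1,0,0⟩,
  ⟨1,5,1,757,1⟩, ⟨3,0,0,0,0⟩, ⟨1,7,1,541,1⟩, ⟨1,2,2,947,1⟩, ⟨1,3,2,421,1⟩, ⟨3,0,0,0,0⟩, ⟨1,17,1,223,1⟩, ⟨4,79,1,0,0⟩,
  ⟨1,3793,1,2,0⟩, ⟨3,0,0,0,0⟩, ⟨7,3,0,0,0⟩, ⟨7,2,0,0,0⟩, ⟨1,3797,1,2,0⟩, ⟨3,0,0,0,0⟩, ⟨1,29,1,131,1⟩, ⟨5,19,62,0,0⟩]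

set_option maxRecDepth 4000 in
/-- Orders from 3801. -/
def chunk1 : List Cert := [
  ⟨7,3,0,0,0⟩, ⟨1,2,1,1901,1⟩, ⟨1,3803,1,2,0⟩, ⟨4,317,1,0,0⟩, ⟨1,5,1,761,1⟩, ⟨3,0,0,0,0⟩, ⟨1,3,4,47,1⟩, ⟨4,17,1,0,0⟩,
  ⟨1,13,1,293,1⟩, ⟨3,0,0,0,0⟩, ⟨1,37,1,103,1⟩, ⟨1,2,2,953,1⟩, ⟨7,3,0,0,0⟩, ⟨1,2,1,1907,1⟩, ⟨7,5,0,0,0⟩, ⟨4,53,1,0,0⟩,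
  ⟨1,11,1,347,1⟩, ⟨3,0,0,0,0⟩, ⟨7,3,0,0,0⟩, ⟨7,2,0,0,0⟩, ⟨1,3821,1,2,0⟩, ⟨3,0,0,0,0⟩, ⟨1,3823,1,2,0⟩, ⟨1,2,4,239,1⟩,
  ⟨7,3,0,0,0⟩, ⟨1,2,1,1913,1⟩, ⟨1,43,1,89,1⟩, ⟨4,29,1,0,0⟩, ⟨1,7,1,547,1⟩, ⟨3,0,0,0,0⟩, ⟨1,3,1,1277,1⟩, ⟨1,2,3,479,1⟩,
  ⟨1,3833,1,2,0⟩, ⟨3,0,0,0,0⟩, ⟨7,5,0,0,0⟩, ⟨7,2,0,0,0⟩, ⟨1,3,1,1279,1⟩, ⟨3,0,0,0,0⟩, ⟨1,11,1,349,1⟩, ⟨5,5,62,0,0⟩,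
  ⟨1,23,1,167,1⟩, ⟨3,0,0,0,0⟩, ⟨7,3,0,0,0⟩, ⟨1,2,2,31,2⟩, ⟨1,5,1,769,1⟩, ⟨3,0,0,0,0⟩, ⟨1,3847,1,2,0⟩, ⟨4,37,1,0,0⟩,
  ⟨1,3,1,1283,1⟩, ⟨3,0,0,0,0⟩, ⟨1,3851,1,2,0⟩, ⟨4,107,1,0,0⟩, ⟨1,3853,1,2,0⟩, ⟨3,0,0,0,0⟩, ⟨7,3,0,0,0⟩, ⟨1,2,4,241,1⟩,
  ⟨7,7,0,0,0⟩, ⟨3,0,0,0,0⟩, ⟨1,17,1,227,1⟩, ⟨7,2,0,0,0⟩, ⟨4,11,1,0,0⟩, ⟨1,2,1,1931,1⟩, ⟨1,3863,1,2,0⟩, ⟨5,23,63,0,0⟩,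
  ⟨1,5,1,773,1⟩, ⟨1,2,1,1933,1⟩, ⟨1,3,1,1289,1⟩, ⟨1,2,2,967,1⟩, ⟨1,53,1,73,1⟩, ⟨3,0,0,0,0⟩, ⟨1,7,2,79,1⟩, ⟨1,2,5,11,2⟩,
  ⟨1,3,1,1291,1⟩, ⟨3,0,0,0,0⟩, ⟨1,5,3,31,1⟩, ⟨4,19,1,0,0⟩, ⟨1,3877,1,2,0⟩, ⟨3,0,0,0,0⟩, ⟨1,3,2,431,1⟩, ⟨4,97,1,0,0⟩,
  ⟨1,3881,1,2,0⟩, ⟨3,0,0,0,0⟩, ⟨1,11,1,353,1⟩, ⟨1,2,2,971,1⟩, ⟨7,3,0,0,0⟩, ⟨3,0,0,0,0⟩, ⟨1,13,2,23,1⟩, ⟨1,2,4,3,5⟩,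
  ⟨1,3889,1,2,0⟩, ⟨3,0,0,0,0⟩, ⟨1,3,1,1297,1⟩, ⟨7,2,0,0,0⟩, ⟨1,17,1,229,1⟩, ⟨3,0,0,0,0⟩, ⟨7,5,0,0,0⟩, ⟨1,2,3,487,1⟩,
  ⟨1,3,2,433,1⟩, ⟨1,2,1,1949,1⟩, ⟨1,7,1,557,1⟩, ⟨5,13,63,0,0⟩, ⟨1,47,1,83,1⟩, ⟨1,2,1,1951,1⟩, ⟨1,3,1,1301,1⟩, ⟨1,2,6,61,1⟩,
  ⟨7,5,0,0,0⟩, ⟨3,0,0,0,0⟩, ⟨1,3907,1,2,0⟩, ⟨1,2,2,977,1⟩, ⟨1,3,1,1303,1⟩, ⟨3,0,0,0,0⟩, ⟨1,3911,1,2,0⟩, ⟨4,163,1,0,0⟩,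
  ⟨7,7,0,0,0⟩, ⟨3,0,0,0,0⟩, ⟨4,29,1,0,0⟩, ⟨7,2,0,0,0⟩, ⟨1,3917,1,2,0⟩, ⟨3,0,0,0,0⟩, ⟨1,3919,1,2,0⟩, ⟨4,7,2,0,0⟩,
  ⟨1,3,1,1307,1⟩, ⟨3,0,0,0,0⟩, ⟨1,3923,1,2,0⟩, ⟨4,109,1,0,0⟩, ⟨1,5,2,157,1⟩, ⟨3,0,0,0,0⟩, ⟨7,3,0,0,0⟩, ⟨1,2,3,491,1⟩,
  ⟨1,3929,1,2,0⟩, ⟨3,0,0,0,0⟩, ⟨1,3931,1,2,0⟩, ⟨1,2,2,983,1⟩, ⟨7,3,0,0,0⟩, ⟨3,0,0,0,0⟩, ⟨1,5,1,787,1⟩, ⟨4,41,1,0,0⟩,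
  ⟨1,31,1,127,1⟩, ⟨3,0,0,0,0⟩, ⟨7,3,0,0,0⟩, ⟨7,2,0,0,0⟩, ⟨1,7,1,563,1⟩, ⟨3,0,0,0,0⟩, ⟨1,3943,1,2,0⟩, ⟨4,29,1,0,0⟩,
  ⟨7,3,0,0,0⟩, ⟨1,2,1,1973,1⟩, ⟨1,3947,1,2,0⟩, ⟨4,47,1,0,0⟩, ⟨1,11,1,359,1⟩, ⟨3,0,0,0,0⟩, ⟨1,3,2,439,1⟩, ⟨4,19,1,0,0⟩,
  ⟨1,59,1,67,1⟩, ⟨3,0,0,0,0⟩, ⟨7,5,0,0,0⟩, ⟨7,2,0,0,0⟩, ⟨1,3,1,1319,1⟩, ⟨1,2,1,1979,1⟩, ⟨1,37,1,107,1⟩, ⟨5,11,63,0,0⟩,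
  ⟨1,17,1,233,1⟩, ⟨3,0,0,0,0⟩, ⟨1,3,1,1321,1⟩, ⟨1,2,2,991,1⟩, ⟨7,5,0,0,0⟩, ⟨3,0,0,0,0⟩, ⟨1,3967,1,2,0⟩, ⟨1,2,7,31,1⟩,
  ⟨1,3,4,7,2⟩, ⟨3,0,0,0,0⟩, ⟨1,11,1,19,2⟩, ⟨4,331,1,0,0⟩, ⟨1,29,1,137,1⟩, ⟨1,2,1,1987,1⟩, ⟨7,3,0,0,0⟩, ⟨4,71,1,0,0⟩,
  ⟨1,41,1,97,1⟩, ⟨3,0,0,0,0⟩, ⟨1,23,1,173,1⟩, ⟨7,2,0,0,0⟩, ⟨1,3,1,1327,1⟩, ⟨3,0,0,0,0⟩, ⟨1,7,1,569,1⟩, ⟨4,83,1,0,0⟩,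
  ⟨1,5,1,797,1⟩, ⟨1,2,1,1993,1⟩, ⟨1,3,2,443,1⟩, ⟨1,2,2,997,1⟩, ⟨1,3989,1,2,0⟩, ⟨3,0,0,0,0⟩, ⟨1,13,1,307,1⟩, ⟨1,2,3,499,1⟩,
  ⟨1,3,1,11,3⟩, ⟨1,2,1,1997,1⟩, ⟨7,5,0,0,0⟩, ⟨4,37,1,0,0⟩, ⟨1,7,1,571,1⟩, ⟨1,2,1,1999,1⟩, ⟨7,3,0,0,0⟩, ⟨1,2,5,5,3⟩]

set_option maxRecDepth 4000 in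
/-- Orders from 4001. -/
def chunk2 : List Cert := [
  ⟨1,4001,1,2,0⟩, ⟨3,0,0,0,0⟩, ⟨1,4003,1,2,0⟩, ⟨7,2,0,0,0⟩, ⟨7,3,0,0,0⟩, ⟨1,2,1,2003,1⟩, ⟨1,4007,1,2,0⟩, ⟨4,167,1,0,0⟩,
  ⟨1,19,1,211,1⟩, ⟨3,0,0,0,0⟩, ⟨7,3,0,0,0⟩, ⟨7,2,0,0,0⟩, ⟨1,4013,1,2,0⟩, ⟨3,0,0,0,0⟩, ⟨7,5,0,0,0⟩, ⟨1,2,4,251,1⟩,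
  ⟨7,3,0,0,0⟩, ⟨3,0,0,0,0⟩, ⟨1,4019,1,2,0⟩, ⟨4,67,1,0,0⟩, ⟨1,4021,1,2,0⟩, ⟨1,2,1,2011,1⟩, ⟨1,3,3,149,1⟩, ⟨1,2,3,503,1⟩,
  ⟨7,5,0,0,0⟩, ⟨3,0,0,0,0⟩, ⟨1,4027,1,2,0⟩, ⟨7,2,0,0,0⟩, ⟨7,3,0,0,0⟩, ⟨3,0,0,0,0⟩, ⟨1,29,1,139,1⟩, ⟨6,7,64,64,0⟩,
  ⟨1,37,1,109,1⟩, ⟨1,2,1,2017,1⟩, ⟨7,3,0,0,0⟩, ⟨1,2,2,1009,1⟩, ⟨1,11,1,367,1⟩, ⟨3,0,0,0,0⟩, ⟨1,7,1,577,1⟩, ⟨4,101,1,0,0⟩,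
  ⟨1,3,2,449,1⟩, ⟨3,0,0,0,0⟩, ⟨1,13,1,311,1⟩, ⟨4,337,1,0,0⟩, ⟨1,5,1,809,1⟩, ⟨3,0,0,0,0⟩, ⟨7,3,0,0,0⟩, ⟨4,23,1,0,0⟩,
  ⟨1,4049,1,2,0⟩, ⟨3,0,0,0,0⟩, ⟨1,4051,1,2,0⟩, ⟨1,2,2,1013,1⟩, ⟨7,3,0,0,0⟩, ⟨1,2,1,2027,1⟩, ⟨1,5,1,811,1⟩, ⟨4,13,2,0,0⟩,
  ⟨1,4057,1,2,0⟩, ⟨1,2,1,2029,1⟩, ⟨7,3,0,0,0⟩, ⟨7,2,0,0,0⟩, ⟨1,31,1,131,1⟩, ⟨3,0,0,0,0⟩, ⟨1,17,1,239,1⟩, ⟨1,2,5,127,1⟩,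
  ⟨7,3,0,0,0⟩, ⟨3,0,0,0,0⟩, ⟨1,7,2,83,1⟩, ⟨4,113,1,0,0⟩, ⟨1,13,1,313,1⟩, ⟨3,0,0,0,0⟩, ⟨7,3,0,0,0⟩, ⟨1,2,3,509,1⟩,
  ⟨1,4073,1,2,0⟩, ⟨3,0,0,0,0⟩, ⟨1,5,2,163,1⟩, ⟨1,2,2,1019,1⟩, ⟨1,3,3,151,1⟩, ⟨1,2,1,2039,1⟩, ⟨1,4079,1,2,0⟩, ⟨2,0,0,0,0⟩,
  ⟨7,7,0,0,0⟩, ⟨3,0,0,0,0⟩, ⟨1,3,1,1361,1⟩, ⟨1,2,2,1021,1⟩, ⟨7,5,0,0,0⟩, ⟨3,0,0,0,0⟩, ⟨1,61,1,67,1⟩, ⟨4,73,1,0,0⟩,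
  ⟨7,3,0,0,0⟩, ⟨3,0,0,0,0⟩, ⟨1,4091,1,2,0⟩, ⟨4,31,1,0,0⟩, ⟨1,4093,1,2,0⟩, ⟨3,0,0,0,0⟩, ⟨7,3,0,0,0⟩, ⟨1,2,12,2,0⟩,
  ⟨1,17,1,241,1⟩, ⟨3,0,0,0,0⟩, ⟨1,4099,1,2,0⟩, ⟨7,2,0,0,0⟩, ⟨1,3,1,1367,1⟩, ⟨3,0,0,0,0⟩, ⟨1,11,1,373,1⟩, ⟨4,19,1,0,0⟩,
  ⟨1,5,1,821,1⟩, ⟨1,2,1,2053,1⟩, ⟨1,3,1,37,2⟩, ⟨7,2,0,0,0⟩, ⟨1,7,1,587,1⟩, ⟨3,0,0,0,0⟩, ⟨1,4111,1,2,0⟩, ⟨1,2,4,257,1⟩,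
  ⟨1,3,2,457,1⟩, ⟨3,0,0,0,0⟩, ⟨1,5,1,823,1⟩, ⟨4,7,3,0,0⟩, ⟨1,23,1,179,1⟩, ⟨3,0,0,0,0⟩, ⟨1,3,1,1373,1⟩, ⟨4,103,1,0,0⟩,
  ⟨1,13,1,317,1⟩, ⟨3,0,0,0,0⟩, ⟨7,7,0,0,0⟩, ⟨1,2,2,1031,1⟩, ⟨7,3,0,0,0⟩, ⟨1,2,1,2063,1⟩, ⟨1,4127,1,2,0⟩, ⟨4,43,1,0,0⟩,
  ⟨1,4129,1,2,0⟩, ⟨3,0,0,0,0⟩, ⟨1,3,5,17,1⟩, ⟨1,2,2,1033,1⟩, ⟨1,4133,1,2,0⟩, ⟨3,0,0,0,0⟩, ⟨1,5,1,827,1⟩, ⟨4,47,1,0,0⟩,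
  ⟨7,3,0,0,0⟩, ⟨1,2,1,2069,1⟩, ⟨1,4139,1,2,0⟩, ⟨4,23,1,0,0⟩, ⟨1,41,1,101,1⟩, ⟨3,0,0,0,0⟩, ⟨1,3,1,1381,1⟩, ⟨5,37,65,0,0⟩,
  ⟨1,5,1,829,1⟩, ⟨3,0,0,0,0⟩, ⟨7,11,0,0,0⟩, ⟨7,2,0,0,0⟩, ⟨1,3,2,461,1⟩, ⟨3,0,0,0,0⟩, ⟨1,7,1,593,1⟩, ⟨4,173,1,0,0⟩,
  ⟨1,4153,1,2,0⟩, ⟨3,0,0,0,0⟩, ⟨7,3,0,0,0⟩, ⟨1,2,2,1039,1⟩, ⟨1,4157,1,2,0⟩, ⟨3,0,0,0,0⟩, ⟨1,4159,1,2,0⟩, ⟨5,13,65,0,0⟩,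
  ⟨7,3,0,0,0⟩, ⟨1,2,1,2081,1⟩, ⟨1,23,1,181,1⟩, ⟨4,347,1,0,0⟩, ⟨7,5,0,0,0⟩, ⟨1,2,1,2083,1⟩, ⟨1,3,2,463,1⟩, ⟨1,2,3,521,1⟩,
  ⟨1,11,1,379,1⟩, ⟨3,0,0,0,0⟩, ⟨1,43,1,97,1⟩, ⟨7,2,0,0,0⟩, ⟨7,3,0,0,0⟩, ⟨1,2,1,2087,1⟩, ⟨1,5,2,167,1⟩, ⟨4,29,1,0,0⟩,
  ⟨1,4177,1,2,0⟩, ⟨1,2,1,2089,1⟩, ⟨7,3,0,0,0⟩, ⟨7,2,0,0,0⟩, ⟨1,37,1,113,1⟩, ⟨3,0,0,0,0⟩, ⟨1,47,1,89,1⟩, ⟨1,2,3,523,1⟩,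
  ⟨4,31,1,0,0⟩, ⟨3,0,0,0,0⟩, ⟨1,53,1,79,1⟩, ⟨4,349,1,0,0⟩, ⟨1,59,1,71,1⟩, ⟨3,0,0,0,0⟩, ⟨7,3,0,0,0⟩, ⟨1,2,5,131,1⟩,
  ⟨1,7,1,599,1⟩, ⟨3,0,0,0,0⟩, ⟨1,5,1,839,1⟩, ⟨1,2,2,1049,1⟩, ⟨1,3,1,1399,1⟩, ⟨1,2,1,2099,1⟩, ⟨7,13,0,0,0⟩, ⟨5,7,65,0,0⟩]

set_option maxRecDepth 4000 in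
/-- Orders from 4201. -/
def chunk3 : List Cert := [
  ⟨1,4201,1,2,0⟩, ⟨3,0,0,0,0⟩, ⟨1,3,2,467,1⟩, ⟨1,2,2,1051,1⟩, ⟨1,5,1,29,2⟩, ⟨3,0,0,0,0⟩, ⟨1,7,1,601,1⟩, ⟨1,2,4,263,1⟩,
  ⟨7,3,0,0,0⟩, ⟨3,0,0,0,0⟩, ⟨1,4211,1,2,0⟩, ⟨5,13,65,0,0⟩, ⟨1,11,1,383,1⟩, ⟨3,0,0,0,0⟩, ⟨7,3,0,0,0⟩, ⟨4,31,1,0,0⟩,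
  ⟨1,4217,1,2,0⟩, ⟨3,0,0,0,0⟩, ⟨1,4219,1,2,0⟩, ⟨7,2,0,0,0⟩, ⟨7,3,0,0,0⟩, ⟨1,2,1,2111,1⟩, ⟨1,41,1,103,1⟩, ⟨5,11,65,0,0⟩,
  ⟨1,5,2,13,2⟩, ⟨1,2,1,2113,1⟩, ⟨1,3,1,1409,1⟩, ⟨7,2,0,0,0⟩, ⟨1,4229,1,2,0⟩, ⟨3,0,0,0,0⟩, ⟨1,4231,1,2,0⟩, ⟨1,2,3,23,2⟩,
  ⟨7,3,0,0,0⟩, ⟨3,0,0,0,0⟩, ⟨7,5,0,0,0⟩, ⟨4,353,1,0,0⟩, ⟨1,19,1,223,1⟩, ⟨3,0,0,0,0⟩, ⟨1,3,3,157,1⟩, ⟨4,53,1,0,0⟩,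
  ⟨1,4241,1,2,0⟩, ⟨3,0,0,0,0⟩, ⟨1,4243,1,2,0⟩, ⟨1,2,2,1061,1⟩, ⟨7,3,0,0,0⟩, ⟨3,0,0,0,0⟩, ⟨1,31,1,137,1⟩, ⟨4,59,1,0,0⟩,
  ⟨1,7,1,607,1⟩, ⟨3,0,0,0,0⟩, ⟨7,3,0,0,0⟩, ⟨1,2,2,1063,1⟩, ⟨1,4253,1,2,0⟩, ⟨3,0,0,0,0⟩, ⟨7,5,0,0,0⟩, ⟨4,19,1,0,0⟩,
  ⟨7,3,0,0,0⟩, ⟨1,2,1,2129,1⟩, ⟨1,4259,1,2,0⟩, ⟨4,71,1,0,0⟩, ⟨1,4261,1,2,0⟩, ⟨1,2,1,2131,1⟩, ⟨7,3,0,0,0⟩, ⟨4,41,1,0,0⟩,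
  ⟨1,5,1,853,1⟩, ⟨3,0,0,0,0⟩, ⟨1,17,1,251,1⟩, ⟨7,2,0,0,0⟩, ⟨1,3,1,1423,1⟩, ⟨3,0,0,0,0⟩, ⟨1,4271,1,2,0⟩, ⟨4,89,1,0,0⟩,
  ⟨1,4273,1,2,0⟩, ⟨1,2,1,2137,1⟩, ⟨7,3,0,0,0⟩, ⟨1,2,2,1069,1⟩, ⟨7,7,0,0,0⟩, ⟨3,0,0,0,0⟩, ⟨1,11,1,389,1⟩, ⟨4,107,1,0,0⟩,
  ⟨1,3,1,1427,1⟩, ⟨1,2,1,2141,1⟩, ⟨1,4283,1,2,0⟩, ⟨5,17,66,0,0⟩, ⟨1,5,1,857,1⟩, ⟨1,2,1,2143,1⟩, ⟨1,3,1,1429,1⟩, ⟨1,2,6,67,1⟩,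
  ⟨1,4289,1,2,0⟩, ⟨3,0,0,0,0⟩, ⟨1,7,1,613,1⟩, ⟨7,2,0,0,0⟩, ⟨1,3,4,53,1⟩, ⟨3,0,0,0,0⟩, ⟨1,5,1,859,1⟩, ⟨4,179,1,0,0⟩,
  ⟨1,4297,1,2,0⟩, ⟨3,0,0,0,0⟩, ⟨1,3,1,1433,1⟩, ⟨7,2,0,0,0⟩, ⟨7,11,0,0,0⟩, ⟨3,0,0,0,0⟩, ⟨1,13,1,331,1⟩, ⟨1,2,4,269,1⟩,
  ⟨7,3,0,0,0⟩, ⟨1,2,1,2153,1⟩, ⟨1,59,1,73,1⟩, ⟨4,359,1,0,0⟩, ⟨1,31,1,139,1⟩, ⟨3,0,0,0,0⟩, ⟨1,3,2,479,1⟩, ⟨5,11,66,0,0⟩,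
  ⟨1,19,1,227,1⟩, ⟨3,0,0,0,0⟩, ⟨1,5,1,863,1⟩, ⟨7,2,0,0,0⟩, ⟨1,3,1,1439,1⟩, ⟨3,0,0,0,0⟩, ⟨1,7,1,617,1⟩, ⟨6,5,66,32,0⟩,
  ⟨1,29,1,149,1⟩, ⟨1,2,1,2161,1⟩, ⟨7,3,0,0,0⟩, ⟨7,2,0,0,0⟩, ⟨1,5,2,173,1⟩, ⟨3,0,0,0,0⟩, ⟨1,4327,1,2,0⟩, ⟨1,2,3,541,1⟩,
  ⟨7,3,0,0,0⟩, ⟨3,0,0,0,0⟩, ⟨1,61,1,71,1⟩, ⟨4,19,2,0,0⟩, ⟨1,7,1,619,1⟩, ⟨3,0,0,0,0⟩, ⟨7,3,0,0,0⟩, ⟨1,2,4,271,1⟩,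
  ⟨1,4337,1,2,0⟩, ⟨3,0,0,0,0⟩, ⟨1,4339,1,2,0⟩, ⟨7,2,0,0,0⟩, ⟨1,3,1,1447,1⟩, ⟨3,0,0,0,0⟩, ⟨1,43,1,101,1⟩, ⟨4,181,1,0,0⟩,
  ⟨7,5,0,0,0⟩, ⟨3,0,0,0,0⟩, ⟨4,23,1,0,0⟩, ⟨1,2,2,1087,1⟩, ⟨1,4349,1,2,0⟩, ⟨3,0,0,0,0⟩, ⟨1,19,1,229,1⟩, ⟨1,2,8,17,1⟩,
  ⟨1,3,1,1451,1⟩, ⟨3,0,0,0,0⟩, ⟨7,5,0,0,0⟩, ⟨4,11,2,0,0⟩, ⟨1,4357,1,2,0⟩, ⟨1,2,1,2179,1⟩, ⟨1,3,1,1453,1⟩, ⟨4,109,1,0,0⟩,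
  ⟨1,7,2,89,1⟩, ⟨3,0,0,0,0⟩, ⟨1,4363,1,2,0⟩, ⟨1,2,2,1091,1⟩, ⟨7,3,0,0,0⟩, ⟨3,0,0,0,0⟩, ⟨1,11,1,397,1⟩, ⟨5,13,67,0,0⟩]

set_option maxRecDepth 4000 in
/-- Orders from 4369. -/
def chunk4 : List Cert := [
  ⟨1,17,1,257,1⟩, ⟨3,0,0,0,0⟩, ⟨7,3,0,0,0⟩, ⟨1,2,2,1093,1⟩, ⟨1,4373,1,2,0⟩, ⟨1,2,1,3,7⟩, ⟨1,5,4,7,1⟩, ⟨1,2,3,547,1⟩,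
  ⟨1,3,1,1459,1⟩, ⟨3,0,0,0,0⟩, ⟨1,29,1,151,1⟩, ⟨4,73,1,0,0⟩, ⟨1,13,1,337,1⟩, ⟨3,0,0,0,0⟩, ⟨1,3,2,487,1⟩, ⟨1,2,5,137,1⟩,
  ⟨1,5,1,877,1⟩, ⟨3,0,0,0,0⟩, ⟨1,41,1,107,1⟩, ⟨1,2,2,1097,1⟩, ⟨7,3,0,0,0⟩, ⟨3,0,0,0,0⟩, ⟨1,4391,1,2,0⟩, ⟨4,61,1,0,0⟩,
  ⟨1,23,1,191,1⟩, ⟨1,2,1,13,3⟩, ⟨7,3,0,0,0⟩, ⟨7,2,0,0,0⟩, ⟨1,4397,1,2,0⟩, ⟨3,0,0,0,0⟩, ⟨1,53,1,83,1⟩, ⟨5,11,67,0,0⟩,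
  ⟨1,3,3,163,1⟩, ⟨3,0,0,0,0⟩, ⟨7,7,0,0,0⟩, ⟨4,367,1,0,0⟩, ⟨1,5,1,881,1⟩, ⟨1,2,1,2203,1⟩, ⟨7,3,0,0,0⟩, ⟨4,29,1,0,0⟩,
  ⟨1,4409,1,2,0⟩, ⟨3,0,0,0,0⟩, ⟨1,11,1,401,1⟩, ⟨1,2,2,1103,1⟩, ⟨1,3,1,1471,1⟩, ⟨1,2,1,2207,1⟩, ⟨1,5,1,883,1⟩, ⟨5,23,67,0,0⟩,
  ⟨1,7,1,631,1⟩, ⟨1,2,1,47,2⟩, ⟨1,3,2,491,1⟩, ⟨7,2,0,0,0⟩, ⟨1,4421,1,2,0⟩, ⟨3,0,0,0,0⟩, ⟨1,4423,1,2,0⟩, ⟨4,79,1,0,0⟩,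
  ⟨7,3,0,0,0⟩, ⟨1,2,1,2213,1⟩, ⟨1,19,1,233,1⟩, ⟨4,41,1,0,0⟩, ⟨1,43,1,103,1⟩, ⟨3,0,0,0,0⟩, ⟨7,3,0,0,0⟩, ⟨1,2,4,277,1⟩,
  ⟨7,11,0,0,0⟩, ⟨3,0,0,0,0⟩, ⟨1,5,1,887,1⟩, ⟨1,2,2,1109,1⟩, ⟨7,3,0,0,0⟩, ⟨3,0,0,0,0⟩, ⟨1,23,1,193,1⟩, ⟨4,37,1,0,0⟩,
  ⟨1,4441,1,2,0⟩, ⟨1,2,1,2221,1⟩, ⟨1,3,1,1481,1⟩, ⟨7,2,0,0,0⟩, ⟨7,5,0,0,0⟩, ⟨3,0,0,0,0⟩, ⟨1,4447,1,2,0⟩, ⟨1,2,5,139,1⟩,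
  ⟨1,3,1,1483,1⟩, ⟨3,0,0,0,0⟩, ⟨1,4451,1,2,0⟩, ⟨4,53,1,0,0⟩, ⟨1,61,1,73,1⟩, ⟨3,0,0,0,0⟩, ⟨5,11,67,0,0⟩, ⟨1,2,3,557,1⟩,
  ⟨1,4457,1,2,0⟩, ⟨3,0,0,0,0⟩, ⟨1,7,3,13,1⟩, ⟨7,2,0,0,0⟩, ⟨1,3,1,1487,1⟩, ⟨3,0,0,0,0⟩, ⟨1,4463,1,2,0⟩, ⟨4,31,1,0,0⟩,
  ⟨7,5,0,0,0⟩, ⟨3,0,0,0,0⟩, ⟨1,3,1,1489,1⟩, ⟨1,2,2,1117,1⟩, ⟨1,41,1,109,1⟩, ⟨3,0,0,0,0⟩, ⟨1,17,1,263,1⟩, ⟨4,43,1,0,0⟩,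
  ⟨7,3,0,0,0⟩, ⟨1,2,1,2237,1⟩, ⟨1,5,2,179,1⟩, ⟨4,373,1,0,0⟩, ⟨1,11,2,37,1⟩, ⟨1,2,1,2239,1⟩, ⟨1,3,1,1493,1⟩, ⟨5,7,67,0,0⟩,
  ⟨1,4481,1,2,0⟩, ⟨3,0,0,0,0⟩, ⟨1,4483,1,2,0⟩, ⟨7,2,0,0,0⟩, ⟨7,3,0,0,0⟩, ⟨1,2,1,2243,1⟩, ⟨1,7,1,641,1⟩, ⟨4,17,1,0,0⟩,
  ⟨1,67,2,2,0⟩, ⟨3,0,0,0,0⟩, ⟨1,3,2,499,1⟩, ⟨1,2,2,1123,1⟩, ⟨1,4493,1,2,0⟩, ⟨3,0,0,0,0⟩, ⟨7,5,0,0,0⟩, ⟨1,2,4,281,1⟩,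
  ⟨1,3,1,1499,1⟩, ⟨3,0,0,0,0⟩, ⟨1,11,1,409,1⟩, ⟨2,0,0,0,0⟩, ⟨1,7,1,643,1⟩, ⟨1,2,1,2251,1⟩, ⟨7,3,0,0,0⟩, ⟨1,2,3,563,1⟩,
  ⟨7,5,0,0,0⟩, ⟨3,0,0,0,0⟩, ⟨1,4507,1,2,0⟩, ⟨7,2,0,0,0⟩, ⟨1,3,3,167,1⟩, ⟨3,0,0,0,0⟩, ⟨1,13,1,347,1⟩, ⟨5,47,68,0,0⟩,
  ⟨1,4513,1,2,0⟩, ⟨3,0,0,0,0⟩, ⟨7,3,0,0,0⟩, ⟨1,2,2,1129,1⟩, ⟨1,4517,1,2,0⟩, ⟨3,0,0,0,0⟩, ⟨1,4519,1,2,0⟩, ⟨4,113,1,0,0⟩,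
  ⟨7,3,0,0,0⟩, ⟨3,0,0,0,0⟩, ⟨1,4523,1,2,0⟩, ⟨4,29,1,0,0⟩, ⟨1,5,2,181,1⟩, ⟨3,0,0,0,0⟩, ⟨1,3,2,503,1⟩, ⟨1,2,4,283,1⟩,
  ⟨1,7,1,647,1⟩, ⟨3,0,0,0,0⟩, ⟨1,23,1,197,1⟩, ⟨7,2,0,0,0⟩, ⟨1,3,1,1511,1⟩, ⟨1,2,1,2267,1⟩, ⟨1,5,1,907,1⟩, ⟨5,7,68,0,0⟩]

set_option maxRecDepth 4000 in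
/-- Orders from 4537. -/
def chunk5 : List Cert := [
  ⟨1,13,1,349,1⟩, ⟨1,2,1,2269,1⟩, ⟨7,3,0,0,0⟩, ⟨7,2,0,0,0⟩, ⟨1,19,1,239,1⟩, ⟨3,0,0,0,0⟩, ⟨7,7,0,0,0⟩, ⟨1,2,6,71,1⟩,
  ⟨7,3,0,0,0⟩, ⟨1,2,1,2273,1⟩, ⟨1,4547,1,2,0⟩, ⟨4,379,1,0,0⟩, ⟨1,4549,1,2,0⟩, ⟨3,0,0,0,0⟩, ⟨7,3,0,0,0⟩, ⟨1,2,3,569,1⟩,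
  ⟨1,29,1,157,1⟩, ⟨3,0,0,0,0⟩, ⟨1,5,1,911,1⟩, ⟨7,2,0,0,0⟩, ⟨7,3,0,0,0⟩, ⟨3,0,0,0,0⟩, ⟨1,47,1,97,1⟩, ⟨5,19,68,0,0⟩,
  ⟨1,4561,1,2,0⟩, ⟨1,2,1,2281,1⟩, ⟨1,3,3,13,2⟩, ⟨7,2,0,0,0⟩, ⟨7,5,0,0,0⟩, ⟨3,0,0,0,0⟩, ⟨1,4567,1,2,0⟩, ⟨1,2,3,571,1⟩,
  ⟨1,3,1,1523,1⟩, ⟨3,0,0,0,0⟩, ⟨1,7,1,653,1⟩, ⟨4,127,1,0,0⟩, ⟨1,17,1,269,1⟩, ⟨1,2,1,2287,1⟩, ⟨7,3,0,0,0⟩, ⟨4,11,1,0,0⟩,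
  ⟨1,23,1,199,1⟩, ⟨3,0,0,0,0⟩, ⟨1,19,1,241,1⟩, ⟨7,2,0,0,0⟩, ⟨1,3,2,509,1⟩, ⟨3,0,0,0,0⟩, ⟨1,4583,1,2,0⟩, ⟨4,191,1,0,0⟩,
  ⟨7,5,0,0,0⟩, ⟨1,2,1,2293,1⟩, ⟨7,3,0,0,0⟩, ⟨7,2,0,0,0⟩, ⟨1,13,1,353,1⟩, ⟨3,0,0,0,0⟩, ⟨1,4591,1,2,0⟩, ⟨4,41,1,0,0⟩,
  ⟨1,3,1,1531,1⟩, ⟨1,2,1,2297,1⟩, ⟨1,5,1,919,1⟩, ⟨4,383,1,0,0⟩, ⟨1,4597,1,2,0⟩, ⟨3,0,0,0,0⟩, ⟨7,3,0,0,0⟩, ⟨4,23,1,0,0⟩,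
  ⟨1,43,1,107,1⟩, ⟨3,0,0,0,0⟩, ⟨1,4603,1,2,0⟩, ⟨1,2,2,1151,1⟩, ⟨7,3,0,0,0⟩, ⟨3,0,0,0,0⟩, ⟨1,17,1,271,1⟩, ⟨1,2,9,3,2⟩,
  ⟨1,11,1,419,1⟩, ⟨3,0,0,0,0⟩, ⟨7,3,0,0,0⟩, ⟨1,2,2,1153,1⟩, ⟨1,7,1,659,1⟩, ⟨3,0,0,0,0⟩, ⟨7,5,0,0,0⟩, ⟨1,2,3,577,1⟩,
  ⟨1,3,5,19,1⟩, ⟨1,2,1,2309,1⟩, ⟨1,31,1,149,1⟩, ⟨2,0,0,0,0⟩, ⟨1,4621,1,2,0⟩, ⟨1,2,1,2311,1⟩, ⟨7,3,0,0,0⟩, ⟨1,2,4,17,2⟩,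
  ⟨1,5,3,37,1⟩, ⟨3,0,0,0,0⟩, ⟨1,7,1,661,1⟩, ⟨7,2,0,0,0⟩, ⟨1,3,1,1543,1⟩, ⟨3,0,0,0,0⟩, ⟨1,11,1,421,1⟩, ⟨4,193,1,0,0⟩,
  ⟨1,41,1,113,1⟩, ⟨3,0,0,0,0⟩, ⟨7,3,0,0,0⟩, ⟨7,2,0,0,0⟩, ⟨1,4637,1,2,0⟩, ⟨3,0,0,0,0⟩, ⟨1,4639,1,2,0⟩, ⟨4,29,1,0,0⟩,
  ⟨7,3,0,0,0⟩, ⟨3,0,0,0,0⟩, ⟨1,4643,1,2,0⟩, ⟨4,43,1,0,0⟩, ⟨1,5,1,929,1⟩, ⟨3,0,0,0,0⟩, ⟨1,3,1,1549,1⟩, ⟨4,83,1,0,0⟩,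
  ⟨1,4649,1,2,0⟩, ⟨3,0,0,0,0⟩, ⟨1,4651,1,2,0⟩, ⟨1,2,2,1163,1⟩, ⟨7,3,0,0,0⟩, ⟨3,0,0,0,0⟩, ⟨7,5,0,0,0⟩, ⟨4,97,1,0,0⟩,
  ⟨1,4657,1,2,0⟩, ⟨3,0,0,0,0⟩, ⟨1,3,1,1553,1⟩, ⟨7,2,0,0,0⟩, ⟨1,59,1,79,1⟩, ⟨3,0,0,0,0⟩, ⟨1,4663,1,2,0⟩, ⟨4,53,1,0,0⟩,
  ⟨7,3,0,0,0⟩, ⟨1,2,1,2333,1⟩, ⟨1,13,1,359,1⟩, ⟨4,389,1,0,0⟩, ⟨7,7,0,0,0⟩, ⟨3,0,0,0,0⟩, ⟨1,3,3,173,1⟩, ⟨1,2,6,73,1⟩,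
  ⟨1,4673,1,2,0⟩, ⟨3,0,0,0,0⟩, ⟨7,5,0,0,0⟩, ⟨7,2,0,0,0⟩, ⟨1,3,1,1559,1⟩, ⟨1,2,1,2339,1⟩, ⟨1,4679,1,2,0⟩, ⟨5,13,69,0,0⟩,
  ⟨1,31,1,151,1⟩, ⟨1,2,1,2341,1⟩, ⟨7,3,0,0,0⟩, ⟨1,2,2,1171,1⟩, ⟨1,5,1,937,1⟩, ⟨3,0,0,0,0⟩, ⟨1,43,1,109,1⟩, ⟨1,2,4,293,1⟩,
  ⟨1,3,2,521,1⟩, ⟨3,0,0,0,0⟩, ⟨1,4691,1,2,0⟩, ⟨4,23,1,0,0⟩, ⟨1,13,1,19,2⟩, ⟨1,2,1,2347,1⟩, ⟨7,3,0,0,0⟩, ⟨1,2,3,587,1⟩,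
  ⟨7,7,0,0,0⟩, ⟨3,0,0,0,0⟩, ⟨1,37,1,127,1⟩, ⟨7,2,0,0,0⟩, ⟨1,3,1,1567,1⟩, ⟨1,2,1,2351,1⟩, ⟨1,4703,1,2,0⟩, ⟨4,7,2,0,0⟩,
  ⟨1,5,1,941,1⟩, ⟨3,0,0,0,0⟩, ⟨1,3,2,523,1⟩, ⟨7,2,0,0,0⟩, ⟨1,17,1,277,1⟩, ⟨3,0,0,0,0⟩, ⟨1,7,1,673,1⟩, ⟨4,31,1,0,0⟩,
  ⟨1,3,1,1571,1⟩, ⟨1,2,1,2357,1⟩, ⟨7,5,0,0,0⟩, ⟨4,131,1,0,0⟩, ⟨1,53,1,89,1⟩, ⟨3,0,0,0,0⟩, ⟨7,3,0,0,0⟩, ⟨4,59,1,0,0⟩,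
  ⟨1,4721,1,2,0⟩, ⟨3,0,0,0,0⟩, ⟨1,4723,1,2,0⟩, ⟨1,2,2,1181,1⟩, ⟨5,7,69,0,0⟩, ⟨3,0,0,0,0⟩, ⟨1,29,1,163,1⟩, ⟨4,197,1,0,0⟩,
  ⟨1,4729,1,2,0⟩, ⟨3,0,0,0,0⟩, ⟨7,3,0,0,0⟩, ⟨7,2,0,0,0⟩, ⟨1,4733,1,2,0⟩, ⟨3,0,0,0,0⟩, ⟨1,5,1,947,1⟩, ⟨1,2,7,37,1⟩]

set_option maxRecDepth 4000 in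
/-- Orders from 4737. -/
def chunk6 : List Cert := [
  ⟨1,3,1,1579,1⟩, ⟨3,0,0,0,0⟩, ⟨1,7,1,677,1⟩, ⟨4,79,1,0,0⟩, ⟨1,11,1,431,1⟩, ⟨1,2,1,2371,1⟩, ⟨7,3,0,0,0⟩, ⟨1,2,3,593,1⟩,
  ⟨7,5,0,0,0⟩, ⟨3,0,0,0,0⟩, ⟨1,47,1,101,1⟩, ⟨1,2,2,1187,1⟩, ⟨1,3,1,1583,1⟩, ⟨3,0,0,0,0⟩, ⟨1,4751,1,2,0⟩, ⟨5,11,69,0,0⟩,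
  ⟨1,7,2,97,1⟩, ⟨1,2,1,2377,1⟩, ⟨7,3,0,0,0⟩, ⟨7,2,0,0,0⟩, ⟨1,67,1,71,1⟩, ⟨3,0,0,0,0⟩, ⟨1,4759,1,2,0⟩, ⟨5,17,69,0,0⟩,
  ⟨1,3,2,23,2⟩, ⟨1,2,1,2381,1⟩, ⟨1,11,1,433,1⟩, ⟨4,397,1,0,0⟩, ⟨1,5,1,953,1⟩, ⟨1,2,1,2383,1⟩, ⟨7,3,0,0,0⟩, ⟨1,2,5,149,1⟩,
  ⟨1,19,1,251,1⟩, ⟨3,0,0,0,0⟩, ⟨1,13,1,367,1⟩, ⟨1,2,2,1193,1⟩, ⟨7,3,0,0,0⟩, ⟨3,0,0,0,0⟩, ⟨1,5,2,191,1⟩, ⟨4,199,1,0,0⟩,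
  ⟨1,17,1,281,1⟩, ⟨1,2,1,2389,1⟩, ⟨1,3,4,59,1⟩, ⟨7,2,0,0,0⟩, ⟨1,7,1,683,1⟩, ⟨3,0,0,0,0⟩, ⟨1,4783,1,2,0⟩, ⟨5,23,70,0,0⟩,
  ⟨7,3,0,0,0⟩, ⟨1,2,1,2393,1⟩, ⟨1,4787,1,2,0⟩, ⟨4,19,1,0,0⟩, ⟨1,4789,1,2,0⟩, ⟨3,0,0,0,0⟩, ⟨1,3,1,1597,1⟩, ⟨1,2,3,599,1⟩,
  ⟨1,4793,1,2,0⟩, ⟨3,0,0,0,0⟩, ⟨7,5,0,0,0⟩, ⟨7,2,0,0,0⟩, ⟨7,3,0,0,0⟩, ⟨1,2,1,2399,1⟩, ⟨1,4799,1,2,0⟩, ⟨5,3,70,0,0⟩,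
  ⟨1,4801,1,2,0⟩, ⟨1,2,1,7,4⟩, ⟨1,3,1,1601,1⟩, ⟨1,2,2,1201,1⟩, ⟨1,5,1,31,2⟩, ⟨3,0,0,0,0⟩, ⟨7,11,0,0,0⟩, ⟨1,2,3,601,1⟩,
  ⟨7,3,0,0,0⟩, ⟨3,0,0,0,0⟩, ⟨1,17,1,283,1⟩, ⟨4,401,1,0,0⟩, ⟨1,4813,1,2,0⟩, ⟨3,0,0,0,0⟩, ⟨7,3,0,0,0⟩, ⟨4,43,1,0,0⟩,
  ⟨1,4817,1,2,0⟩, ⟨3,0,0,0,0⟩, ⟨1,61,1,79,1⟩, ⟨7,2,0,0,0⟩, ⟨1,3,1,1607,1⟩, ⟨1,2,1,2411,1⟩, ⟨7,7,0,0,0⟩, ⟨4,67,1,0,0⟩,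
  ⟨1,5,2,193,1⟩, ⟨3,0,0,0,0⟩, ⟨1,3,1,1609,1⟩, ⟨7,2,0,0,0⟩, ⟨1,11,1,439,1⟩, ⟨3,0,0,0,0⟩, ⟨1,4831,1,2,0⟩, ⟨1,2,5,151,1⟩,
  ⟨1,3,3,179,1⟩, ⟨1,2,1,2417,1⟩, ⟨1,5,1,967,1⟩, ⟨4,13,1,0,0⟩, ⟨1,7,1,691,1⟩, ⟨3,0,0,0,0⟩, ⟨1,3,1,1613,1⟩, ⟨4,11,2,0,0⟩,
  ⟨1,47,1,103,1⟩, ⟨3,0,0,0,0⟩, ⟨1,29,1,167,1⟩, ⟨7,2,0,0,0⟩, ⟨7,3,0,0,0⟩, ⟨1,2,1,2423,1⟩, ⟨1,37,1,131,1⟩, ⟨4,101,1,0,0⟩,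
  ⟨1,13,1,373,1⟩, ⟨3,0,0,0,0⟩, ⟨7,3,0,0,0⟩, ⟨1,2,2,1213,1⟩, ⟨1,23,1,211,1⟩, ⟨3,0,0,0,0⟩, ⟨1,5,1,971,1⟩, ⟨1,2,3,607,1⟩,
  ⟨1,3,1,1619,1⟩, ⟨3,0,0,0,0⟩, ⟨1,43,1,113,1⟩, ⟨4,3,5,0,0⟩, ⟨1,4861,1,2,0⟩, ⟨3,0,0,0,0⟩, ⟨1,3,1,1621,1⟩, ⟨1,2,8,19,1⟩,
  ⟨7,5,0,0,0⟩, ⟨3,0,0,0,0⟩, ⟨1,31,1,157,1⟩, ⟨1,2,2,1217,1⟩, ⟨1,3,2,541,1⟩, ⟨3,0,0,0,0⟩, ⟨1,4871,1,2,0⟩, ⟨4,29,1,0,0⟩,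
  ⟨1,11,1,443,1⟩, ⟨1,2,1,2437,1⟩, ⟨7,3,0,0,0⟩, ⟨7,2,0,0,0⟩, ⟨1,4877,1,2,0⟩, ⟨3,0,0,0,0⟩, ⟨7,7,0,0,0⟩, ⟨4,61,1,0,0⟩,
  ⟨1,3,1,1627,1⟩, ⟨1,2,1,2441,1⟩, ⟨1,19,1,257,1⟩, ⟨4,37,1,0,0⟩, ⟨1,5,1,977,1⟩, ⟨3,0,0,0,0⟩, ⟨1,3,3,181,1⟩, ⟨4,47,1,0,0⟩,
  ⟨1,4889,1,2,0⟩, ⟨3,0,0,0,0⟩, ⟨1,67,1,73,1⟩, ⟨1,2,2,1223,1⟩, ⟨7,3,0,0,0⟩, ⟨1,2,1,2447,1⟩, ⟨7,5,0,0,0⟩, ⟨5,17,70,0,0⟩,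
  ⟨1,59,1,83,1⟩, ⟨3,0,0,0,0⟩, ⟨7,3,0,0,0⟩, ⟨7,2,0,0,0⟩, ⟨1,13,2,29,1⟩, ⟨3,0,0,0,0⟩, ⟨1,4903,1,2,0⟩, ⟨1,2,3,613,1⟩,
  ⟨7,3,0,0,0⟩, ⟨3,0,0,0,0⟩, ⟨1,7,1,701,1⟩, ⟨4,409,1,0,0⟩, ⟨1,4909,1,2,0⟩, ⟨3,0,0,0,0⟩, ⟨1,3,1,1637,1⟩, ⟨1,2,4,307,1⟩,
  ⟨1,17,3,2,0⟩, ⟨3,0,0,0,0⟩, ⟨1,5,1,983,1⟩, ⟨1,2,2,1229,1⟩, ⟨7,3,0,0,0⟩, ⟨1,2,1,2459,1⟩, ⟨1,4919,1,2,0⟩, ⟨4,41,1,0,0⟩,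
  ⟨7,7,0,0,0⟩, ⟨3,0,0,0,0⟩, ⟨1,3,2,547,1⟩, ⟨1,2,2,1231,1⟩, ⟨1,5,2,197,1⟩, ⟨3,0,0,0,0⟩, ⟨1,13,1,379,1⟩, ⟨5,11,71,0,0⟩]

set_option maxRecDepth 4000 in
/-- Orders from 4929. -/
def chunk7 : List Cert := [
  ⟨7,3,0,0,0⟩, ⟨3,0,0,0,0⟩, ⟨1,4931,1,2,0⟩, ⟨4,137,1,0,0⟩, ⟨1,4933,1,2,0⟩, ⟨1,2,1,2467,1⟩, ⟨7,3,0,0,0⟩, ⟨1,2,3,617,1⟩,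
  ⟨1,4937,1,2,0⟩, ⟨3,0,0,0,0⟩, ⟨1,11,1,449,1⟩, ⟨7,2,0,0,0⟩, ⟨1,3,4,61,1⟩, ⟨3,0,0,0,0⟩, ⟨1,4943,1,2,0⟩, ⟨4,103,1,0,0⟩,
  ⟨7,5,0,0,0⟩, ⟨1,2,1,2473,1⟩, ⟨7,3,0,0,0⟩, ⟨1,2,2,1237,1⟩, ⟨1,7,2,101,1⟩, ⟨3,0,0,0,0⟩, ⟨1,4951,1,2,0⟩, ⟨1,2,3,619,1⟩,
  ⟨7,3,0,0,0⟩, ⟨1,2,1,2477,1⟩, ⟨1,5,1,991,1⟩, ⟨4,59,1,0,0⟩, ⟨1,4957,1,2,0⟩, ⟨3,0,0,0,0⟩, ⟨7,3,0,0,0⟩, ⟨5,31,71,0,0⟩,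
  ⟨1,11,2,41,1⟩, ⟨3,0,0,0,0⟩, ⟨1,7,1,709,1⟩, ⟨7,2,0,0,0⟩, ⟨7,3,0,0,0⟩, ⟨3,0,0,0,0⟩, ⟨1,4967,1,2,0⟩, ⟨5,23,71,0,0⟩,
  ⟨1,4969,1,2,0⟩, ⟨3,0,0,0,0⟩, ⟨1,3,1,1657,1⟩, ⟨7,2,0,0,0⟩, ⟨1,4973,1,2,0⟩, ⟨3,0,0,0,0⟩, ⟨1,5,2,199,1⟩, ⟨1,2,4,311,1⟩,
  ⟨7,3,0,0,0⟩, ⟨3,0,0,0,0⟩, ⟨1,13,1,383,1⟩, ⟨4,83,1,0,0⟩, ⟨1,17,1,293,1⟩, ⟨3,0,0,0,0⟩, ⟨7,3,0,0,0⟩, ⟨4,89,1,0,0⟩,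
  ⟨1,5,1,997,1⟩, ⟨3,0,0,0,0⟩, ⟨1,4987,1,2,0⟩, ⟨7,2,0,0,0⟩, ⟨1,3,1,1663,1⟩, ⟨3,0,0,0,0⟩, ⟨7,7,0,0,0⟩, ⟨4,13,1,0,0⟩,
  ⟨1,4993,1,2,0⟩, ⟨3,0,0,0,0⟩, ⟨4,37,1,0,0⟩, ⟨1,2,2,1249,1⟩, ⟨1,19,1,263,1⟩, ⟨3,0,0,0,0⟩, ⟨1,4999,1,2,0⟩, ⟨1,2,3,5,4⟩,
  ⟨1,3,1,1667,1⟩, ⟨3,0,0,0,0⟩, ⟨1,5003,1,2,0⟩, ⟨4,139,1,0,0⟩, ⟨7,5,0,0,0⟩, ⟨1,2,1,2503,1⟩, ⟨1,3,1,1669,1⟩, ⟨1,2,4,313,1⟩,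
  ⟨1,5009,1,2,0⟩, ⟨3,0,0,0,0⟩, ⟨1,5011,1,2,0⟩, ⟨7,2,0,0,0⟩, ⟨1,3,2,557,1⟩, ⟨3,0,0,0,0⟩, ⟨7,5,0,0,0⟩, ⟨4,19,1,0,0⟩,
  ⟨1,29,1,173,1⟩, ⟨3,0,0,0,0⟩, ⟨7,3,0,0,0⟩, ⟨7,2,0,0,0⟩, ⟨1,5021,1,2,0⟩, ⟨3,0,0,0,0⟩, ⟨1,5023,1,2,0⟩, ⟨1,2,5,157,1⟩,
  ⟨7,3,0,0,0⟩, ⟨3,0,0,0,0⟩, ⟨1,11,1,457,1⟩, ⟨4,419,1,0,0⟩, ⟨1,47,1,107,1⟩, ⟨3,0,0,0,0⟩, ⟨7,3,0,0,0⟩, ⟨4,37,1,0,0⟩,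
  ⟨1,7,1,719,1⟩, ⟨3,0,0,0,0⟩, ⟨7,5,0,0,0⟩, ⟨1,2,2,1259,1⟩, ⟨7,3,0,0,0⟩, ⟨3,0,0,0,0⟩, ⟨1,5039,1,2,0⟩, ⟨2,0,0,0,0⟩,
  ⟨1,71,2,2,0⟩, ⟨1,2,1,2521,1⟩, ⟨1,3,1,41,2⟩, ⟨7,2,0,0,0⟩, ⟨1,5,1,1009,1⟩, ⟨3,0,0,0,0⟩, ⟨1,7,2,103,1⟩, ⟨1,2,3,631,1⟩,
  ⟨4,17,1,0,0⟩, ⟨3,0,0,0,0⟩, ⟨1,5051,1,2,0⟩, ⟨4,421,1,0,0⟩, ⟨1,31,1,163,1⟩, ⟨3,0,0,0,0⟩, ⟨7,3,0,0,0⟩, ⟨1,2,6,79,1⟩,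
  ⟨1,13,1,389,1⟩, ⟨3,0,0,0,0⟩, ⟨1,5059,1,2,0⟩, ⟨7,2,0,0,0⟩, ⟨7,3,0,0,0⟩, ⟨1,2,1,2531,1⟩, ⟨1,61,1,83,1⟩, ⟨4,211,1,0,0⟩,
  ⟨1,5,1,1013,1⟩, ⟨3,0,0,0,0⟩, ⟨1,3,2,563,1⟩, ⟨7,2,0,0,0⟩, ⟨1,37,1,137,1⟩, ⟨3,0,0,0,0⟩, ⟨1,11,1,461,1⟩, ⟨1,2,4,317,1⟩,
  ⟨7,3,0,0,0⟩, ⟨3,0,0,0,0⟩, ⟨7,5,0,0,0⟩, ⟨4,47,1,0,0⟩, ⟨1,5077,1,2,0⟩, ⟨1,2,1,2539,1⟩, ⟨1,3,1,1693,1⟩, ⟨4,127,1,0,0⟩,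
  ⟨1,5081,1,2,0⟩, ⟨3,0,0,0,0⟩, ⟨7,13,0,0,0⟩, ⟨7,2,0,0,0⟩, ⟨7,3,0,0,0⟩, ⟨1,2,1,2543,1⟩, ⟨1,5087,1,2,0⟩, ⟨4,53,1,0,0⟩,
  ⟨1,7,1,727,1⟩, ⟨3,0,0,0,0⟩, ⟨1,3,1,1697,1⟩, ⟨7,2,0,0,0⟩, ⟨1,11,1,463,1⟩, ⟨3,0,0,0,0⟩, ⟨1,5,1,1019,1⟩, ⟨4,7,2,0,0⟩,
  ⟨1,3,1,1699,1⟩, ⟨1,2,1,2549,1⟩, ⟨1,5099,1,2,0⟩, ⟨4,17,1,0,0⟩, ⟨1,5101,1,2,0⟩, ⟨1,2,1,2551,1⟩, ⟨1,3,6,7,1⟩, ⟨5,29,72,0,0⟩,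
  ⟨1,5,1,1021,1⟩, ⟨3,0,0,0,0⟩, ⟨1,5107,1,2,0⟩, ⟨1,2,2,1277,1⟩, ⟨7,3,0,0,0⟩, ⟨3,0,0,0,0⟩, ⟨1,19,1,269,1⟩, ⟨5,71,72,0,0⟩,
  ⟨1,5113,1,2,0⟩, ⟨1,2,1,2557,1⟩, ⟨7,3,0,0,0⟩, ⟨1,2,2,1279,1⟩, ⟨7,7,0,0,0⟩, ⟨3,0,0,0,0⟩, ⟨1,5119,1,2,0⟩, ⟨1,2,10,5,1⟩,
  ⟨1,3,2,569,1⟩, ⟨3,0,0,0,0⟩, ⟨1,47,1,109,1⟩, ⟨4,61,1,0,0⟩, ⟨1,5,3,41,1⟩, ⟨3,0,0,0,0⟩, ⟨1,3,1,1709,1⟩, ⟨1,2,3,641,1⟩]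

set_option maxRecDepth 4000 in
/-- Orders from 5129. -/
def chunk8 : List Cert := [
  ⟨1,23,1,223,1⟩, ⟨3,0,0,0,0⟩, ⟨1,7,1,733,1⟩, ⟨1,2,2,1283,1⟩, ⟨7,3,0,0,0⟩, ⟨3,0,0,0,0⟩, ⟨7,5,0,0,0⟩, ⟨4,107,1,0,0⟩,
  ⟨1,11,1,467,1⟩, ⟨3,0,0,0,0⟩, ⟨1,3,2,571,1⟩, ⟨7,2,0,0,0⟩, ⟨1,53,1,97,1⟩, ⟨3,0,0,0,0⟩, ⟨1,37,1,139,1⟩, ⟨1,2,3,643,1⟩,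
  ⟨7,3,0,0,0⟩, ⟨3,0,0,0,0⟩, ⟨1,5147,1,2,0⟩, ⟨5,13,72,0,0⟩, ⟨1,19,1,271,1⟩, ⟨3,0,0,0,0⟩, ⟨7,3,0,0,0⟩, ⟨4,23,1,0,0⟩,
  ⟨1,5153,1,2,0⟩, ⟨3,0,0,0,0⟩, ⟨1,5,1,1031,1⟩, ⟨1,2,2,1289,1⟩, ⟨1,3,3,191,1⟩, ⟨1,2,1,2579,1⟩, ⟨7,7,0,0,0⟩, ⟨4,43,1,0,0⟩,
  ⟨1,13,1,397,1⟩, ⟨3,0,0,0,0⟩, ⟨1,3,1,1721,1⟩, ⟨1,2,2,1291,1⟩, ⟨1,5,1,1033,1⟩, ⟨3,0,0,0,0⟩, ⟨1,5167,1,2,0⟩, ⟨4,19,1,0,0⟩,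
  ⟨1,3,1,1723,1⟩, ⟨3,0,0,0,0⟩, ⟨1,5171,1,2,0⟩, ⟨4,431,1,0,0⟩, ⟨1,7,1,739,1⟩, ⟨3,0,0,0,0⟩, ⟨7,3,0,0,0⟩, ⟨1,2,3,647,1⟩,
  ⟨1,31,1,167,1⟩, ⟨3,0,0,0,0⟩, ⟨1,5179,1,2,0⟩, ⟨7,2,0,0,0⟩, ⟨7,3,0,0,0⟩, ⟨1,2,1,2591,1⟩, ⟨1,71,1,73,1⟩, ⟨1,2,6,3,4⟩,
  ⟨7,5,0,0,0⟩, ⟨1,2,1,2593,1⟩, ⟨7,3,0,0,0⟩, ⟨1,2,2,1297,1⟩, ⟨1,5189,1,2,0⟩, ⟨3,0,0,0,0⟩, ⟨1,29,1,179,1⟩, ⟨4,59,1,0,0⟩,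
  ⟨1,3,2,577,1⟩, ⟨3,0,0,0,0⟩, ⟨1,5,1,1039,1⟩, ⟨4,433,1,0,0⟩, ⟨1,5197,1,2,0⟩, ⟨3,0,0,0,0⟩, ⟨1,3,1,1733,1⟩, ⟨5,13,73,0,0⟩,
  ⟨1,7,1,743,1⟩, ⟨3,0,0,0,0⟩, ⟨1,11,2,43,1⟩, ⟨1,2,2,1301,1⟩, ⟨7,3,0,0,0⟩, ⟨3,0,0,0,0⟩, ⟨1,41,1,127,1⟩, ⟨4,31,1,0,0⟩,
  ⟨1,5209,1,2,0⟩, ⟨3,0,0,0,0⟩, ⟨1,3,3,193,1⟩, ⟨1,2,2,1303,1⟩, ⟨1,13,1,401,1⟩, ⟨3,0,0,0,0⟩, ⟨7,5,0,0,0⟩, ⟨1,2,5,163,1⟩,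
  ⟨7,3,0,0,0⟩, ⟨1,2,1,2609,1⟩, ⟨1,17,1,307,1⟩, ⟨5,29,73,0,0⟩, ⟨1,23,1,227,1⟩, ⟨3,0,0,0,0⟩, ⟨1,3,1,1741,1⟩, ⟨1,2,3,653,1⟩,
  ⟨7,5,0,0,0⟩, ⟨3,0,0,0,0⟩, ⟨1,5227,1,2,0⟩, ⟨1,2,2,1307,1⟩, ⟨7,3,0,0,0⟩, ⟨3,0,0,0,0⟩, ⟨1,5231,1,2,0⟩, ⟨4,109,1,0,0⟩,
  ⟨1,5233,1,2,0⟩, ⟨1,2,1,2617,1⟩, ⟨7,3,0,0,0⟩, ⟨7,2,0,0,0⟩, ⟨1,5237,1,2,0⟩, ⟨3,0,0,0,0⟩, ⟨1,13,2,31,1⟩, ⟨4,131,1,0,0⟩,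
  ⟨1,3,1,1747,1⟩, ⟨1,2,1,2621,1⟩, ⟨1,7,2,107,1⟩, ⟨4,23,1,0,0⟩, ⟨1,5,1,1049,1⟩, ⟨3,0,0,0,0⟩, ⟨7,3,0,0,0⟩, ⟨1,2,7,41,1⟩,
  ⟨1,29,1,181,1⟩, ⟨3,0,0,0,0⟩, ⟨1,59,1,89,1⟩, ⟨7,2,0,0,0⟩, ⟨7,3,0,0,0⟩, ⟨3,0,0,0,0⟩, ⟨1,5,1,1051,1⟩, ⟨4,73,1,0,0⟩,
  ⟨1,7,1,751,1⟩, ⟨3,0,0,0,0⟩, ⟨1,3,1,1753,1⟩, ⟨7,2,0,0,0⟩, ⟨1,5261,1,2,0⟩, ⟨3,0,0,0,0⟩, ⟨1,19,1,277,1⟩, ⟨4,47,1,0,0⟩,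
  ⟨5,13,73,0,0⟩, ⟨1,2,1,2633,1⟩, ⟨1,23,1,229,1⟩, ⟨4,439,1,0,0⟩, ⟨1,11,1,479,1⟩, ⟨3,0,0,0,0⟩, ⟨7,3,0,0,0⟩, ⟨1,2,3,659,1⟩,
  ⟨1,5273,1,2,0⟩, ⟨3,0,0,0,0⟩, ⟨1,5,2,211,1⟩, ⟨1,2,2,1319,1⟩, ⟨1,3,1,1759,1⟩, ⟨3,0,0,0,0⟩, ⟨1,5279,1,2,0⟩, ⟨5,11,73,0,0⟩,
  ⟨1,5281,1,2,0⟩, ⟨3,0,0,0,0⟩, ⟨1,3,2,587,1⟩, ⟨1,2,2,1321,1⟩, ⟨7,5,0,0,0⟩, ⟨3,0,0,0,0⟩, ⟨1,17,1,311,1⟩, ⟨1,2,3,661,1⟩,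
  ⟨7,3,0,0,0⟩, ⟨3,0,0,0,0⟩, ⟨7,11,0,0,0⟩, ⟨2,0,0,0,0⟩, ⟨1,67,1,79,1⟩, ⟨1,2,1,2647,1⟩, ⟨7,3,0,0,0⟩, ⟨1,2,4,331,1⟩,
  ⟨1,5297,1,2,0⟩, ⟨3,0,0,0,0⟩, ⟨1,7,1,757,1⟩, ⟨7,2,0,0,0⟩, ⟨7,3,0,0,0⟩, ⟨3,0,0,0,0⟩, ⟨1,5303,1,2,0⟩, ⟨4,13,1,0,0⟩,
  ⟨1,5,1,1061,1⟩, ⟨3,0,0,0,0⟩, ⟨7,3,0,0,0⟩, ⟨1,2,2,1327,1⟩, ⟨1,5309,1,2,0⟩, ⟨3,0,0,0,0⟩, ⟨1,47,1,113,1⟩, ⟨1,2,6,83,1⟩,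
  ⟨7,3,0,0,0⟩, ⟨1,2,1,2657,1⟩, ⟨1,5,1,1063,1⟩, ⟨4,443,1,0,0⟩, ⟨1,13,1,409,1⟩, ⟨1,2,1,2659,1⟩, ⟨1,3,3,197,1⟩, ⟨5,19,73,0,0⟩]

set_option maxRecDepth 4000 in
/-- Orders from 5321. -/
def chunk9 : List Cert := [
  ⟨1,17,1,313,1⟩, ⟨3,0,0,0,0⟩, ⟨1,5323,1,2,0⟩, ⟨1,2,2,11,3⟩, ⟨7,3,0,0,0⟩, ⟨1,2,1,2663,1⟩, ⟨1,7,1,761,1⟩, ⟨4,37,1,0,0⟩,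
  ⟨1,73,2,2,0⟩, ⟨3,0,0,0,0⟩, ⟨1,3,1,1777,1⟩, ⟨7,2,0,0,0⟩, ⟨1,5333,1,2,0⟩, ⟨3,0,0,0,0⟩, ⟨7,5,0,0,0⟩, ⟨4,29,1,0,0⟩,
  ⟨1,3,2,593,1⟩, ⟨3,0,0,0,0⟩, ⟨1,19,1,281,1⟩, ⟨4,89,1,0,0⟩, ⟨1,7,2,109,1⟩, ⟨1,2,1,2671,1⟩, ⟨7,3,0,0,0⟩, ⟨1,2,5,167,1⟩,
  ⟨1,5,1,1069,1⟩, ⟨3,0,0,0,0⟩, ⟨1,5347,1,2,0⟩, ⟨7,2,0,0,0⟩, ⟨1,3,1,1783,1⟩, ⟨3,0,0,0,0⟩, ⟨1,5351,1,2,0⟩, ⟨4,223,1,0,0⟩,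
  ⟨1,53,1,101,1⟩, ⟨1,2,1,2677,1⟩, ⟨7,3,0,0,0⟩, ⟨7,2,0,0,0⟩, ⟨1,11,1,487,1⟩, ⟨3,0,0,0,0⟩, ⟨1,23,1,233,1⟩, ⟨4,67,1,0,0⟩,
  ⟨1,3,1,1787,1⟩, ⟨3,0,0,0,0⟩, ⟨1,31,1,173,1⟩, ⟨4,149,1,0,0⟩, ⟨7,5,0,0,0⟩, ⟨1,2,1,2683,1⟩, ⟨1,3,1,1789,1⟩, ⟨4,61,1,0,0⟩,
  ⟨7,7,0,0,0⟩, ⟨3,0,0,0,0⟩, ⟨1,41,1,131,1⟩, ⟨7,2,0,0,0⟩, ⟨1,3,3,199,1⟩, ⟨1,2,1,2687,1⟩, ⟨1,5,3,43,1⟩, ⟨5,7,74,0,0⟩,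
  ⟨1,19,1,283,1⟩, ⟨1,2,1,2689,1⟩, ⟨7,3,0,0,0⟩, ⟨7,2,0,0,0⟩, ⟨1,5381,1,2,0⟩, ⟨3,0,0,0,0⟩, ⟨1,7,1,769,1⟩, ⟨1,2,3,673,1⟩,
  ⟨7,3,0,0,0⟩, ⟨1,2,1,2693,1⟩, ⟨1,5387,1,2,0⟩, ⟨4,449,1,0,0⟩, ⟨1,17,1,317,1⟩, ⟨3,0,0,0,0⟩, ⟨1,3,2,599,1⟩, ⟨1,2,4,337,1⟩,
  ⟨1,5393,1,2,0⟩, ⟨3,0,0,0,0⟩, ⟨7,5,0,0,0⟩, ⟨7,2,0,0,0⟩, ⟨7,3,0,0,0⟩, ⟨1,2,1,2699,1⟩, ⟨1,5399,1,2,0⟩, ⟨2,0,0,0,0⟩,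
  ⟨1,11,1,491,1⟩, ⟨3,0,0,0,0⟩, ⟨1,3,1,1801,1⟩, ⟨7,2,0,0,0⟩, ⟨7,5,0,0,0⟩, ⟨3,0,0,0,0⟩, ⟨1,5407,1,2,0⟩, ⟨1,2,5,13,2⟩,
  ⟨1,3,2,601,1⟩, ⟨3,0,0,0,0⟩, ⟨1,7,1,773,1⟩, ⟨4,41,1,0,0⟩, ⟨1,5413,1,2,0⟩, ⟨1,2,1,2707,1⟩, ⟨7,3,0,0,0⟩, ⟨1,2,3,677,1⟩,
  ⟨1,5417,1,2,0⟩, ⟨3,0,0,0,0⟩, ⟨1,5419,1,2,0⟩, ⟨7,2,0,0,0⟩, ⟨7,3,0,0,0⟩, ⟨1,2,1,2711,1⟩, ⟨7,11,0,0,0⟩, ⟨4,113,1,0,0⟩,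
  ⟨7,5,0,0,0⟩, ⟨1,2,1,2713,1⟩, ⟨1,3,4,67,1⟩, ⟨7,2,0,0,0⟩, ⟨1,61,1,89,1⟩, ⟨3,0,0,0,0⟩, ⟨1,5431,1,2,0⟩, ⟨4,97,1,0,0⟩,
  ⟨1,3,1,1811,1⟩, ⟨3,0,0,0,0⟩, ⟨1,5,1,1087,1⟩, ⟨4,151,1,0,0⟩, ⟨1,5437,1,2,0⟩, ⟨1,2,1,2719,1⟩, ⟨7,3,0,0,0⟩, ⟨4,17,1,0,0⟩,
  ⟨1,5441,1,2,0⟩, ⟨3,0,0,0,0⟩, ⟨1,5443,1,2,0⟩, ⟨1,2,2,1361,1⟩, ⟨7,3,0,0,0⟩, ⟨3,0,0,0,0⟩, ⟨1,13,1,419,1⟩, ⟨4,227,1,0,0⟩,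
  ⟨1,5449,1,2,0⟩, ⟨3,0,0,0,0⟩, ⟨7,3,0,0,0⟩, ⟨7,2,0,0,0⟩, ⟨7,7,0,0,0⟩, ⟨3,0,0,0,0⟩, ⟨1,5,1,1091,1⟩, ⟨4,31,1,0,0⟩,
  ⟨7,3,0,0,0⟩, ⟨1,2,1,2729,1⟩, ⟨1,53,1,103,1⟩, ⟨6,13,74,4,0⟩, ⟨1,43,1,127,1⟩, ⟨1,2,1,2731,1⟩, ⟨1,3,2,607,1⟩, ⟨1,2,3,683,1⟩,
  ⟨1,5,1,1093,1⟩, ⟨3,0,0,0,0⟩, ⟨7,7,0,0,0⟩, ⟨1,2,2,1367,1⟩, ⟨1,3,1,1823,1⟩, ⟨3,0,0,0,0⟩, ⟨1,5471,1,2,0⟩, ⟨5,19,74,0,0⟩,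
  ⟨1,13,1,421,1⟩, ⟨3,0,0,0,0⟩, ⟨7,3,0,0,0⟩, ⟨1,2,2,37,2⟩, ⟨1,5477,1,2,0⟩, ⟨3,0,0,0,0⟩, ⟨1,5479,1,2,0⟩, ⟨4,137,1,0,0⟩,
  ⟨4,29,1,0,0⟩, ⟨1,2,1,2741,1⟩, ⟨1,5483,1,2,0⟩, ⟨4,457,1,0,0⟩, ⟨1,5,1,1097,1⟩, ⟨3,0,0,0,0⟩, ⟨7,3,0,0,0⟩, ⟨1,2,4,7,3⟩,
  ⟨1,11,1,499,1⟩, ⟨3,0,0,0,0⟩, ⟨1,17,2,19,1⟩, ⟨1,2,2,1373,1⟩, ⟨1,3,1,1831,1⟩, ⟨3,0,0,0,0⟩, ⟨7,5,0,0,0⟩, ⟨4,229,1,0,0⟩,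
  ⟨1,23,1,239,1⟩, ⟨1,2,1,2749,1⟩, ⟨7,3,0,0,0⟩, ⟨7,2,0,0,0⟩, ⟨1,5501,1,2,0⟩, ⟨3,0,0,0,0⟩, ⟨1,5503,1,2,0⟩, ⟨1,2,7,43,1⟩,
  ⟨7,3,0,0,0⟩, ⟨1,2,1,2753,1⟩, ⟨1,5507,1,2,0⟩, ⟨5,17,75,0,0⟩, ⟨1,7,1,787,1⟩, ⟨3,0,0,0,0⟩, ⟨7,3,0,0,0⟩, ⟨4,53,1,0,0⟩,
  ⟨1,37,1,149,1⟩, ⟨3,0,0,0,0⟩, ⟨1,5,1,1103,1⟩, ⟨7,2,0,0,0⟩, ⟨1,3,2,613,1⟩, ⟨3,0,0,0,0⟩, ⟨1,5519,1,2,0⟩, ⟨5,23,75,0,0⟩]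

set_option maxRecDepth 4000 in
/-- Orders from 5521. -/
def chunk10 : List Cert := [
  ⟨1,5521,1,2,0⟩, ⟨3,0,0,0,0⟩, ⟨7,3,0,0,0⟩, ⟨1,2,2,1381,1⟩, ⟨7,5,0,0,0⟩, ⟨3,0,0,0,0⟩, ⟨1,5527,1,2,0⟩, ⟨1,2,3,691,1⟩,
  ⟨7,3,0,0,0⟩, ⟨3,0,0,0,0⟩, ⟨1,5531,1,2,0⟩, ⟨4,461,1,0,0⟩, ⟨1,11,1,503,1⟩, ⟨1,2,1,2767,1⟩, ⟨4,41,1,0,0⟩, ⟨1,2,5,173,1⟩,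
  ⟨1,7,2,113,1⟩, ⟨3,0,0,0,0⟩, ⟨1,29,1,191,1⟩, ⟨7,2,0,0,0⟩, ⟨1,3,1,1847,1⟩, ⟨3,0,0,0,0⟩, ⟨1,23,1,241,1⟩, ⟨5,11,75,0,0⟩,
  ⟨1,5,1,1109,1⟩, ⟨3,0,0,0,0⟩, ⟨1,3,1,43,2⟩, ⟨7,2,0,0,0⟩, ⟨1,31,1,179,1⟩, ⟨3,0,0,0,0⟩, ⟨7,7,0,0,0⟩, ⟨1,2,4,347,1⟩,
  ⟨1,3,2,617,1⟩, ⟨1,2,1,2777,1⟩, ⟨7,5,0,0,0⟩, ⟨4,463,1,0,0⟩, ⟨1,5557,1,2,0⟩, ⟨3,0,0,0,0⟩, ⟨7,3,0,0,0⟩, ⟨4,139,1,0,0⟩,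
  ⟨1,67,1,83,1⟩, ⟨3,0,0,0,0⟩, ⟨1,5563,1,2,0⟩, ⟨7,2,0,0,0⟩, ⟨7,3,0,0,0⟩, ⟨3,0,0,0,0⟩, ⟨1,19,1,293,1⟩, ⟨4,29,1,0,0⟩,
  ⟨1,5569,1,2,0⟩, ⟨3,0,0,0,0⟩, ⟨1,3,2,619,1⟩, ⟨7,2,0,0,0⟩, ⟨1,5573,1,2,0⟩, ⟨3,0,0,0,0⟩, ⟨1,5,2,223,1⟩, ⟨4,41,1,0,0⟩,
  ⟨7,3,0,0,0⟩, ⟨1,2,1,2789,1⟩, ⟨1,7,1,797,1⟩, ⟨4,31,1,0,0⟩, ⟨1,5581,1,2,0⟩, ⟨1,2,1,2791,1⟩, ⟨1,3,1,1861,1⟩, ⟨1,2,4,349,1⟩,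
  ⟨1,5,1,1117,1⟩, ⟨3,0,0,0,0⟩, ⟨1,37,1,151,1⟩, ⟨7,2,0,0,0⟩, ⟨1,3,5,23,1⟩, ⟨3,0,0,0,0⟩, ⟨1,5591,1,2,0⟩, ⟨4,233,1,0,0⟩,
  ⟨7,7,0,0,0⟩, ⟨1,2,1,2797,1⟩, ⟨7,3,0,0,0⟩, ⟨1,2,2,1399,1⟩, ⟨1,29,1,193,1⟩, ⟨3,0,0,0,0⟩, ⟨1,11,1,509,1⟩, ⟨5,7,75,0,0⟩,
  ⟨1,3,1,1867,1⟩, ⟨1,2,1,2801,1⟩, ⟨1,13,1,431,1⟩, ⟨4,467,1,0,0⟩, ⟨7,5,0,0,0⟩, ⟨1,2,1,2803,1⟩, ⟨7,3,0,0,0⟩, ⟨1,2,3,701,1⟩,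
  ⟨1,71,1,79,1⟩, ⟨3,0,0,0,0⟩, ⟨1,31,1,181,1⟩, ⟨7,2,0,0,0⟩, ⟨1,3,1,1871,1⟩, ⟨3,0,0,0,0⟩, ⟨1,5,1,1123,1⟩, ⟨2,0,0,0,0⟩,
  ⟨1,41,1,137,1⟩, ⟨1,2,1,53,2⟩, ⟨1,3,1,1873,1⟩, ⟨7,2,0,0,0⟩, ⟨7,7,0,0,0⟩, ⟨3,0,0,0,0⟩, ⟨1,5623,1,2,0⟩, ⟨4,19,1,0,0⟩,
  ⟨1,3,2,5,4⟩, ⟨3,0,0,0,0⟩, ⟨1,17,1,331,1⟩, ⟨4,67,1,0,0⟩, ⟨1,13,1,433,1⟩, ⟨3,0,0,0,0⟩, ⟨1,3,1,1877,1⟩, ⟨1,2,9,11,1⟩,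
  ⟨1,43,1,131,1⟩, ⟨3,0,0,0,0⟩, ⟨7,5,0,0,0⟩, ⟨1,2,2,1409,1⟩, ⟨1,3,1,1879,1⟩, ⟨1,2,1,2819,1⟩, ⟨1,5639,1,2,0⟩, ⟨4,47,1,0,0⟩,
  ⟨1,5641,1,2,0⟩, ⟨3,0,0,0,0⟩, ⟨4,19,1,0,0⟩, ⟨7,2,0,0,0⟩, ⟨1,5,1,1129,1⟩, ⟨3,0,0,0,0⟩, ⟨1,5647,1,2,0⟩, ⟨1,2,4,353,1⟩,
  ⟨7,3,0,0,0⟩, ⟨3,0,0,0,0⟩, ⟨1,5651,1,2,0⟩, ⟨4,157,1,0,0⟩, ⟨1,5653,1,2,0⟩, ⟨3,0,0,0,0⟩, ⟨7,3,0,0,0⟩, ⟨4,101,1,0,0⟩,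
  ⟨1,5657,1,2,0⟩, ⟨3,0,0,0,0⟩, ⟨1,5659,1,2,0⟩, ⟨7,2,0,0,0⟩, ⟨7,3,0,0,0⟩, ⟨3,0,0,0,0⟩, ⟨1,7,1,809,1⟩, ⟨4,59,1,0,0⟩,
  ⟨7,5,0,0,0⟩, ⟨1,2,1,2833,1⟩, ⟨1,3,1,1889,1⟩, ⟨7,2,0,0,0⟩, ⟨1,5669,1,2,0⟩, ⟨3,0,0,0,0⟩, ⟨1,53,1,107,1⟩, ⟨1,2,3,709,1⟩,
  ⟨7,3,0,0,0⟩, ⟨1,2,1,2837,1⟩, ⟨1,5,2,227,1⟩, ⟨4,11,1,0,0⟩, ⟨1,7,1,811,1⟩, ⟨3,0,0,0,0⟩, ⟨1,3,2,631,1⟩, ⟨4,71,1,0,0⟩,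
  ⟨7,13,0,0,0⟩, ⟨3,0,0,0,0⟩, ⟨1,5683,1,2,0⟩, ⟨7,2,0,0,0⟩, ⟨7,3,0,0,0⟩, ⟨1,2,1,2843,1⟩, ⟨1,11,2,47,1⟩, ⟨4,79,1,0,0⟩,
  ⟨1,5689,1,2,0⟩, ⟨3,0,0,0,0⟩, ⟨7,3,0,0,0⟩, ⟨1,2,2,1423,1⟩, ⟨1,5693,1,2,0⟩, ⟨3,0,0,0,0⟩, ⟨7,5,0,0,0⟩, ⟨1,2,6,89,1⟩,
  ⟨1,3,3,211,1⟩, ⟨3,0,0,0,0⟩, ⟨1,41,1,139,1⟩, ⟨5,19,76,0,0⟩, ⟨1,5701,1,2,0⟩, ⟨1,2,1,2851,1⟩, ⟨1,3,1,1901,1⟩, ⟨4,31,1,0,0⟩,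
  ⟨7,5,0,0,0⟩, ⟨3,0,0,0,0⟩, ⟨1,13,1,439,1⟩, ⟨1,2,2,1427,1⟩, ⟨7,3,0,0,0⟩, ⟨3,0,0,0,0⟩, ⟨1,5711,1,2,0⟩, ⟨4,17,1,0,0⟩,
  ⟨1,29,1,197,1⟩, ⟨1,2,1,2857,1⟩, ⟨7,3,0,0,0⟩, ⟨1,2,2,1429,1⟩, ⟨1,5717,1,2,0⟩, ⟨3,0,0,0,0⟩, ⟨7,7,0,0,0⟩, ⟨4,11,1,0,0⟩]

set_option maxRecDepth 4000 in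
/-- Orders from 5721. -/
def chunk11 : List Cert := [
  ⟨1,3,1,1907,1⟩, ⟨1,2,1,2861,1⟩, ⟨1,59,1,97,1⟩, ⟨5,53,76,0,0⟩, ⟨1,5,2,229,1⟩, ⟨3,0,0,0,0⟩, ⟨7,3,0,0,0⟩, ⟨1,2,5,179,1⟩,
  ⟨1,17,1,337,1⟩, ⟨3,0,0,0,0⟩, ⟨1,11,1,521,1⟩, ⟨1,2,2,1433,1⟩, ⟨7,3,0,0,0⟩, ⟨3,0,0,0,0⟩, ⟨7,5,0,0,0⟩, ⟨4,239,1,0,0⟩,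
  ⟨1,5737,1,2,0⟩, ⟨3,0,0,0,0⟩, ⟨1,3,1,1913,1⟩, ⟨7,2,0,0,0⟩, ⟨1,5741,1,2,0⟩, ⟨3,0,0,0,0⟩, ⟨1,5743,1,2,0⟩, ⟨1,2,4,359,1⟩,
  ⟨7,3,0,0,0⟩, ⟨3,0,0,0,0⟩, ⟨1,7,1,821,1⟩, ⟨4,479,1,0,0⟩, ⟨1,5749,1,2,0⟩, ⟨3,0,0,0,0⟩, ⟨1,3,4,71,1⟩, ⟨1,2,3,719,1⟩,
  ⟨1,11,1,523,1⟩, ⟨3,0,0,0,0⟩, ⟨1,5,1,1151,1⟩, ⟨1,2,2,1439,1⟩, ⟨7,3,0,0,0⟩, ⟨1,2,1,2879,1⟩, ⟨1,13,1,443,1⟩, ⟨6,5,76,128,0⟩,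
  ⟨1,7,1,823,1⟩, ⟨3,0,0,0,0⟩, ⟨7,3,0,0,0⟩, ⟨7,2,0,0,0⟩, ⟨1,5,1,1153,1⟩, ⟨3,0,0,0,0⟩, ⟨1,73,1,79,1⟩, ⟨4,103,1,0,0⟩,
  ⟨1,3,2,641,1⟩, ⟨3,0,0,0,0⟩, ⟨1,29,1,199,1⟩, ⟨4,37,1,0,0⟩, ⟨1,23,1,251,1⟩, ⟨1,2,1,2887,1⟩, ⟨7,3,0,0,0⟩, ⟨1,2,4,19,2⟩,
  ⟨1,53,1,109,1⟩, ⟨3,0,0,0,0⟩, ⟨1,5779,1,2,0⟩, ⟨7,2,0,0,0⟩, ⟨7,3,0,0,0⟩, ⟨3,0,0,0,0⟩, ⟨1,5783,1,2,0⟩, ⟨4,241,1,0,0⟩,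
  ⟨7,5,0,0,0⟩, ⟨3,0,0,0,0⟩, ⟨1,3,2,643,1⟩, ⟨1,2,2,1447,1⟩, ⟨1,7,1,827,1⟩, ⟨3,0,0,0,0⟩, ⟨1,5791,1,2,0⟩, ⟨1,2,5,181,1⟩,
  ⟨1,3,1,1931,1⟩, ⟨1,2,1,2897,1⟩, ⟨7,5,0,0,0⟩, ⟨4,23,1,0,0⟩, ⟨7,11,0,0,0⟩, ⟨3,0,0,0,0⟩, ⟨1,3,1,1933,1⟩, ⟨4,29,1,0,0⟩,
  ⟨1,5801,1,2,0⟩, ⟨3,0,0,0,0⟩, ⟨1,7,1,829,1⟩, ⟨1,2,2,1451,1⟩, ⟨4,43,1,0,0⟩, ⟨1,2,1,2903,1⟩, ⟨1,5807,1,2,0⟩, ⟨4,11,2,0,0⟩,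
  ⟨1,37,1,157,1⟩, ⟨3,0,0,0,0⟩, ⟨7,3,0,0,0⟩, ⟨1,2,2,1453,1⟩, ⟨1,5813,1,2,0⟩, ⟨3,0,0,0,0⟩, ⟨1,5,1,1163,1⟩, ⟨1,2,3,727,1⟩,
  ⟨7,3,0,0,0⟩, ⟨1,2,1,2909,1⟩, ⟨1,11,1,23,2⟩, ⟨4,97,1,0,0⟩, ⟨1,5821,1,2,0⟩, ⟨3,0,0,0,0⟩, ⟨1,3,2,647,1⟩, ⟨5,13,77,0,0⟩,
  ⟨1,5,2,233,1⟩, ⟨3,0,0,0,0⟩, ⟨1,5827,1,2,0⟩, ⟨7,2,0,0,0⟩, ⟨7,3,0,0,0⟩, ⟨3,0,0,0,0⟩, ⟨1,7,3,17,1⟩, ⟨1,2,3,3,6⟩,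
  ⟨1,19,1,307,1⟩, ⟨1,2,1,2917,1⟩, ⟨7,3,0,0,0⟩, ⟨1,2,2,1459,1⟩, ⟨1,13,1,449,1⟩, ⟨3,0,0,0,0⟩, ⟨1,5839,1,2,0⟩, ⟨4,73,1,0,0⟩,
  ⟨7,3,0,0,0⟩, ⟨3,0,0,0,0⟩, ⟨1,5843,1,2,0⟩, ⟨4,487,1,0,0⟩, ⟨7,5,0,0,0⟩, ⟨3,0,0,0,0⟩, ⟨1,3,1,1949,1⟩, ⟨4,43,1,0,0⟩,
  ⟨1,5849,1,2,0⟩, ⟨3,0,0,0,0⟩, ⟨1,5851,1,2,0⟩, ⟨7,2,0,0,0⟩, ⟨1,3,1,1951,1⟩, ⟨1,2,1,2927,1⟩, ⟨1,5,1,1171,1⟩, ⟨4,61,1,0,0⟩,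
  ⟨1,5857,1,2,0⟩, ⟨3,0,0,0,0⟩, ⟨4,7,1,0,0⟩, ⟨7,2,0,0,0⟩, ⟨1,5861,1,2,0⟩, ⟨3,0,0,0,0⟩, ⟨7,11,0,0,0⟩, ⟨1,2,3,733,1⟩,
  ⟨7,3,0,0,0⟩, ⟨3,0,0,0,0⟩, ⟨1,5867,1,2,0⟩, ⟨4,163,1,0,0⟩, ⟨1,5869,1,2,0⟩, ⟨3,0,0,0,0⟩, ⟨7,3,0,0,0⟩, ⟨1,2,4,367,1⟩,
  ⟨1,7,1,839,1⟩, ⟨3,0,0,0,0⟩, ⟨1,5,3,47,1⟩, ⟨7,2,0,0,0⟩, ⟨1,3,2,653,1⟩, ⟨1,2,1,2939,1⟩, ⟨1,5879,1,2,0⟩, ⟨5,5,77,0,0⟩,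
  ⟨1,5881,1,2,0⟩, ⟨3,0,0,0,0⟩, ⟨7,3,0,0,0⟩, ⟨1,2,2,1471,1⟩, ⟨7,5,0,0,0⟩, ⟨3,0,0,0,0⟩, ⟨1,7,1,29,2⟩, ⟨1,2,8,23,1⟩,
  ⟨7,3,0,0,0⟩, ⟨3,0,0,0,0⟩, ⟨1,43,1,137,1⟩, ⟨4,491,1,0,0⟩, ⟨1,71,1,83,1⟩, ⟨3,0,0,0,0⟩, ⟨7,3,0,0,0⟩, ⟨4,67,1,0,0⟩,
  ⟨1,5897,1,2,0⟩, ⟨3,0,0,0,0⟩, ⟨1,17,1,347,1⟩, ⟨7,2,0,0,0⟩, ⟨7,3,0,0,0⟩, ⟨3,0,0,0,0⟩, ⟨1,5903,1,2,0⟩, ⟨4,41,1,0,0⟩,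
  ⟨1,5,1,1181,1⟩, ⟨1,2,1,2953,1⟩, ⟨7,3,0,0,0⟩, ⟨7,2,0,0,0⟩, ⟨1,19,1,311,1⟩, ⟨3,0,0,0,0⟩, ⟨1,23,1,257,1⟩, ⟨1,2,3,739,1⟩,
  ⟨1,3,4,73,1⟩, ⟨1,2,1,2957,1⟩, ⟨7,5,0,0,0⟩, ⟨4,17,1,0,0⟩, ⟨1,61,1,97,1⟩, ⟨3,0,0,0,0⟩, ⟨1,3,1,1973,1⟩, ⟨4,37,1,0,0⟩]

set_option maxRecDepth 4000 in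
/-- Orders from 5921. -/
def chunk12 : List Cert := [
  ⟨1,31,1,191,1⟩, ⟨3,0,0,0,0⟩, ⟨1,5923,1,2,0⟩, ⟨1,2,2,1481,1⟩, ⟨7,3,0,0,0⟩, ⟨1,2,1,2963,1⟩, ⟨1,5927,1,2,0⟩, ⟨5,19,77,0,0⟩,
  ⟨1,7,2,11,2⟩, ⟨3,0,0,0,0⟩, ⟨1,3,2,659,1⟩, ⟨1,2,2,1483,1⟩, ⟨1,17,1,349,1⟩, ⟨3,0,0,0,0⟩, ⟨1,5,1,1187,1⟩, ⟨4,53,1,0,0⟩,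
  ⟨1,3,1,1979,1⟩, ⟨1,2,1,2969,1⟩, ⟨1,5939,1,2,0⟩, ⟨5,11,78,0,0⟩, ⟨1,13,1,457,1⟩, ⟨1,2,1,2971,1⟩, ⟨7,3,0,0,0⟩, ⟨1,2,3,743,1⟩,
  ⟨7,5,0,0,0⟩, ⟨3,0,0,0,0⟩, ⟨1,19,1,313,1⟩, ⟨1,2,2,1487,1⟩, ⟨1,3,2,661,1⟩, ⟨3,0,0,0,0⟩, ⟨1,11,1,541,1⟩, ⟨5,31,78,0,0⟩,
  ⟨1,5953,1,2,0⟩, ⟨3,0,0,0,0⟩, ⟨7,3,0,0,0⟩, ⟨1,2,2,1489,1⟩, ⟨7,7,0,0,0⟩, ⟨3,0,0,0,0⟩, ⟨1,59,1,101,1⟩, ⟨4,149,1,0,0⟩,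
  ⟨1,3,1,1987,1⟩, ⟨3,0,0,0,0⟩, ⟨1,67,1,89,1⟩, ⟨4,71,1,0,0⟩, ⟨1,5,1,1193,1⟩, ⟨3,0,0,0,0⟩, ⟨4,17,1,0,0⟩, ⟨1,2,4,373,1⟩,
  ⟨1,47,1,127,1⟩, ⟨3,0,0,0,0⟩, ⟨1,7,1,853,1⟩, ⟨1,2,2,1493,1⟩, ⟨7,3,0,0,0⟩, ⟨3,0,0,0,0⟩, ⟨1,5,2,239,1⟩, ⟨4,83,1,0,0⟩,
  ⟨1,43,1,139,1⟩, ⟨3,0,0,0,0⟩, ⟨1,3,1,1993,1⟩, ⟨7,2,0,0,0⟩, ⟨1,5981,1,2,0⟩, ⟨3,0,0,0,0⟩, ⟨1,31,1,193,1⟩, ⟨4,17,1,0,0⟩,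
  ⟨7,3,0,0,0⟩, ⟨3,0,0,0,0⟩, ⟨1,5987,1,2,0⟩, ⟨4,499,1,0,0⟩, ⟨1,53,1,113,1⟩, ⟨3,0,0,0,0⟩, ⟨1,3,1,1997,1⟩, ⟨4,107,1,0,0⟩,
  ⟨1,13,1,461,1⟩, ⟨3,0,0,0,0⟩, ⟨7,5,0,0,0⟩, ⟨1,2,2,1499,1⟩, ⟨1,3,1,1999,1⟩, ⟨1,2,1,2999,1⟩, ⟨1,7,1,857,1⟩, ⟨6,3,78,16,0⟩,
  ⟨1,17,1,353,1⟩, ⟨1,2,1,3001,1⟩, ⟨7,3,0,0,0⟩, ⟨7,2,0,0,0⟩, ⟨1,5,1,1201,1⟩, ⟨3,0,0,0,0⟩, ⟨1,6007,1,2,0⟩, ⟨1,2,3,751,1⟩,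
  ⟨1,3,1,2003,1⟩, ⟨3,0,0,0,0⟩, ⟨1,6011,1,2,0⟩, ⟨4,167,1,0,0⟩, ⟨1,7,1,859,1⟩, ⟨3,0,0,0,0⟩, ⟨7,3,0,0,0⟩, ⟨1,2,7,47,1⟩,
  ⟨1,11,1,547,1⟩, ⟨3,0,0,0,0⟩, ⟨1,13,1,463,1⟩, ⟨7,2,0,0,0⟩, ⟨1,3,3,223,1⟩, ⟨1,2,1,3011,1⟩, ⟨1,19,1,317,1⟩, ⟨4,251,1,0,0⟩,
  ⟨1,5,2,241,1⟩, ⟨3,0,0,0,0⟩, ⟨7,3,0,0,0⟩, ⟨7,2,0,0,0⟩, ⟨1,6029,1,2,0⟩, ⟨3,0,0,0,0⟩, ⟨1,37,1,163,1⟩, ⟨4,29,1,0,0⟩,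
  ⟨1,3,1,2011,1⟩, ⟨3,0,0,0,0⟩, ⟨7,5,0,0,0⟩, ⟨4,503,1,0,0⟩, ⟨1,6037,1,2,0⟩, ⟨1,2,1,3019,1⟩, ⟨7,3,0,0,0⟩, ⟨4,151,1,0,0⟩,
  ⟨1,7,1,863,1⟩, ⟨3,0,0,0,0⟩, ⟨1,6043,1,2,0⟩, ⟨1,2,2,1511,1⟩, ⟨7,3,0,0,0⟩, ⟨1,2,1,3023,1⟩, ⟨1,6047,1,2,0⟩, ⟨2,0,0,0,0⟩,
  ⟨1,23,1,263,1⟩, ⟨3,0,0,0,0⟩, ⟨1,3,1,2017,1⟩, ⟨7,2,0,0,0⟩, ⟨1,6053,1,2,0⟩, ⟨3,0,0,0,0⟩, ⟨7,5,0,0,0⟩, ⟨1,2,3,757,1⟩,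
  ⟨1,3,2,673,1⟩, ⟨3,0,0,0,0⟩, ⟨1,73,1,83,1⟩, ⟨4,101,1,0,0⟩, ⟨7,11,0,0,0⟩, ⟨3,0,0,0,0⟩, ⟨7,3,0,0,0⟩, ⟨1,2,4,379,1⟩,
  ⟨1,5,1,1213,1⟩, ⟨3,0,0,0,0⟩, ⟨1,6067,1,2,0⟩, ⟨7,2,0,0,0⟩, ⟨7,3,0,0,0⟩, ⟨3,0,0,0,0⟩, ⟨1,13,1,467,1⟩, ⟨2,0,0,0,0⟩,
  ⟨1,6073,1,2,0⟩, ⟨1,2,1,3037,1⟩, ⟨1,3,5,5,2⟩, ⟨7,2,0,0,0⟩, ⟨1,59,1,103,1⟩, ⟨3,0,0,0,0⟩, ⟨1,6079,1,2,0⟩, ⟨5,19,78,0,0⟩,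
  ⟨1,3,1,2027,1⟩, ⟨1,2,1,3041,1⟩, ⟨7,7,0,0,0⟩, ⟨4,13,2,0,0⟩, ⟨1,5,1,1217,1⟩, ⟨3,0,0,0,0⟩, ⟨1,3,1,2029,1⟩, ⟨1,2,3,761,1⟩,
  ⟨1,6089,1,2,0⟩, ⟨3,0,0,0,0⟩, ⟨1,6091,1,2,0⟩, ⟨1,2,2,1523,1⟩, ⟨1,3,2,677,1⟩, ⟨3,0,0,0,0⟩, ⟨7,5,0,0,0⟩, ⟨4,127,1,0,0⟩,
  ⟨7,7,0,0,0⟩, ⟨1,2,1,3049,1⟩, ⟨7,3,0,0,0⟩, ⟨7,2,0,0,0⟩, ⟨1,6101,1,2,0⟩, ⟨3,0,0,0,0⟩, ⟨1,17,1,359,1⟩, ⟨4,109,1,0,0⟩,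
  ⟨7,3,0,0,0⟩, ⟨3,0,0,0,0⟩, ⟨1,31,1,197,1⟩, ⟨4,509,1,0,0⟩, ⟨1,41,1,149,1⟩, ⟨3,0,0,0,0⟩, ⟨7,3,0,0,0⟩, ⟨1,2,5,191,1⟩,
  ⟨1,6113,1,2,0⟩, ⟨3,0,0,0,0⟩, ⟨1,5,1,1223,1⟩, ⟨7,2,0,0,0⟩, ⟨1,3,1,2039,1⟩, ⟨3,0,0,0,0⟩, ⟨1,29,1,211,1⟩, ⟨5,17,79,0,0⟩]

set_option maxRecDepth 4000 in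
/-- Orders from 6121. -/
def chunk13 : List Cert := [
  ⟨1,6121,1,2,0⟩, ⟨1,2,1,3061,1⟩, ⟨7,3,0,0,0⟩, ⟨1,2,2,1531,1⟩, ⟨1,5,3,7,2⟩, ⟨3,0,0,0,0⟩, ⟨1,11,1,557,1⟩, ⟨1,2,4,383,1⟩,
  ⟨1,3,3,227,1⟩, ⟨3,0,0,0,0⟩, ⟨1,6131,1,2,0⟩, ⟨4,73,1,0,0⟩, ⟨1,6133,1,2,0⟩, ⟨1,2,1,3067,1⟩, ⟨7,3,0,0,0⟩, ⟨4,59,1,0,0⟩,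
  ⟨1,17,1,19,2⟩, ⟨3,0,0,0,0⟩, ⟨1,7,1,877,1⟩, ⟨7,2,0,0,0⟩, ⟨7,3,0,0,0⟩, ⟨3,0,0,0,0⟩, ⟨1,6143,1,2,0⟩, ⟨1,2,11,3,1⟩,
  ⟨1,5,1,1229,1⟩, ⟨3,0,0,0,0⟩, ⟨1,3,2,683,1⟩, ⟨7,2,0,0,0⟩, ⟨7,11,0,0,0⟩, ⟨3,0,0,0,0⟩, ⟨1,6151,1,2,0⟩, ⟨1,2,3,769,1⟩,
  ⟨7,3,0,0,0⟩, ⟨3,0,0,0,0⟩, ⟨1,5,1,1231,1⟩, ⟨5,19,79,0,0⟩, ⟨1,47,1,131,1⟩, ⟨1,2,1,3079,1⟩, ⟨1,3,1,2053,1⟩, ⟨5,11,79,0,0⟩,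
  ⟨1,61,1,101,1⟩, ⟨3,0,0,0,0⟩, ⟨1,6163,1,2,0⟩, ⟨7,2,0,0,0⟩, ⟨7,3,0,0,0⟩, ⟨1,2,1,3083,1⟩, ⟨1,7,1,881,1⟩, ⟨4,257,1,0,0⟩,
  ⟨1,31,1,199,1⟩, ⟨3,0,0,0,0⟩, ⟨7,3,0,0,0⟩, ⟨1,2,2,1543,1⟩, ⟨1,6173,1,2,0⟩, ⟨3,0,0,0,0⟩, ⟨7,5,0,0,0⟩, ⟨1,2,5,193,1⟩,
  ⟨7,3,0,0,0⟩, ⟨1,2,1,3089,1⟩, ⟨1,37,1,167,1⟩, ⟨4,103,1,0,0⟩, ⟨1,7,1,883,1⟩, ⟨3,0,0,0,0⟩, ⟨1,3,3,229,1⟩, ⟨1,2,3,773,1⟩,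
  ⟨1,5,1,1237,1⟩, ⟨3,0,0,0,0⟩, ⟨1,23,1,269,1⟩, ⟨7,2,0,0,0⟩, ⟨1,3,1,2063,1⟩, ⟨3,0,0,0,0⟩, ⟨1,41,1,151,1⟩, ⟨4,43,1,0,0⟩,
  ⟨1,11,1,563,1⟩, ⟨3,0,0,0,0⟩, ⟨7,3,0,0,0⟩, ⟨1,2,2,1549,1⟩, ⟨1,6197,1,2,0⟩, ⟨3,0,0,0,0⟩, ⟨1,6199,1,2,0⟩, ⟨4,31,1,0,0⟩,
  ⟨7,3,0,0,0⟩, ⟨3,0,0,0,0⟩, ⟨1,6203,1,2,0⟩, ⟨4,47,1,0,0⟩, ⟨7,5,0,0,0⟩, ⟨3,0,0,0,0⟩, ⟨1,3,1,2069,1⟩, ⟨1,2,6,97,1⟩,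
  ⟨1,7,1,887,1⟩, ⟨3,0,0,0,0⟩, ⟨1,6211,1,2,0⟩, ⟨1,2,2,1553,1⟩, ⟨7,3,0,0,0⟩, ⟨3,0,0,0,0⟩, ⟨7,5,0,0,0⟩, ⟨4,37,1,0,0⟩,
  ⟨1,6217,1,2,0⟩, ⟨1,2,1,3109,1⟩, ⟨1,3,2,691,1⟩, ⟨7,2,0,0,0⟩, ⟨1,6221,1,2,0⟩, ⟨3,0,0,0,0⟩, ⟨1,7,2,127,1⟩, ⟨1,2,4,389,1⟩,
  ⟨7,3,0,0,0⟩, ⟨3,0,0,0,0⟩, ⟨1,13,1,479,1⟩, ⟨4,173,1,0,0⟩, ⟨1,6229,1,2,0⟩, ⟨3,0,0,0,0⟩, ⟨7,3,0,0,0⟩, ⟨4,41,1,0,0⟩]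

end CfsgLib.Perm.OrdersRange
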