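import Mathlib
import Cfsg.Agent.Lib.Perm.Small.SylowEightData

/-!
# Sylow 2-subgroups of the symmetric group on eight letters
-/

set_option linter.all false

namespace CfsgLib.Perm.Small.SylowEight

/-- the permutation packed in base eight, with its inverse -/
def mkP (p : ℕ × ℕ) : Equiv.Perm (Fin 8) :=
  if h : (∀ i : Fin 8, (Fin.ofNat 8 (p.2 / 8 ^ (Fin.ofNat 8 (p.1 / 8 ^ i.val) : Fin 8).val) : Fin 8) = i) ∧
      (∀ i : Fin 8, (Fin.ofNat 8 (p.1 / 8 ^ (Fin.ofNat 8 (p.2 / 8 ^ i.val) : Fin 8).val) : Fin 8) = i) then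
    ⟨fun i => Fin.ofNat 8 (p.1 / 8 ^ i.val), fun i => Fin.ofNat 8 (p.2 / 8 ^ i.val), h.1, h.2⟩
  else 1

/-- the base-eight code of a permutation -/
def enc (g : Equiv.Perm (Fin 8)) : ℕ :=
  (g 0).val + (g 1).val * 8 + (g 2).val * 8 ^ 2 + (g 3).val * 8 ^ 3 + (g 4).val * 8 ^ 4 + (g 5).val * 8 ^ 5 +
    (g 6).val * 8 ^ 6 + (g 7).val * 8 ^ 7

/-- the distance in the binary tree with eight leaves -/
def dist8 (i j : Fin 8) : ℕ := if i.val / 2 = j.val / 2 then 0 else if i.val / 4 = j.val / 4 then 1 else 2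

/-- the automorphisms of the tree -/
def treeStab : Subgroup (Equiv.Perm (Fin 8)) where
  carrier := {g | ∀ i j, dist8 (g i) (g j) = dist8 i j}
  one_mem' := fun i j => rfl
  mul_mem' := fun {a b} ha hb i j => by rw [Equiv.Perm.mul_apply, Equiv.Perm.mul_apply, ha, hb]
  inv_mem' := fun {a} ha i j => by
    conv_rhs => rw [← Equiv.apply_symm_apply a i, ← Equiv.apply_symm_apply a j, ha]
    rfl

instance : DecidablePred (· ∈ treeStab) := fun g =>
  inferInstanceAs (Decidable (∀ i j, dist8 (g i) (g j) = dist8 i j))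

/-- the code of the image of the tree -/
def treeCode (x : Equiv.Perm (Fin 8)) : ℕ :=
  (List.finRange 8).foldl (fun n i => (List.finRange 8).foldl (fun m j => m * 3 + dist8 (x.symm i) (x.symm j)) n) 0

theorem treeCode_mul (x : Equiv.Perm (Fin 8)) {h : Equiv.Perm (Fin 8)} (hh : h ∈ treeStab) :
    treeCode (x * h) = treeCode x := by
  have key : ∀ i j, dist8 ((x * h).symm i) ((x * h).symm j) = dist8 (x.symm i) (x.symm j) := fun i j =>
    (treeStab.inv_mem hh) (x.symm i) (x.symm j)
  simp only [treeCode, key]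

/-- strictly increasing -/
def incList : List ℕ → Bool
  | [] => true
  | [_] => true
  | a :: b :: l => decide (a < b) && incList (b :: l)

theorem pairwise_of_incList : ∀ {l : List ℕ}, incList l = true → l.Pairwise (· < ·)
  | [], _ => List.Pairwise.nil
  | [_], _ => List.pairwise_singleton _ _
  | a :: b :: l, h => by
    rw [incList, Bool.and_eq_true, decide_eq_true_eq] at h
    have ih := pairwise_of_incList h.2
    refine List.pairwise_cons.2 ⟨fun c hc => ?_, ih⟩
    rcases List.mem_cons.1 hc with rfl | hc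
    · exact h.1
    · exact h.1.trans (List.rel_of_pairwise_cons ih hc)

theorem elems_ok : elems.map (fun p => enc (mkP p)) = elemCodes ∧ (∀ p ∈ elems, mkP p ∈ treeStab) ∧
    incList elemCodes = true ∧ elemCodes.length = 128 := by
  decide +kernel

theorem cosets_ok : (∀ t ∈ cosetTable, treeCode (mkP t.1) = t.2.2 ∧ enc (mkP t.2.1) ≠ enc 1 ∧
    mkP t.2.1 ∈ treeStab ∧ (mkP t.1)⁻¹ * mkP t.2.1 * mkP t.1 ∈ treeStab) ∧
    incList (cosetTable.map fun t => t.2.2) = true ∧ cosetTable.length = 315 := by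
  decide +kernel

attribute [local irreducible] elems elemCodes cosetTable mkP enc treeCode dist8

theorem length_le_card {α β : Type} [Finite β] (l : List α) (k : α → ℕ) (g : α → β) (hl : incList (l.map k) = true)
    (hk : ∀ a ∈ l, ∀ b ∈ l, g a = g b → k a = k b) :
    l.length ≤ Nat.card β ∧ (l.length = Nat.card β → ∀ b, ∃ a ∈ l, g a = b) := by
  have hnd : (l.map k).Nodup := (pairwise_of_incList hl).imp fun h => h.ne
  have hinj : Function.Injective fun i : Fin l.length => g l[i.val] := by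
    intro i j hij
    have h := hk _ (List.getElem_mem _) _ (List.getElem_mem _) hij
    exact Fin.ext ((hnd.getElem_inj_iff (hi := by simp) (hj := by simp)).1 (by simpa using h))
  refine ⟨by simpa using Nat.card_le_card_of_injective _ hinj, fun hlen b => ?_⟩
  obtain ⟨i, hi⟩ := ((Nat.bijective_iff_injective_and_card _).2 ⟨hinj, by rw [Nat.card_fin, hlen]⟩).2 b
  exact ⟨_, List.getElem_mem _, hi⟩

theorem card_treeStab_and_cover : Nat.card treeStab = 128 ∧
    ∀ y : Equiv.Perm (Fin 8), ∃ t ∈ cosetTable, (mkP t.1)⁻¹ * y ∈ treeStab := by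
  obtain ⟨he, hmem, hinc, hlen⟩ := elems_ok
  obtain ⟨hc, hcinc, hclen⟩ := cosets_ok
  have hlow : 128 ≤ Nat.card treeStab := by
    have h := (length_le_card elems (fun p => enc (mkP p))
      (fun p => if h : mkP p ∈ treeStab then (⟨mkP p, h⟩ : treeStab) else 1) (by rw [he]; exact hinc)
      fun a ha b hb hab => by
        rw [dif_pos (hmem a ha), dif_pos (hmem b hb)] at hab
        exact congrArg (fun z : treeStab => enc z.1) hab).1
    have hlen' : elems.length = 128 := by rw [← hlen, ← he, List.length_map]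
    rwa [hlen'] at h
  have hcov := length_le_card cosetTable (fun t => t.2.2)
    (fun t => (QuotientGroup.mk (mkP t.1) : Equiv.Perm (Fin 8) ⧸ treeStab)) hcinc fun a ha b hb hab => by
      have h2 : treeCode (mkP b.1) = treeCode (mkP a.1) := by
        rw [← treeCode_mul (mkP a.1) (QuotientGroup.eq.1 hab), mul_inv_cancel_left]
      rw [(hc a ha).1, (hc b hb).1] at h2
      exact h2.symm
  rw [hclen] at hcov
  have hup : 315 ≤ treeStab.index := hcov.1
  have hmul := treeStab.card_mul_index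
  rw [Nat.card_perm, Nat.card_fin, show Nat.factorial 8 = 40320 from rfl] at hmul
  have hS : Nat.card treeStab = 128 := by nlinarith
  have hI : treeStab.index = 315 := by rw [hS] at hmul; omega
  refine ⟨hS, fun y => ?_⟩
  obtain ⟨t, ht, hty⟩ := hcov.2 hI.symm (QuotientGroup.mk y)
  exact ⟨t, ht, QuotientGroup.eq.1 hty⟩

theorem exists_witness (y : Equiv.Perm (Fin 8)) : ∃ w ∈ treeStab, w ≠ 1 ∧ y⁻¹ * w * y ∈ treeStab := by
  obtain ⟨-, hcover⟩ := card_treeStab_and_cover
  obtain ⟨t, ht, hy⟩ := hcover y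
  obtain ⟨-, hne, hw, hw'⟩ := cosets_ok.1 t ht
  refine ⟨mkP t.2.1, hw, fun h => hne (by rw [h]), ?_⟩
  have h := treeStab.mul_mem (treeStab.mul_mem (treeStab.inv_mem hy) hw') hy
  have e : ((mkP t.1)⁻¹ * y)⁻¹ * ((mkP t.1)⁻¹ * mkP t.2.1 * mkP t.1) * ((mkP t.1)⁻¹ * y) = y⁻¹ * mkP t.2.1 * y := by
    group
  rwa [e] at h

end CfsgLib.Perm.Small.SylowEight
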