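import Mathlib
import Cfsg.Agent.Lib.Perm.Small.SylowEight

/-!
# Even permutations of eight points preserving four pairs are affine
-/

set_option autoImplicit false
set_option linter.all false

namespace CfsgLib.Perm.Small.PairsEight

open CfsgLib.Perm.Small.SylowEight

/-- bitwise exclusive or on eight points -/
def xr (a b : Fin 8) : Fin 8 := Fin.ofNat 8 (Nat.xor a.val b.val)

/-- the affine group of three-space over two elements -/
def affine : Subgroup (Equiv.Perm (Fin 8)) where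
  carrier := {g | ∀ a b c, g (xr (xr a b) c) = xr (xr (g a) (g b)) (g c)}
  one_mem' := fun a b c => rfl
  mul_mem' := fun {g h} hg hh a b c => by
    rw [Equiv.Perm.mul_apply, Equiv.Perm.mul_apply, Equiv.Perm.mul_apply, Equiv.Perm.mul_apply, hh, hg]
  inv_mem' := fun {g} hg a b c => g.injective (by
    rw [hg]
    show g (g.symm _) = xr (xr (g (g.symm a)) (g (g.symm b))) (g (g.symm c))
    simp only [Equiv.apply_symm_apply])

instance : DecidablePred (· ∈ affine) := fun g =>
  inferInstanceAs (Decidable (∀ a b c, g (xr (xr a b) c) = xr (xr (g a) (g b)) (g c)))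

/-- code of the pair-preserving map with given values at the even points, and of its inverse -/
def pairCode (a b c d : Fin 8) : ℕ × ℕ :=
  (a.val + (xr a 1).val * 8 + b.val * 8 ^ 2 + (xr b 1).val * 8 ^ 3 + c.val * 8 ^ 4 + (xr c 1).val * 8 ^ 5 +
    d.val * 8 ^ 6 + (xr d 1).val * 8 ^ 7,
   0 * 8 ^ a.val + 1 * 8 ^ (xr a 1).val + 2 * 8 ^ b.val + 3 * 8 ^ (xr b 1).val + 4 * 8 ^ c.val +
    5 * 8 ^ (xr c 1).val + 6 * 8 ^ d.val + 7 * 8 ^ (xr d 1).val)

/-- the tested property of a pair-preserving map -/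
def pairTest (a b c d : Fin 8) : Bool :=
  decide (a.val / 2 = b.val / 2 ∨ a.val / 2 = c.val / 2 ∨ a.val / 2 = d.val / 2 ∨ b.val / 2 = c.val / 2 ∨
    b.val / 2 = d.val / 2 ∨ c.val / 2 = d.val / 2) ||
  (decide (mkP (pairCode a b c d) 0 = a ∧ mkP (pairCode a b c d) 1 = xr a 1 ∧ mkP (pairCode a b c d) 2 = b ∧
      mkP (pairCode a b c d) 3 = xr b 1 ∧ mkP (pairCode a b c d) 4 = c ∧ mkP (pairCode a b c d) 5 = xr c 1 ∧
      mkP (pairCode a b c d) 6 = d ∧ mkP (pairCode a b c d) 7 = xr d 1) &&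
    (decide (mkP (pairCode a b c d) ∈ affine) || decide (Equiv.Perm.sign (mkP (pairCode a b c d)) = -1)))

theorem pairTest_all : ∀ a b c d : Fin 8, pairTest a b c d = true := by
  decide +kernel

theorem xr_one_div : (∀ i : Fin 8, (xr i 1).val / 2 = i.val / 2 ∧ xr i 1 ≠ i) ∧
    (∀ i j : Fin 8, j.val / 2 = i.val / 2 → j ≠ i → j = xr i 1) := by
  decide +kernel

theorem affine_facts : (Equiv.swap (1 : Fin 8) 2 * Equiv.swap 5 6) ∈ affine ∧
    Equiv.Perm.sign (Equiv.swap (1 : Fin 8) 2 * Equiv.swap 5 6) = 1 ∧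
    (Equiv.swap (0 : Fin 8) 1 * Equiv.swap 1 2) ∉ affine ∧
    Equiv.Perm.sign (Equiv.swap (0 : Fin 8) 1 * Equiv.swap 1 2) = 1 := by
  decide +kernel

theorem mem_affine {g : Equiv.Perm (Fin 8)} (hg : ∀ i j : Fin 8, i.val / 2 = j.val / 2 ↔ (g i).val / 2 = (g j).val / 2)
    (hs : Equiv.Perm.sign g = 1) : g ∈ affine := by
  obtain ⟨hx, hu⟩ := xr_one_div
  have hodd : ∀ i, g (xr i 1) = xr (g i) 1 := fun i =>
    hu _ _ ((hg _ _).1 (hx i).1) (fun h => (hx i).2 (g.injective h))
  have key := pairTest_all (g 0) (g 2) (g 4) (g 6)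
  simp only [pairTest, Bool.or_eq_true, Bool.and_eq_true, decide_eq_true_eq] at key
  rcases key with h | ⟨⟨e0, e1, e2, e3, e4, e5, e6, e7⟩, h⟩
  · exfalso
    simp only [← hg] at h
    norm_num at h
  have h1 : g 1 = xr (g 0) 1 := hodd 0
  have h3 : g 3 = xr (g 2) 1 := hodd 2
  have h5 : g 5 = xr (g 4) 1 := hodd 4
  have h7 : g 7 = xr (g 6) 1 := hodd 6
  have heq : mkP (pairCode (g 0) (g 2) (g 4) (g 6)) = g := by
    refine Equiv.ext fun i => ?_
    fin_cases i
    · exact e0
    · exact e1.trans h1.symm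
    · exact e2
    · exact e3.trans h3.symm
    · exact e4
    · exact e5.trans h5.symm
    · exact e6
    · exact e7.trans h7.symm
  rw [heq] at h
  exact h.resolve_right (by rw [hs]; decide)

end CfsgLib.Perm.Small.PairsEight
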