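import Cfsg.Agent.Lib.Perm.Small.SLThirteenTable

/-!
# Checks of the tables for `SL(2, 13)`
-/

set_option autoImplicit false
set_option linter.all false
set_option maxRecDepth 100000

namespace CfsgLib.Perm.SLThirteen

theorem row_thirteen : Row vThirteen nThirteen :=
  row_of_bool (by decide +kernel) (by decide +kernel) (by decide +kernel) (by decide +kernel)
    (by decide +kernel) (by decide +kernel) (by decide +kernel) (by decide +kernel)
theorem row_seven : Row vSeven nSeven :=
  row_of_bool (by decide +kernel) (by decide +kernel) (by decide +kernel) (by decide +kernel)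
    (by decide +kernel) (by decide +kernel) (by decide +kernel) (by decide +kernel)
theorem row_three : Row vThree nThree :=
  row_of_bool (by decide +kernel) (by decide +kernel) (by decide +kernel) (by decide +kernel)
    (by decide +kernel) (by decide +kernel) (by decide +kernel) (by decide +kernel)
theorem row_quat : Row vQuat nQuat :=
  row_of_bool (by decide +kernel) (by decide +kernel) (by decide +kernel) (by decide +kernel)
    (by decide +kernel) (by decide +kernel) (by decide +kernel) (by decide +kernel)
theorem row_four : Row vFour nFour :=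
  row_of_bool (by decide +kernel) (by decide +kernel) (by decide +kernel) (by decide +kernel)
    (by decide +kernel) (by decide +kernel) (by decide +kernel) (by decide +kernel)

theorem comm_thirteen : ∀ x ∈ nThirteen, ∀ y ∈ nThirteen, comm4 vThirteen x y = true := by decide +kernel
theorem comm_seven : ∀ x ∈ nSeven, ∀ y ∈ nSeven, comm4 vSeven x y = true := by decide +kernel
theorem comm_three : ∀ x ∈ nThree, ∀ y ∈ nThree, comm4 vThree x y = true := by decide +kernel
theorem comm_quat : ∀ x ∈ nQuat, ∀ y ∈ nQuat, comm4 vQuat x y = true := by decide +kernel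

theorem els_length : els.length = 2184 := by decide +kernel

theorem els_lower : ∀ x ∈ els, x.2.2.1 = 0 → norm4 vThirteen x = true := by decide +kernel

theorem els_bruhat : ∀ x ∈ els, x.2.2.1 ≠ 0 →
    mul4 (mul4 (1, ((x.1 + 12) * (x.2.2.1 ^ 11)) % 13, 0, 1) (1, 0, x.2.2.1, 1))
      (1, ((x.2.2.2 + 12) * (x.2.2.1 ^ 11)) % 13, 0, 1) = x := by decide +kernel

theorem els_invol : ∀ x ∈ els, mul4 x x = one4 → x = one4 ∨ x = (12, 0, 0, 12) := by decide +kernel

theorem quat_four : ∀ x ∈ vQuat, mul4 x x ≠ one4 →
    ∃ g ∈ nQuat, conj4 g x ∈ vFour ∧ mul4 (conj4 g x) (conj4 g x) ≠ one4 := by decide +kernel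

theorem quat_ext : ∀ x ∈ els, mul4 x (mul4 x x) = one4 →
    (∀ q ∈ vQuat, mul4 x q ∈ vQuat.flatMap (fun r => [r, mul4 r x, mul4 r (mul4 x x)])) →
      norm4 vQuat x = true ∨ ∀ q ∈ vQuat, conj4 q x ∈ [one4, x, mul4 x x] := by decide +kernel

end CfsgLib.Perm.SLThirteen
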