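import Mathlib
import Cfsg.Agent.Lib.Perm.Small.SLThirteenChecks

/-!
# Normalizers of subgroups of `SL(2, 13)`

Every non-normal subgroup of `SL(2, 13)` has a maximal normalizer.
-/

set_option autoImplicit false
set_option linter.all false

namespace CfsgLib.Perm.SLThirteen

open Matrix Subgroup

instance : Fact (Nat.Prime 13) := ⟨by norm_num⟩

theorem card_T : Nat.card T = 2184 := by
  have h := card_enc els (by
    refine List.nodup_flatMap.2 ⟨fun a _ => List.nodup_flatMap.2 ⟨fun b _ => List.nodup_flatMap.2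
      ⟨fun c _ => ?_, ?_⟩, ?_⟩, ?_⟩
    · refine List.Nodup.filterMap ?_ List.nodup_range
      intro d d' x hd hd'
      simp only [Option.mem_def, Option.ite_none_right_eq_some, Option.some.injEq] at hd hd'
      obtain ⟨-, rfl⟩ := hd
      obtain ⟨-, h⟩ := hd'
      simp only [Prod.mk.injEq, true_and] at h
      exact h.symm
    all_goals
      refine List.pairwise_lt_range.imp fun {u v} huv => ?_
      intro x hx hy
      simp only [List.mem_flatMap, List.mem_filterMap, Option.ite_none_right_eq_some, Option.some.injEq,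
        List.mem_range] at hx hy
      grind) (fun x hx => hx) (fun _ => True) (fun g => iff_of_true trivial (enc_mem g))
  rw [els_length] at h
  exact (Nat.card_congr (Equiv.subtypeUnivEquiv fun _ => trivial)).symm.trans h

/-- the coded subgroup -/
def sub {V N : List Q4} (h : Row V N) : Subgroup T :=
  { carrier := {g | enc g ∈ V}
    one_mem' := by show enc 1 ∈ V; rw [enc_one]; exact h.2.2.1
    mul_mem' := fun {a b} ha hb => by show enc (a * b) ∈ V; rw [enc_mul]; exact h.2.2.2.2.1 _ ha _ hb
    inv_mem' := fun {a} (ha : enc a ∈ V) => by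
      have hp : ∀ k : ℕ, enc (a ^ k) ∈ V := by
        intro k
        induction k with
        | zero => rw [pow_zero, enc_one]; exact h.2.2.1
        | succ k ih => rw [pow_succ, enc_mul]; exact h.2.2.2.2.1 _ ih _ ha
      have e : a⁻¹ = a ^ (orderOf a - 1) := inv_eq_of_mul_eq_one_right (by
        rw [← pow_succ', Nat.sub_add_cancel (orderOf_pos a), pow_orderOf_eq_one])
      show enc a⁻¹ ∈ V
      rw [e]; exact hp _ }

theorem mem_sub {V N : List Q4} (h : Row V N) {g : T} : g ∈ sub h ↔ enc g ∈ V := Iff.rfl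

theorem mem_normalizer_sub {V N : List Q4} (h : Row V N) {g : T} :
    g ∈ normalizer (sub h : Set T) ↔ enc g ∈ N := by
  have hN : enc g ∈ N ↔ norm4 V (enc g) = true :=
    ⟨fun hg => (h.2.2.2.2.2.1 _ hg).2, fun hg => h.2.2.2.2.2.2 _ (enc_mem g) hg⟩
  have hn : norm4 V (enc g) = true ↔ ∀ v ∈ sub h, g * v * g⁻¹ ∈ sub h := by
    simp only [norm4, List.all_eq_true, List.contains_iff_mem, mem_sub, enc_conj]
    refine ⟨fun hh v hv => hh _ hv, fun hh x hx => ?_⟩
    obtain ⟨v, rfl⟩ := exists_enc (h.2.2.2.1 x hx)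
    exact hh v hx
  rw [hN, hn]
  refine ⟨fun hg v hv => (mem_set_normalizer_iff.1 hg v).1 hv, fun hh => ?_⟩
  refine mem_normalizer_iff_map_conj_eq.2 (eq_of_le_of_card_ge ?_
    (le_of_eq (card_map_of_injective (MulEquiv.injective _)).symm))
  rintro _ ⟨v, hv, rfl⟩
  exact hh v hv

theorem card_sub {V N : List Q4} (h : Row V N) : Nat.card (sub h) = V.length :=
  card_enc V h.1 h.2.2.2.1 (fun g => g ∈ sub h) fun g => Iff.rfl

theorem card_normalizer_sub {V N : List Q4} (h : Row V N) :
    Nat.card (normalizer (sub h : Set T)) = N.length :=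
  card_enc N h.2.1 (fun x hx => (h.2.2.2.2.2.1 x hx).1) (fun g => g ∈ normalizer (sub h : Set T))
    fun g => mem_normalizer_sub h

/-- conjugates of a subgroup of maximal `p`-power order -/
theorem conj_of_card {p k : ℕ} [Fact p.Prime] {A B : Subgroup T} (hA : Nat.card A = p ^ k)
    (hB : Nat.card B = p ^ k) (hk : (2184 : ℕ).factorization p = k) :
    ∃ g : T, A.map (MulAut.conj g).toMonoidHom = B := by
  have hsy : ∀ S : Sylow p T, Nat.card S = p ^ k := fun S => by rw [S.card_eq_multiplicity, card_T, hk]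
  obtain ⟨SA, hSA⟩ := (IsPGroup.of_card hA).exists_le_sylow
  obtain ⟨SB, hSB⟩ := (IsPGroup.of_card hB).exists_le_sylow
  have eA : A = SA := eq_of_le_of_card_ge hSA (by rw [hA, hsy])
  have eB : B = SB := eq_of_le_of_card_ge hSB (by rw [hB, hsy])
  obtain ⟨g, hg⟩ := MulAction.exists_smul_eq T SA SB
  refine ⟨g, ?_⟩
  rw [eA, eB, ← hg]
  rfl

theorem card_normalizer_map (A : Subgroup T) (g : T) :
    Nat.card (normalizer ((A.map (MulAut.conj g).toMonoidHom : Subgroup T) : Set T)) =
      Nat.card (normalizer (A : Set T)) := by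
  rw [← map_equiv_normalizer_eq, card_map_of_injective (MulEquiv.injective _)]

/-- the conclusion for a subgroup -/
def Good (L : Subgroup T) : Prop :=
  ∃ V : Subgroup T, (Nat.card (normalizer (V : Set T)) = 156 ∨ Nat.card (normalizer (V : Set T)) = 28 ∨
    Nat.card (normalizer (V : Set T)) = 24) ∧ L ≤ normalizer (V : Set T) ∧
    normalizer (V : Set T) ≤ normalizer (L : Set T)

theorem Good.map {L : Subgroup T} (hL : Good L) (g : T) : Good (L.map (MulAut.conj g).toMonoidHom) := by
  obtain ⟨V, hV, h1, h2⟩ := hL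
  refine ⟨V.map (MulAut.conj g).toMonoidHom, by rwa [card_normalizer_map], ?_, ?_⟩
  · exact (map_mono h1).trans (le_normalizer_map _)
  · rw [← map_equiv_normalizer_eq, ← map_equiv_normalizer_eq]
    exact map_mono h2

theorem good_of_row {V N : List Q4} (h : Row V N) (hN : N.length = 156 ∨ N.length = 28 ∨ N.length = 24)
    (hc : ∀ x ∈ N, ∀ y ∈ N, comm4 V x y = true) {L : Subgroup T} (hVL : sub h ≤ L)
    (hL : L ≤ normalizer (sub h : Set T)) : Good L := by
  refine ⟨sub h, by rwa [card_normalizer_sub], hL, fun y hy => ?_⟩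
  refine mem_normalizer_iff_map_conj_eq.2 (eq_of_le_of_card_ge ?_
    (le_of_eq (card_map_of_injective (MulEquiv.injective _)).symm))
  rintro _ ⟨x, hx, rfl⟩
  show y * x * y⁻¹ ∈ L
  have hc' := hc _ ((mem_normalizer_sub h).1 (hL hx)) _ ((mem_normalizer_sub h).1 hy)
  simp only [comm4, Bool.or_eq_true, List.contains_iff_mem] at hc'
  rcases hc' with e | e
  · have e' : y * x * y⁻¹ * x⁻¹ ∈ sub h := by rwa [mem_sub, enc_mul, enc_conj, enc_inv]
    simpa using mul_mem (hVL e') hx
  · have e' : y * x * y⁻¹ * x ∈ sub h := by rwa [mem_sub, enc_mul, enc_conj]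
    simpa using mul_mem (hVL e') (inv_mem hx)

theorem map_conj_inv (L : Subgroup T) (g : T) :
    (L.map (MulAut.conj g).toMonoidHom).map (MulAut.conj g⁻¹).toMonoidHom = L := by
  rw [Subgroup.map_map, show ((MulAut.conj g⁻¹).toMonoidHom.comp (MulAut.conj g).toMonoidHom) = MonoidHom.id T from
    MonoidHom.ext fun x => by simp [mul_assoc], Subgroup.map_id]

theorem good_of_conj {L : Subgroup T} (g : T) (h : Good (L.map (MulAut.conj g).toMonoidHom)) : Good L := by
  have := h.map g⁻¹
  rwa [map_conj_inv] at this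

theorem good_of_normal {V N : List Q4} (h : Row V N) (hN : N.length = 156 ∨ N.length = 28 ∨ N.length = 24)
    (hc : ∀ x ∈ N, ∀ y ∈ N, comm4 V x y = true) {p k : ℕ} [Fact p.Prime] (hV : V.length = p ^ k)
    (hk : (2184 : ℕ).factorization p = k) {L P : Subgroup T} (hP : Nat.card P = p ^ k) (hPL : P ≤ L)
    (hLP : L ≤ normalizer (P : Set T)) : Good L := by
  obtain ⟨g, hg⟩ := conj_of_card hP ((card_sub h).trans hV) hk
  refine good_of_conj g (good_of_row h hN hc (hg ▸ map_mono hPL) ?_)
  rw [← hg]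
  exact (map_mono hLP).trans (le_normalizer_map _)

/-- elements of order two are central -/
theorem center_eq {z : T} (hz : z * z = 1) : z = 1 ∨ enc z = (12, 0, 0, 12) := by
  rcases els_invol _ (enc_mem z) (by rw [← enc_mul, hz, enc_one]) with h | h
  · exact Or.inl (enc_inj (h.trans enc_one.symm))
  · exact Or.inr h

/-- a subgroup of order divisible by 13 normalizes its Sylow or is everything -/
theorem eq_top_or_le {L : Subgroup T} (hle : sub row_thirteen ≤ L) :
    L = ⊤ ∨ L ≤ normalizer (sub row_thirteen : Set T) := by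
  by_cases h : ∀ g ∈ L, (enc g).2.2.1 = 0
  · exact Or.inr fun g hg => (mem_normalizer_sub _).2
      (row_thirteen.2.2.2.2.2.2 _ (enc_mem g) (els_lower _ (enc_mem g) (h g hg)))
  push Not at h
  obtain ⟨h0, hh0, hc0⟩ := h
  refine Or.inl (eq_top_iff.2 fun g _ => ?_)
  have hu : ∀ u : T, (∃ t < 13, enc u = (1, t, 0, 1)) → u ∈ L := fun u ⟨t, ht, e⟩ => by
    refine hle ?_
    rw [mem_sub, e]
    have key : ∀ t < 13, ((1, t, 0, 1) : Q4) ∈ vThirteen := by decide +kernel
    exact key t ht
  have hstep : ∀ x : T, (enc x).2.2.1 ≠ 0 → ∃ u l u' : T, x = u * l * u' ∧ u ∈ L ∧ u' ∈ L ∧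
      enc l = (1, 0, (enc x).2.2.1, 1) := by
    intro x hx
    have h13 : (enc x).2.2.1 < 13 := ZMod.val_lt (x.1 1 0)
    have hm : ∀ t, t < 13 → ((1, t, 0, 1) : Q4) ∈ els ∧ ((1, 0, t, 1) : Q4) ∈ els := by decide +kernel
    obtain ⟨u, hu'⟩ := exists_enc (hm (((enc x).1 + 12) * ((enc x).2.2.1 ^ 11) % 13) (Nat.mod_lt _ (by norm_num))).1
    obtain ⟨l, hl⟩ := exists_enc (hm (enc x).2.2.1 h13).2
    obtain ⟨v, hv⟩ := exists_enc (hm (((enc x).2.2.2 + 12) * ((enc x).2.2.1 ^ 11) % 13) (Nat.mod_lt _ (by norm_num))).1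
    refine ⟨u, l, v, enc_inj ?_, hu u ⟨_, Nat.mod_lt _ (by norm_num), hu'⟩,
      hu v ⟨_, Nat.mod_lt _ (by norm_num), hv⟩, hl⟩
    rw [enc_mul, enc_mul, hu', hl, hv]
    exact (els_bruhat _ (enc_mem x) hx).symm
  have hl : ∀ l : T, (∃ t < 13, enc l = (1, 0, t, 1)) → l ∈ L := by
    obtain ⟨u, l, v, e, huL, hvL, hl⟩ := hstep h0 hc0
    have hlL : l ∈ L := by
      have : l = u⁻¹ * h0 * v⁻¹ := by rw [e]; group
      rw [this]
      exact mul_mem (mul_mem (inv_mem huL) hh0) (inv_mem hvL)
    have hpow : ∀ k : ℕ, enc (l ^ k) = (1, 0, (k * (enc h0).2.2.1) % 13, 1) := by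
      intro k
      induction k with
      | zero => rw [pow_zero, enc_one, Nat.zero_mul]; rfl
      | succ k ih =>
        rw [pow_succ, enc_mul, ih, hl]
        simp [mul4, Nat.succ_mul, Nat.add_mod]
    rintro l' ⟨t, ht, hl'⟩
    have key : ∀ c < 13, c ≠ 0 → ∀ t < 13, ∃ k < 13, k * c % 13 = t := by decide +kernel
    obtain ⟨k, -, hk⟩ := key _ (ZMod.val_lt (h0.1 1 0)) hc0 t ht
    rw [show l' = l ^ k from enc_inj (by
      rw [hl', hpow, show (enc h0).2.2.1 = (h0.1 1 0).val from rfl, hk])]
    exact pow_mem hlL k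
  have hgen : ∀ x : T, (enc x).2.2.1 ≠ 0 → x ∈ L := by
    intro x hx
    obtain ⟨u, l, v, rfl, huL, hvL, hle'⟩ := hstep x hx
    exact mul_mem (mul_mem huL (hl l ⟨_, ZMod.val_lt _, hle'⟩)) hvL
  by_cases hg : (enc g).2.2.1 = 0
  · obtain ⟨l, hl1⟩ := exists_enc (show ((1, 0, 1, 1) : Q4) ∈ els by decide +kernel)
    have hlL : l ∈ L := hl l ⟨1, by norm_num, hl1⟩
    have key : ∀ x ∈ els, x.2.2.1 = 0 → (mul4 x (1, 0, 1, 1)).2.2.1 ≠ 0 := by decide +kernel
    have h1 : g * l ∈ L := hgen _ (by rw [enc_mul, hl1]; exact key _ (enc_mem g) hg)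
    simpa using mul_mem h1 (inv_mem hlL)
  · exact hgen g hg

/-- subgroups containing the centre are good or trivial -/
theorem good_or {z : T} (hz : enc z = (12, 0, 0, 12)) {L : Subgroup T} (hzL : z ∈ L) :
    L = ⊤ ∨ L = zpowers z ∨ Good L := by
  classical
  have hz2 : z * z = 1 := enc_inj (by rw [enc_mul, hz, enc_one]; rfl)
  have hz1 : z ≠ 1 := fun e => by rw [e, enc_one] at hz; exact absurd hz (by decide)
  have hoz : orderOf z = 2 := orderOf_eq_prime (by rw [sq]; exact hz2) hz1
  haveI : Fact (Nat.Prime 7) := ⟨by norm_num⟩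
  have hf13 : (2184 : ℕ).factorization 13 = 1 := by
    rw [Nat.factorization_def _ (by norm_num), show 2184 = 13 * 168 by norm_num, padicValNat.mul (by norm_num) (by norm_num),
      padicValNat.self (by norm_num), padicValNat.eq_zero_of_not_dvd (by norm_num)]
  have hdvd : Nat.card L ∣ 2184 := by
    have := card_subgroup_dvd_card L
    rwa [card_T] at this
  have h2 : 2 ∣ Nat.card L := by
    have := L.orderOf_dvd_natCard hzL
    rwa [hoz] at this
  have sub_of : ∀ r : ℕ, r.Prime → r ∣ Nat.card L → ∃ P : Subgroup T, Nat.card P = r ∧ P ≤ L := by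
    intro r hr hd
    haveI := Fact.mk hr
    obtain ⟨x, hx⟩ := exists_prime_orderOf_dvd_card' r hd
    exact ⟨zpowers (x : T), by rw [Nat.card_zpowers, Subgroup.orderOf_coe, hx], zpowers_le.2 x.2⟩
  by_cases h13 : 13 ∣ Nat.card L
  · obtain ⟨P, hP, hPL⟩ := sub_of 13 (by norm_num) h13
    obtain ⟨g, hg⟩ := conj_of_card (p := 13) (k := 1) (A := P) (B := sub row_thirteen) (by rw [hP, pow_one])
      (by rw [card_sub row_thirteen]; rfl) hf13
    have hle' : sub row_thirteen ≤ L.map (MulAut.conj g).toMonoidHom := by rw [← hg]; exact map_mono hPL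
    rcases eq_top_or_le hle' with h | h
    · left
      have := congrArg (fun M : Subgroup T => M.map (MulAut.conj g⁻¹).toMonoidHom) h
      simp only [map_conj_inv] at this
      rw [this, map_top_of_surjective _ (MulEquiv.surjective _)]
    · right; right
      exact good_of_conj g (good_of_row row_thirteen (Or.inl (by decide +kernel)) comm_thirteen
        hle' h)
  right
  -- a Sylow count inside `L`
  have hcount : ∀ r : ℕ, ∀ [Fact r.Prime], r ∣ Nat.card L → (2184 : ℕ).factorization r = 1 → r ≠ 2 →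
      ∃ P : Subgroup T, Nat.card P = r ∧ P ≤ L ∧
        (L ≤ normalizer (P : Set T) ∨ ∃ n, n ≠ 1 ∧ n % r = 1 ∧ n * (2 * r) ∣ Nat.card L) := by
    intro r _ hd hf hr2
    obtain ⟨S⟩ : Nonempty (Sylow r L) := inferInstance
    have hS : Nat.card S = r := by
      rw [S.card_eq_multiplicity]
      have hle : (Nat.card L).factorization r ≤ 1 := hf ▸
        (Nat.factorization_le_iff_dvd Nat.card_pos.ne' (by norm_num)).2 hdvd r
      have hge : 1 ≤ (Nat.card L).factorization r := ((Fact.out : r.Prime).dvd_iff_one_le_factorization Nat.card_pos.ne').1 hd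
      rw [le_antisymm hle hge, pow_one]
    refine ⟨(S : Subgroup L).map L.subtype, by rw [card_map_of_injective L.subtype_injective]; exact hS,
      map_subtype_le _, ?_⟩
    set n := Nat.card (Sylow r L) with hn
    by_cases h1 : n = 1
    · left
      haveI := (Nat.card_eq_one_iff_unique.1 h1).1
      haveI : (S : Subgroup L).Normal := Sylow.normal_of_subsingleton _
      intro x hx
      refine mem_normalizer_iff_map_conj_eq.2 (eq_of_le_of_card_ge ?_
        (le_of_eq (card_map_of_injective (MulEquiv.injective _)).symm))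
      rintro _ ⟨_, ⟨y, hy, rfl⟩, rfl⟩
      exact ⟨_, (inferInstance : (S : Subgroup L).Normal).conj_mem y hy ⟨x, hx⟩, rfl⟩
    · refine Or.inr ⟨n, h1, ?_, ?_⟩
      · have := card_sylow_modEq_one r L
        rw [Nat.ModEq, Nat.one_mod_eq_one.2 (Fact.out : r.Prime).ne_one] at this
        exact this
      · rw [hn, S.card_eq_index_normalizer, ← (normalizer ((S : Subgroup L) : Set L)).index_mul_card]
        refine mul_dvd_mul_left _ (Nat.Coprime.mul_dvd_of_dvd_of_dvd ?_ ?_ ?_)
        · exact (Nat.coprime_primes Nat.prime_two Fact.out).2 (Ne.symm hr2)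
        · have hzN : (⟨z, hzL⟩ : L) ∈ normalizer ((S : Subgroup L) : Set L) := by
            have hc : ∀ g : T, g * z = z * g := fun g => enc_inj (by
              rw [enc_mul, enc_mul, hz]
              have key : ∀ x ∈ els, mul4 x (12, 0, 0, 12) = mul4 (12, 0, 0, 12) x := by decide +kernel
              exact key _ (enc_mem g))
            refine centralizer_le_normalizer _ (mem_centralizer_iff.2 fun y _ => Subtype.ext (hc y))
          have := (normalizer ((S : Subgroup L) : Set L)).orderOf_dvd_natCard hzN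
          rwa [← Subgroup.orderOf_coe, hoz] at this
        · have := card_dvd_of_le (le_normalizer (H := (S : Subgroup L)))
          rwa [hS] at this
  have hdiv : ∀ c, c ∣ 2184 → ¬ 13 ∣ c → c ∣ 168 := fun c hc hn =>
    ((Nat.Prime.coprime_iff_not_dvd (by norm_num : Nat.Prime 13)).2 hn).symm.dvd_of_dvd_mul_left
      (show c ∣ 13 * 168 by simpa using hc)
  by_cases h7 : 7 ∣ Nat.card L
  · obtain ⟨P, hP, hPL, hN⟩ := hcount 7 h7 (by
      rw [Nat.factorization_def _ (by norm_num), show 2184 = 7 * 312 by norm_num, padicValNat.mul (by norm_num) (by norm_num),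
        padicValNat.self (by norm_num), padicValNat.eq_zero_of_not_dvd (by norm_num)]) (by norm_num)
    rcases hN with h | ⟨n, hn1, hn7, hnd⟩
    · exact Or.inr (good_of_normal row_seven (Or.inr (Or.inl (by decide +kernel))) comm_seven (p := 7) (k := 1) rfl
        (by rw [Nat.factorization_def _ (by norm_num), show 2184 = 7 * 312 by norm_num, padicValNat.mul (by norm_num) (by norm_num),
          padicValNat.self (by norm_num), padicValNat.eq_zero_of_not_dvd (by norm_num)]) (by rw [hP, pow_one]) hPL h)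
    · exfalso
      have h12 : n ∣ 12 := (Nat.mul_dvd_mul_iff_right (by norm_num : 0 < 14)).1
        (show n * 14 ∣ 12 * 14 from hnd.trans (hdiv _ hdvd h13))
      have key : ∀ n < 13, n ∣ 12 → n % 7 = 1 → n = 1 := by decide
      exact hn1 (key n (Nat.lt_succ_of_le (Nat.le_of_dvd (by norm_num) h12)) h12 hn7)
  have h24 : Nat.card L ∣ 24 :=
    ((Nat.Prime.coprime_iff_not_dvd (by norm_num : Nat.Prime 7)).2 h7).symm.dvd_of_dvd_mul_left
      (show Nat.card L ∣ 7 * 24 by simpa using hdiv _ hdvd h13)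
  haveI : Fact (Nat.Prime 3) := ⟨by norm_num⟩
  have hf3 : (2184 : ℕ).factorization 3 = 1 := by
    rw [Nat.factorization_def _ (by norm_num), show 2184 = 3 * 728 by norm_num, padicValNat.mul (by norm_num) (by norm_num),
      padicValNat.self (by norm_num), padicValNat.eq_zero_of_not_dvd (by norm_num)]
  have hf2 : (2184 : ℕ).factorization 2 = 3 := by
    rw [Nat.factorization_def _ Nat.prime_two, show 2184 = 2 ^ 3 * 273 by norm_num, padicValNat.mul (by norm_num) (by norm_num),
      padicValNat.prime_pow, padicValNat.eq_zero_of_not_dvd (by norm_num)]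
  by_cases h3 : 3 ∣ Nat.card L
  · obtain ⟨P, hP, hPL, hN⟩ := hcount 3 h3 hf3 (by norm_num)
    rcases hN with h | ⟨n, hn1, hn3, hnd⟩
    · exact Or.inr (good_of_normal row_three (Or.inr (Or.inr (by decide +kernel))) comm_three (p := 3) (k := 1) rfl
        hf3 (by rw [hP, pow_one]) hPL h)
    have h4 : n ∣ 4 := (Nat.mul_dvd_mul_iff_right (by norm_num : 0 < 6)).1
      (show n * 6 ∣ 4 * 6 from hnd.trans h24)
    have key : ∀ n < 5, n ∣ 4 → n % 3 = 1 → n = 1 ∨ n = 4 := by decide
    have hn4 : n = 4 := (key n (Nat.lt_succ_of_le (Nat.le_of_dvd (by norm_num) h4)) h4 hn3).resolve_left hn1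
    have hc24 : Nat.card L = 24 := Nat.dvd_antisymm h24 (by rw [hn4] at hnd; exact hnd)
    -- a Sylow 2-subgroup of a group of order 24
    obtain ⟨Q, hQ⟩ := Sylow.exists_subgroup_card_pow_prime (G := L) 2 (n := 3) (by rw [hc24]; norm_num)
    set Q' := Q.map L.subtype with hQ'
    have hQc : Nat.card Q' = 2 ^ 3 := by rw [hQ', card_map_of_injective L.subtype_injective, hQ]
    obtain ⟨g, hg⟩ := conj_of_card hQc (show Nat.card (sub row_quat) = 2 ^ 3 by rw [card_sub]; rfl) hf2
    refine Or.inr (good_of_conj g ?_)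
    set L' := L.map (MulAut.conj g).toMonoidHom with hL'
    have hQL : sub row_quat ≤ L' := hg ▸ map_mono (map_subtype_le Q)
    have hL'c : Nat.card L' = 24 := by rw [hL', card_map_of_injective (MulEquiv.injective _), hc24]
    obtain ⟨x, hx⟩ := exists_prime_orderOf_dvd_card' (G := L') 3 (by rw [hL'c]; norm_num)
    have hxo : orderOf (x : T) = 3 := by rw [Subgroup.orderOf_coe, hx]
    have hx3 : (x : T) ^ 3 = 1 := hxo ▸ pow_orderOf_eq_one _
    have hnm : ∀ j : ℕ, 1 ≤ j → j < 3 → (x : T) ^ j ∉ sub row_quat := by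
      intro j hj1 hj2 hm
      have h8 := (sub row_quat).orderOf_dvd_natCard hm
      rw [card_sub, (show Nat.Coprime (orderOf (x : T)) j by
        rw [hxo]; exact (Nat.Prime.coprime_iff_not_dvd (by norm_num : Nat.Prime 3)).2 (fun h => by
          have := Nat.le_of_dvd hj1 h
          omega)).orderOf_pow, hxo] at h8
      exact absurd h8 (by decide +kernel)
    -- `L'` is the union of three cosets
    let f : sub row_quat × Fin 3 → L' := fun p => ⟨(p.1 : T) * (x : T) ^ (p.2 : ℕ), mul_mem (hQL p.1.2) (pow_mem x.2 _)⟩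
    have hinj : Function.Injective f := by
      rintro ⟨a, i⟩ ⟨b, j⟩ e
      have e' : (a : T) * (x : T) ^ (i : ℕ) = (b : T) * (x : T) ^ (j : ℕ) := congrArg Subtype.val e
      have hij : i = j := by
        by_contra hne
        rcases lt_or_gt_of_ne (fun h => hne (Fin.ext h) : (i : ℕ) ≠ j) with hlt | hlt
        · refine hnm ((j : ℕ) - i) (by omega) (by have := j.2; omega) ?_
          have : (x : T) ^ ((j : ℕ) - i) = (b : T)⁻¹ * a := by
            rw [pow_sub _ hlt.le, eq_inv_mul_iff_mul_eq, ← mul_assoc, ← e', mul_inv_cancel_right]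
          rw [this]; exact mul_mem (inv_mem b.2) a.2
        · refine hnm ((i : ℕ) - j) (by omega) (by have := i.2; omega) ?_
          have : (x : T) ^ ((i : ℕ) - j) = (a : T)⁻¹ * b := by
            rw [pow_sub _ hlt.le, eq_inv_mul_iff_mul_eq, ← mul_assoc, e', mul_inv_cancel_right]
          rw [this]; exact mul_mem (inv_mem a.2) b.2
      subst hij
      exact Prod.ext (Subtype.ext (mul_right_cancel e')) rfl
    have hsurj : Function.Surjective f := by
      refine ((Nat.bijective_iff_injective_and_card f).2 ⟨hinj, ?_⟩).2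
      rw [Nat.card_prod, Nat.card_fin, card_sub, hL'c]; rfl
    have hmem : ∀ q ∈ vQuat, mul4 (enc x) q ∈
        vQuat.flatMap (fun r => [r, mul4 r (enc x), mul4 r (mul4 (enc x) (enc x))]) := by
      intro q hq
      obtain ⟨q', rfl⟩ := exists_enc (row_quat.2.2.2.1 q hq)
      obtain ⟨⟨a, i⟩, hai⟩ := hsurj ⟨(x : T) * q', mul_mem x.2 (hQL hq)⟩
      have e := congrArg Subtype.val hai
      simp only [f] at e
      rw [← enc_mul (x : T) q', ← e, List.mem_flatMap]
      refine ⟨enc a, a.2, ?_⟩
      fin_cases i <;> simp [enc_mul, pow_two]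
    have hcube : mul4 (enc x) (mul4 (enc x) (enc x)) = one4 := by
      rw [← enc_mul, ← enc_mul, ← enc_one, ← hx3, pow_succ', pow_two]
    rcases quat_ext _ (enc_mem x) hcube hmem with h | h
    · refine good_of_row row_quat (Or.inr (Or.inr (by decide +kernel))) comm_quat hQL ?_
      intro y hy
      obtain ⟨⟨a, i⟩, hai⟩ := hsurj ⟨y, hy⟩
      rw [← show (a : T) * (x : T) ^ (i : ℕ) = y from congrArg Subtype.val hai]
      exact mul_mem (le_normalizer a.2)
        (pow_mem ((mem_normalizer_sub _).2 (row_quat.2.2.2.2.2.2 _ (enc_mem x) h)) _)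
    · refine good_of_normal row_three (Or.inr (Or.inr (by decide +kernel))) comm_three (p := 3) (k := 1) rfl hf3
        (P := zpowers (x : T)) (by rw [Nat.card_zpowers, hxo, pow_one]) (zpowers_le.2 x.2) ?_
      have hpow : ∀ y : T, enc y ∈ [one4, enc (x : T), mul4 (enc (x : T)) (enc (x : T))] → y ∈ zpowers (x : T) := by
        intro y hy
        simp only [List.mem_cons, List.not_mem_nil, or_false] at hy
        rcases hy with e | e | e
        · rw [enc_inj (e.trans enc_one.symm)]; exact one_mem _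
        · rw [enc_inj e]; exact mem_zpowers _
        · rw [← enc_mul] at e; rw [enc_inj e]; exact mul_mem (mem_zpowers _) (mem_zpowers _)
      intro y hy
      obtain ⟨⟨a, i⟩, hai⟩ := hsurj ⟨y, hy⟩
      rw [← show (a : T) * (x : T) ^ (i : ℕ) = y from congrArg Subtype.val hai]
      refine mul_mem ?_ (le_normalizer (pow_mem (mem_zpowers _) _))
      refine mem_normalizer_iff_map_conj_eq.2 (eq_of_le_of_card_ge ?_
        (le_of_eq (card_map_of_injective (MulEquiv.injective _)).symm))
      rw [MonoidHom.map_zpowers]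
      refine zpowers_le.2 (hpow _ ?_)
      show enc ((a : T) * x * (a : T)⁻¹) ∈ _
      rw [enc_conj]
      exact h _ a.2
  have h8 : Nat.card L ∣ 8 :=
    ((Nat.Prime.coprime_iff_not_dvd (by norm_num : Nat.Prime 3)).2 h3).symm.dvd_of_dvd_mul_left
      (show Nat.card L ∣ 3 * 8 by simpa using h24)
  obtain ⟨k, hk, hck⟩ := (Nat.dvd_prime_pow Nat.prime_two).1 (show Nat.card L ∣ 2 ^ 3 by simpa using h8)
  interval_cases k
  · rw [hck] at h2; norm_num at h2
  · exact Or.inl (eq_of_le_of_card_ge (zpowers_le.2 hzL) (by rw [Nat.card_zpowers, hoz, hck]; norm_num)).symm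
  · obtain ⟨S, hS, hLS⟩ := Sylow.exists_subgroup_card_pow_prime_le 2 (n := 2) (m := 3) (G := T)
      (by rw [card_T]; norm_num) L hck (by norm_num)
    obtain ⟨g, hg⟩ := conj_of_card hS (show Nat.card (sub row_quat) = 2 ^ 3 by rw [card_sub]; rfl) hf2
    refine Or.inr (good_of_conj g ?_)
    set L' := L.map (MulAut.conj g).toMonoidHom with hL'
    have hL'Q : L' ≤ sub row_quat := hg ▸ map_mono hLS
    have hL'c : Nat.card L' = 4 := by rw [hL', card_map_of_injective (MulEquiv.injective _), hck]; norm_num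
    obtain ⟨x, hx⟩ : ∃ x : L', (x : T) * x ≠ 1 := by
      by_contra hall
      push Not at hall
      have hle : L' ≤ zpowers z := fun y hy => by
        rcases center_eq (hall ⟨y, hy⟩) with e | e
        · have e' : y = 1 := e
          rw [e']; exact one_mem _
        · have e' : y = z := enc_inj (e.trans hz.symm)
          rw [e']; exact mem_zpowers z
      have := card_le_of_le hle
      rw [hL'c, Nat.card_zpowers, hoz] at this
      omega
    obtain ⟨n, hn, hnx, hn2⟩ := quat_four _ (hL'Q x.2) (fun e => hx (enc_inj (by rw [enc_mul, e, enc_one])))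
    obtain ⟨n', hn'⟩ := exists_enc ((row_quat.2.2.2.2.2.1 n hn).1)
    refine good_of_conj n' ?_
    have hmem : n' * (x : T) * n'⁻¹ ∈ sub row_four := by rw [mem_sub, enc_conj, hn']; exact hnx
    have h4 : orderOf (n' * (x : T) * n'⁻¹) = 4 := by
      refine orderOf_eq_prime_pow (p := 2) (n := 1) (fun e => hn2 ?_) ?_
      · have := congrArg enc e
        rw [pow_one, pow_two, enc_mul, enc_one, enc_conj, hn'] at this
        exact this
      · have h := (sub row_four).orderOf_dvd_natCard hmem
        rw [card_sub] at h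
        exact orderOf_dvd_iff_pow_eq_one.1 (h.trans (by decide +kernel))
    have e : L'.map (MulAut.conj n').toMonoidHom = sub row_four := by
      have e1 : zpowers (n' * (x : T) * n'⁻¹) = L'.map (MulAut.conj n').toMonoidHom :=
        eq_of_le_of_card_ge (zpowers_le.2 ⟨x, x.2, rfl⟩)
          (by rw [card_map_of_injective (MulEquiv.injective _), hL'c, Nat.card_zpowers, h4])
      have e2 : zpowers (n' * (x : T) * n'⁻¹) = sub row_four :=
        eq_of_le_of_card_ge (zpowers_le.2 hmem) (by rw [card_sub, Nat.card_zpowers, h4]; decide +kernel)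
      rw [← e1, e2]
    rw [e]
    exact ⟨sub row_four, Or.inr (Or.inr (by rw [card_normalizer_sub]; decide +kernel)), le_normalizer, le_rfl⟩
  · obtain ⟨g, hg⟩ := conj_of_card hck (show Nat.card (sub row_quat) = 2 ^ 3 by rw [card_sub]; rfl) hf2
    exact Or.inr (good_of_normal row_quat (Or.inr (Or.inr (by decide +kernel))) comm_quat (p := 2) (k := 3) rfl hf2 hck le_rfl
      le_normalizer)

/-- every non-normal subgroup of `SL(2, 13)` has a maximal normalizer -/
theorem isCoatom_normalizer {H : Subgroup T} (hH : ¬ H.Normal) : IsCoatom (normalizer (H : Set T)) := by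
  obtain ⟨z, hz⟩ := exists_enc (show ((12, 0, 0, 12) : Q4) ∈ els by decide +kernel)
  have hz2 : z * z = 1 := enc_inj (by rw [enc_mul, hz, enc_one]; rfl)
  have hc : ∀ g : T, g * z = z * g := fun g => enc_inj (by
    rw [enc_mul, enc_mul, hz]
    have key : ∀ x ∈ els, mul4 x (12, 0, 0, 12) = mul4 (12, 0, 0, 12) x := by decide +kernel
    exact key _ (enc_mem g))
  have hzz : ∀ y ∈ zpowers z, y = 1 ∨ y = z := by
    intro y hy
    obtain ⟨k, rfl⟩ := mem_zpowers_iff.1 hy
    rcases Int.even_or_odd k with ⟨m, rfl⟩ | ⟨m, rfl⟩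
    · left; rw [← two_mul, _root_.zpow_mul, show z ^ (2 : ℤ) = 1 by rw [zpow_two]; exact hz2, _root_.one_zpow]
    · right
      rw [_root_.zpow_add_one, _root_.zpow_mul, show z ^ (2 : ℤ) = 1 by rw [zpow_two]; exact hz2, _root_.one_zpow, one_mul]
  haveI hZn : (zpowers z).Normal := ⟨fun y hy g => by
    rcases hzz y hy with rfl | rfl
    · simp
    · rw [hc g, mul_inv_cancel_right]; exact mem_zpowers _⟩
  set L := H ⊔ zpowers z with hL
  have hzL : z ∈ L := mem_sup_right (mem_zpowers z)
  have hsplit : ∀ y ∈ L, y ∈ H ∨ y * z ∈ H := by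
    intro y hy
    obtain ⟨a, ha, b, hb, rfl⟩ := mem_sup_of_normal_right.1 hy
    rcases hzz b hb with rfl | rfl
    · left; simpa using ha
    · right; rwa [mul_assoc, hz2, mul_one]
  have hodd : z ∉ H → ∀ y ∈ H, Odd (orderOf y) := by
    intro hzH y hy
    by_contra hev
    obtain ⟨j, hj⟩ := Nat.not_odd_iff_even.1 hev
    have h1 : y ^ j * y ^ j = 1 := by rw [← pow_add, ← hj, pow_orderOf_eq_one]
    rcases center_eq h1 with e | e
    · exact absurd (orderOf_dvd_of_pow_eq_one e) (fun hd => by
        have := orderOf_pos y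
        have := Nat.le_of_dvd (by omega) hd
        omega)
    · exact hzH (enc_inj (e.trans hz.symm) ▸ pow_mem hy j)
  have hstab : normalizer (L : Set T) ≤ normalizer (H : Set T) := by
    intro g hg
    refine mem_normalizer_iff_map_conj_eq.2 (eq_of_le_of_card_ge ?_
      (le_of_eq (card_map_of_injective (MulEquiv.injective _)).symm))
    rintro _ ⟨y, hy, rfl⟩
    show g * y * g⁻¹ ∈ H
    have hyL : g * y * g⁻¹ ∈ L := (mem_set_normalizer_iff.1 hg y).1 (mem_sup_left hy)
    rcases hsplit _ hyL with h | h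
    · exact h
    by_cases hzH : z ∈ H
    · simpa using mul_mem h (inv_mem hzH)
    exfalso
    -- an element of odd order times `z` has even order
    have h1 := hodd hzH _ h
    have h2 : Odd (orderOf (g * y * g⁻¹)) := by
      rw [show g * y * g⁻¹ = MulAut.conj g y from rfl, MulEquiv.orderOf_eq]
      exact hodd hzH _ hy
    set a := g * y * g⁻¹ with ha
    have h3 : (a * z) ^ (orderOf a * orderOf (a * z)) = 1 := by rw [pow_mul', pow_orderOf_eq_one, one_pow]
    rw [(show Commute a z from hc a).mul_pow, pow_mul, pow_orderOf_eq_one, one_pow, one_mul] at h3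
    have hzo : orderOf z = 2 := orderOf_eq_prime (by rw [sq]; exact hz2) (fun e => by
      rw [e, enc_one] at hz; exact absurd hz (by decide))
    have h4 := orderOf_dvd_of_pow_eq_one h3
    rw [hzo, Nat.prime_two.dvd_mul] at h4
    rcases h4 with h4 | h4
    · exact Nat.not_even_iff_odd.2 h2 (even_iff_two_dvd.2 h4)
    · exact Nat.not_even_iff_odd.2 h1 (even_iff_two_dvd.2 h4)
  have hne : normalizer (H : Set T) ≠ ⊤ := fun e => hH (normalizer_eq_top_iff.1 e)
  have hnorm : ∀ Y : Subgroup T, z ∈ Y → Y ≠ ⊤ → Y = zpowers z ∨ Good Y := fun Y hY hYt =>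
    (good_or hz hY).resolve_left hYt
  rcases good_or hz hzL with e | e | e
  · exact absurd (top_le_iff.1 ((le_normalizer (H := L)).trans hstab |>.trans' e.ge)) hne
  · haveI : L.Normal := e ▸ hZn
    exact absurd (top_le_iff.1 ((normalizer_eq_top_iff.2 ‹L.Normal›).ge.trans hstab)) hne
  obtain ⟨V, hV, -, hVL⟩ := e
  refine ⟨hne, fun Y hY => ?_⟩
  by_contra hYt
  have hzN : z ∈ normalizer (H : Set T) := mem_normalizer_iff_map_conj_eq.2 (by
    ext y
    constructor
    · rintro ⟨x, hx, rfl⟩
      show z * x * z⁻¹ ∈ H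
      rwa [← hc x, mul_inv_cancel_right]
    · intro hy
      exact ⟨y, hy, show z * y * z⁻¹ = y by rw [← hc y, mul_inv_cancel_right]⟩)
  have hVY : normalizer (V : Set T) < Y := (hVL.trans hstab).trans_lt hY
  rcases hnorm Y (hY.le hzN) hYt with e | ⟨W, hW, hYW, -⟩
  · have h1 := card_le_of_le hVY.le
    have hzo : orderOf z = 2 := orderOf_eq_prime (by rw [sq]; exact hz2) (fun e => by
      rw [e, enc_one] at hz; exact absurd hz (by decide))
    rw [e, Nat.card_zpowers, hzo] at h1
    omega
  · have h1 := card_dvd_of_le (hVY.le.trans hYW)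
    have h2 : normalizer (V : Set T) = normalizer (W : Set T) := eq_of_le_of_card_ge (hVY.le.trans hYW) (by
      rcases hV with h | h | h <;> rcases hW with h' | h' | h' <;> rw [h, h'] at h1 ⊢ <;> revert h1 <;> decide)
    exact (hYW.trans h2.ge).not_gt hVY

end CfsgLib.Perm.SLThirteen
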