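import Mathlib

/-!
# Tables for the subgroups of `SL(2, 13)`

Elements are coded by quadruples of entries; the five lists are the subgroups of order `13`, `7`, `3`, a
quaternion group and a cyclic subgroup of order four, with the lists of their normalizers.
-/

set_option autoImplicit false
set_option linter.all false
set_option maxRecDepth 100000

namespace CfsgLib.Perm.SLThirteen

open Matrix

abbrev T := Matrix.SpecialLinearGroup (Fin 2) (ZMod 13)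

abbrev Q4 := ℕ × ℕ × ℕ × ℕ

/-- the coded product -/
def mul4 : Q4 → Q4 → Q4
  | (a, b, c, d), (e, f, g, h) =>
    ((a * e + b * g) % 13, (a * f + b * h) % 13, (c * e + d * g) % 13, (c * f + d * h) % 13)

/-- the coded inverse -/
def inv4 : Q4 → Q4
  | (a, b, c, d) => (d % 13, (13 - b % 13) % 13, (13 - c % 13) % 13, a % 13)

def one4 : Q4 := (1, 0, 0, 1)

def pred4 : Q4 → Bool
  | (a, b, c, d) => (a * d + 12 * (b * c)) % 13 == 1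

/-- all coded elements -/
def els : List Q4 :=
  (List.range 13).flatMap fun a => (List.range 13).flatMap fun b => (List.range 13).flatMap fun c =>
    (List.range 13).filterMap fun d => if pred4 (a, b, c, d) then some (a, b, c, d) else none

def conj4 (x v : Q4) : Q4 := mul4 (mul4 x v) (inv4 x)

/-- membership in the normalizer of a coded subgroup -/
def norm4 (V : List Q4) (x : Q4) : Bool := V.all fun v => V.contains (conj4 x v)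

/-- `y` moves `x` into `V x` or `V x⁻¹` -/
def comm4 (V : List Q4) (x y : Q4) : Bool :=
  V.contains (mul4 (conj4 y x) (inv4 x)) || V.contains (mul4 (conj4 y x) x)

def vThirteen : List Q4 := [(1, 0, 0, 1), (1, 1, 0, 1), (1, 2, 0, 1), (1, 3, 0, 1), (1, 4, 0, 1), (1, 5, 0, 1), (1, 6, 0, 1), (1, 7, 0, 1), (1, 8, 0, 1), (1, 9, 0, 1), (1, 10, 0, 1), (1, 11, 0, 1), (1, 12, 0, 1)]

def nThirteen : List Q4 := [(1, 0, 0, 1), (1, 1, 0, 1), (1, 2, 0, 1), (1, 3, 0, 1), (1, 4, 0, 1), (1, 5, 0, 1), (1, 6, 0, 1), (1, 7, 0, 1), (1, 8, 0, 1), (1, 9, 0, 1), (1, 10, 0, 1), (1, 11, 0, 1), (1, 12, 0, 1), (2, 0, 0, 7), (2, 1, 0, 7), (2, 2, 0, 7), (2, 3, 0, 7), (2, 4, 0, 7), (2, 5, 0, 7), (2, 6, 0, 7), (2, 7, 0, 7), (2, 8, 0, 7), (2, 9, 0, 7), (2, 10, 0, 7), (2, 11, 0, 7), (2, 12, 0, 7), (3, 0, 0, 9), (3, 1, 0, 9), (3, 2, 0, 9), (3, 3, 0, 9), (3, 4, 0, 9),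 (3, 5, 0, 9), (3, 6, 0, 9), (3, 7, 0, 9), (3, 8, 0, 9), (3, 9, 0, 9), (3, 10, 0, 9), (3, 11, 0, 9), (3, 12, 0, 9), (4, 0, 0, 10), (4, 1, 0, 10), (4, 2, 0, 10), (4, 3, 0, 10), (4, 4, 0, 10), (4, 5, 0, 10), (4, 6, 0, 10), (4, 7, 0, 10), (4, 8, 0, 10), (4, 9, 0, 10), (4, 10, 0, 10), (4, 11, 0, 10), (4, 12, 0, 10), (5, 0, 0, 8), (5, 1, 0, 8), (5, 2, 0, 8), (5, 3, 0, 8), (5, 4, 0, 8), (5, 5, 0, 8), (5, 6, 0, 8), (5, 7, 0, 8), (5, 8, 0, 8), (5, 9, 0, 8), (5, 10, 0, 8), (5, 11, 0, 8), (5, 12, 0, 8), (6, 0, 0, 11), (6, 1, 0, 11), (6, 2, 0, 11), (6, 3, 0, 11), (6, 4, 0, 11), (6, 5, 0, 11), (6, 6, 0, 11), (6, 7, 0, 11), (6, 8, 0, 11), (6, 9, 0, 11), (6, 10, 0, 11), (6, 11, 0, 11), (6, 12, 0, 11), (7, 0, 0, 2), (7, 1, 0, 2), (7, 2, 0, 2), (7, 3, 0, 2), (7, 4, 0, 2), (7, 5, 0, 2), (7, 6, 0, 2), (7, 7, 0, 2), (7, 8, 0, 2), (7, 9, 0, 2), (7, 10, 0,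 2), (7, 11, 0, 2), (7, 12, 0, 2), (8, 0, 0, 5), (8, 1, 0, 5), (8, 2, 0, 5), (8, 3, 0, 5), (8, 4, 0, 5), (8, 5, 0, 5), (8, 6, 0, 5), (8, 7, 0, 5), (8, 8, 0, 5), (8, 9, 0, 5), (8, 10, 0, 5), (8, 11, 0, 5), (8, 12, 0, 5), (9, 0, 0, 3), (9, 1, 0, 3), (9, 2, 0, 3), (9, 3, 0, 3), (9, 4, 0, 3), (9, 5, 0, 3), (9, 6, 0, 3), (9, 7, 0, 3), (9, 8, 0, 3), (9, 9, 0, 3), (9, 10, 0, 3), (9, 11, 0, 3), (9, 12, 0, 3), (10, 0, 0, 4), (10, 1, 0, 4), (10, 2, 0, 4), (10, 3, 0, 4), (10, 4, 0, 4), (10, 5, 0, 4), (10, 6, 0, 4), (10, 7, 0, 4), (10, 8, 0, 4), (10, 9, 0, 4), (10, 10, 0, 4), (10, 11, 0, 4), (10, 12, 0, 4), (11, 0, 0, 6), (11, 1, 0, 6), (11, 2, 0, 6), (11, 3, 0, 6), (11, 4, 0, 6), (11, 5, 0, 6), (11, 6, 0, 6), (11, 7, 0, 6), (11, 8, 0, 6), (11, 9, 0, 6), (11, 10, 0, 6), (11, 11, 0, 6), (11, 12, 0, 6), (12, 0, 0, 12), (12, 1, 0, 12), (12, 2, 0, 12),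 (12, 3, 0, 12), (12, 4, 0, 12), (12, 5, 0, 12), (12, 6, 0, 12), (12, 7, 0, 12), (12, 8, 0, 12), (12, 9, 0, 12), (12, 10, 0, 12), (12, 11, 0, 12), (12, 12, 0, 12)]

def vSeven : List Q4 := [(1, 0, 0, 1), (0, 1, 12, 7), (12, 7, 6, 9), (6, 9, 4, 4), (4, 4, 9, 6), (9, 6, 7, 12), (7, 12, 1, 0)]

def nSeven : List Q4 := [(0, 1, 12, 7), (0, 5, 5, 0), (0, 8, 8, 0), (0, 12, 1, 6), (1, 0, 0, 1), (1, 6, 7, 4), (4, 4, 9, 6), (4, 5, 7, 9), (4, 6, 8, 9), (4, 7, 6, 1), (5, 0, 9, 8), (5, 4, 0, 8), (6, 1, 12, 0), (6, 4, 7, 7), (6, 6, 9, 7), (6, 9, 4, 4), (7, 4, 9, 9), (7, 7, 4, 6), (7, 9, 6, 6), (7, 12, 1, 0), (8, 0, 4, 5), (8, 9, 0, 5), (9, 6, 7, 12), (9, 7, 5, 4), (9, 8, 6, 4), (9, 9, 4, 7), (12, 0, 0, 12), (12, 7, 6, 9)]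

def vThree : List Q4 := [(1, 0, 0, 1), (3, 0, 0, 9), (9, 0, 0, 3)]

def nThree : List Q4 := [(0, 1, 12, 0), (0, 2, 6, 0), (0, 3, 4, 0), (0, 4, 3, 0), (0, 5, 5, 0), (0, 6, 2, 0), (0, 7, 11, 0), (0, 8, 8, 0), (0, 9, 10, 0), (0, 10, 9, 0), (0, 11, 7, 0), (0, 12, 1, 0), (1, 0, 0, 1), (2, 0, 0, 7), (3, 0, 0, 9), (4, 0, 0, 10), (5, 0, 0, 8), (6, 0, 0, 11), (7, 0, 0, 2), (8, 0, 0, 5), (9, 0, 0, 3), (10, 0, 0, 4), (11, 0, 0, 6), (12, 0, 0, 12)]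

def vQuat : List Q4 := [(1, 0, 0, 1), (5, 0, 0, 8), (0, 1, 12, 0), (12, 0, 0, 12), (0, 5, 5, 0), (0, 8, 8, 0), (8, 0, 0, 5), (0, 12, 1, 0)]

def nQuat : List Q4 := [(0, 1, 12, 0), (0, 5, 5, 0), (0, 8, 8, 0), (0, 12, 1, 0), (1, 0, 0, 1), (2, 2, 3, 10), (2, 3, 2, 10), (2, 10, 11, 10), (2, 11, 10, 10), (3, 2, 3, 11), (3, 3, 2, 11), (3, 10, 11, 11), (3, 11, 10, 11), (5, 0, 0, 8), (8, 0, 0, 5), (10, 2, 3, 2), (10, 3, 2, 2), (10, 10, 11, 2), (10, 11, 10, 2), (11, 2, 3, 3), (11, 3, 2, 3), (11, 10, 11, 3), (11, 11, 10, 3), (12, 0, 0, 12)]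

def vFour : List Q4 := [(1, 0, 0, 1), (5, 0, 0, 8), (12, 0, 0, 12), (8, 0, 0, 5)]

def nFour : List Q4 := [(0, 1, 12, 0), (0, 2, 6, 0), (0, 3, 4, 0), (0, 4, 3, 0), (0, 5, 5, 0), (0, 6, 2, 0), (0, 7, 11, 0), (0, 8, 8, 0), (0, 9, 10, 0), (0, 10, 9, 0), (0, 11, 7, 0), (0, 12, 1, 0), (1, 0, 0, 1), (2, 0, 0, 7), (3, 0, 0, 9), (4, 0, 0, 10), (5, 0, 0, 8), (6, 0, 0, 11), (7, 0, 0, 2), (8, 0, 0, 5), (9, 0, 0, 3), (10, 0, 0, 4), (11, 0, 0, 6), (12, 0, 0, 12)]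

/-- the coded entries -/
def enc (g : T) : Q4 := ((g.1 0 0).val, (g.1 0 1).val, (g.1 1 0).val, (g.1 1 1).val)

theorem enc_inj : Function.Injective enc := by
  intro g h e
  simp only [enc, Prod.mk.injEq] at e
  obtain ⟨h1, h2, h3, h4⟩ := e
  refine Matrix.SpecialLinearGroup.ext g h fun i j => ?_
  fin_cases i <;> fin_cases j <;> exact ZMod.val_injective 13 (by assumption)

theorem enc_one : enc 1 = one4 := by decide

theorem enc_mul (g h : T) : enc (g * h) = mul4 (enc g) (enc h) := by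
  simp [enc, mul4, Matrix.mul_apply, Fin.sum_univ_two, ZMod.val_add, ZMod.val_mul, Nat.add_mod, Nat.mul_mod]

theorem enc_inv (g : T) : enc g⁻¹ = inv4 (enc g) := by
  rw [enc, Matrix.SpecialLinearGroup.coe_inv, Matrix.adjugate_fin_two]
  simp only [inv4, enc]
  have h : ∀ a : ZMod 13, (-a).val = (13 - a.val % 13) % 13 ∧ a.val % 13 = a.val := by decide
  simp [(h _).1, (h _).2]

theorem enc_conj (g h : T) : enc (g * h * g⁻¹) = conj4 (enc g) (enc h) := by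
  rw [enc_mul, enc_mul, enc_inv]; rfl

theorem mem_els {x : Q4} : x ∈ els ↔ x.1 < 13 ∧ x.2.1 < 13 ∧ x.2.2.1 < 13 ∧ x.2.2.2 < 13 ∧ pred4 x = true := by
  obtain ⟨a, b, c, d⟩ := x
  simp only [els, List.mem_flatMap, List.mem_range, List.mem_filterMap]
  constructor
  · rintro ⟨a', ha, b', hb, c', hc, d', hd, h⟩
    split at h
    · rename_i hp
      simp only [Option.some.injEq, Prod.mk.injEq] at h
      obtain ⟨rfl, rfl, rfl, rfl⟩ := h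
      exact ⟨ha, hb, hc, hd, hp⟩
    · simp at h
  · rintro ⟨ha, hb, hc, hd, hp⟩
    exact ⟨a, ha, b, hb, c, hc, d, hd, by rw [if_pos hp]⟩

theorem enc_mem (g : T) : enc g ∈ els := by
  refine mem_els.2 ⟨ZMod.val_lt (g.1 0 0), ZMod.val_lt (g.1 0 1), ZMod.val_lt (g.1 1 0), ZMod.val_lt (g.1 1 1), ?_⟩
  have h := g.2
  rw [Matrix.det_fin_two] at h
  have h' : g.1 0 0 * g.1 1 1 + 12 * (g.1 0 1 * g.1 1 0) = 1 := by
    have h13 : (13 : ZMod 13) = 0 := by decide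
    linear_combination h + (g.1 0 1 * g.1 1 0) * h13
  have h'' := congrArg ZMod.val h'
  simp only [ZMod.val_add, ZMod.val_mul, show (12 : ZMod 13).val = 12 from rfl,
    show (1 : ZMod 13).val = 1 from rfl, Nat.add_mod, Nat.mul_mod, Nat.mod_mod] at h''
  simp only [pred4, enc, beq_iff_eq]
  simpa [Nat.add_mod, Nat.mul_mod] using h''

theorem exists_enc {x : Q4} (hx : x ∈ els) : ∃ g : T, enc g = x := by
  obtain ⟨a, b, c, d⟩ := x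
  obtain ⟨ha, hb, hc, hd, hp⟩ := mem_els.1 hx
  have hdet : (!![(a : ZMod 13), b; c, d]).det = 1 := by
    have h0 : (((a * d + 12 * (b * c)) % 13 : ℕ) : ZMod 13) = 1 := by
      rw [beq_iff_eq.1 hp, Nat.cast_one]
    rw [ZMod.natCast_mod] at h0
    push_cast at h0
    rw [Matrix.det_fin_two_of, ← h0, show (12 : ZMod 13) = -1 by decide]
    ring
  refine ⟨⟨_, hdet⟩, ?_⟩
  simp [enc, ZMod.val_natCast, Nat.mod_eq_of_lt ha, Nat.mod_eq_of_lt hb, Nat.mod_eq_of_lt hc, Nat.mod_eq_of_lt hd]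

theorem card_enc (s : List Q4) (hnd : s.Nodup) (hsub : ∀ x ∈ s, x ∈ els) (P : T → Prop)
    (h : ∀ g, P g ↔ enc g ∈ s) : Nat.card {g : T // P g} = s.length := by
  rw [← List.toFinset_card_of_nodup hnd, ← Nat.card_eq_finsetCard]
  refine Nat.card_congr (Equiv.ofBijective (fun g => ⟨enc g.1, List.mem_toFinset.2 ((h _).1 g.2)⟩) ⟨?_, ?_⟩)
  · exact fun a b e => Subtype.ext (enc_inj (congrArg Subtype.val e))
  · rintro ⟨x, hx⟩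
    obtain ⟨g, rfl⟩ := exists_enc (hsub x (List.mem_toFinset.1 hx))
    exact ⟨⟨g, (h g).2 (List.mem_toFinset.1 hx)⟩, rfl⟩

/-- a table row: a closed list, its normalizer list, and the normality property if requested -/
def Row (V N : List Q4) : Prop :=
  V.Nodup ∧ N.Nodup ∧ one4 ∈ V ∧ (∀ x ∈ V, x ∈ els) ∧ (∀ x ∈ V, ∀ y ∈ V, mul4 x y ∈ V) ∧
    (∀ x ∈ N, x ∈ els ∧ norm4 V x = true) ∧ ∀ x ∈ els, norm4 V x = true → x ∈ N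

theorem row_of_bool {V N : List Q4} (h1 : V.Nodup) (h2 : N.Nodup) (h3 : one4 ∈ V)
    (h4 : ∀ x ∈ V, x ∈ els) (h5 : ∀ x ∈ V, ∀ y ∈ V, mul4 x y ∈ V) (h6 : ∀ x ∈ N, x ∈ els)
    (h7 : ∀ x ∈ N, norm4 V x = true) (h8 : ∀ x ∈ els, norm4 V x = true → x ∈ N) : Row V N :=
  ⟨h1, h2, h3, h4, h5, fun x hx => ⟨h6 x hx, h7 x hx⟩, h8⟩

end CfsgLib.Perm.SLThirteen
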