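import Mathlib.GroupTheory.Sylow
import Mathlib.GroupTheory.Subgroup.Simple
import Mathlib.GroupTheory.GroupAction.Basic
import Mathlib.FieldTheory.Finite.Basic
import Mathlib.Algebra.Field.ZMod

/-!
# Simple groups of order `p (p² - 1) / 2` with `p + 1` Sylow `p`-subgroups

For a small prime `p` such a group is recognised by its action on the Sylow subgroups, labelled by
`Option (ZMod p)`.  The element exchanging the points `∞` and `0` is pinned down by a finite
computation with the fixed points of short words.
-/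

set_option autoImplicit false

namespace CfsgLib.Perm.SylowLine

open Subgroup MulAction

variable {p : ℕ} [hp : Fact p.Prime]

/-- The code of a point: `∞` is `p`. -/
def code : Option (ZMod p) → ℕ := fun o => o.elim p ZMod.val

/-- Translation on codes. -/
def shiftF (p s x : ℕ) : ℕ := if x = p then p else (x + s) % p

/-- The candidate map with data `j, a, b` on codes. -/
def candF (p q c ns j a b x : ℕ) : ℕ :=
  if x = p then 0 else if x = 0 then p else
    match (List.range q).find? (fun k => c ^ k % p == x) with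
    | some k => c ^ (j * k) * a % p
    | none =>
      match (List.range q).find? (fun k => c ^ k * ns % p == x) with
      | some k => c ^ (j * k) * b % p
      | none => 0

/-- The fixed point test violated by no element of the group. -/
def bad (p q : ℕ) (F : ℕ → ℕ) : Bool :=
  let fx := (List.range (p + 1)).filter fun x => F x == x
  let isId := fun n : ℕ => (List.range (p + 1)).all fun x => F^[n] x == x
  (fx.any fun a => fx.any fun b => (a != b) && !isId q) ||
    (fx.any fun a => (fx.all fun b => b == a) && !isId p) ||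
    (fx.any fun a => fx.any fun b => fx.any fun d => (a != b) && (a != d) && (b != d) && !isId 1)

/-- A candidate is refuted. -/
def refuted (p q c ns j a b : ℕ) : Bool :=
  let F := candF p q c ns j a b
  ((List.range (p + 1)).any fun x => (List.range (p + 1)).any fun y => (x != y) && (F x == F y)) ||
    ((List.range p).any fun s => bad p q fun x => F (shiftF p s x)) ||
    ((List.range p).any fun s => (List.range p).any fun r =>
      bad p q fun x => F (shiftF p s (F (shiftF p r x))))

/-- All candidates other than `(j₀, a₀, b₀)` are refuted. -/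
def allRefuted (p q c ns j₀ a₀ b₀ : ℕ) : Bool :=
  (List.range q).all fun j => (j * j % q != 1 % q) || [1, ns].all fun a => (List.range p).all fun b =>
    (b == 0) || ((j == j₀) && (a == a₀) && (b == b₀)) || refuted p q c ns j a b

theorem code_none : code (none : Option (ZMod p)) = p := rfl

theorem code_some (i : ZMod p) : code (some i) = i.val := rfl

theorem code_le (o : Option (ZMod p)) : code o < p + 1 := by
  rcases o with _ | i
  · rw [code_none]; omega
  · have := ZMod.val_lt i
    rw [code_some]; omega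

theorem code_injective : Function.Injective (code (p := p)) := by
  rintro (_ | i) (_ | j) h
  · rfl
  · have := ZMod.val_lt j; rw [code_none, code_some] at h; omega
  · have := ZMod.val_lt i; rw [code_none, code_some] at h; omega
  · exact congrArg some (ZMod.val_injective p h)

theorem exists_code {x : ℕ} (hx : x < p + 1) : ∃ o : Option (ZMod p), code o = x := by
  rcases Nat.lt_or_ge x p with h | h
  · exact ⟨some x, by rw [code_some, ZMod.val_natCast, Nat.mod_eq_of_lt h]⟩
  · exact ⟨none, by rw [code_none]; omega⟩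

/-- `f` is computed on codes by `F`. -/
def Codes (f : Equiv.Perm (Option (ZMod p))) (F : ℕ → ℕ) : Prop := ∀ o, code (f o) = F (code o)

theorem Codes.mul {f g : Equiv.Perm (Option (ZMod p))} {F G : ℕ → ℕ} (hf : Codes f F) (hg : Codes g G) :
    Codes (f * g) (fun x => F (G x)) := fun o => by rw [Equiv.Perm.mul_apply, hf, hg]

theorem Codes.pow {f : Equiv.Perm (Option (ZMod p))} {F : ℕ → ℕ} (hf : Codes f F) :
    ∀ n : ℕ, Codes (f ^ n) F^[n]
  | 0 => fun _ => rfl
  | n + 1 => fun o => by
      rw [pow_succ, Equiv.Perm.mul_apply, Codes.pow hf n, hf, Function.iterate_succ_apply]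

theorem Codes.isId {f : Equiv.Perm (Option (ZMod p))} {F : ℕ → ℕ} (hf : Codes f F) (n : ℕ)
    (h : f ^ n = 1) : ((List.range (p + 1)).all fun x => F^[n] x == x) = true := by
  simp only [List.all_eq_true, List.mem_range, beq_iff_eq]
  intro x hx
  obtain ⟨o, rfl⟩ := exists_code hx
  rw [← hf.pow n o, h, Equiv.Perm.one_apply]

/-- The property of every element: trivial, or one fixed point and order `p`, or two and order
dividing `q`. -/
def FixProp (q : ℕ) (f : Equiv.Perm (Option (ZMod p))) : Prop :=
  ∀ a, f a = a → f = 1 ∨ (f ^ p = 1 ∧ ∀ b, f b = b → b = a) ∨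
    (f ^ q = 1 ∧ ∃ a', a' ≠ a ∧ f a' = a' ∧ ∀ b, f b = b → b = a ∨ b = a')

theorem not_bad {q : ℕ} {f : Equiv.Perm (Option (ZMod p))} {F : ℕ → ℕ} (hf : Codes f F)
    (hP : FixProp q f) : bad p q F = false := by
  have hfx : ∀ {x : ℕ}, x ∈ (List.range (p + 1)).filter (fun x => F x == x) →
      ∃ o, code o = x ∧ f o = o := by
    intro x hx
    simp only [List.mem_filter, List.mem_range, beq_iff_eq] at hx
    obtain ⟨o, rfl⟩ := exists_code hx.1
    exact ⟨o, rfl, code_injective (by rw [hf, hx.2])⟩
  have hmem : ∀ o, f o = o → code o ∈ (List.range (p + 1)).filter (fun x => F x == x) := by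
    intro o ho
    simp only [List.mem_filter, List.mem_range, beq_iff_eq]
    exact ⟨code_le o, by rw [← hf, ho]⟩
  have hid : f = 1 → ∀ n : ℕ, ((List.range (p + 1)).all fun x => F^[n] x == x) = true :=
    fun h n => hf.isId n (by rw [h, one_pow])
  simp only [bad, Bool.or_eq_false_iff, List.any_eq_false, Bool.and_eq_true, bne_iff_ne,
    Bool.not_eq_true', List.any_eq_true, not_exists, not_and]
  refine ⟨⟨?_, ?_⟩, ?_⟩
  · intro a ha b hb hab
    obtain ⟨oa, rfl, hoa⟩ := hfx ha
    obtain ⟨ob, rfl, hob⟩ := hfx hb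
    rcases hP oa hoa with h | ⟨-, h⟩ | ⟨h, -⟩
    · simp [hid h q]
    · exact absurd (congrArg code (h ob hob)).symm hab
    · simp [hf.isId q h]
  · intro a ha hall
    obtain ⟨oa, rfl, hoa⟩ := hfx ha
    rcases hP oa hoa with h | ⟨h, -⟩ | ⟨-, a', ha', hfa', -⟩
    · simp [hid h p]
    · simp [hf.isId p h]
    · simp only [List.all_eq_true, beq_iff_eq] at hall
      exact absurd (code_injective (hall _ (hmem a' hfa'))) ha'
  · intro a ha b hb d hd hne
    obtain ⟨oa, rfl, hoa⟩ := hfx ha
    obtain ⟨ob, rfl, hob⟩ := hfx hb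
    obtain ⟨od, rfl, hod⟩ := hfx hd
    rcases hP oa hoa with h | ⟨-, h⟩ | ⟨-, a', -, -, h⟩
    · simpa [Nat.lt_succ_iff] using hid h 1
    · exact absurd (congrArg code (h ob hob)).symm hne.1.1
    · rcases h ob hob with rfl | rfl
      · exact absurd rfl hne.1.1
      · rcases h od hod with rfl | rfl
        · exact absurd rfl hne.1.2
        · exact absurd rfl hne.2

/-- The affine map `x ↦ m x + d` fixing `∞`. -/
def affineFun (m d : ZMod p) : Option (ZMod p) → Option (ZMod p) := fun o => o.map fun x => m * x + d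

variable {G : Type*} [Group G] [Finite G] [IsSimpleGroup G]

open scoped Pointwise in
/-- Recognition. -/
theorem equiv_closure (q c ns j₀ a₀ b₀ : ℕ) (hpq : 2 < p) (hnG : Nat.card (Sylow p G) = p + 1)
    (hG : Nat.card G = (p + 1) * (p * q))
    (hroot : ∀ m : ZMod p, m ^ q = 1 → ∃ k < q, m = (c : ZMod p) ^ k)
    (hcq : (c : ZMod p) ^ q = 1) (hck : ∀ k < q, (c : ZMod p) ^ k = 1 → k = 0)
    (hsplit : ∀ x : ZMod p, x ≠ 0 → ∃ k < q, x = (c : ZMod p) ^ k ∨ x = (c : ZMod p) ^ k * ns)
    (hns0 : (ns : ZMod p) ≠ 0)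
    (hcheck : allRefuted p q c ns j₀ a₀ b₀ = true)
    (sh mu fl : Equiv.Perm (Option (ZMod p)))
    (hsh : ∀ o, sh o = affineFun 1 1 o) (hmu : ∀ o, mu o = affineFun (c : ZMod p) 0 o)
    (hfl : ∀ o, code (fl o) = candF p q c ns j₀ a₀ b₀ (code o)) :
    Nonempty (G ≃* closure ({sh, mu, fl} : Set (Equiv.Perm (Option (ZMod p))))) := by
  classical
  have hp' := hp.out
  have hq0 : 0 < q := by
    rcases Nat.eq_zero_or_pos q with rfl | h
    · exact absurd hG (by simpa using (Nat.card_pos (α := G)).ne')
    · exact h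
  obtain ⟨P⟩ : Nonempty (Sylow p G) := inferInstance
  have hN : ∀ Q : Sylow p G, Nat.card (normalizer ((Q : Subgroup G) : Set G)) = p * q := by
    intro Q
    have h1 : Nat.card (Sylow p G) = (normalizer ((Q : Subgroup G) : Set G)).index :=
      Q.card_eq_index_normalizer
    have h2 := (normalizer ((Q : Subgroup G) : Set G)).card_mul_index
    rw [← h1, hnG, hG, mul_comm (p + 1)] at h2
    exact Nat.eq_of_mul_eq_mul_right (by omega) h2
  have hPp : ∀ Q : Sylow p G, Nat.card (Q : Subgroup G) = p := by
    intro Q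
    obtain ⟨n, hn⟩ := IsPGroup.iff_card.1 Q.2
    have hd : p ∣ Nat.card (Q : Subgroup G) :=
      Q.dvd_card_of_dvd_card (by rw [hG]; exact dvd_mul_of_dvd_right (dvd_mul_right p q) _)
    have hd2 : Nat.card (Q : Subgroup G) ∣ p * q := (hN Q) ▸ Subgroup.card_dvd_of_le le_normalizer
    rw [hn] at hd hd2 ⊢
    rcases n with _ | _ | n
    · simp only [pow_zero] at hd
      exact absurd (Nat.dvd_one.1 hd) hp'.one_lt.ne'
    · rw [pow_one]
    · exfalso
      have h3 : p ∣ q := by
        rw [pow_succ', pow_succ'] at hd2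
        exact dvd_trans (dvd_mul_right p _) (Nat.dvd_of_mul_dvd_mul_left hp'.pos hd2)
      -- the powers of `c` are distinct units
      have hle : q ≤ p - 1 := by
        let U : Fin q → {x : ZMod p // x ≠ 0} := fun k => ⟨(c : ZMod p) ^ k.1, fun h0 => by
          have := hck 0 hq0
          have h5 : ((c : ZMod p) ^ k.1) * (c : ZMod p) ^ (q - k.1) = 1 := by
            rw [← pow_add, Nat.add_sub_cancel' k.2.le, hcq]
          rw [h0, zero_mul] at h5
          exact zero_ne_one h5⟩
        have hU : Function.Injective U := by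
          intro k l h
          have h' : (c : ZMod p) ^ k.1 = (c : ZMod p) ^ l.1 := congrArg Subtype.val h
          refine Fin.ext ?_
          rcases Nat.le_total k.1 l.1 with hkl | hkl
          · have h6 := hck (q - l.1 + k.1) 
            rcases Nat.eq_or_lt_of_le hkl with e | e
            · exact e
            · have := h6 (by omega) (by rw [pow_add, h', ← pow_add, Nat.sub_add_cancel l.2.le, hcq])
              omega
          · have h6 := hck (q - k.1 + l.1)
            rcases Nat.eq_or_lt_of_le hkl with e | e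
            · exact e.symm
            · have := h6 (by omega) (by rw [pow_add, ← h', ← pow_add, Nat.sub_add_cancel k.2.le, hcq])
              omega
        have := Fintype.card_le_of_injective U hU
        simpa [Fintype.card_subtype_compl] using this
      have := Nat.le_of_dvd hq0 h3
      omega
  haveI : IsCyclic (P : Subgroup G) := isCyclic_of_prime_card (hPp P)
  obtain ⟨⟨u, huP⟩, hu⟩ := IsCyclic.exists_ofOrder_eq_natCard (α := (P : Subgroup G))
  have huo : orderOf u = p := by rw [← hPp P, ← hu, Subgroup.orderOf_mk]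
  have hmod : ∀ a b : ℕ, a % p = b % p → u ^ a = u ^ b := fun a b hab => by
    rw [← pow_mod_orderOf u a, ← pow_mod_orderOf u b, huo, hab]
  have hmodZ : ∀ a b : ℕ, (a : ZMod p) = b → u ^ a = u ^ b := fun a b hab =>
    hmod a b ((ZMod.natCast_eq_natCast_iff' a b p).1 hab)
  have hstab : ∀ (g : G) (Q : Sylow p G), g • Q = Q ↔ g ∈ normalizer ((Q : Subgroup G) : Set G) :=
    fun g Q => Sylow.smul_eq_iff_mem_normalizer
  have hPu : (P : Subgroup G) = zpowers u := (eq_of_le_of_card_ge (zpowers_le.2 huP)
    (by rw [hPp P, Nat.card_zpowers, huo])).symm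
  have huP' : ∀ d : ℕ, u ^ d • P = P := fun d => (hstab _ P).2 (le_normalizer (pow_mem huP d))
  -- regularity of `P` on the other points
  have hreg : ∀ (k : ℕ) (Q : Sylow p G), Q ≠ P → u ^ k • Q = Q → k % p = 0 := by
    intro k Q hQ hk
    by_contra hk0
    have h1 : u ^ k ∈ (P : Subgroup G) ⊓ (Q : Subgroup G) := by
      rw [← IsPGroup.inf_normalizer_sylow P.2 Q]
      exact ⟨pow_mem huP k, (hstab _ _).1 hk⟩
    have h2 : orderOf (u ^ k) = p := by
      rcases (Nat.dvd_prime hp').1 (huo ▸ orderOf_pow_dvd k : orderOf (u ^ k) ∣ p) with h | h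
      · exact absurd (Nat.mod_eq_zero_of_dvd (huo ▸ orderOf_dvd_of_pow_eq_one
          (orderOf_eq_one_iff.1 h))) hk0
      · exact h
    refine hQ (Sylow.ext ?_)
    rw [← eq_of_le_of_card_ge (zpowers_le.2 h1.2) (by rw [hPp Q, Nat.card_zpowers, h2]),
      eq_of_le_of_card_ge (zpowers_le.2 h1.1) (by rw [hPp P, Nat.card_zpowers, h2])]
  obtain ⟨Q₀, hQ₀⟩ : ∃ Q₀ : Sylow p G, Q₀ ≠ P := by
    haveI : Nontrivial (Sylow p G) := Finite.one_lt_card_iff_nontrivial.1 (by rw [hnG]; omega)
    exact exists_ne P
  -- the labelling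
  let e₀ : Option (ZMod p) → Sylow p G := fun o => o.elim P fun i => u ^ i.val • Q₀
  have huQ : ∀ i : ℕ, u ^ i • Q₀ ≠ P := by
    intro i hi
    refine hQ₀ (MulAction.injective (u ^ i) ?_)
    show u ^ i • Q₀ = u ^ i • P
    rw [hi, huP']
  have hinj : Function.Injective e₀ := by
    rintro (_ | i) (_ | j) hij
    · rfl
    · exact absurd hij.symm (huQ _)
    · exact absurd hij (huQ _)
    · have h1 : u ^ i.val • Q₀ = u ^ j.val • Q₀ := hij
      have h2 : u ^ (i.val + (p - j.val)) • Q₀ = Q₀ := by
        rw [add_comm, pow_add, mul_smul, h1, ← mul_smul, ← pow_add]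
        have hj := ZMod.val_lt j
        rw [hmod (p - j.val + j.val) 0 (by rw [Nat.sub_add_cancel hj.le, Nat.mod_self, Nat.zero_mod]),
          pow_zero, one_smul]
      have h3 := hreg _ _ hQ₀ h2
      refine congrArg some (ZMod.val_injective p ?_)
      have hi := ZMod.val_lt i
      have hj := ZMod.val_lt j
      rcases Nat.lt_or_ge (i.val + (p - j.val)) p with h4 | h4
      · rw [Nat.mod_eq_of_lt h4] at h3; omega
      · rw [Nat.mod_eq_sub_mod h4, Nat.mod_eq_of_lt (by omega)] at h3; omega
  have hbij : Function.Bijective e₀ := by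
    letI := Fintype.ofFinite (Sylow p G)
    refine (Fintype.bijective_iff_injective_and_card _).2 ⟨hinj, ?_⟩
    rw [← Nat.card_eq_fintype_card (α := Sylow p G), hnG]
    simp [ZMod.card]
  let e := Equiv.ofBijective e₀ hbij
  let ψ : G →* Equiv.Perm (Option (ZMod p)) :=
    e.symm.permCongrHom.toMonoidHom.comp (MulAction.toPermHom G (Sylow p G))
  have hψe : ∀ (g : G) (o : Option (ZMod p)), g • e₀ o = e₀ (ψ g o) := by
    intro g o
    show g • e₀ o = e (e.symm (g • e o))
    rw [Equiv.apply_symm_apply]
    rfl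
  have hψ : ∀ (g : G) (o o' : Option (ZMod p)), g • e₀ o = e₀ o' → ψ g o = o' := fun g o o' hg =>
    hinj ((hψe g o).symm.trans hg)
  have hinjψ : Function.Injective ψ := by
    rw [← MonoidHom.ker_eq_bot_iff]
    refine (IsSimpleGroup.eq_bot_or_eq_top_of_normal _ (MonoidHom.normal_ker ψ)).resolve_right ?_
    intro hk
    obtain ⟨x, hx⟩ := MulAction.exists_smul_eq G P Q₀
    refine hQ₀ ?_
    rw [← hx, show P = e₀ none from rfl, hψe, MonoidHom.mem_ker.1 (hk ▸ mem_top x)]
    rfl
  -- the stabiliser of `∞` is affine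
  have haff : ∀ x ∈ normalizer ((P : Subgroup G) : Set G), ∃ k < q, ∃ d : ZMod p,
      ∀ o, ψ x o = affineFun ((c : ZMod p) ^ k) d o := by
    intro x hx
    have hmem : x * u * x⁻¹ ∈ (P : Subgroup G) := (mem_normalizer_iff.1 hx u).1 huP
    rw [hPu] at hmem
    obtain ⟨m, hm⟩ := (mem_powers_iff_mem_zpowers).2 hmem
    have hiter : ∀ n : ℕ, x ^ n * u * (x ^ n)⁻¹ = u ^ (m ^ n) := by
      intro n
      induction n with
      | zero => simp
      | succ n ih =>
        calc x ^ (n + 1) * u * (x ^ (n + 1))⁻¹ = x * (x ^ n * u * (x ^ n)⁻¹) * x⁻¹ := by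
              rw [pow_succ', _root_.mul_inv_rev]; simp only [mul_assoc]
          _ = u ^ (m ^ (n + 1)) := by rw [ih, ← conj_pow, ← hm, ← pow_mul, pow_succ']
    have hmq : (m : ZMod p) ^ q = 1 := by
      have h1 := hiter (p * q)
      have hxo : x ^ (p * q) = 1 := by
        have h0 := pow_card_eq_one' (G := normalizer ((P : Subgroup G) : Set G)) (x := ⟨x, hx⟩)
        rw [hN] at h0
        exact congrArg Subtype.val h0
      rw [hxo] at h1
      simp only [one_mul, inv_one, mul_one] at h1
      have h3 := pow_inj_mod.1 (h1.symm.trans (pow_one u).symm)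
      rw [huo] at h3
      have h2 : ((m ^ (p * q) : ℕ) : ZMod p) = ((1 : ℕ) : ZMod p) :=
        (ZMod.natCast_eq_natCast_iff' _ _ _).2 h3
      push_cast at h2
      rwa [pow_mul, ZMod.pow_card] at h2
    obtain ⟨k, hk, hk'⟩ := hroot _ hmq
    obtain ⟨d, hd⟩ : ∃ d : ZMod p, ψ x (some 0) = some d := by
      rcases h : ψ x (some 0) with _ | d
      · have h1 := hψe x (some 0)
        rw [h] at h1
        have h2 : x • e₀ (some 0) = x • P := h1.trans ((hstab x P).2 hx).symm
        exact absurd (hinj (a₁ := some (0 : ZMod p)) (a₂ := none) (MulAction.injective x h2)) (by simp)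
      · exact ⟨d, rfl⟩
    refine ⟨k, hk, d, fun o => hψ _ _ _ ?_⟩
    rcases o with _ | i
    · exact (hstab x P).2 hx
    · show x • u ^ i.val • Q₀ = u ^ ((c : ZMod p) ^ k * i + d).val • Q₀
      have h0 : x • Q₀ = u ^ d.val • Q₀ := by
        have h := hψe x (some 0)
        rw [hd] at h
        simpa [e₀] using h
      have h1 : x * u ^ i.val = u ^ (m * i.val) * x := by
        calc x * u ^ i.val = x * u ^ i.val * x⁻¹ * x := by group
          _ = _ := by rw [← conj_pow, ← hm, ← pow_mul]
      rw [← mul_smul, h1, mul_smul, h0, ← mul_smul, ← pow_add,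
        hmodZ (m * i.val + d.val) ((c : ZMod p) ^ k * i + d).val]
      push_cast
      simp [ZMod.natCast_zmod_val, hk']
  -- counting: the affine data determine the element
  choose! kf hkf df hdf using haff
  obtain ⟨v, hvN, hvψ⟩ : ∃ v ∈ normalizer ((P : Subgroup G) : Set G),
      ∀ o, ψ v o = affineFun (c : ZMod p) 0 o := by
    letI := Fintype.ofFinite (normalizer ((P : Subgroup G) : Set G))
    let A : normalizer ((P : Subgroup G) : Set G) → Fin q × ZMod p := fun x =>
      (⟨kf x.1, hkf x.1 x.2⟩, df x.1)
    have hA : Function.Bijective A := by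
      refine (Fintype.bijective_iff_injective_and_card _).2 ⟨fun x y hxy => ?_, ?_⟩
      · simp only [A, Prod.mk.injEq, Fin.mk.injEq] at hxy
        exact Subtype.ext (hinjψ (Equiv.ext fun o => by
          rw [hdf _ x.2, hdf _ y.2, hxy.1, hxy.2]))
      · rw [← Nat.card_eq_fintype_card, hN]
        simp [mul_comm]
    obtain ⟨⟨v, hv⟩, hv'⟩ := hA.2 (⟨1 % q, Nat.mod_lt _ hq0⟩, 0)
    simp only [A, Prod.mk.injEq, Fin.mk.injEq] at hv'
    refine ⟨v, hv, fun o => ?_⟩
    rw [hdf v hv, hv'.1, hv'.2]
    rcases Nat.lt_or_ge 1 q with h1 | h1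
    · rw [Nat.mod_eq_of_lt h1, pow_one]
    · obtain rfl : q = 1 := by omega
      rw [pow_one] at hcq
      simp [hcq]
  have hψu : ∀ o, ψ u o = affineFun 1 1 o := by
    intro o
    refine hψ _ _ _ ?_
    rcases o with _ | i
    · simpa [e₀, affineFun] using huP' 1
    · show u • u ^ i.val • Q₀ = u ^ (1 * i + 1).val • Q₀
      rw [← mul_smul, ← pow_succ', hmodZ (i.val + 1) (1 * i + 1 : ZMod p).val]
      push_cast
      simp [ZMod.natCast_zmod_val]
  have hψvk : ∀ (n : ℕ) (o : Option (ZMod p)),
      ψ (v ^ n) o = affineFun ((c : ZMod p) ^ n) 0 o := by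
    intro n
    induction n with
    | zero => intro o; rcases o with _ | i <;> simp [affineFun]
    | succ n ih =>
      intro o
      rw [pow_succ, map_mul, Equiv.Perm.mul_apply, hvψ, ih]
      rcases o with _ | i <;> simp [affineFun, pow_succ, mul_assoc]
  have hpair : ∀ x : G, ψ x none = none → ψ x (some 0) = some 0 → ∃ n : ℕ, x = v ^ n := by
    intro x hx1 hx0
    have hxN : x ∈ normalizer ((P : Subgroup G) : Set G) :=
      (hstab x P).1 (by simpa [e₀, hx1] using hψe x none)
    refine ⟨kf x, hinjψ (Equiv.ext fun o => ?_)⟩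
    have hd0 : df x = 0 := by
      have := (hdf x hxN (some 0)).symm.trans hx0
      simpa [affineFun] using this
    rw [hdf x hxN, hd0, hψvk]
  -- the fixed point property
  have hfp : ∀ x : G, FixProp q (ψ x) := by
    have hbase : ∀ x : G, ψ x none = none → ψ x = 1 ∨ (ψ x ^ p = 1 ∧ ∀ b, ψ x b = b → b = none) ∨
        (ψ x ^ q = 1 ∧ ∃ a', a' ≠ none ∧ ψ x a' = a' ∧ ∀ b, ψ x b = b → b = none ∨ b = a') := by
      intro x hx
      have hxN : x ∈ normalizer ((P : Subgroup G) : Set G) :=
        (hstab x P).1 (by simpa [e₀, hx] using hψe x none)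
      have hf := hdf x hxN
      generalize hmdef : (c : ZMod p) ^ kf x = m at hf
      generalize df x = d at hf
      have hiter : ∀ (n : ℕ) (i : ZMod p), (ψ x ^ n) (some i) =
          some (m ^ n * i + (Finset.range n).sum (fun l => m ^ l) * d) := by
        intro n
        induction n with
        | zero => intro i; simp
        | succ n ih =>
          intro i
          rw [pow_succ', Equiv.Perm.mul_apply, ih, hf, affineFun, Option.map_some,
            geom_sum_succ, pow_succ']
          congr 1; ring
      have hnone : ∀ n : ℕ, (ψ x ^ n) none = none := by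
        intro n
        induction n with
        | zero => rfl
        | succ n ih => rw [pow_succ', Equiv.Perm.mul_apply, ih, hx]
      by_cases hm : m = 1
      · by_cases hd : d = 0
        · left
          ext1 o
          rcases o with _ | i <;> simp [hf, affineFun, hm, hd]
        · refine Or.inr (Or.inl ⟨Equiv.ext fun o => ?_, fun b hb => ?_⟩)
          · rcases o with _ | i
            · simpa using hnone p
            · rw [hiter, hm]; simp
          · rcases b with _ | i
            · rfl
            · rw [hf] at hb; simp [affineFun, hm, hd] at hb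
      · have hm1 : 1 - m ≠ 0 := sub_ne_zero.2 (Ne.symm hm)
        refine Or.inr (Or.inr ⟨Equiv.ext fun o => ?_, some (d / (1 - m)), by simp, ?_, fun b hb => ?_⟩)
        · rcases o with _ | i
          · simpa using hnone q
          · have hmq : m ^ q = 1 := by rw [← hmdef, ← pow_mul, mul_comm, pow_mul, hcq, one_pow]
            have hsum : (Finset.range q).sum (fun l => m ^ l) = 0 := by
              have h1 := geom_sum_mul m q
              rw [hmq, sub_self, mul_eq_zero] at h1
              exact h1.resolve_right fun h => hm (sub_eq_zero.1 h)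
            rw [hiter, hmq, hsum]; simp
        · rw [hf, affineFun, Option.map_some]
          congr 1
          field_simp
          ring
        · rcases b with _ | i
          · exact Or.inl rfl
          · rw [hf, affineFun, Option.map_some, Option.some_inj] at hb
            refine Or.inr (congrArg some ?_)
            rw [eq_div_iff hm1]
            linear_combination -hb
    intro x a ha
    obtain ⟨w, hw⟩ := MulAction.exists_smul_eq G P (e₀ a)
    have hwn : ψ w none = a := hψ _ _ _ hw
    have hw' : ψ w⁻¹ a = none := by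
      rw [← hwn, ← Equiv.Perm.mul_apply, ← map_mul, inv_mul_cancel, map_one, Equiv.Perm.one_apply]
    have hback : ∀ b, ψ w (ψ w⁻¹ b) = b := fun b => by
      rw [← Equiv.Perm.mul_apply, ← map_mul, mul_inv_cancel, map_one, Equiv.Perm.one_apply]
    have hx0 : ψ (w⁻¹ * x * w) none = none := by
      rw [map_mul, map_mul, Equiv.Perm.mul_apply, Equiv.Perm.mul_apply, hwn, ha, hw']
    have hcn : ∀ b, ψ x b = b → ψ (w⁻¹ * x * w) (ψ w⁻¹ b) = ψ w⁻¹ b := by
      intro b hb
      rw [map_mul, map_mul, Equiv.Perm.mul_apply, Equiv.Perm.mul_apply, hback, hb]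
    have hpow : ∀ n : ℕ, ψ (w⁻¹ * x * w) ^ n = 1 → ψ x ^ n = 1 := by
      intro n h
      rw [← map_pow] at h ⊢
      have h' : (w⁻¹ * x * w) ^ n = 1 := hinjψ (h.trans (map_one ψ).symm)
      rw [show w⁻¹ * x * w = w⁻¹ * x * w⁻¹⁻¹ by group, conj_pow, conj_eq_one_iff] at h'
      rw [h', map_one]
    rcases hbase _ hx0 with h | ⟨h, h1⟩ | ⟨h, a', ha', hfa', h1⟩
    · left
      have := hpow 1 (by rw [pow_one]; exact h)
      rwa [pow_one] at this
    · refine Or.inr (Or.inl ⟨hpow p h, fun b hb => ?_⟩)
      rw [← hback b, h1 _ (hcn b hb), hwn]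
    · refine Or.inr (Or.inr ⟨hpow q h, ψ w a', ?_, ?_, fun b hb => ?_⟩)
      · rw [← hwn]; exact fun h2 => ha' ((ψ w).injective h2)
      · have h2 := congrArg (ψ w) hfa'
        rwa [← Equiv.Perm.mul_apply, ← map_mul,
          show w * (w⁻¹ * x * w) = x * w by group, map_mul, Equiv.Perm.mul_apply] at h2
      · rcases h1 _ (hcn b hb) with h2 | h2
        · left; rw [← hback b, h2, hwn]
        · right; rw [← hback b, h2]
  -- an element exchanging `∞` and `0`
  obtain ⟨g, hgn, hg0⟩ : ∃ g : G, ψ g none = some 0 ∧ ψ g (some 0) = none := by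
    obtain ⟨x, hx⟩ := MulAction.exists_smul_eq G P Q₀
    have hxn : ψ x none = some 0 := hψ _ _ _ (by simpa [e₀] using hx)
    rcases hi : ψ x⁻¹ none with _ | i
    · exfalso
      have h1 : ψ x (ψ x⁻¹ none) = none := by
        rw [← Equiv.Perm.mul_apply, ← map_mul, mul_inv_cancel, map_one, Equiv.Perm.one_apply]
      rw [hi, hxn] at h1
      exact Option.some_ne_none _ h1
    · have hu_pow : ∀ n : ℕ, ψ (u ^ n) (some 0) = some (n : ZMod p) ∧ ψ (u ^ n) none = none := by
        intro n
        induction n with
        | zero => simp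
        | succ n ih =>
          constructor <;> rw [pow_succ', map_mul, Equiv.Perm.mul_apply]
          · rw [ih.1, hψu]; simp [affineFun]
          · rw [ih.2, hψu]; simp [affineFun]
      refine ⟨x * u ^ i.val, ?_, ?_⟩ <;> rw [map_mul, Equiv.Perm.mul_apply]
      · rw [(hu_pow _).2, hxn]
      · rw [(hu_pow _).1, ZMod.natCast_zmod_val, ← hi, ← Equiv.Perm.mul_apply, ← map_mul,
          mul_inv_cancel, map_one, Equiv.Perm.one_apply]
  obtain ⟨j₁, hj₁⟩ : ∃ j : ℕ, g * v = v ^ j * g := by
    have hgi : ψ g⁻¹ none = some 0 ∧ ψ g⁻¹ (some 0) = none := by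
      constructor
      · rw [← hg0, ← Equiv.Perm.mul_apply, ← map_mul, inv_mul_cancel, map_one, Equiv.Perm.one_apply]
      · rw [← hgn, ← Equiv.Perm.mul_apply, ← map_mul, inv_mul_cancel, map_one, Equiv.Perm.one_apply]
    obtain ⟨j, hj⟩ := hpair (g * v * g⁻¹)
      (by rw [map_mul, map_mul, Equiv.Perm.mul_apply, Equiv.Perm.mul_apply, hgi.1, hvψ]
          simpa [affineFun] using hg0)
      (by rw [map_mul, map_mul, Equiv.Perm.mul_apply, Equiv.Perm.mul_apply, hgi.2, hvψ]
          simpa [affineFun] using hgn)
    exact ⟨j, by rw [← hj, inv_mul_cancel_right]⟩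
  have hvq : v ^ q = 1 := hinjψ (Equiv.ext fun o => by
    rw [hψvk, hcq, map_one]; rcases o with _ | i <;> simp [affineFun])
  have hvmod : ∀ a : ℕ, v ^ a = v ^ (a % q) := fun a => by
    conv_lhs => rw [← Nat.mod_add_div a q, pow_add, pow_mul, hvq, one_pow, mul_one]
  obtain ⟨j, hj, hgv⟩ : ∃ j < q, g * v = v ^ j * g :=
    ⟨j₁ % q, Nat.mod_lt _ hq0, by rw [← hvmod]; exact hj₁⟩
  have hvinj : ∀ a b : ℕ, v ^ a = v ^ b → a % q = b % q := by
    intro a b h
    rw [hvmod a, hvmod b] at h
    have key : ∀ a b : ℕ, a < q → b < q → v ^ a = v ^ b → a ≤ b → a = b := by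
      intro a b _ hb h hab
      have h1 : (c : ZMod p) ^ (b - a) = 1 := by
        have h2 := congrArg (fun z => ψ z (some 1)) h
        simp only [hψvk, affineFun, Option.map_some, mul_one, add_zero, Option.some_inj] at h2
        have h3 : (c : ZMod p) ^ a ≠ 0 := by
          intro h0
          have h4 : (c : ZMod p) ^ a * (c : ZMod p) ^ (q - a) = 1 := by
            rw [← pow_add, Nat.add_sub_cancel' (by omega), hcq]
          rw [h0, zero_mul] at h4
          exact zero_ne_one h4
        rw [← Nat.add_sub_cancel' hab, pow_add] at h2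
        exact (mul_eq_left₀ h3).1 h2.symm
      have := hck (b - a) (by omega) h1
      omega
    rcases Nat.le_total (a % q) (b % q) with hab | hab
    · exact key _ _ (Nat.mod_lt _ hq0) (Nat.mod_lt _ hq0) h hab
    · exact (key _ _ (Nat.mod_lt _ hq0) (Nat.mod_lt _ hq0) h.symm hab).symm
  have hgvn : ∀ n : ℕ, g * v ^ n = v ^ (j * n) * g := by
    intro n
    induction n with
    | zero => simp
    | succ n ih => rw [pow_succ, ← mul_assoc, ih, mul_assoc, hgv, ← mul_assoc, ← pow_add, mul_add, mul_one]
  have hjj : j * j % q = 1 % q := by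
    obtain ⟨i, hi⟩ := hpair (g * g) (by rw [map_mul, Equiv.Perm.mul_apply, hgn, hg0])
      (by rw [map_mul, Equiv.Perm.mul_apply, hg0, hgn])
    refine hvinj _ _ ?_
    have h1 : g * g * v = v ^ (j * j) * (g * g) := by
      rw [mul_assoc, hgv, ← mul_assoc, hgvn, mul_assoc]
    have h2 : g * g * v = v * (g * g) := by rw [hi, ← pow_succ, ← pow_succ']
    rw [h2] at h1
    rw [pow_one]
    exact (mul_right_cancel h1).symm
  -- normalisation
  obtain ⟨a, ha, g', hg'n, hg'0, hg'v, hg'1⟩ : ∃ a ∈ [1, ns], ∃ g' : G, ψ g' none = some 0 ∧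
      ψ g' (some 0) = none ∧ g' * v = v ^ j * g' ∧ ψ g' (some 1) = some (a : ZMod p) := by
    rcases h1 : ψ g (some 1) with _ | y
    · exact absurd ((ψ g).injective (h1.trans hg0.symm)) (by simp)
    have hy : y ≠ 0 := by
      rintro rfl
      exact absurd ((ψ g).injective (h1.trans hgn.symm)) (by simp)
    obtain ⟨k, hk, hky⟩ := hsplit y hy
    have hnew : ∀ n : ℕ, ψ (g * v ^ (j * n)) none = some 0 ∧ ψ (g * v ^ (j * n)) (some 0) = none ∧
        g * v ^ (j * n) * v = v ^ j * (g * v ^ (j * n)) ∧
        ψ (g * v ^ (j * n)) (some 1) = some ((c : ZMod p) ^ n * y) := by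
      intro n
      refine ⟨?_, ?_, ?_, ?_⟩
      · rw [map_mul, Equiv.Perm.mul_apply, hψvk]; simpa [affineFun] using hgn
      · rw [map_mul, Equiv.Perm.mul_apply, hψvk]; simpa [affineFun] using hg0
      · rw [← mul_assoc (v ^ j), ← hgv, mul_assoc, mul_assoc, ← pow_succ, ← pow_succ']
      · rw [hgvn, map_mul, Equiv.Perm.mul_apply, h1, hψvk]
        have h5 : (c : ZMod p) ^ (j * (j * n)) = (c : ZMod p) ^ n := by
          rw [← mul_assoc, ← Nat.mod_add_div (j * j) q, hjj, add_mul, pow_add, mul_assoc q, pow_mul,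
            pow_mul, hcq, one_pow, mul_one]
          rcases Nat.lt_or_ge 1 q with h6 | h6
          · rw [Nat.mod_eq_of_lt h6, pow_one]
          · obtain rfl : q = 1 := by omega
            rw [pow_one] at hcq
            simp [hcq]
        simp [affineFun, h5]
    have h7 : (c : ZMod p) ^ (q - k) * (c : ZMod p) ^ k = 1 := by
      rw [← pow_add, Nat.sub_add_cancel hk.le, hcq]
    obtain ⟨e1, e2, e3, e4⟩ := hnew (q - k)
    rcases hky with rfl | rfl
    · exact ⟨1, by simp, _, e1, e2, e3, by rw [e4, h7, Nat.cast_one]⟩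
    · exact ⟨ns, by simp, _, e1, e2, e3, by rw [e4, ← mul_assoc, h7, one_mul]⟩
  -- its value at `ns`
  obtain ⟨b, hb0, hbp, hb⟩ : ∃ b : ℕ, b ≠ 0 ∧ b < p ∧ ψ g' (some (ns : ZMod p)) = some (b : ZMod p) := by
    rcases h1 : ψ g' (some (ns : ZMod p)) with _ | y
    · exact absurd (Option.some_inj.1 ((ψ g').injective (h1.trans hg'0.symm))) hns0
    refine ⟨y.val, ?_, ZMod.val_lt y, by rw [ZMod.natCast_zmod_val]⟩
    intro h0
    rw [ZMod.val_eq_zero] at h0
    subst h0
    exact Option.some_ne_none _ ((ψ g').injective (h1.trans hg'n.symm))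
  have hshift : ∀ (x : G) (k : ℕ) (o : Option (ZMod p)), g' * v ^ k = v ^ (j * k) * g' := by
    intro x k o
    induction k with
    | zero => simp
    | succ n ih => rw [pow_succ, ← mul_assoc, ih, mul_assoc, hg'v, ← mul_assoc, ← pow_add, mul_add, mul_one]
  have hcand : Codes (ψ g') (candF p q c ns j a b) := by
    rintro (_ | x)
    · rw [hg'n, code_none, code_some, ZMod.val_zero, candF, if_pos rfl]
    by_cases hx : x = 0
    · subst hx
      rw [hg'0, code_none, code_some, ZMod.val_zero, candF, if_neg (by omega), if_pos rfl]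
    have hval : ∀ (k : ℕ) (z w : ZMod p), ψ g' (some z) = some w →
        ψ g' (some ((c : ZMod p) ^ k * z)) = some ((c : ZMod p) ^ (j * k) * w) := by
      intro k z w hzw
      have h2 : (some ((c : ZMod p) ^ k * z) : Option (ZMod p)) = ψ (v ^ k) (some z) := by
        rw [hψvk]; simp [affineFun]
      rw [h2, ← Equiv.Perm.mul_apply, ← map_mul, hshift 1 k none, map_mul, Equiv.Perm.mul_apply,
        hzw, hψvk]
      simp [affineFun]
    rw [code_some, candF, if_neg (ZMod.val_lt x).ne, if_neg (by rwa [ZMod.val_eq_zero])]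
    have hfind : ∀ (r : ℕ), ((List.range q).find? (fun k => c ^ k * r % p == x.val)).elim
        (∀ k < q, x ≠ (c : ZMod p) ^ k * r) (fun k => x = (c : ZMod p) ^ k * r) := by
      intro r
      rcases h : (List.range q).find? (fun k => c ^ k * r % p == x.val) with _ | k
      · intro k hk hxk
        have h' := List.find?_eq_none.1 h k (List.mem_range.2 hk)
        simp only [beq_iff_eq] at h'
        refine h' ?_
        have h'' := congrArg ZMod.val hxk
        rw [← Nat.cast_pow, ← Nat.cast_mul, ZMod.val_natCast] at h''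
        exact h''.symm
      · have h' := List.find?_some h
        simp only [beq_iff_eq] at h'
        show x = (c : ZMod p) ^ k * r
        rw [← ZMod.natCast_zmod_val x, ← h', ZMod.natCast_mod]
        push_cast
        rfl
    have h1 := hfind 1
    simp only [mul_one, Nat.cast_one] at h1
    split
    · next k hk =>
      rw [hk] at h1
      simp only [Option.elim_some] at h1
      rw [h1, show (c : ZMod p) ^ k = (c : ZMod p) ^ k * 1 by rw [mul_one], hval k 1 _ hg'1, code_some,
        ← Nat.cast_pow, ← Nat.cast_mul, ZMod.val_natCast]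
    · next hk =>
      rw [hk] at h1
      simp only [Option.elim_none] at h1
      have h2 := hfind ns
      split
      · next k hk' =>
        rw [hk'] at h2
        simp only [Option.elim_some] at h2
        rw [h2, hval k _ _ hb, code_some, ← Nat.cast_pow, ← Nat.cast_mul, ZMod.val_natCast]
      · next hk' =>
        rw [hk'] at h2
        simp only [Option.elim_none] at h2
        obtain ⟨k, hk3, h | h⟩ := hsplit x hx
        · exact absurd h (h1 k hk3)
        · exact absurd h (h2 k hk3)
  have hshF : ∀ s : ℕ, Codes (ψ (u ^ s)) (shiftF p s) := by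
    intro s
    have h2 : ∀ o : Option (ZMod p), ψ (u ^ s) o = o.map (fun i => i + (s : ZMod p)) := by
      induction s with
      | zero => intro o; rcases o with _ | i <;> simp
      | succ n ih =>
        intro o
        rw [pow_succ', map_mul, Equiv.Perm.mul_apply, ih, hψu]
        rcases o with _ | i <;> simp [affineFun, add_assoc]
    rintro (_ | i)
    · rw [h2]; simp [code_none, shiftF]
    · rw [h2, Option.map_some, code_some, code_some, shiftF, if_neg (ZMod.val_lt i).ne, ZMod.val_add,
        ZMod.val_natCast, Nat.add_mod_mod]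
  have hnot : refuted p q c ns j a b = false := by
    simp only [refuted, Bool.or_eq_false_iff, List.any_eq_false, Bool.and_eq_true, bne_iff_ne,
      List.mem_range, beq_iff_eq, List.any_eq_true, not_exists, not_and]
    refine ⟨⟨fun x hx y hy hxy hF => ?_, fun s _ => ?_⟩, fun s _ r _ => ?_⟩
    · obtain ⟨ox, rfl⟩ := exists_code hx
      obtain ⟨oy, rfl⟩ := exists_code hy
      rw [← hcand, ← hcand] at hF
      exact hxy (congrArg code ((ψ g').injective (code_injective hF)))
    · have := (hcand.mul (hshF s))
      rw [← map_mul] at this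
      simp [not_bad this (hfp _)]
    · have := (hcand.mul (hshF s)).mul (hcand.mul (hshF r))
      rw [← map_mul, ← map_mul, ← map_mul] at this
      simp [not_bad this (hfp _)]
  have heq : j = j₀ ∧ a = a₀ ∧ b = b₀ := by
    have h := hcheck
    simp only [allRefuted, List.all_eq_true, List.mem_range, Bool.or_eq_true, bne_iff_ne,
      Bool.and_eq_true, beq_iff_eq] at h
    rcases h j hj with h | h
    · exact absurd hjj h
    rcases h a ha b hbp with (h | h) | h
    · exact absurd h hb0
    · exact ⟨h.1.1, h.1.2, h.2⟩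
    · rw [hnot] at h; exact absurd h (by decide)
  obtain ⟨rfl, rfl, rfl⟩ := heq
  have e1 : ψ u = sh := Equiv.ext fun o => by rw [hψu, hsh]
  have e2 : ψ v = mu := Equiv.ext fun o => by rw [hvψ, hmu]
  have e3 : ψ g' = fl := Equiv.ext fun o => code_injective (by rw [hcand, hfl])
  have hPP : ∀ d : ℕ, ∀ y ∈ normalizer ((P : Subgroup G) : Set G),
      u ^ d * y ∈ normalizer ((P : Subgroup G) : Set G) := fun d y hy =>
    mul_mem (le_normalizer (pow_mem huP d)) hy
  have htop : closure ({u, v, g'} : Set G) = ⊤ := by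
    set H := closure ({u, v, g'} : Set G) with hH
    have huH : u ∈ H := subset_closure (by simp)
    have hvH : v ∈ H := subset_closure (by simp)
    have hgH : g' ∈ H := subset_closure (by simp)
    have hNH : normalizer ((P : Subgroup G) : Set G) ≤ H := by
      intro x hx
      have hxe : x = u ^ (df x).val * v ^ (kf x) := hinjψ (Equiv.ext fun o => by
        rw [hdf x hx, map_mul, Equiv.Perm.mul_apply, hψvk]
        have h2 : ∀ (n : ℕ) (o : Option (ZMod p)), ψ (u ^ n) o = o.map (fun i => i + (n : ZMod p)) := by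
          intro n
          induction n with
          | zero => intro o; rcases o with _ | i <;> simp
          | succ n ih =>
            intro o
            rw [pow_succ', map_mul, Equiv.Perm.mul_apply, ih, hψu]
            rcases o with _ | i <;> simp [affineFun, add_assoc]
        rw [h2]
        rcases o with _ | i <;> simp [affineFun, ZMod.natCast_zmod_val])
      rw [hxe]
      exact mul_mem (pow_mem huH _) (pow_mem hvH _)
    refine (eq_top_iff' H).2 fun x => ?_
    rcases hx : ψ x none with _ | i
    · exact hNH ((hstab x P).1 (by simpa [e₀, hx] using hψe x none))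
    · have h1 : (u ^ i.val * g')⁻¹ * x ∈ normalizer ((P : Subgroup G) : Set G) := by
        refine (hstab _ P).1 ?_
        rw [mul_smul, inv_smul_eq_iff, mul_smul, show P = e₀ none from rfl, hψe g', hg'n, hψe x, hx]
        simp [e₀]
      have := H.mul_mem (H.mul_mem (H.pow_mem huH i.val) hgH) (hNH h1)
      rwa [mul_inv_cancel_left] at this
  have hrange : ψ.range = closure ({sh, mu, fl} : Set (Equiv.Perm (Option (ZMod p)))) := by
    rw [MonoidHom.range_eq_map, ← htop, MonoidHom.map_closure]
    simp [Set.image_insert_eq, e1, e2, e3]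
  exact ⟨(MonoidHom.ofInjective hinjψ).trans (MulEquiv.subgroupCongr hrange)⟩

end CfsgLib.Perm.SylowLine
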