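import Mathlib.Data.ZMod.Basic
import Mathlib.GroupTheory.Perm.Sign
import Mathlib.Tactic

/-!
# Finite data for the simple group of order 360 on ten points
-/

set_option autoImplicit false

namespace CfsgLib.Perm.Small360

/-- The plane over the field with three elements. -/
abbrev V := ZMod 3 × ZMod 3

/-- The linear map with images `L₁`, `L₂` of the standard basis. -/
def lin (L₁ L₂ v : V) : V := (v.1 * L₁.1 + v.2 * L₂.1, v.1 * L₁.2 + v.2 * L₂.2)

/-- Rotation by a quarter turn. -/
def rot (v : V) : V := (-v.2, v.1)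

/-- The affine map with rotation part `k`. -/
def affFun (k : ℕ) (d : V) : Option V → Option V := fun o => o.map fun v => rot^[k] v + d

/-- Translations. -/
def shiftFun (d : V) : Option V → Option V := fun o => o.map fun v => v + d

/-- The candidate with data `j, A, B`. -/
def candFun (j : ℕ) (A B : V) : Option V → Option V
  | none => some 0
  | some v =>
    if v = 0 then none else
      match (List.range 4).find? (fun k => rot^[k] ((1, 0) : V) == v) with
      | some k => some (rot^[j * k] A)
      | none =>
        match (List.range 4).find? (fun k => rot^[k] ((1, 1) : V) == v) with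
        | some k => some (rot^[j * k] B)
        | none => none

/-- A map fixing `∞` that is not in the stabiliser. -/
def Bad (h : Option V → Option V) : Prop :=
  h none = none ∧ ∀ k < 4, ∀ d : V, ∃ o, h o ≠ affFun k d o

instance (h : Option V → Option V) : Decidable (Bad h) := by unfold Bad; infer_instance

/-- The alternatives for a candidate. -/
def Refuted (j : ℕ) (A B : V) : Prop :=
    (∃ x y, x ≠ y ∧ candFun j A B x = candFun j A B y) ∨ (j = 3 ∧ A = (1, 0) ∧ B = (2, 1)) ∨
      (∃ s, Bad (candFun j A B ∘ shiftFun s ∘ candFun j A B)) ∨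
      (∃ s r, Bad (candFun j A B ∘ shiftFun s ∘ candFun j A B ∘ shiftFun r ∘ candFun j A B))

instance (j : ℕ) (A B : V) : Decidable (Refuted j A B) := by unfold Refuted; infer_instance

theorem cand_refuted : ∀ j ∈ [1, 3], ∀ A ∈ [((1, 0) : V), (1, 1)], ∀ B : V, B ≠ 0 →
    Refuted j A B := by
  decide +kernel

theorem rot_lin : ∀ v, lin (0, 1) (2, 0) v = rot v := by decide +kernel

theorem rot_zero : rot 0 = 0 := by decide +kernel

theorem lin_zero : ∀ L₁ L₂ : V, lin L₁ L₂ 0 = 0 := by decide +kernel

theorem arith360 : ∀ i ∈ List.range 7, ∀ n ∈ List.range 7,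
    9 * i ∣ 360 → 2 ≤ n → n ∣ i → n % 3 = 1 → i = 4 ∧ n = 4 := by decide

theorem rot_four : ∀ v, rot^[4] v = v := by decide +kernel

theorem rot_inj : ∀ v w, rot v = rot w → v = w := by decide +kernel

theorem exists_norm : ∀ j ∈ [1, 3], ∀ y : V, y ≠ 0 → ∃ k < 4, rot^[j * k] y ∈ [((1, 0) : V), (1, 1)] := by
  decide +kernel

theorem eq_rot_iterate : ∀ v : V, v ≠ 0 →
    (∃ k < 4, v = rot^[k] ((1, 0) : V)) ∨ (∃ k < 4, v = rot^[k] ((1, 1) : V)) := by
  decide +kernel

theorem sq_neg_of_even : ∀ L₁ L₂ : V, (hinv : ∀ o : Option V, (o.map (lin L₁ L₂)).map (lin L₁ L₂) = o) →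
    Equiv.Perm.sign (⟨Option.map (lin L₁ L₂), Option.map (lin L₁ L₂), hinv, hinv⟩ : Equiv.Perm (Option V)) = 1 →
    (∀ v, lin L₁ L₂ v = v) ∨ (∀ v, lin L₁ L₂ v = -v) := by
  decide +kernel

/-- The flip. -/
def flipPerm : Equiv.Perm (Option V) :=
  Function.Involutive.toPerm (candFun 3 (1, 0) (2, 1)) (by unfold Function.Involutive; decide +kernel)

/-- The rotation as a permutation. -/
def rotPerm : Equiv.Perm (Option V) :=
  Equiv.optionCongr ⟨rot, rot^[3], by unfold Function.LeftInverse; decide +kernel,
    by unfold Function.RightInverse Function.LeftInverse; decide +kernel⟩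

/-- The translation by `(1,0)`. -/
def shiftPerm : Equiv.Perm (Option V) := Equiv.optionCongr (Equiv.addRight ((1, 0) : V))

/-- The model of the simple group of order 360. -/
def model360 : Subgroup (Equiv.Perm (Option V)) := Subgroup.closure {shiftPerm, rotPerm, flipPerm}

end CfsgLib.Perm.Small360
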